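import Cfsg.Agent.StdSpSix.TR

/-!
# Chains with free action of an involution (ODD D7, `U_n`; general)

`t` an involution, `F 0 = 1 ≤ F 1 ≤ … ≤ F N` with `F k` normal in `F (k + 1)`, squares of `F (k + 1)` in `F k`, and `t` acts
"freely" on each factor: the fixed points of `t` on `F (k + 1) / F k` are represented by `Y k ⊆ C(t)` and all are of the form
`[g, t]`. Then all involutions of `t F N` are conjugate to `t` under `F N`, `t ∉ F N`, and `C_{F N}(t)` is generated by the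
`Y k`. `Layers`: the chain `T 0 ⋯ T (j - 1) ≤ T 0 ⋯ T (j - 1) W j ≤ T 0 ⋯ T j`.
-/

set_option autoImplicit false

namespace Cfsg.Agent.OddHalf.D7.Uni.Chain

variable {G : Type*} [Group G]

/-- A chain of subgroups with a free action of `t` on the factors. -/
structure Filt (t : G) (N : ℕ) (F : ℕ → Subgroup G) (Y : ℕ → Subgroup G) : Prop where
  zero : F 0 = ⊥
  le : ∀ k < N, F k ≤ F (k + 1)
  norm : ∀ k < N, ∀ g ∈ F (k + 1), ∀ x ∈ F k, g * x * g⁻¹ ∈ F k
  tF : ∀ k ≤ N, ∀ x ∈ F k, t * x * t ∈ F k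
  sq : ∀ k < N, ∀ x ∈ F (k + 1), x * x ∈ F k
  ker : ∀ k < N, ∀ f ∈ F (k + 1), f⁻¹ * (t * f * t) ∈ F k → ∃ y ∈ Y k, y⁻¹ * f ∈ F k
  onto : ∀ k < N, ∀ y ∈ Y k, ∃ g ∈ F (k + 1), y⁻¹ * (g⁻¹ * (t * g * t)) ∈ F k
  Yt : ∀ k < N, ∀ y ∈ Y k, t * y * t = y
  YF : ∀ k < N, ∀ y ∈ Y k, y ∈ F (k + 1)

namespace Filt

variable {t : G} {N : ℕ} {F Y : ℕ → Subgroup G}

theorem mono (h : Filt t N F Y) {i k : ℕ} (hik : i ≤ k) (hk : k ≤ N) : F i ≤ F k := by
  induction k with
  | zero => rw [Nat.le_zero.1 hik]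
  | succ k ih =>
    rcases Nat.of_le_succ hik with h1 | rfl
    · exact (ih h1 (by omega)).trans (h.le k (by omega))
    · exact le_rfl

theorem norm' (h : Filt t N F Y) {k : ℕ} (hk : k < N) {g x : G} (hg : g ∈ F (k + 1)) (hx : x ∈ F k) :
    g⁻¹ * x * g ∈ F k := by
  have := h.norm k hk g⁻¹ (inv_mem hg) x hx
  rwa [inv_inv] at this

/-- Every involution of `t F` is conjugate to `t`. -/
theorem exists_conj (h : Filt t N F Y) (tt : t * t = 1) {k : ℕ} (hk : k ≤ N) {x : G} (hx : x ∈ F k)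
    (hinv : (t * x) * (t * x) = 1) : ∃ c ∈ F k, t * x = c * t * c⁻¹ := by
  induction k generalizing x with
  | zero =>
    rw [h.zero, Subgroup.mem_bot] at hx
    exact ⟨1, one_mem _, by rw [hx]; group⟩
  | succ k ih =>
    have hk' : k < N := hk
    have h1 : t * x * t = x⁻¹ := by
      rw [eq_inv_iff_mul_eq_one, ← hinv]
      group
    have h2 : x⁻¹ * (t * x * t) ∈ F k := by
      rw [h1, ← mul_inv_rev]
      exact inv_mem (h.sq k hk' x hx)
    obtain ⟨y, hy, hyx⟩ := h.ker k hk' x hx h2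
    obtain ⟨g, hg, hyg⟩ := h.onto k hk' y hy
    set c := t * g⁻¹ * t with hc
    have hcF : c ∈ F (k + 1) := h.tF (k + 1) hk _ (inv_mem hg)
    have hct : c * t * c⁻¹ = t * (g⁻¹ * (t * g * t)) := by
      have ti : t⁻¹ = t := inv_eq_of_mul_eq_one_left tt
      rw [hc, mul_inv_rev, mul_inv_rev, inv_inv, ti]
      calc t * g⁻¹ * t * t * (t * (g * t)) = t * g⁻¹ * (t * t) * (t * (g * t)) := by group
        _ = _ := by rw [tt]; group
    set f := (g⁻¹ * (t * g * t))⁻¹ * x with hf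
    have hfk : f ∈ F k := by
      have h3 := mul_mem (inv_mem hyg) hyx
      have h4 : (y⁻¹ * (g⁻¹ * (t * g * t)))⁻¹ * (y⁻¹ * x) = f := by rw [hf]; group
      rwa [h4] at h3
    have hx' : t * x = c * (t * (c⁻¹ * f * c)) * c⁻¹ := by
      calc t * x = t * (g⁻¹ * (t * g * t)) * f := by rw [hf]; group
        _ = c * t * c⁻¹ * f := by rw [hct]
        _ = _ := by group
    have h5 : c⁻¹ * f * c ∈ F k := h.norm' hk' hcF hfk
    obtain ⟨d, hd, hd'⟩ := ih (by omega) h5 (by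
      have h6 : t * (c⁻¹ * f * c) = c⁻¹ * (t * x) * c := by rw [hx']; group
      rw [h6]
      calc c⁻¹ * (t * x) * c * (c⁻¹ * (t * x) * c) = c⁻¹ * ((t * x) * (t * x)) * c := by group
        _ = 1 := by rw [hinv]; group)
    refine ⟨c * d, mul_mem hcF (h.le k hk' hd), ?_⟩
    rw [hx', hd']
    group

/-- `t` is not in the chain. -/
theorem not_mem (h : Filt t N F Y) (tt : t * t = 1) (t1 : t ≠ 1) {k : ℕ} (hk : k ≤ N) : t ∉ F k := by
  induction k with
  | zero => rwa [h.zero, Subgroup.mem_bot]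
  | succ k ih =>
    intro ht
    have hk' : k < N := hk
    obtain ⟨y, hy, hyt⟩ := h.ker k hk' t ht (by rw [tt, one_mul, inv_mul_cancel]; exact one_mem _)
    obtain ⟨g, hg, hyg⟩ := h.onto k hk' y hy
    have h3 := mul_mem (inv_mem hyg) hyt
    have h4 : (y⁻¹ * (g⁻¹ * (t * g * t)))⁻¹ * (y⁻¹ * t) = (g⁻¹ * (t * g * t))⁻¹ * t := by group
    rw [h4] at h3
    have h5 : g⁻¹ * (t * g * t) ∈ F k := by
      have h6 : g⁻¹ * (t * g * t) = (g * g)⁻¹ * ((g * t) * (g * t)) := by group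
      rw [h6]
      exact mul_mem (inv_mem (h.sq k hk' g hg)) (h.sq k hk' (g * t) (mul_mem hg ht))
    have h7 := mul_mem h5 h3
    rw [mul_inv_cancel_left] at h7
    exact ih (by omega) h7

/-- The fixed points of `t`. -/
theorem cent (h : Filt t N F Y) {Z : Subgroup G} (hZ : ∀ k < N, Y k ≤ Z) (tt : t * t = 1) {k : ℕ} (hk : k ≤ N) {x : G}
    (hx : x ∈ F k) (hxt : t * x * t = x) : x ∈ Z := by
  induction k generalizing x with
  | zero =>
    rw [h.zero, Subgroup.mem_bot] at hx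
    rw [hx]
    exact one_mem _
  | succ k ih =>
    have hk' : k < N := hk
    obtain ⟨y, hy, hyx⟩ := h.ker k hk' x hx (by rw [hxt, inv_mul_cancel]; exact one_mem _)
    have h1 : t * (y⁻¹ * x) * t = y⁻¹ * x := by
      have h2 : t * y⁻¹ * t = y⁻¹ := by
        have ti : t⁻¹ = t := inv_eq_of_mul_eq_one_left tt
        have h3 := congrArg (·⁻¹) (h.Yt k hk' y hy)
        simp only [mul_inv_rev, ti] at h3
        rwa [← mul_assoc] at h3
      calc t * (y⁻¹ * x) * t = (t * y⁻¹ * t) * (t * x * t) := by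
            calc t * (y⁻¹ * x) * t = t * y⁻¹ * 1 * x * t := by group
              _ = _ := by rw [← tt]; group
        _ = y⁻¹ * x := by rw [h2, hxt]
    have h4 := mul_mem (hZ k hk' hy) (ih (by omega) hyx h1)
    rwa [mul_inv_cancel_left] at h4

/-- `F k` is a 2-group. -/
theorem isPGroup (h : Filt t N F Y) {k : ℕ} (hk : k ≤ N) : IsPGroup 2 (F k) := by
  have key : ∀ x ∈ F k, x ^ (2 ^ k) = 1 := by
    induction k with
    | zero =>
      intro x hx
      rw [h.zero, Subgroup.mem_bot] at hx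
      rw [hx, one_pow]
    | succ k ih =>
      intro x hx
      rw [pow_succ', pow_mul, pow_two]
      exact ih (by omega) _ (h.sq k hk x hx)
  intro x
  exact ⟨k, Subtype.ext (key x x.2)⟩

/-- one more step -/
theorem succ (h : Filt t N F Y) (le : F N ≤ F (N + 1)) (norm : ∀ g ∈ F (N + 1), ∀ x ∈ F N, g * x * g⁻¹ ∈ F N)
    (tF : ∀ x ∈ F (N + 1), t * x * t ∈ F (N + 1)) (sq : ∀ x ∈ F (N + 1), x * x ∈ F N)
    (ker : ∀ f ∈ F (N + 1), f⁻¹ * (t * f * t) ∈ F N → ∃ y ∈ Y N, y⁻¹ * f ∈ F N)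
    (onto : ∀ y ∈ Y N, ∃ g ∈ F (N + 1), y⁻¹ * (g⁻¹ * (t * g * t)) ∈ F N)
    (Yt : ∀ y ∈ Y N, t * y * t = y) (YF : ∀ y ∈ Y N, y ∈ F (N + 1)) : Filt t (N + 1) F Y where
  zero := h.zero
  le k hk := by rcases Nat.lt_succ_iff_lt_or_eq.1 hk with h1 | rfl; exacts [h.le k h1, le]
  norm k hk := by rcases Nat.lt_succ_iff_lt_or_eq.1 hk with h1 | rfl; exacts [h.norm k h1, norm]
  tF k hk := by rcases Nat.of_le_succ hk with h1 | rfl; exacts [h.tF k h1, tF]
  sq k hk := by rcases Nat.lt_succ_iff_lt_or_eq.1 hk with h1 | rfl; exacts [h.sq k h1, sq]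
  ker k hk := by rcases Nat.lt_succ_iff_lt_or_eq.1 hk with h1 | rfl; exacts [h.ker k h1, ker]
  onto k hk := by rcases Nat.lt_succ_iff_lt_or_eq.1 hk with h1 | rfl; exacts [h.onto k h1, onto]
  Yt k hk := by rcases Nat.lt_succ_iff_lt_or_eq.1 hk with h1 | rfl; exacts [h.Yt k h1, Yt]
  YF k hk := by rcases Nat.lt_succ_iff_lt_or_eq.1 hk with h1 | rfl; exacts [h.YF k h1, YF]

end Filt

/-! ### Layers -/

/-- `T 0 ⋯ T (j - 1)` -/
def pr (T : ℕ → Subgroup G) : ℕ → Subgroup G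
  | 0 => ⊥
  | (j + 1) => pr T j ⊔ T j

theorem pr_mono (T : ℕ → Subgroup G) {i j : ℕ} (h : i ≤ j) : pr T i ≤ pr T j := by
  induction j with
  | zero => rw [Nat.le_zero.1 h]
  | succ j ih =>
    rcases Nat.of_le_succ h with h1 | rfl
    · exact (ih h1).trans le_sup_left
    · exact le_rfl

theorem le_pr (T : ℕ → Subgroup G) {i j : ℕ} (h : i < j) : T i ≤ pr T j :=
  (le_sup_right : T i ≤ pr T i ⊔ T i).trans (pr_mono T (Nat.succ_le_of_lt h))

theorem pr_le {T : ℕ → Subgroup G} {A : Subgroup G} {j : ℕ} (h : ∀ i < j, T i ≤ A) : pr T j ≤ A := by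
  induction j with
  | zero => exact bot_le
  | succ j ih => exact sup_le (ih fun i hi => h i (by omega)) (h j (by omega))

/-- products with a normalised subgroup -/
theorem mem_mul_of_mem_sup {A B : Subgroup G} (h : ∀ b ∈ B, ∀ a ∈ A, b * a * b⁻¹ ∈ A) {x : G} (hx : x ∈ A ⊔ B) :
    ∃ a ∈ A, ∃ b ∈ B, x = a * b := by
  let P : Subgroup G :=
    { carrier := {x | ∃ a ∈ A, ∃ b ∈ B, x = a * b}
      one_mem' := ⟨1, one_mem _, 1, one_mem _, (one_mul 1).symm⟩
      mul_mem' := by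
        rintro _ _ ⟨a, ha, b, hb, rfl⟩ ⟨c, hc, d, hd, rfl⟩
        exact ⟨a * (b * c * b⁻¹), mul_mem ha (h b hb c hc), b * d, mul_mem hb hd, by group⟩
      inv_mem' := by
        rintro _ ⟨a, ha, b, hb, rfl⟩
        refine ⟨b⁻¹ * a⁻¹ * b, ?_, b⁻¹, inv_mem hb, by group⟩
        have := h b⁻¹ (inv_mem hb) a⁻¹ (inv_mem ha)
        rwa [inv_inv] at this }
  have hP : A ⊔ B ≤ P := sup_le (fun a ha => ⟨a, ha, 1, one_mem _, (mul_one a).symm⟩)
    (fun b hb => ⟨1, one_mem _, b, hb, (one_mul b).symm⟩)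
  exact hP hx

theorem conj_pr {T : ℕ → Subgroup G} {j : ℕ} {g : G} (h : ∀ i < j, ∀ x ∈ T i, g * x * g⁻¹ ∈ T i) {x : G}
    (hx : x ∈ pr T j) : g * x * g⁻¹ ∈ pr T j := by
  have h1 : pr T j ≤ (pr T j).comap (MulAut.conj g).toMonoidHom := by
    refine pr_le fun i hi y hy => ?_
    exact le_pr T hi (h i hi y hy)
  exact h1 hx

/-- The layers `X j ≤ Q j`, `X j ≤ W j`, `W j, Q j ≤ T j`; `W j` is the double of `X j`, `T j / W j` the double of
`Q j / X j`. -/
structure Layers (t : G) (m : ℕ) (X Q W T : ℕ → Subgroup G) : Prop where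
  tt : t * t = 1
  Qt : ∀ j < m, ∀ x ∈ Q j, t * x * t = x
  XQ : ∀ j < m, X j ≤ Q j
  XW : ∀ j < m, X j ≤ W j
  WT : ∀ j < m, W j ≤ T j
  QT : ∀ j < m, Q j ≤ T j
  Wsq : ∀ j < m, ∀ w ∈ W j, w * w = 1
  Tsq : ∀ j < m, ∀ x ∈ T j, x * x ∈ W j
  Wbrk : ∀ j < m, ∀ w ∈ W j, w⁻¹ * (t * w * t) ∈ X j
  Wonto : ∀ j < m, ∀ x ∈ X j, ∃ w ∈ W j, w⁻¹ * (t * w * t) = x
  Wcent : ∀ j < m, ∀ w ∈ W j, t * w * t = w → w ∈ X j
  Tbrk : ∀ j < m, ∀ r ∈ T j, ∃ q ∈ Q j, q⁻¹ * (r⁻¹ * (t * r * t)) ∈ W j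
  Tonto : ∀ j < m, ∀ q ∈ Q j, ∃ r ∈ T j, q⁻¹ * (r⁻¹ * (t * r * t)) ∈ W j
  Tker : ∀ j < m, ∀ r ∈ T j, r⁻¹ * (t * r * t) ∈ W j → ∃ q ∈ Q j, q⁻¹ * r ∈ W j
  normT : ∀ i j, i < j → j < m → ∀ g ∈ T j, ∀ x ∈ T i, g * x * g⁻¹ ∈ T i
  normW : ∀ j < m, ∀ g ∈ T j, ∀ x ∈ W j, g * x * g⁻¹ ∈ W j
  dir : ∀ j < m, ∀ q ∈ Q j, q ∈ pr Q j → q = 1

namespace Layers

variable {t : G} {m : ℕ} {X Q W T : ℕ → Subgroup G}

/-- the filtration -/
def fil (W T : ℕ → Subgroup G) (k : ℕ) : Subgroup G := if k % 2 = 0 then pr T (k / 2) else pr T (k / 2) ⊔ W (k / 2)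

/-- the fixed points -/
def fix (X Q : ℕ → Subgroup G) (k : ℕ) : Subgroup G := if k % 2 = 0 then X (k / 2) else Q (k / 2)

theorem fil_even (j : ℕ) : fil W T (2 * j) = pr T j := by
  unfold fil
  rw [if_pos (by omega), show 2 * j / 2 = j by omega]

theorem fil_odd (j : ℕ) : fil W T (2 * j + 1) = pr T j ⊔ W j := by
  unfold fil
  rw [if_neg (by omega), show (2 * j + 1) / 2 = j by omega]

theorem fix_even (j : ℕ) : fix X Q (2 * j) = X j := by
  unfold fix
  rw [if_pos (by omega), show 2 * j / 2 = j by omega]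

theorem fix_odd (j : ℕ) : fix X Q (2 * j + 1) = Q j := by
  unfold fix
  rw [if_neg (by omega), show (2 * j + 1) / 2 = j by omega]

theorem tinv (h : Layers t m X Q W T) : t⁻¹ = t := inv_eq_of_mul_eq_one_left h.tt

theorem tmul (h : Layers t m X Q W T) (a b : G) : t * (a * b) * t = (t * a * t) * (t * b * t) := by
  calc t * (a * b) * t = t * a * 1 * b * t := by group
    _ = _ := by rw [← h.tt]; group

theorem tW (h : Layers t m X Q W T) {j : ℕ} (hj : j < m) {w : G} (hw : w ∈ W j) : t * w * t ∈ W j := by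
  have := mul_mem hw (h.XW j hj (h.Wbrk j hj w hw))
  rwa [mul_inv_cancel_left] at this

theorem tT (h : Layers t m X Q W T) {j : ℕ} (hj : j < m) {r : G} (hr : r ∈ T j) : t * r * t ∈ T j := by
  obtain ⟨q, hq, hw⟩ := h.Tbrk j hj r hr
  have := mul_mem hr (mul_mem (h.QT j hj hq) (h.WT j hj hw))
  rwa [mul_inv_cancel_left, mul_inv_cancel_left] at this

theorem tpr (h : Layers t m X Q W T) {j : ℕ} (hj : j ≤ m) {x : G} (hx : x ∈ pr T j) : t * x * t ∈ pr T j := by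
  have h1 := conj_pr (T := T) (j := j) (g := t) (fun i hi y hy => by
    rw [h.tinv]
    exact h.tT (by omega) hy) hx
  rwa [h.tinv] at h1

/-- `T j` normalises `T 0 ⋯ T (j - 1)` -/
theorem norm_pr (h : Layers t m X Q W T) {j : ℕ} (hj : j < m) {g x : G} (hg : g ∈ T j) (hx : x ∈ pr T j) :
    g * x * g⁻¹ ∈ pr T j :=
  conj_pr (fun i hi y hy => h.normT i j hi hj g hg y hy) hx

theorem norm_pr' (h : Layers t m X Q W T) {j : ℕ} (hj : j < m) {g x : G} (hg : g ∈ T j) (hx : x ∈ pr T j) :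
    g⁻¹ * x * g ∈ pr T j := by
  have := h.norm_pr hj (inv_mem hg) hx
  rwa [inv_inv] at this

theorem mem_succ (h : Layers t m X Q W T) {j : ℕ} (hj : j < m) {x : G} (hx : x ∈ pr T (j + 1)) :
    ∃ a ∈ pr T j, ∃ r ∈ T j, x = a * r :=
  mem_mul_of_mem_sup (fun _ hb _ ha => h.norm_pr hj hb ha) hx

theorem mem_W (h : Layers t m X Q W T) {j : ℕ} (hj : j < m) {x : G} (hx : x ∈ pr T j ⊔ W j) :
    ∃ a ∈ pr T j, ∃ w ∈ W j, x = a * w :=
  mem_mul_of_mem_sup (fun _ hb _ ha => h.norm_pr hj (h.WT j hj hb) ha) hx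

theorem mod_iff (h : Layers t m X Q W T) {j : ℕ} (hj : j < m) {a r : G} (ha : a ∈ pr T j) (hr : r ∈ T j) :
    ∃ b ∈ pr T j, (a * r)⁻¹ * (t * (a * r) * t) = b * (r⁻¹ * (t * r * t)) := by
  refine ⟨r⁻¹ * (a⁻¹ * (t * a * t)) * r, h.norm_pr' hj hr (mul_mem (inv_mem ha) (h.tpr hj.le ha)), ?_⟩
  rw [h.tmul, mul_inv_rev]
  have : ∀ u v : G, r⁻¹ * a⁻¹ * (u * v) = r⁻¹ * (a⁻¹ * u) * r * (r⁻¹ * v) := fun u v => by group
  exact this _ _

/-- **The filtration of a product of layers.** -/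
theorem filt (h : Layers t m X Q W T) (j : ℕ) (hj : j ≤ m) : Filt t (2 * j) (fil W T) (fix X Q) := by
  induction j with
  | zero =>
    refine ⟨by have := fil_even (W := W) (T := T) 0; exact this, ?_, ?_, ?_, ?_, ?_, ?_, ?_, ?_⟩
    · intro k hk; omega
    · intro k hk; omega
    · intro k hk x hx
      obtain rfl : k = 0 := by omega
      have h0 : fil W T 0 = ⊥ := fil_even (W := W) (T := T) 0
      rw [h0, Subgroup.mem_bot] at hx ⊢
      rw [hx, mul_one, h.tt]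
    all_goals intro k hk; omega
  | succ j ih =>
    have hj' : j < m := hj
    have IH := ih hj'.le
    have e0 : fil W T (2 * j) = pr T j := fil_even j
    have e1 : fil W T (2 * j + 1) = pr T j ⊔ W j := fil_odd j
    have e2 : fil W T (2 * j + 1 + 1) = pr T (j + 1) := fil_even (j + 1)
    have f0 : fix X Q (2 * j) = X j := fix_even j
    have f1 : fix X Q (2 * j + 1) = Q j := fix_odd j
    -- fixed points of `pr T j`
    have hcent : ∀ x ∈ pr T j, t * x * t = x → x ∈ pr Q j := by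
      intro x hx hxt
      refine IH.cent (Z := pr Q j) ?_ h.tt le_rfl (by rw [e0]; exact hx) hxt
      intro k hk
      have hk2 : k / 2 < j := by omega
      unfold fix
      split_ifs
      · exact (h.XQ _ (by omega)).trans (le_pr Q hk2)
      · exact le_pr Q hk2
    have hfix : ∀ x ∈ X j, t * x * t = x := fun x hx => h.Qt j hj' x (h.XQ j hj' hx)
    have hQ1 : ∀ x ∈ pr T j, x ∈ Q j → x = 1 := fun x hx hq => h.dir j hj' x hq (hcent x hx (h.Qt j hj' x hq))
    -- `w⁻¹ w^t ∈ pr T j`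
    have hW1 : ∀ w ∈ W j, w⁻¹ * (t * w * t) ∈ pr T j → w ∈ X j := by
      intro w hw hw'
      have h1 := hQ1 _ hw' (h.XQ j hj' (h.Wbrk j hj' w hw))
      exact h.Wcent j hj' w hw (inv_mul_eq_one.1 h1).symm
    have hWn : ∀ b ∈ W j, ∀ a ∈ pr T j, b * a * b⁻¹ ∈ pr T j := fun b hb a ha => h.norm_pr hj' (h.WT j hj' hb) ha
    -- `Q j ∩ pr T j W j ≤ X j`
    have hQW : ∀ q ∈ Q j, q ∈ pr T j ⊔ W j → q ∈ X j := by
      intro q hq hqm
      obtain ⟨a, ha, w, hw, rfl⟩ := h.mem_W hj' hqm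
      have hqt := h.Qt j hj' _ hq
      obtain ⟨b, hb, hb'⟩ := h.mod_iff hj' ha (h.WT j hj' hw)
      rw [hqt, inv_mul_cancel] at hb'
      have h1 : w⁻¹ * (t * w * t) ∈ pr T j := by
        rw [← inv_eq_of_mul_eq_one_right hb'.symm]
        exact inv_mem hb
      have h2 := hW1 w hw h1
      have h3 : a ∈ Q j := by
        have := mul_mem hq (inv_mem (h.XQ j hj' h2))
        rwa [mul_inv_cancel_right] at this
      rw [hQ1 a ha h3, one_mul]
      exact h2
    have hA : Filt t (2 * j + 1) (fil W T) (fix X Q) := by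
      refine IH.succ ?_ ?_ ?_ ?_ ?_ ?_ ?_ ?_
      · rw [e0, e1]
        exact le_sup_left
      · rw [e0, e1]
        intro g hg x hx
        obtain ⟨a, ha, w, hw, rfl⟩ := h.mem_W hj' hg
        have h1 : a * w * x * (a * w)⁻¹ = a * (w * x * w⁻¹) * a⁻¹ := by group
        rw [h1]
        exact mul_mem (mul_mem ha (hWn w hw x hx)) (inv_mem ha)
      · rw [e1]
        intro x hx
        obtain ⟨a, ha, w, hw, rfl⟩ := h.mem_W hj' hx
        rw [h.tmul]
        exact mul_mem (Subgroup.mem_sup_left (h.tpr hj'.le ha)) (Subgroup.mem_sup_right (h.tW hj' hw))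
      · rw [e0, e1]
        intro x hx
        obtain ⟨a, ha, w, hw, rfl⟩ := h.mem_W hj' hx
        have h1 : a * w * (a * w) = a * (w * a * w⁻¹) * (w * w) := by group
        rw [h1, h.Wsq j hj' w hw, mul_one]
        exact mul_mem ha (hWn w hw a ha)
      · rw [e0, e1, f0]
        intro f hf hf'
        obtain ⟨a, ha, w, hw, rfl⟩ := h.mem_W hj' hf
        obtain ⟨b, hb, hb'⟩ := h.mod_iff hj' ha (h.WT j hj' hw)
        rw [hb'] at hf'
        have h1 := mul_mem (inv_mem hb) hf'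
        rw [inv_mul_cancel_left] at h1
        refine ⟨w, hW1 w hw h1, ?_⟩
        rw [← mul_assoc]
        exact h.norm_pr' hj' (h.WT j hj' hw) ha
      · rw [e0, e1, f0]
        intro x hx
        obtain ⟨w, hw, hwx⟩ := h.Wonto j hj' x hx
        exact ⟨w, Subgroup.mem_sup_right hw, by rw [hwx, inv_mul_cancel]; exact one_mem _⟩
      · rw [f0]
        exact hfix
      · rw [e1, f0]
        exact fun x hx => Subgroup.mem_sup_right (h.XW j hj' hx)
    have hE : (pr T j ⊔ W j) ≤ pr T (j + 1) := sup_le (pr_mono T (Nat.le_succ j)) ((h.WT j hj').trans (le_pr T (Nat.lt_succ_self j)))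
    have hEr : ∀ r ∈ T j, ∀ x ∈ pr T j ⊔ W j, r * x * r⁻¹ ∈ pr T j ⊔ W j := by
      intro r hr x hx
      obtain ⟨b, hb, w, hw, rfl⟩ := h.mem_W hj' hx
      have h1 : r * (b * w) * r⁻¹ = (r * b * r⁻¹) * (r * w * r⁻¹) := by group
      rw [h1]
      exact mul_mem (Subgroup.mem_sup_left (h.norm_pr hj' hr hb)) (Subgroup.mem_sup_right (h.normW j hj' r hr w hw))
    have hl : pr T j ≤ pr T j ⊔ W j := le_sup_left
    have hr' : W j ≤ pr T j ⊔ W j := le_sup_right
    refine hA.succ ?_ ?_ ?_ ?_ ?_ ?_ ?_ ?_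
    · rw [e1, e2]
      exact hE
    · rw [e1, e2]
      intro g hg x hx
      obtain ⟨a, ha, r, hr, rfl⟩ := h.mem_succ hj' hg
      have h1 : a * r * x * (a * r)⁻¹ = a * (r * x * r⁻¹) * a⁻¹ := by group
      rw [h1]
      exact mul_mem (mul_mem (hl ha) (hEr r hr x hx)) (inv_mem (hl ha))
    · rw [e2]
      intro x hx
      exact h.tpr hj hx
    · rw [e1, e2]
      intro x hx
      obtain ⟨a, ha, r, hr, rfl⟩ := h.mem_succ hj' hx
      have h1 : a * r * (a * r) = a * (r * a * r⁻¹) * (r * r) := by group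
      rw [h1]
      exact mul_mem (hl (mul_mem ha (h.norm_pr hj' hr ha))) (hr' (h.Tsq j hj' r hr))
    · rw [e1, e2, f1]
      intro f hf hf'
      obtain ⟨a, ha, r, hr, rfl⟩ := h.mem_succ hj' hf
      obtain ⟨b, hb, hb'⟩ := h.mod_iff hj' ha hr
      rw [hb'] at hf'
      have h1 := mul_mem (inv_mem (hl hb)) hf'
      rw [inv_mul_cancel_left] at h1
      obtain ⟨q, hq, hqr⟩ := h.Tbrk j hj' r hr
      have h2 : q ∈ pr T j ⊔ W j := by
        have h3 := mul_mem h1 (inv_mem (hr' hqr))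
        have h4 : r⁻¹ * (t * r * t) * (q⁻¹ * (r⁻¹ * (t * r * t)))⁻¹ = q := by group
        rwa [h4] at h3
      have h5 : r⁻¹ * (t * r * t) ∈ W j := by
        have h6 := mul_mem (h.XW j hj' (hQW q hq h2)) hqr
        rwa [mul_inv_cancel_left] at h6
      obtain ⟨y, hy, hyr⟩ := h.Tker j hj' r hr h5
      refine ⟨y, hy, ?_⟩
      have h7 : y⁻¹ * (a * r) = (y⁻¹ * a * y) * (y⁻¹ * r) := by group
      rw [h7]
      exact mul_mem (hl (h.norm_pr' hj' (h.QT j hj' hy) ha)) (hr' hyr)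
    · rw [e1, e2, f1]
      intro q hq
      obtain ⟨r, hr, hqr⟩ := h.Tonto j hj' q hq
      exact ⟨r, le_pr T (Nat.lt_succ_self j) hr, hr' hqr⟩
    · rw [f1]
      exact h.Qt j hj'
    · rw [e2, f1]
      exact fun q hq => le_pr T (Nat.lt_succ_self j) (h.QT j hj' hq)

/-- `U* = T 0 ⋯ T (m - 1)` -/
def US (T : ℕ → Subgroup G) (m : ℕ) : Subgroup G := pr T m

/-- All involutions of `t U*` are conjugate to `t`. -/
theorem exists_conj (h : Layers t m X Q W T) {x : G} (hx : x ∈ pr T m) (hinv : (t * x) * (t * x) = 1) :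
    ∃ c ∈ pr T m, t * x = c * t * c⁻¹ := by
  have := (h.filt m le_rfl).exists_conj h.tt le_rfl (x := x) (by rwa [fil_even]) hinv
  rwa [fil_even] at this

/-- `C_{U*}(t) = Q 0 ⋯ Q (m - 1)` -/
theorem mem_iff (h : Layers t m X Q W T) {x : G} : x ∈ pr Q m ↔ x ∈ pr T m ∧ t * x * t = x := by
  constructor
  · intro hx
    have h1 : pr Q m ≤ pr T m := pr_le fun i hi => (h.QT i hi).trans (le_pr T hi)
    have h2 : pr Q m ≤ Subgroup.centralizer {t} := pr_le fun i hi y hy => by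
      rw [Subgroup.mem_centralizer_singleton_iff]
      have h3 := h.Qt i hi y hy
      calc y * t = t * y * t * t := by rw [h3]
        _ = t * y * (t * t) := by group
        _ = t * y := by rw [h.tt, mul_one]
    refine ⟨h1 hx, ?_⟩
    have h3 := Subgroup.mem_centralizer_singleton_iff.1 (h2 hx)
    rw [mul_assoc, h3, ← mul_assoc, h.tt, one_mul]
  · rintro ⟨hx, hxt⟩
    refine (h.filt m le_rfl).cent (Z := pr Q m) ?_ h.tt le_rfl (by rwa [fil_even]) hxt
    intro k hk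
    have hk2 : k / 2 < m := by omega
    unfold fix
    split_ifs
    · exact (h.XQ _ (by omega)).trans (le_pr Q hk2)
    · exact le_pr Q hk2

theorem not_mem (h : Layers t m X Q W T) (t1 : t ≠ 1) : t ∉ pr T m := by
  have := (h.filt m le_rfl).not_mem h.tt t1 le_rfl
  rwa [fil_even] at this

theorem isPGroup (h : Layers t m X Q W T) : IsPGroup 2 (pr T m) := by
  have := (h.filt m le_rfl).isPGroup le_rfl
  rwa [fil_even] at this

end Layers

end Cfsg.Agent.OddHalf.D7.Uni.Chain
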