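import Mathlib

/-!
# Doubling the long root groups of a unitary group (helper54, text: bb ODD 9100)

`t` an involution, `C(t) = ⟨t⟩ × K₁`, `K = PSU_n(q)`. For an isotropic point `p`: `X p` the transvection group,
`W p ≥ X p` its double. `Line` describes one totally isotropic line `E = ⟨p, r⟩` in coordinates:
`A_E = {np x * m μ * nr y}` (`x, y` in the fixed field of `σ`, `μ ∈ F`) is the module of hermitian forms,
`g l : r ↦ r + l p` (elements of `Q_p`).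
-/

set_option autoImplicit false

namespace Cfsg.Agent.OddHalf.D7.Uni.Defs

variable {G : Type*} [Group G] {F : Type*} [Field F]

/-- `W` is a double of the transvection group `{n x | σ x = x}`. -/
structure Double (σ : F →+* F) (t : G) (n : F → G) (W : Subgroup G) : Prop where
  /-- `X` is central in `W` -/
  cn : ∀ w ∈ W, ∀ x, σ x = x → w * n x = n x * w
  mem : ∀ x, σ x = x → n x ∈ W
  brk : ∀ w ∈ W, ∃ x, σ x = x ∧ t * w * t = w * n x
  surj : ∀ x, σ x = x → ∃ w ∈ W, t * w * t = w * n x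
  cent : ∀ w ∈ W, t * w = w * t → ∃ x, σ x = x ∧ w = n x

/-- The coordinates of `A_E` and the elements `g l`. -/
structure Coord (σ : F →+* F) (t : G) (np nr m g : F → G) : Prop where
  tt : t * t = 1
  two : ∀ x : F, x + x = 0
  σσ : ∀ x, σ (σ x) = x
  nt : ∃ x, σ x ≠ x
  np_add : ∀ x y, σ x = x → σ y = y → np (x + y) = np x * np y
  nr_add : ∀ x y, σ x = x → σ y = y → nr (x + y) = nr x * nr y
  m_add : ∀ x y, m (x + y) = m x * m y
  np_m : ∀ x y, σ x = x → np x * m y = m y * np x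
  np_nr : ∀ x y, σ x = x → σ y = y → np x * nr y = nr y * np x
  m_nr : ∀ x y, σ y = y → m x * nr y = nr y * m x
  inj : ∀ x μ y, σ x = x → σ y = y → np x * m μ * nr y = 1 → x = 0 ∧ μ = 0 ∧ y = 0
  t_np : ∀ x, σ x = x → t * np x = np x * t
  t_nr : ∀ x, σ x = x → t * nr x = nr x * t
  t_m : ∀ x, t * m x = m x * t
  t_g : ∀ x, t * g x = g x * t
  g_add : ∀ x y, g (x + y) = g x * g y
  g_np : ∀ l x, σ x = x → g l * np x * (g l)⁻¹ = np x
  g_m : ∀ l μ, g l * m μ * (g l)⁻¹ = m μ * np (l * σ μ + σ l * μ)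
  g_nr : ∀ l y, σ y = y → g l * nr y * (g l)⁻¹ = nr y * m (l * y) * np (l * σ l * y)

/-- A totally isotropic line `E = ⟨p, r⟩` with `W p`, `W r`. `OE = O₂(C_K(E))`. -/
structure Line (σ : F →+* F) (t : G) (OE Wp Wr : Subgroup G) (np nr m g : F → G) : Prop
    extends Coord σ t np nr m g where
  dp : Double σ t np Wp
  dr : Double σ t nr Wr
  /-- `A_E` centralises `W p`, `W r` -/
  p_m : ∀ w ∈ Wp, ∀ x, w * m x = m x * w
  p_nr : ∀ w ∈ Wp, ∀ x, σ x = x → w * nr x = nr x * w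
  r_m : ∀ w ∈ Wr, ∀ x, w * m x = m x * w
  r_np : ∀ w ∈ Wr, ∀ x, σ x = x → w * np x = np x * w
  /-- `g l` centralises `W p` -/
  g_p : ∀ l, ∀ w ∈ Wp, g l * w = w * g l
  /-- `OE` centralises `W p`, `W r` and is normalised by `g l` -/
  O_p : ∀ c ∈ OE, ∀ w ∈ Wp, c * w = w * c
  O_r : ∀ c ∈ OE, ∀ w ∈ Wr, c * w = w * c
  O_m : ∀ c ∈ OE, ∀ μ, c * m μ = m μ * c
  g_O : ∀ l, ∀ c ∈ OE, (g l)⁻¹ * c * g l ∈ OE
  /-- `C_{C(t)}(OE) = ⟨t⟩ × A_E` -/
  K2 : ∀ c, c * t = t * c → (∀ o ∈ OE, c * o = o * c) →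
    ∃ x μ y, σ x = x ∧ σ y = y ∧ (c = np x * m μ * nr y ∨ c = t * (np x * m μ * nr y))

/-- `q > 2`: the elements `d = diag(l, 1)` on `E`, `l ^ (q + 1) = ν`. -/
def Scale (σ : F →+* F) (t : G) (Wp Wr : Subgroup G) (np nr : F → G) : Prop :=
  ∀ ν, σ ν = ν → ν ≠ 0 → ∃ d, d * t = t * d ∧ (∀ w ∈ Wp, d * w * d⁻¹ ∈ Wp) ∧ (∀ w ∈ Wr, d * w * d⁻¹ ∈ Wr) ∧
    (∀ x, σ x = x → d * np x * d⁻¹ = np (ν * x)) ∧ (∀ y, σ y = y → d * nr y * d⁻¹ = nr y)

/-- `h = diag(s, s⁻¹)` on `E` with `s ^ (q + 1) = 1`, `s ≠ 1`. -/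
structure Tor (σ : F →+* F) (t : G) (Wp Wr : Subgroup G) (np nr m : F → G) (h : G) : Prop where
  h_t : h * t = t * h
  h_p : ∀ w ∈ Wp, h * w = w * h
  h_r : ∀ w ∈ Wr, h * w = w * h
  h_m : ∀ x μ y, σ x = x → σ y = y → h * (np x * m μ * nr y) = np x * m μ * nr y * h → μ = 0

end Cfsg.Agent.OddHalf.D7.Uni.Defs
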