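import Cfsg.Agent.OddHalf.D7.Uni.Defs

/-!
# One totally isotropic line (helper54, text: bb ODD 9100 (3))

* `Comm`: `[W p, W r] = 1` or (only for `q = 2`) the commutator is `np 1 * nr 1`.
-/

set_option autoImplicit false
set_option linter.unusedSectionVars false

namespace Cfsg.Agent.OddHalf.D7.Uni.Line

open Cfsg.Agent.OddHalf.D7.Uni.Defs

variable {G : Type*} [Group G] {F : Type*} [Field F] {σ : F →+* F} {t : G} {np nr m g : F → G}

section coord

variable (C : Coord σ t np nr m g)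

include C

theorem eq_of_add {x y : F} (h : x + y = 0) : x = y := by
  have := C.two y
  have h2 : x + y = y + y := by rw [h, this]
  exact add_right_cancel h2

theorem np_zero : np 0 = 1 := by
  have := C.np_add 0 0 (map_zero _) (map_zero _)
  simpa using this

theorem nr_zero : nr 0 = 1 := by
  have := C.nr_add 0 0 (map_zero _) (map_zero _)
  simpa using this

theorem m_zero : m 0 = 1 := by
  have := C.m_add 0 0
  simpa using this

theorem g_zero : g 0 = 1 := by
  have := C.g_add 0 0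
  simpa using this

theorem np_sq {x : F} (hx : σ x = x) : np x * np x = 1 := by
  rw [← C.np_add x x hx hx, C.two, np_zero C]

theorem nr_sq {x : F} (hx : σ x = x) : nr x * nr x = 1 := by
  rw [← C.nr_add x x hx hx, C.two, nr_zero C]

theorem m_sq (x : F) : m x * m x = 1 := by
  rw [← C.m_add x x, C.two, m_zero C]

theorem g_sq (x : F) : g x * g x = 1 := by
  rw [← C.g_add x x, C.two, g_zero C]

theorem g_inv (x : F) : (g x)⁻¹ = g x := inv_eq_of_mul_eq_one_left (g_sq C x)

theorem fix_add {x y : F} (hx : σ x = x) (hy : σ y = y) : σ (x + y) = x + y := by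
  rw [map_add, hx, hy]

theorem fix_tr (x y : F) : σ (x * σ y + σ x * y) = x * σ y + σ x * y := by
  rw [map_add, map_mul, map_mul, C.σσ, C.σσ, add_comm]

theorem fix_norm {y : F} (l : F) (hy : σ y = y) : σ (l * σ l * y) = l * σ l * y := by
  rw [map_mul, map_mul, C.σσ, hy, mul_comm (σ l) l]

theorem A_mul {x y x' y' : F} (μ μ' : F) (hx : σ x = x) (hy : σ y = y) (hx' : σ x' = x') (hy' : σ y' = y') :
    np x * m μ * nr y * (np x' * m μ' * nr y') = np (x + x') * m (μ + μ') * nr (y + y') := by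
  rw [C.np_add _ _ hx hx', C.nr_add _ _ hy hy', C.m_add]
  have e1 : nr y * np x' = np x' * nr y := (C.np_nr x' y hx' hy).symm
  have e2 : nr y * m μ' = m μ' * nr y := (C.m_nr μ' y hy).symm
  have e3 : m μ * np x' = np x' * m μ := (C.np_m x' μ hx').symm
  calc np x * m μ * nr y * (np x' * m μ' * nr y') = np x * m μ * (nr y * np x') * m μ' * nr y' := by
        simp only [mul_assoc]
    _ = np x * (m μ * np x') * (nr y * m μ') * nr y' := by rw [e1]; simp only [mul_assoc]
    _ = _ := by rw [e2, e3]; simp only [mul_assoc]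

theorem A_inj {x y x' y' μ μ' : F} (hx : σ x = x) (hy : σ y = y) (hx' : σ x' = x') (hy' : σ y' = y')
    (h : np x * m μ * nr y = np x' * m μ' * nr y') : x = x' ∧ μ = μ' ∧ y = y' := by
  have h1 : np x * m μ * nr y * (np x' * m μ' * nr y') = 1 := by
    rw [h, A_mul C μ' μ' hx' hy' hx' hy', C.two, C.two, C.two, np_zero C, m_zero C, nr_zero C]
    simp
  rw [A_mul C μ μ' hx hy hx' hy'] at h1
  obtain ⟨e1, e2, e3⟩ := C.inj _ _ _ (fix_add C hx hx') (fix_add C hy hy') h1
  exact ⟨eq_of_add C e1, eq_of_add C e2, eq_of_add C e3⟩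

theorem A_comm {x y x' y' : F} (μ μ' : F) (hx : σ x = x) (hy : σ y = y) (hx' : σ x' = x') (hy' : σ y' = y') :
    np x * m μ * nr y * (np x' * m μ' * nr y') = np x' * m μ' * nr y' * (np x * m μ * nr y) := by
  rw [A_mul C μ μ' hx hy hx' hy', A_mul C μ' μ hx' hy' hx hy, add_comm x, add_comm μ, add_comm y]

theorem A_sq {x y : F} (μ : F) (hx : σ x = x) (hy : σ y = y) :
    np x * m μ * nr y * (np x * m μ * nr y) = 1 := by
  rw [A_mul C μ μ hx hy hx hy, C.two, C.two, C.two, np_zero C, m_zero C, nr_zero C]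
  simp

theorem A_inv {x y : F} (μ : F) (hx : σ x = x) (hy : σ y = y) :
    (np x * m μ * nr y)⁻¹ = np x * m μ * nr y := inv_eq_of_mul_eq_one_left (A_sq C μ hx hy)

theorem g_A {x y : F} (l μ : F) (hx : σ x = x) (hy : σ y = y) :
    g l * (np x * m μ * nr y) * (g l)⁻¹ =
      np (x + (l * σ μ + σ l * μ) + l * σ l * y) * m (μ + l * y) * nr y := by
  have e : g l * (np x * m μ * nr y) * (g l)⁻¹ =
      (g l * np x * (g l)⁻¹) * (g l * m μ * (g l)⁻¹) * (g l * nr y * (g l)⁻¹) := by group
  rw [e, C.g_np l x hx, C.g_m, C.g_nr l y hy]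
  have h1 := A_mul C μ (l * y) hx (map_zero σ) (fix_norm C l hy) hy
  have h2 := A_mul C 0 (μ + l * y) (fix_tr C l μ) (map_zero σ) (fix_add C hx (fix_norm C l hy)) (hy)
  rw [nr_zero C, mul_one, zero_add] at h1
  rw [m_zero C, nr_zero C, mul_one, mul_one, zero_add, zero_add] at h2
  have h3 : np x * (m μ * np (l * σ μ + σ l * μ)) * (nr y * m (l * y) * np (l * σ l * y)) =
      np (l * σ μ + σ l * μ) * (np x * m μ * (np (l * σ l * y) * m (l * y) * nr y)) := by
    have e1 : m μ * np (l * σ μ + σ l * μ) = np (l * σ μ + σ l * μ) * m μ := (C.np_m _ _ (fix_tr C l μ)).symm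
    have e2 : np x * np (l * σ μ + σ l * μ) = np (l * σ μ + σ l * μ) * np x := by
      rw [← C.np_add _ _ hx (fix_tr C l μ), add_comm, C.np_add _ _ (fix_tr C l μ) hx]
    have e3 : nr y * m (l * y) * np (l * σ l * y) = np (l * σ l * y) * m (l * y) * nr y := by
      rw [← C.m_nr _ _ hy, mul_assoc, ← C.np_nr _ _ (fix_norm C l hy) hy, ← mul_assoc, ← C.np_m _ _ (fix_norm C l hy)]
    rw [e3, e1, ← mul_assoc (np x), e2]
    simp only [mul_assoc]
  rw [h3, h1, h2]
  congr 3
  ring

end coord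

section line

variable {OE Wp Wr : Subgroup G} (L : Line σ t OE Wp Wr np nr m g)

include L

/-- `A_E` centralises `W p`. -/
theorem p_A {w : G} (hw : w ∈ Wp) {x y : F} (μ : F) (hx : σ x = x) (hy : σ y = y) :
    w * (np x * m μ * nr y) = np x * m μ * nr y * w := by
  have h1 := L.dp.cn w hw x hx
  have h2 := L.p_m w hw μ
  have h3 := L.p_nr w hw y hy
  calc w * (np x * m μ * nr y) = (w * np x) * m μ * nr y := by simp only [mul_assoc]
    _ = np x * (w * m μ) * nr y := by rw [h1]; simp only [mul_assoc]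
    _ = np x * m μ * (w * nr y) := by rw [h2]; simp only [mul_assoc]
    _ = _ := by rw [h3]; simp only [mul_assoc]

/-- `A_E` centralises `W r`. -/
theorem r_A {w : G} (hw : w ∈ Wr) {x y : F} (μ : F) (hx : σ x = x) (hy : σ y = y) :
    w * (np x * m μ * nr y) = np x * m μ * nr y * w := by
  have h1 := L.r_np w hw x hx
  have h2 := L.r_m w hw μ
  have h3 := L.dr.cn w hw y hy
  calc w * (np x * m μ * nr y) = (w * np x) * m μ * nr y := by simp only [mul_assoc]
    _ = np x * (w * m μ) * nr y := by rw [h1]; simp only [mul_assoc]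
    _ = np x * m μ * (w * nr y) := by rw [h2]; simp only [mul_assoc]
    _ = _ := by rw [h3]; simp only [mul_assoc]

theorem t_A {x y : F} (μ : F) (hx : σ x = x) (hy : σ y = y) :
    t * (np x * m μ * nr y) = np x * m μ * nr y * t := by
  have h1 := L.t_np x hx
  have h2 := L.t_m μ
  have h3 := L.t_nr y hy
  calc t * (np x * m μ * nr y) = (t * np x) * m μ * nr y := by simp only [mul_assoc]
    _ = np x * (t * m μ) * nr y := by rw [h1]; simp only [mul_assoc]
    _ = np x * m μ * (t * nr y) := by rw [h2]; simp only [mul_assoc]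
    _ = _ := by rw [h3]; simp only [mul_assoc]

end line

/-- the square of an element of a double lies in `X`. -/
theorem Double.sq {W : Subgroup G} {n : F → G} (ht : t * t = 1) (h0 : ∀ x, σ x = x → n x * n x = 1)
    (D : Double σ t n W) {w : G} (hw : w ∈ W) : ∃ x, σ x = x ∧ w * w = n x := by
  obtain ⟨x, hx, h⟩ := D.brk w hw
  refine D.cent _ (W.mul_mem hw hw) ?_
  have h1 : t * w = w * n x * t := by
    calc t * w = t * w * (t * t) := by rw [ht, mul_one]
      _ = (t * w * t) * t := by simp only [mul_assoc]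
      _ = _ := by rw [h]
  have h2 := D.cn w hw x hx
  have h3 : t * n x = n x * t := by
    have e1 : t * (t * w * t) * t = w := by
      calc t * (t * w * t) * t = (t * t) * w * (t * t) := by simp only [mul_assoc]
        _ = w := by rw [ht]; simp
    rw [h] at e1
    have e2 : w * (n x * (t * n x * t)) = w * 1 := by
      calc w * (n x * (t * n x * t)) = (w * n x) * (t * n x * t) := by simp only [mul_assoc]
        _ = (t * w * t) * (t * n x * t) := by rw [h]
        _ = t * w * (t * t) * n x * t := by simp only [mul_assoc]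
        _ = t * (w * n x) * t := by rw [ht]; simp only [mul_one, mul_assoc]
        _ = w * 1 := by rw [e1, mul_one]
    have e3 := mul_left_cancel e2
    calc t * n x = (n x * n x) * t * n x * (t * t) := by rw [h0 x hx, ht]; simp
      _ = n x * (n x * (t * n x * t)) * t := by simp only [mul_assoc]
      _ = n x * t := by rw [e3, mul_one]
  calc t * (w * w) = (t * w) * w := by rw [mul_assoc]
    _ = w * n x * (t * w) := by rw [h1]; simp only [mul_assoc, h1]
    _ = w * n x * (w * n x * t) := by rw [h1]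
    _ = w * (n x * w) * n x * t := by simp only [mul_assoc]
    _ = w * (w * n x) * n x * t := by rw [h2]
    _ = w * w * (n x * n x) * t := by simp only [mul_assoc]
    _ = w * w * t := by rw [h0 x hx, mul_one]

/-- `[a, b] = c` with `a^t = a x`, `b^t = b y`, `x, y` central: `c^t = c`. -/
theorem comm_aux {a b c x y c' : G} (h : a * b = b * a * c) (h' : a * x * (b * y) = b * y * (a * x) * c')
    (xa : x * a = a * x) (xb : x * b = b * x) (ya : y * a = a * y) (yb : y * b = b * y) (xy : x * y = y * x) :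
    c' = c := by
  have hc : c = a⁻¹ * b⁻¹ * a * b := by
    have : a⁻¹ * b⁻¹ * a * b = a⁻¹ * b⁻¹ * (a * b) := by group
    rw [this, h]
    group
  have hc' : c' = (a * x)⁻¹ * (b * y)⁻¹ * (a * x) * (b * y) := by
    have : (a * x)⁻¹ * (b * y)⁻¹ * (a * x) * (b * y) = (a * x)⁻¹ * (b * y)⁻¹ * (a * x * (b * y)) := by group
    rw [this, h']
    group
  have X : Commute x a := xa
  have X' : Commute x b := xb
  have Y : Commute y a := ya
  have Y' : Commute y b := yb
  have Z : Commute x y := xy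
  rw [hc', hc]
  rw [mul_inv_rev, mul_inv_rev]
  -- x⁻¹ a⁻¹ y⁻¹ b⁻¹ a x b y
  have e1 : y⁻¹ * b⁻¹ * (a * x) = b⁻¹ * a * x * y⁻¹ := by
    have := (((Y'.inv_right).mul_right Y).mul_right Z.symm).inv_left
    have h3 : y⁻¹ * (b⁻¹ * a * x) = b⁻¹ * a * x * y⁻¹ := this
    rw [← h3]
    simp only [mul_assoc]
  have e2 : x⁻¹ * a⁻¹ * (b⁻¹ * a) = a⁻¹ * (b⁻¹ * a) * x⁻¹ := by
    have := (((X.inv_right).mul_right (X'.inv_right)).mul_right X).inv_left
    have h3 : x⁻¹ * (a⁻¹ * b⁻¹ * a) = a⁻¹ * b⁻¹ * a * x⁻¹ := this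
    calc x⁻¹ * a⁻¹ * (b⁻¹ * a) = x⁻¹ * (a⁻¹ * b⁻¹ * a) := by simp only [mul_assoc]
      _ = a⁻¹ * b⁻¹ * a * x⁻¹ := h3
      _ = _ := by simp only [mul_assoc]
  calc x⁻¹ * a⁻¹ * (y⁻¹ * b⁻¹) * (a * x) * (b * y) = x⁻¹ * a⁻¹ * (y⁻¹ * b⁻¹ * (a * x)) * (b * y) := by
        simp only [mul_assoc]
    _ = (x⁻¹ * a⁻¹ * (b⁻¹ * a)) * x * y⁻¹ * (b * y) := by rw [e1]; simp only [mul_assoc]
    _ = a⁻¹ * (b⁻¹ * a) * (x⁻¹ * x) * (y⁻¹ * (b * y)) := by rw [e2]; simp only [mul_assoc]
    _ = a⁻¹ * (b⁻¹ * a) * b := by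
        have : y⁻¹ * (b * y) = b := by rw [← Y'.eq]; group
        rw [this]; simp
    _ = _ := by simp only [mul_assoc]

section line

variable {OE Wp Wr : Subgroup G} (L : Line σ t OE Wp Wr np nr m g)

include L

theorem np_inj {x : F} (hx : σ x = x) (h : np x = 1) : x = 0 :=
  (L.inj x 0 0 hx (map_zero _) (by rw [h, m_zero L.toCoord, nr_zero L.toCoord]; simp)).1

theorem nr_inj {x : F} (hx : σ x = x) (h : nr x = 1) : x = 0 :=
  (L.inj 0 0 x (map_zero _) hx (by rw [h, m_zero L.toCoord, np_zero L.toCoord]; simp)).2.2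

theorem psq {w : G} (hw : w ∈ Wp) : ∃ x, σ x = x ∧ w * w = np x :=
  Double.sq L.tt (fun _ hx => np_sq L.toCoord hx) L.dp hw

theorem rsq {w : G} (hw : w ∈ Wr) : ∃ x, σ x = x ∧ w * w = nr x :=
  Double.sq L.tt (fun _ hx => nr_sq L.toCoord hx) L.dr hw

theorem comm_form {h : G} (T : Tor σ t Wp Wr np nr m h) {v u : G} (hv : v ∈ Wp) (hu : u ∈ Wr) :
    ∃ a b, σ a = a ∧ σ b = b ∧ v * u = u * v * (np a * nr b) := by
  obtain ⟨x, hx, hvx⟩ := L.dp.brk v hv
  obtain ⟨y, hy, huy⟩ := L.dr.brk u hu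
  set c : G := (u * v)⁻¹ * (v * u) with hc
  have h1 : v * u = u * v * c := by rw [hc]; group
  have tt := L.tt
  have h2 : v * np x * (u * nr y) = u * nr y * (v * np x) * (t * c * t) := by
    have e1 : t * (v * u) * t = v * np x * (u * nr y) := by
      rw [← hvx, ← huy]
      calc t * (v * u) * t = t * v * 1 * u * t := by simp only [mul_assoc, one_mul]
        _ = t * v * (t * t) * u * t := by rw [tt]
        _ = _ := by simp only [mul_assoc]
    have e2 : t * (u * v * c) * t = u * nr y * (v * np x) * (t * c * t) := by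
      rw [← hvx, ← huy]
      calc t * (u * v * c) * t = t * u * 1 * v * 1 * c * t := by simp only [mul_assoc, one_mul]
        _ = t * u * (t * t) * v * (t * t) * c * t := by rw [tt]
        _ = _ := by simp only [mul_assoc]
    rw [← e1, h1, e2]
  have h3 : t * c * t = c := comm_aux h1 h2 (L.dp.cn _ hv x hx).symm (L.r_np _ hu x hx).symm
    (L.p_nr _ hv y hy).symm (L.dr.cn _ hu y hy).symm (L.np_nr x y hx hy)
  have h4 : c * t = t * c := by
    calc c * t = t * c * t * t := by rw [h3]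
      _ = t * c * (t * t) := by simp only [mul_assoc]
      _ = t * c := by rw [tt, mul_one]
  have h5 : ∀ o ∈ OE, c * o = o * c := by
    intro o ho
    have a1 : Commute o v := L.O_p o ho v hv
    have a2 : Commute o u := L.O_r o ho u hu
    have a3 : Commute o c := by
      rw [hc]
      exact ((a2.mul_right a1).inv_right).mul_right (a1.mul_right a2)
    exact a3.symm
  obtain ⟨a, μ, b, ha, hb, h6 | h6⟩ := L.K2 c h4 h5
  · refine ⟨a, b, ha, hb, ?_⟩
    have h7 : h * c = c * h := by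
      have a1 : Commute h v := T.h_p v hv
      have a2 : Commute h u := T.h_r u hu
      have a3 : Commute h c := by
        rw [hc]
        exact ((a2.mul_right a1).inv_right).mul_right (a1.mul_right a2)
      exact a3
    rw [h6] at h7
    have h8 := T.h_m a μ b ha hb h7
    rw [h1, h6, h8, m_zero L.toCoord, mul_one]
  · refine ⟨0, 0, map_zero _, map_zero _, ?_⟩
    rw [np_zero L.toCoord, nr_zero L.toCoord, mul_one, mul_one]
    have hx0 : x = 0 := by
      refine np_inj L hx ?_
      have e1 : v * c * (v * c) = v * v := by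
        have e2 : v * c = u⁻¹ * v * u := by
          calc v * c = u⁻¹ * (u * v * c) := by group
            _ = u⁻¹ * v * u := by rw [← h1]; group
        obtain ⟨s, hs, hvs⟩ := psq L hv
        calc v * c * (v * c) = u⁻¹ * (v * v) * u := by rw [e2]; group
          _ = u⁻¹ * (np s * u) := by rw [hvs, mul_assoc]
          _ = v * v := by rw [← L.r_np u hu s hs, hvs]; group
      have e3 : v * c * (v * c) = v * v * np x := by
        rw [h6]
        have f1 := p_A L hv μ ha hb
        have f2 := t_A L μ ha hb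
        have f3 := A_sq L.toCoord μ ha hb
        set A := np a * m μ * nr b
        calc v * (t * A) * (v * (t * A)) = v * t * (A * v) * t * A := by simp only [mul_assoc]
          _ = v * t * v * (A * t) * A := by rw [← f1]; simp only [mul_assoc]
          _ = v * (t * v * t) * (A * A) := by rw [← f2]; simp only [mul_assoc]
          _ = v * v * np x := by rw [f3, hvx, mul_one, mul_assoc]
      rw [e1] at e3
      have : v * v * 1 = v * v * np x := by rw [mul_one]; exact e3
      exact (mul_left_cancel this).symm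
    have e4 : t * v = v * t := by
      rw [hx0, np_zero L.toCoord, mul_one] at hvx
      calc t * v = t * v * (t * t) := by rw [tt, mul_one]
        _ = (t * v * t) * t := by simp only [mul_assoc]
        _ = v * t := by rw [hvx]
    obtain ⟨s, hs, hvs⟩ := L.dp.cent v hv e4
    rw [hvs]
    exact (L.r_np u hu s hs).symm

/-- `A_E` centralises the conjugates of `W r`. -/
theorem U_A {u : G} (hu : u ∈ Wr) (l : F) {x y : F} (μ : F) (hx : σ x = x) (hy : σ y = y) :
    g l * u * (g l)⁻¹ * (np x * m μ * nr y) = np x * m μ * nr y * (g l * u * (g l)⁻¹) := by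
  have e1 : np x * m μ * nr y = g l * ((g l)⁻¹ * (np x * m μ * nr y) * g l) * (g l)⁻¹ := by group
  have e2 : (g l)⁻¹ * (np x * m μ * nr y) * g l =
      np (x + (l * σ μ + σ l * μ) + l * σ l * y) * m (μ + l * y) * nr y := by
    have := g_A L.toCoord l μ hx hy
    rw [g_inv L.toCoord] at this
    rw [g_inv L.toCoord]
    exact this
  have e3 := r_A L hu (μ + l * y)
    (fix_add L.toCoord (fix_add L.toCoord hx (fix_tr L.toCoord l μ)) (fix_norm L.toCoord l hy)) hy
  rw [← e2] at e3
  set A := np x * m μ * nr y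
  calc g l * u * (g l)⁻¹ * A = g l * (u * ((g l)⁻¹ * A * g l)) * (g l)⁻¹ := by group
    _ = g l * ((g l)⁻¹ * A * g l * u) * (g l)⁻¹ := by rw [e3]
    _ = _ := by group

theorem g_nr' (l : F) {y : F} (hy : σ y = y) :
    g l * nr y * (g l)⁻¹ = np (l * σ l * y) * m (l * y) * nr y := by
  have := g_A L.toCoord l 0 (map_zero σ) hy
  rw [np_zero L.toCoord, m_zero L.toCoord] at this
  simpa using this

theorem tU {u : G} {y : F} (hy : σ y = y) (h : t * u * t = u * nr y) (l : F) :
    t * (g l * u * (g l)⁻¹) * t = g l * u * (g l)⁻¹ * (np (l * σ l * y) * m (l * y) * nr y) := by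
  rw [← g_nr' L l hy]
  have e1 := L.t_g l
  have e2 : (g l)⁻¹ * t = t * (g l)⁻¹ := by
    have : Commute t (g l) := e1
    exact this.symm.inv_left
  calc t * (g l * u * (g l)⁻¹) * t = (t * g l) * u * ((g l)⁻¹ * t) := by simp only [mul_assoc]
    _ = g l * (t * u * t) * (g l)⁻¹ := by rw [e1, e2]; simp only [mul_assoc]
    _ = _ := by rw [h]; group

theorem vU {v u : G} (hv : v ∈ Wp) {a b : F} (ha : σ a = a) (hb : σ b = b)
    (h : v * u = u * v * (np a * nr b)) (l : F) :
    v * (g l * u * (g l)⁻¹) * v⁻¹ = g l * u * (g l)⁻¹ * (np (a + l * σ l * b) * m (l * b) * nr b) := by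
  have e0 : np (a + l * σ l * b) * m (l * b) * nr b = g l * (np a * nr b) * (g l)⁻¹ := by
    have := g_A L.toCoord l 0 ha hb
    rw [m_zero L.toCoord, mul_one] at this
    rw [this]
    simp
  rw [e0]
  have e1 := L.g_p l v hv
  have e2 : v⁻¹ * g l = g l * v⁻¹ := by
    have : Commute (g l) v := e1
    exact this.symm.inv_left
  have e3 : v * (np a * nr b) = np a * nr b * v := by
    have := p_A L hv 0 ha hb
    rw [m_zero L.toCoord, mul_one] at this
    exact this
  have e4 : v * u * v⁻¹ = u * (np a * nr b) := by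
    rw [h]
    calc u * v * (np a * nr b) * v⁻¹ = u * (v * (np a * nr b)) * v⁻¹ := by simp only [mul_assoc]
      _ = u * (np a * nr b) := by rw [e3]; group
  calc v * (g l * u * (g l)⁻¹) * v⁻¹ = (v * g l) * u * ((g l)⁻¹ * v⁻¹) := by simp only [mul_assoc]
    _ = g l * (v * u * v⁻¹) * (g l)⁻¹ := by
        have e5 : (g l)⁻¹ * v⁻¹ = v⁻¹ * (g l)⁻¹ := by
          have : Commute (g l) v := e1
          exact this.inv_left.inv_right
        rw [← e1, e5]
        simp only [mul_assoc]
    _ = _ := by rw [e4]; group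

end line

theorem prod4 (φ : G →* G) {U1 U2 U3 U4 D1 D2 D3 D4 : G} (h1 : φ U1 = U1 * D1) (h2 : φ U2 = U2 * D2)
    (h3 : φ U3 = U3 * D3) (h4 : φ U4 = U4 * D4) (c12 : U2 * D1 = D1 * U2) (c13 : U3 * D1 = D1 * U3)
    (c14 : U4 * D1 = D1 * U4) (c23 : U3 * D2 = D2 * U3) (c24 : U4 * D2 = D2 * U4) (c34 : U4 * D3 = D3 * U4) :
    φ (U1 * U2 * U3 * U4) = U1 * U2 * U3 * U4 * (D1 * D2 * D3 * D4) := by
  rw [map_mul, map_mul, map_mul, h1, h2, h3, h4]
  calc U1 * D1 * (U2 * D2) * (U3 * D3) * (U4 * D4) = U1 * (D1 * U2) * D2 * U3 * D3 * U4 * D4 := by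
        simp only [mul_assoc]
    _ = U1 * U2 * D1 * (D2 * U3) * (D3 * U4) * D4 := by rw [← c12]; simp only [mul_assoc]
    _ = U1 * U2 * (D1 * U3) * (D2 * U4) * D3 * D4 := by rw [← c23, ← c34]; simp only [mul_assoc]
    _ = U1 * U2 * U3 * (D1 * U4) * D2 * D3 * D4 := by rw [← c13, ← c24]; simp only [mul_assoc]
    _ = _ := by rw [← c14]; simp only [mul_assoc]

section line

variable {OE Wp Wr : Subgroup G} (L : Line σ t OE Wp Wr np nr m g)

include L

/-- The sum of four. -/
theorem D_sum' (l μ : F) {a y : F} (ha : σ a = a) (hy : σ y = y) :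
    np (a + l * σ l * y) * m (l * y) * nr y * (np (a + μ * σ μ * y) * m (μ * y) * nr y) *
      (np (a + (l + μ) * σ (l + μ) * y) * m ((l + μ) * y) * nr y) * (np a * m 0 * nr y) =
      np (y * (l * σ μ + σ l * μ)) := by
  have C := L.toCoord
  have f1 := fix_add C ha (fix_norm C l hy)
  have f2 := fix_add C ha (fix_norm C μ hy)
  have f3 := fix_add C ha (fix_norm C (l + μ) hy)
  rw [A_mul C _ _ f1 hy f2 hy,
    A_mul C _ _ (fix_add C f1 f2) (fix_add C hy hy) f3 hy,
    A_mul C _ _ (fix_add C (fix_add C f1 f2) f3) (fix_add C (fix_add C hy hy) hy) ha hy]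
  have e1 : l * y + μ * y + (l + μ) * y + 0 = 0 := by
    have := C.two (l * y + μ * y)
    rw [add_zero, add_mul]
    exact this
  have e2 : y + y + y + y = 0 := by rw [C.two, zero_add, C.two]
  have e3 : a + l * σ l * y + (a + μ * σ μ * y) + (a + (l + μ) * σ (l + μ) * y) + a =
      y * (l * σ μ + σ l * μ) := by
    rw [map_add]
    have h1 := C.two (l * σ l * y)
    have h2 := C.two (μ * σ μ * y)
    have h3 := C.two (a + a)
    linear_combination h1 + h2 + h3
  rw [e1, e2, e3, m_zero C, nr_zero C, mul_one, mul_one]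

theorem D_sum (l μ : F) {y : F} (hy : σ y = y) :
    np (l * σ l * y) * m (l * y) * nr y * (np (μ * σ μ * y) * m (μ * y) * nr y) *
      (np ((l + μ) * σ (l + μ) * y) * m ((l + μ) * y) * nr y) * (np 0 * m 0 * nr y) =
      np (y * (l * σ μ + σ l * μ)) := by
  have := D_sum' L l μ (map_zero σ) hy
  simpa only [zero_add] using this

/-- `f = U(l) U(μ) U(l + μ) u`. -/
def ff (g : F → G) (u : G) (l μ : F) : G :=
  g l * u * (g l)⁻¹ * (g μ * u * (g μ)⁻¹) * (g (l + μ) * u * (g (l + μ))⁻¹) * u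

omit L in
theorem ff_def (u : G) (l μ : F) : ff g u l μ =
    g l * u * (g l)⁻¹ * (g μ * u * (g μ)⁻¹) * (g (l + μ) * u * (g (l + μ))⁻¹) * u := rfl

theorem U_zero (u : G) : g 0 * u * (g 0)⁻¹ = u := by
  rw [g_zero L.toCoord]
  simp

theorem ff_conj (φ : G →* G) {u : G} (hu : u ∈ Wr) {a b : F} (ha : σ a = a) (hb : σ b = b)
    (h : ∀ l, φ (g l * u * (g l)⁻¹) = g l * u * (g l)⁻¹ * (np (a + l * σ l * b) * m (l * b) * nr b)) (l μ : F) :
    φ (ff g u l μ) = ff g u l μ * np (b * (l * σ μ + σ l * μ)) := by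
  have C := L.toCoord
  have h0 : φ u = u * (np a * m 0 * nr b) := by
    have := h 0
    rw [U_zero L] at this
    simpa using this
  have f1 := fix_add C ha (fix_norm C l hb)
  have f2 := fix_add C ha (fix_norm C μ hb)
  have f3 := fix_add C ha (fix_norm C (l + μ) hb)
  rw [ff_def, prod4 φ (h l) (h μ) (h (l + μ)) h0 (U_A L hu _ _ f1 hb) (U_A L hu _ _ f1 hb)
    (by have := U_A L hu 0 (l * b) f1 hb; rwa [U_zero L] at this) (U_A L hu _ _ f2 hb)
    (by have := U_A L hu 0 (μ * b) f2 hb; rwa [U_zero L] at this)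
    (by have := U_A L hu 0 ((l + μ) * b) f3 hb; rwa [U_zero L] at this), D_sum' L l μ ha hb]

theorem t_conj (w : G) : MulAut.conj t w = t * w * t := by
  rw [MulAut.conj_apply, inv_eq_of_mul_eq_one_left L.tt]

theorem ff_t {u : G} (hu : u ∈ Wr) {y : F} (hy : σ y = y) (h : t * u * t = u * nr y) (l μ : F) :
    t * ff g u l μ * t = ff g u l μ * np (y * (l * σ μ + σ l * μ)) := by
  have := ff_conj L ((MulAut.conj t).toMonoidHom) hu (map_zero σ) hy (a := 0) ?_ l μ
  · rw [MulEquiv.coe_toMonoidHom, t_conj L] at this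
    exact this
  · intro l
    rw [MulEquiv.coe_toMonoidHom, t_conj L, tU L hy h, zero_add]

theorem O_U {u : G} (hu : u ∈ Wr) (l : F) {c : G} (hc : c ∈ OE) :
    c * (g l * u * (g l)⁻¹) = g l * u * (g l)⁻¹ * c := by
  have e1 := L.O_r _ (L.g_O l c hc) u hu
  calc c * (g l * u * (g l)⁻¹) = g l * ((g l)⁻¹ * c * g l * u) * (g l)⁻¹ := by group
    _ = g l * (u * ((g l)⁻¹ * c * g l)) * (g l)⁻¹ := by rw [e1]
    _ = _ := by group

theorem O_ff {u : G} (hu : u ∈ Wr) (l μ : F) {c : G} (hc : c ∈ OE) :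
    c * ff g u l μ = ff g u l μ * c := by
  have h1 : Commute c (g l * u * (g l)⁻¹) := O_U L hu l hc
  have h2 : Commute c (g μ * u * (g μ)⁻¹) := O_U L hu μ hc
  have h3 : Commute c (g (l + μ) * u * (g (l + μ))⁻¹) := O_U L hu (l + μ) hc
  have h4 : Commute c u := L.O_r c hc u hu
  exact ((h1.mul_right h2).mul_right h3).mul_right h4

theorem ff_A {u : G} (hu : u ∈ Wr) (l μ : F) {x y : F} (ν : F) (hx : σ x = x) (hy : σ y = y) :
    ff g u l μ * (np x * m ν * nr y) = np x * m ν * nr y * ff g u l μ := by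
  have h1 : Commute (np x * m ν * nr y) (g l * u * (g l)⁻¹) := (U_A L hu l ν hx hy).symm
  have h2 : Commute (np x * m ν * nr y) (g μ * u * (g μ)⁻¹) := (U_A L hu μ ν hx hy).symm
  have h3 : Commute (np x * m ν * nr y) (g (l + μ) * u * (g (l + μ))⁻¹) := (U_A L hu (l + μ) ν hx hy).symm
  have h4 : Commute (np x * m ν * nr y) u := (r_A L hu ν hx hy).symm
  exact (((h1.mul_right h2).mul_right h3).mul_right h4).symm

/-- `f` lies in `W p * A_E` or in `W p * t * A_E`. -/
theorem ff_form {u : G} (hu : u ∈ Wr) {y : F} (hy : σ y = y) (h : t * u * t = u * nr y) (l μ : F) :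
    ∃ w ∈ Wp, t * w * t = w * np (y * (l * σ μ + σ l * μ)) ∧ ∃ a ν b, σ a = a ∧ σ b = b ∧
      (ff g u l μ = w * (np a * m ν * nr b) ∨ ff g u l μ = w * (t * (np a * m ν * nr b))) := by
  have C := L.toCoord
  have hs : σ (y * (l * σ μ + σ l * μ)) = y * (l * σ μ + σ l * μ) := by
    rw [map_mul, hy, fix_tr C]
  obtain ⟨w, hw, hwt⟩ := L.dp.surj _ hs
  refine ⟨w, hw, hwt, ?_⟩
  have tt := L.tt
  have h1 := ff_t L hu hy h l μ
  set s := np (y * (l * σ μ + σ l * μ)) with hsdef
  set f := ff g u l μ with hf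
  have h2 : t * w = w * s * t := by
    calc t * w = t * w * (t * t) := by rw [tt, mul_one]
      _ = (t * w * t) * t := by simp only [mul_assoc]
      _ = _ := by rw [hwt]
  have h3 : t * f = f * s * t := by
    calc t * f = t * f * (t * t) := by rw [tt, mul_one]
      _ = (t * f * t) * t := by simp only [mul_assoc]
      _ = _ := by rw [h1]
  have hsA : s = s * m 0 * nr 0 := by rw [m_zero C, nr_zero C]; simp
  have hsf : f * s = s * f := by
    have := ff_A L hu l μ 0 hs (map_zero σ)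
    rw [m_zero C, nr_zero C, mul_one, mul_one] at this
    exact this
  have hsw : w * s = s * w := L.dp.cn w hw _ hs
  have h4 : (w⁻¹ * f) * t = t * (w⁻¹ * f) := by
    have e1 : t * w⁻¹ = (w * s)⁻¹ * t := by
      have : w * s * (t * w⁻¹) = t := by
        calc w * s * (t * w⁻¹) = (w * s * t) * w⁻¹ := by simp only [mul_assoc]
          _ = t := by rw [← h2]; group
      calc t * w⁻¹ = (w * s)⁻¹ * (w * s * (t * w⁻¹)) := by group
        _ = _ := by rw [this]
    calc (w⁻¹ * f) * t = w⁻¹ * s⁻¹ * (s * f) * t := by group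
      _ = w⁻¹ * s⁻¹ * (f * s * t) := by rw [← hsf]; simp only [mul_assoc]
      _ = (s * w)⁻¹ * (t * f) := by rw [← h3]; group
      _ = ((w * s)⁻¹ * t) * f := by rw [← hsw]; simp only [mul_assoc]
      _ = _ := by rw [← e1]; simp only [mul_assoc]
  have h5 : ∀ o ∈ OE, (w⁻¹ * f) * o = o * (w⁻¹ * f) := by
    intro o ho
    have a1 : Commute o w := L.O_p o ho w hw
    have a2 : Commute o f := O_ff L hu l μ ho
    exact (a1.inv_right.mul_right a2).symm
  obtain ⟨a, ν, b, ha, hb, h6 | h6⟩ := L.K2 _ h4 h5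
  · exact ⟨a, ν, b, ha, hb, Or.inl (by rw [← h6]; group)⟩
  · exact ⟨a, ν, b, ha, hb, Or.inr (by rw [← h6]; group)⟩

theorem tr_ne {e : F} (he : σ e ≠ e) : e + σ e ≠ 0 := fun h => he (eq_of_add L.toCoord h).symm

/-- elements of `W` with the same commutator with `t` -/
theorem same {W : Subgroup G} {n : F → G} (D : Double σ t n W) {x y : G} (hx : x ∈ W) (hy : y ∈ W) {a : F}
    (ha : σ a = a) (hxt : t * x * t = x * n a) (hyt : t * y * t = y * n a) : ∃ z, σ z = z ∧ y = x * n z := by
  have ht : t⁻¹ = t := inv_eq_of_mul_eq_one_left L.tt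
  have h5 : t * (x⁻¹ * y) = x⁻¹ * y * t := by
    have h6 : t * x⁻¹ * t = (x * n a)⁻¹ := by
      rw [← hxt]
      calc t * x⁻¹ * t = (t⁻¹ * x * t⁻¹)⁻¹ := by group
        _ = _ := by rw [ht]
    have h7 : n a * y = y * n a := (D.cn y hy a ha).symm
    have h8 : x * n a = n a * x := D.cn x hx a ha
    calc t * (x⁻¹ * y) = (t * x⁻¹ * t) * (t * y * t) * t := by
          have : (t * x⁻¹ * t) * (t * y * t) * t = t * x⁻¹ * (t * t) * y * (t * t) := by
            simp only [mul_assoc]
          rw [this, L.tt]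
          simp only [mul_one, mul_assoc]
      _ = (x * n a)⁻¹ * (y * n a) * t := by rw [h6, hyt]
      _ = (n a * x)⁻¹ * (n a * y) * t := by rw [h8, h7]
      _ = _ := by group
  obtain ⟨z, hz, h6⟩ := D.cent _ (W.mul_mem (W.inv_mem hx) hy) h5
  exact ⟨z, hz, by rw [← h6]; group⟩

theorem same_comm {W : Subgroup G} {n : F → G} (D : Double σ t n W) {x y : G} (hx : x ∈ W) (hy : y ∈ W) {a : F}
    (ha : σ a = a) (hxt : t * x * t = x * n a) (hyt : t * y * t = y * n a) : x * y = y * x := by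
  obtain ⟨z, hz, rfl⟩ := same L D hx hy ha hxt hyt
  rw [mul_assoc, ← D.cn x hx z hz]

/-- `b ∈ {0, y}`. -/
theorem b_mem {v u : G} (hv : v ∈ Wp) (hu : u ∈ Wr) {x y a b : F} (hx : σ x = x) (hy : σ y = y)
    (hvx : t * v * t = v * np x) (huy : t * u * t = u * nr y) (ha : σ a = a) (hb : σ b = b)
    (h : v * u = u * v * (np a * nr b)) {l μ : F} (hlμ : y * (l * σ μ + σ l * μ) = x) :
    b * (l * σ μ + σ l * μ) = 0 ∨ b * (l * σ μ + σ l * μ) = x := by
  have C := L.toCoord
  have hs : σ (b * (l * σ μ + σ l * μ)) = b * (l * σ μ + σ l * μ) := by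
    rw [map_mul, hb, fix_tr C]
  have h1 : v * ff g u l μ * v⁻¹ = ff g u l μ * np (b * (l * σ μ + σ l * μ)) := by
    have := ff_conj L ((MulAut.conj v).toMonoidHom) hu ha hb (fun l => by
      rw [MulEquiv.coe_toMonoidHom, MulAut.conj_apply]; exact vU L hv ha hb h l) l μ
    rw [MulEquiv.coe_toMonoidHom, MulAut.conj_apply] at this
    exact this
  obtain ⟨w, hw, hwt, a', ν, b', ha', hb', h2 | h2⟩ := ff_form L hu hy huy l μ
  · left
    rw [hlμ] at hwt
    refine np_inj L hs ?_
    have e1 : v * ff g u l μ * v⁻¹ = ff g u l μ := by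
      rw [h2]
      have a1 : Commute v w := same_comm L L.dp hv hw hx hvx hwt
      have a2 : Commute v (np a' * m ν * nr b') := p_A L hv ν ha' hb'
      rw [(a1.mul_right a2).eq]
      group
    rw [e1] at h1
    have : ff g u l μ * 1 = ff g u l μ * np (b * (l * σ μ + σ l * μ)) := by rw [mul_one]; exact h1
    exact (mul_left_cancel this).symm
  · right
    rw [hlμ] at hwt
    have e1 : v * ff g u l μ * v⁻¹ = ff g u l μ * np x := by
      rw [h2]
      have a1 := same_comm L L.dp hv hw hx hvx hwt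
      have a2 := p_A L hv ν ha' hb'
      have a3 := p_A L (L.dp.mem x hx) ν ha' hb'
      set A := np a' * m ν * nr b'
      have a4 : v * t = t * v * np x := by
        calc v * t = (t * t) * v * t := by rw [L.tt, one_mul]
          _ = t * (t * v * t) := by simp only [mul_assoc]
          _ = _ := by rw [hvx, mul_assoc]
      have a5 := L.dp.cn v hv x hx
      calc v * (w * (t * A)) * v⁻¹ = (v * w) * t * A * v⁻¹ := by simp only [mul_assoc]
        _ = w * (v * t) * A * v⁻¹ := by rw [a1]; simp only [mul_assoc]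
        _ = w * t * (v * np x) * A * v⁻¹ := by rw [a4]; simp only [mul_assoc]
        _ = w * t * np x * (v * A) * v⁻¹ := by rw [a5]; simp only [mul_assoc]
        _ = w * t * (np x * A) := by rw [a2]; group
        _ = _ := by rw [a3]; simp only [mul_assoc]
    rw [e1] at h1
    have e2 := mul_left_cancel h1
    have e3 : np x * m 0 * nr 0 = np (b * (l * σ μ + σ l * μ)) * m 0 * nr 0 := by rw [e2]
    exact ((A_inj C hx (map_zero σ) hs (map_zero σ) e3).1).symm

theorem b_mem' {v u : G} (hv : v ∈ Wp) (hu : u ∈ Wr) {x y a b : F} (hx : σ x = x) (hy : σ y = y)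
    (hvx : t * v * t = v * np x) (huy : t * u * t = u * nr y) (ha : σ a = a) (hb : σ b = b)
    (h : v * u = u * v * (np a * nr b)) (hx0 : x ≠ 0) (hy0 : y ≠ 0) : b = 0 ∨ b = y := by
  obtain ⟨e, he⟩ := L.nt
  have hE := tr_ne L he
  have hE' : σ (e + σ e) = e + σ e := by rw [map_add, L.σσ, add_comm]
  set l : F := x / (y * (e + σ e)) with hl
  have hlf : σ l = l := by rw [hl, map_div₀, map_mul, hx, hy, hE']
  have h1 : l * σ e + σ l * e = x / y := by
    rw [hlf, ← mul_add, add_comm (σ e), hl]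
    field_simp
  have h2 : y * (l * σ e + σ l * e) = x := by
    rw [h1]; field_simp
  have h3 := b_mem L hv hu hx hy hvx huy ha hb h h2
  rw [h1] at h3
  rcases h3 with h3 | h3
  · left
    rcases mul_eq_zero.1 h3 with h4 | h4
    · exact h4
    · exfalso
      rcases div_eq_zero_iff.1 h4 with h5 | h5
      · exact hx0 h5
      · exact hy0 h5
  · right
    field_simp at h3
    exact h3

/-- uniqueness of `a`, `b` -/
theorem ab_unique {v u : G} {a b a' b' : F} (ha : σ a = a) (hb : σ b = b) (ha' : σ a' = a') (hb' : σ b' = b')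
    (h : v * u = u * v * (np a * nr b)) (h' : v * u = u * v * (np a' * nr b')) : a = a' ∧ b = b' := by
  have C := L.toCoord
  rw [h] at h'
  have h1 := mul_left_cancel h'
  have h2 : np a * m 0 * nr b = np a' * m 0 * nr b' := by rw [m_zero C, mul_one, mul_one, h1]
  have h3 := A_inj C ha hb ha' hb' h2
  exact ⟨h3.1, h3.2.2⟩

/-- additivity in `u` -/
theorem comm_mul_right {v u u' : G} (hu' : u' ∈ Wr) {a b a' b' : F} (ha : σ a = a) (hb : σ b = b)
    (ha' : σ a' = a') (hb' : σ b' = b') (h : v * u = u * v * (np a * nr b)) (h' : v * u' = u' * v * (np a' * nr b')) :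
    v * (u * u') = u * u' * v * (np (a + a') * nr (b + b')) := by
  have C := L.toCoord
  have e1 : np a * nr b * u' = u' * (np a * nr b) := by
    have := r_A L hu' 0 ha hb
    rw [m_zero C, mul_one] at this
    exact this.symm
  have e2 : np a * nr b * (np a' * nr b') = np (a + a') * nr (b + b') := by
    have := A_mul C 0 0 ha hb ha' hb'
    rw [add_zero, m_zero C, mul_one, mul_one, mul_one] at this
    exact this
  have e3 : np a' * nr b' * (np a * nr b) = np a * nr b * (np a' * nr b') := by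
    have := A_comm C 0 0 ha' hb' ha hb
    simpa only [m_zero C, mul_one] using this
  calc v * (u * u') = (v * u) * u' := by rw [mul_assoc]
    _ = u * v * (np a * nr b * u') := by rw [h]; simp only [mul_assoc]
    _ = u * (v * u') * (np a * nr b) := by rw [e1]; simp only [mul_assoc]
    _ = u * u' * v * (np a' * nr b' * (np a * nr b)) := by rw [h']; simp only [mul_assoc]
    _ = _ := by rw [e3, e2]

/-- additivity in `v` -/
theorem comm_mul_left {v v' u : G} (hv' : v' ∈ Wp) {a b a' b' : F} (ha : σ a = a) (hb : σ b = b)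
    (ha' : σ a' = a') (hb' : σ b' = b') (h : v * u = u * v * (np a * nr b)) (h' : v' * u = u * v' * (np a' * nr b')) :
    v * v' * u = u * (v * v') * (np (a + a') * nr (b + b')) := by
  have C := L.toCoord
  have e1 : np a * nr b * v' = v' * (np a * nr b) := by
    have := p_A L hv' 0 ha hb
    rw [m_zero C, mul_one] at this
    exact this.symm
  have e2 : np a * nr b * (np a' * nr b') = np (a + a') * nr (b + b') := by
    have := A_mul C 0 0 ha hb ha' hb'
    rw [add_zero, m_zero C, mul_one, mul_one, mul_one] at this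
    exact this
  calc v * v' * u = v * (v' * u) := by rw [mul_assoc]
    _ = (v * u) * v' * (np a' * nr b') := by rw [h']; simp only [mul_assoc]
    _ = u * v * (np a * nr b * v') * (np a' * nr b') := by rw [h]; simp only [mul_assoc]
    _ = u * (v * v') * (np a * nr b * (np a' * nr b')) := by rw [e1]; simp only [mul_assoc]
    _ = _ := by rw [e2]

theorem brk_mul {W : Subgroup G} {n : F → G} (D : Double σ t n W) (hn : ∀ x y, σ x = x → σ y = y → n (x + y) = n x * n y)
    {v w : G} (hw : w ∈ W) {x y : F} (hx : σ x = x) (hy : σ y = y) (hvx : t * v * t = v * n x)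
    (hwy : t * w * t = w * n y) : t * (v * w) * t = v * w * n (x + y) := by
  rw [hn x y hx hy]
  calc t * (v * w) * t = t * v * 1 * w * t := by simp only [mul_assoc, one_mul]
    _ = t * v * (t * t) * w * t := by rw [L.tt]
    _ = (t * v * t) * (t * w * t) := by simp only [mul_assoc]
    _ = v * (n x * w) * n y := by rw [hvx, hwy]; simp only [mul_assoc]
    _ = _ := by rw [← D.cn w hw x hx]; simp only [mul_assoc]

/-- `q > 2`: `b = 0`. -/
theorem b_zero (S : Scale σ t Wp Wr np nr)
    (hq : ∃ k, σ k = k ∧ k ≠ 0 ∧ k ≠ 1) {v u : G} (hv : v ∈ Wp) (hu : u ∈ Wr) {a b : F}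
    (ha : σ a = a) (hb : σ b = b) (h : v * u = u * v * (np a * nr b)) : b = 0 := by
  have C := L.toCoord
  obtain ⟨x, hx, hvx⟩ := L.dp.brk v hv
  obtain ⟨y, hy, huy⟩ := L.dr.brk u hu
  obtain ⟨k, hk, hk0, hk1⟩ := hq
  have tt := L.tt
  -- the trivial cases
  by_cases hx0 : x = 0
  · rw [hx0, np_zero C, mul_one] at hvx
    have e4 : t * v = v * t := by
      calc t * v = t * v * (t * t) := by rw [tt, mul_one]
        _ = (t * v * t) * t := by simp only [mul_assoc]
        _ = v * t := by rw [hvx]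
    obtain ⟨s, hs, hvs⟩ := L.dp.cent v hv e4
    have h5 : v * u = u * v * (np 0 * nr 0) := by
      rw [np_zero C, nr_zero C, mul_one, mul_one, hvs]
      exact (L.r_np u hu s hs).symm
    exact (ab_unique L ha hb (map_zero _) (map_zero _) h h5).2
  by_cases hy0 : y = 0
  · rw [hy0, nr_zero C, mul_one] at huy
    have e4 : t * u = u * t := by
      calc t * u = t * u * (t * t) := by rw [tt, mul_one]
        _ = (t * u * t) * t := by simp only [mul_assoc]
        _ = u * t := by rw [huy]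
    obtain ⟨s, hs, hus⟩ := L.dr.cent u hu e4
    have h5 : v * u = u * v * (np 0 * nr 0) := by
      rw [np_zero C, nr_zero C, mul_one, mul_one, hus]
      exact L.p_nr v hv s hs
    exact (ab_unique L ha hb (map_zero _) (map_zero _) h h5).2
  rcases b_mem' L hv hu hx hy hvx huy ha hb h hx0 hy0 with h1 | h1
  · exact h1
  exfalso
  -- `b(v, u') = y(u')` for all `u'`
  have step : ∀ v' ∈ Wp, ∀ x', σ x' = x' → x' ≠ 0 → t * v' * t = v' * np x' →
      (∀ u₁ ∈ Wr, ∀ y₁ a₁ b₁, σ y₁ = y₁ → y₁ ≠ 0 → σ a₁ = a₁ → σ b₁ = b₁ → t * u₁ * t = u₁ * nr y₁ →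
        v' * u₁ = u₁ * v' * (np a₁ * nr b₁) → b₁ = y₁ → ∀ u₂ ∈ Wr, ∀ y₂ a₂ b₂, σ y₂ = y₂ → σ a₂ = a₂ → σ b₂ = b₂ →
        t * u₂ * t = u₂ * nr y₂ → v' * u₂ = u₂ * v' * (np a₂ * nr b₂) → y₂ ≠ 0 → y₁ ≠ y₂ → b₂ = y₂) := by
    intro v' hv' x' hx' hx'0 hvt u₁ hu₁ y₁ a₁ b₁ hy₁ hy₁0 ha₁ hb₁ hut h3 hb1 u₂ hu₂ y₂ a₂ b₂ hy₂ ha₂ hb₂ hut2 h4 hy₂0 hne
    have h5 := comm_mul_right L hu₂ ha₁ hb₁ ha₂ hb₂ h3 h4
    have h6 := brk_mul L L.dr C.nr_add hu₂ hy₁ hy₂ hut hut2
    have hne' : y₁ + y₂ ≠ 0 := fun h => hne (eq_of_add C h)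
    rcases b_mem' L hv' hu₂ hx' hy₂ hvt hut2 ha₂ hb₂ h4 hx'0 hy₂0 with h7 | h7
    · exfalso
      rcases b_mem' L hv' (Wr.mul_mem hu₁ hu₂) hx' (fix_add C hy₁ hy₂) hvt h6 (fix_add C ha₁ ha₂)
        (fix_add C hb₁ hb₂) h5 hx'0 hne' with h8 | h8
      · rw [h7, add_zero, hb1] at h8
        exact hy₁0 h8
      · rw [h7, add_zero, hb1] at h8
        apply hy₂0
        have : y₁ + 0 = y₁ + y₂ := by rw [add_zero]; exact h8
        exact (add_left_cancel this).symm
    · exact h7
  -- torus elements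
  obtain ⟨d, hdt, hdp, hdr, hdnp, hdnr⟩ := S k hk hk0
  have hk1' : 1 + k ≠ 0 := fun h => hk1 (eq_of_add C h).symm
  obtain ⟨d', hdt', hdp', hdr', hdnp', hdnr'⟩ := S (1 + k) (fix_add C (map_one σ) hk) hk1'
  have tor : ∀ (d : G) (k : F), σ k = k → k ≠ 0 → d * t = t * d → (∀ w ∈ Wp, d * w * d⁻¹ ∈ Wp) →
      (∀ w ∈ Wr, d * w * d⁻¹ ∈ Wr) → (∀ x, σ x = x → d * np x * d⁻¹ = np (k * x)) →
      (∀ y, σ y = y → d * nr y * d⁻¹ = nr y) →
      ∃ v' ∈ Wp, t * v' * t = v' * np (k * x) ∧ ∃ a', σ a' = a' ∧ ∃ u' ∈ Wr, t * u' * t = u' * nr y ∧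
        v' * u' = u' * v' * (np a' * nr y) := by
    intro d k hk hk0 hdt hdp hdr hdnp hdnr
    have hdt' : t * d = d * t := hdt.symm
    have ht : t⁻¹ = t := inv_eq_of_mul_eq_one_left tt
    refine ⟨d * v * d⁻¹, hdp v hv, ?_, k * a, by rw [map_mul, hk, ha], d * u * d⁻¹, hdr u hu, ?_, ?_⟩
    · calc t * (d * v * d⁻¹) * t = (t * d) * v * (t⁻¹ * d)⁻¹ := by group
        _ = (d * t) * v * (d * t)⁻¹ := by rw [ht, hdt']
        _ = d * (t * v * t⁻¹) * d⁻¹ := by group
        _ = d * v * np x * d⁻¹ := by rw [ht, hvx]; simp only [mul_assoc]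
        _ = d * v * d⁻¹ * (d * np x * d⁻¹) := by group
        _ = _ := by rw [hdnp x hx]
    · calc t * (d * u * d⁻¹) * t = (t * d) * u * (t⁻¹ * d)⁻¹ := by group
        _ = (d * t) * u * (d * t)⁻¹ := by rw [ht, hdt']
        _ = d * (t * u * t⁻¹) * d⁻¹ := by group
        _ = d * u * nr y * d⁻¹ := by rw [ht, huy]; simp only [mul_assoc]
        _ = d * u * d⁻¹ * (d * nr y * d⁻¹) := by group
        _ = _ := by rw [hdnr y hy]
    · calc d * v * d⁻¹ * (d * u * d⁻¹) = d * (v * u) * d⁻¹ := by group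
        _ = d * (u * v * (np a * nr y)) * d⁻¹ := by rw [h, h1]
        _ = d * u * d⁻¹ * (d * v * d⁻¹) * ((d * np a * d⁻¹) * (d * nr y * d⁻¹)) := by group
        _ = _ := by rw [hdnp a ha, hdnr y hy]
  obtain ⟨v1, hv1, hv1t, a1, ha1, u1, hu1, hu1t, e1⟩ := tor d k hk hk0 hdt hdp hdr hdnp hdnr
  obtain ⟨v2, hv2, hv2t, a2, ha2, u2, hu2, hu2t, e2⟩ :=
    tor d' (1 + k) (fix_add C (map_one σ) hk) hk1' hdt' hdp' hdr' hdnp' hdnr'
  -- replace `u1`, `u2` by `u`
  have repl : ∀ v' ∈ Wp, ∀ u' ∈ Wr, ∀ a', σ a' = a' → t * u' * t = u' * nr y → v' * u' = u' * v' * (np a' * nr y) →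
      v' * u = u * v' * (np a' * nr y) := by
    intro v' hv' u' hu' a' ha' hut e
    obtain ⟨z, hz, h3⟩ := same L L.dr hu' hu hy hut huy
    have h4 := L.p_nr v' hv' z hz
    have h5 : np a' * nr y * nr z = nr z * (np a' * nr y) := by
      have := A_comm C 0 0 ha' hy (map_zero σ) hz
      simpa only [m_zero C, np_zero C, mul_one, one_mul] using this
    rw [h3]
    calc v' * (u' * nr z) = (v' * u') * nr z := by rw [mul_assoc]
      _ = u' * v' * (np a' * nr y * nr z) := by rw [e]; simp only [mul_assoc]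
      _ = u' * (v' * nr z) * (np a' * nr y) := by rw [h5]; simp only [mul_assoc]
      _ = _ := by rw [h4]; simp only [mul_assoc]
  have f1 := repl v1 hv1 u1 hu1 a1 ha1 hu1t e1
  have f2 := repl v2 hv2 u2 hu2 a2 ha2 hu2t e2
  rw [h1] at h
  have f3 := comm_mul_left L hv1 ha hy ha1 hy h f1
  rw [C.two y] at f3
  -- `v * v1` and `v2` have the same parameter
  have hkx : σ (k * x) = k * x := by rw [map_mul, hk, hx]
  have f4 := brk_mul L L.dp C.np_add hv1 hx hkx hvx hv1t
  have e5 : x + k * x = (1 + k) * x := by ring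
  rw [e5] at f4
  have hkx' : σ ((1 + k) * x) = (1 + k) * x := by rw [← e5]; exact fix_add C hx hkx
  obtain ⟨z, hz, h6⟩ := same L L.dp (Wp.mul_mem hv hv1) hv2 hkx' f4 hv2t
  have h7 : v2 * u = u * v2 * (np (a + a1) * nr 0) := by
    have h8 := L.r_np u hu z hz
    have h9 : np (a + a1) * nr 0 * np z = np z * (np (a + a1) * nr 0) := by
      have := A_comm C 0 0 (fix_add C ha ha1) (map_zero σ) hz (map_zero σ)
      simpa only [m_zero C, nr_zero C, mul_one] using this
    rw [h6]
    calc v * v1 * np z * u = v * v1 * (u * np z) := by rw [h8]; simp only [mul_assoc]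
      _ = (v * v1 * u) * np z := by simp only [mul_assoc]
      _ = u * (v * v1) * (np (a + a1) * nr 0 * np z) := by rw [f3]; simp only [mul_assoc]
      _ = _ := by rw [h9]; simp only [mul_assoc]
  have h8 := (ab_unique L ha2 hy (fix_add C ha ha1) (map_zero σ) f2 h7).2
  exact hy0 h8

/-- `W p` is abelian. -/
theorem ab_of_comm (hpr : ∀ v ∈ Wp, ∀ u ∈ Wr, v * u = u * v) {v w : G} (hv : v ∈ Wp) (hw : w ∈ Wp) :
    v * w = w * v := by
  have C := L.toCoord
  have tt := L.tt
  obtain ⟨z, hz, hwz⟩ := L.dp.brk w hw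
  by_cases hz0 : z = 0
  · rw [hz0, np_zero C, mul_one] at hwz
    have e4 : t * w = w * t := by
      calc t * w = t * w * (t * t) := by rw [tt, mul_one]
        _ = (t * w * t) * t := by simp only [mul_assoc]
        _ = w * t := by rw [hwz]
    obtain ⟨s, hs, hvs⟩ := L.dp.cent w hw e4
    rw [hvs]
    exact L.dp.cn v hv s hs
  obtain ⟨u, hu, hut⟩ := L.dr.surj 1 (map_one σ)
  obtain ⟨e, he⟩ := L.nt
  have hE := tr_ne L he
  have hE' : σ (e + σ e) = e + σ e := by rw [map_add, L.σσ, add_comm]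
  set l : F := z / (e + σ e) with hl
  have hlf : σ l = l := by rw [hl, map_div₀, hz, hE']
  have h1 : 1 * (l * σ e + σ l * e) = z := by
    rw [hlf, ← mul_add, add_comm (σ e), hl]
    field_simp
  have hc : ∀ v ∈ Wp, v * ff g u l e = ff g u l e * v := by
    intro v hv
    have hU : ∀ k, Commute v (g k * u * (g k)⁻¹) := by
      intro k
      have e1 : Commute v (g k) := (L.g_p k v hv).symm
      have e2 : Commute v u := hpr v hv u hu
      exact (e1.mul_right e2).mul_right e1.inv_right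
    have h4 : Commute v u := hpr v hv u hu
    exact (((hU l).mul_right (hU e)).mul_right (hU (l + e))).mul_right h4
  obtain ⟨w', hw', hwt, a', ν, b', ha', hb', h2 | h2⟩ := ff_form L hu (map_one σ) hut l e
  · rw [h1] at hwt
    obtain ⟨s, hs, rfl⟩ := same L L.dp hw' hw hz hwt hwz
    have h3 := hc v hv
    rw [h2] at h3
    have h4 := p_A L hv ν ha' hb'
    set A := np a' * m ν * nr b'
    have h5 : v * w' * A = w' * v * A := by
      calc v * w' * A = v * (w' * A) := by rw [mul_assoc]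
        _ = w' * (A * v) := by rw [h3, mul_assoc]
        _ = w' * v * A := by rw [← h4, mul_assoc]
    have h6 := mul_right_cancel h5
    have h7 := L.dp.cn v hv s hs
    calc v * (w' * np s) = (v * w') * np s := by rw [mul_assoc]
      _ = w' * (v * np s) := by rw [h6, mul_assoc]
      _ = _ := by rw [h7, mul_assoc]
  · exfalso
    rw [h1] at hwt
    have h3 := hc w' hw'
    rw [h2] at h3
    have h4 := p_A L hw' ν ha' hb'
    set A := np a' * m ν * nr b'
    have h5 : w' * (w' * t) * A = w' * (t * w') * A := by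
      calc w' * (w' * t) * A = w' * (w' * (t * A)) := by simp only [mul_assoc]
        _ = w' * (t * (A * w')) := by rw [h3]; simp only [mul_assoc]
        _ = w' * (t * w') * A := by rw [← h4]; simp only [mul_assoc]
    have h6 := mul_left_cancel (mul_right_cancel h5)
    have h7 : w' * 1 = w' * np z := by
      rw [mul_one, ← hwt, ← h6, mul_assoc, tt, mul_one]
    have h8 : np z = 1 := (mul_left_cancel h7).symm
    exact hz0 (np_inj L hz h8)

end line

end Cfsg.Agent.OddHalf.D7.Uni.Line
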