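import Cfsg.Agent.OddHalf.D7.Uni.Layers
import Cfsg.Agent.OddHalf.D7.Uni.Chain

/-!
# The layers of a frame (ODD D7, `K = U_n(q)`; text: helper929, 6.1 and 6.2)

`Frame`: the points `e_0, …, e_{m-1}` of a frame with their doubled groups `R j`, and elements `ρ j` of order 3
(`ρ j : e_j → f_j → e_j + f_j`). The layers `T j = C_{R j}(ρ_0, …, ρ_{j-1})` satisfy `Chain.Layers`.
-/

set_option autoImplicit false

namespace Cfsg.Agent.OddHalf.D7.Uni.FrameLayers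

open Subgroup Cfsg.Agent.OddHalf.D7.Uni.Norm Cfsg.Agent.OddHalf.D7.Uni.Layers

variable {G : Type*} [Group G]

/-- An element `ρ` of order 3 acting on the double `R`. -/
structure Rot (t : G) (W R : Subgroup G) (ρ : G) : Prop where
  ρt : ρ * t = t * ρ
  three : ρ * ρ * ρ = 1
  ρW : ∀ w ∈ W, ρ * w = w * ρ
  ρR : ∀ r ∈ R, ρ * r * ρ⁻¹ ∈ R

section

variable {t ρ : G} {X W Q R : Subgroup G}

/-- The product `r · ρrρ⁻¹ · ρ²rρ⁻²`. -/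
def nm (ρ r : G) : G := r * (ρ * r * ρ⁻¹) * (ρ * (ρ * r * ρ⁻¹) * ρ⁻¹)

theorem nm_comm {ρ r σ : G} (h1 : Commute σ ρ) (h2 : Commute σ r) : Commute σ (nm ρ r) := by
  have h3 : Commute σ (ρ * r * ρ⁻¹) := (h1.mul_right h2).mul_right h1.inv_right
  exact (h2.mul_right h3).mul_right ((h1.mul_right h3).mul_right h1.inv_right)

/-- `nm ρ r` commutes with `ρ`. -/
theorem nm_fix (P : Pt t X W Q R) (hW : ∀ w ∈ W, w * w = 1) (D : Rot t W R ρ) {r : G} (hr : r ∈ R) :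
    ρ * nm ρ r = nm ρ r * ρ := by
  have h1 := D.ρR r hr
  have h2 := D.ρR _ h1
  have hρ3 : ρ * (ρ * (ρ * r * ρ⁻¹) * ρ⁻¹) * ρ⁻¹ = r := by
    calc ρ * (ρ * (ρ * r * ρ⁻¹) * ρ⁻¹) * ρ⁻¹ = (ρ * ρ * ρ) * r * (ρ * ρ * ρ)⁻¹ := by group
      _ = r := by rw [D.three]; group
  set a := ρ * r * ρ⁻¹ with ha
  set b := ρ * a * ρ⁻¹ with hb
  -- `ρ n ρ⁻¹ = a b r = n w`
  have hn : nm ρ r = r * a * b := by unfold nm; rw [← ha, ← hb]
  have h3 : ρ * nm ρ r * ρ⁻¹ = a * b * r := by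
    have e : ∀ a b : G, ρ * (r * a * b) * ρ⁻¹ = (ρ * r * ρ⁻¹) * (ρ * a * ρ⁻¹) * (ρ * b * ρ⁻¹) := by
      intro a b; group
    rw [hn, e, hρ3, ← ha, ← hb]
  have h4 : ∃ w ∈ W, a * b * r = r * a * b * w := by
    refine ⟨(a * b)⁻¹ * r⁻¹ * (a * b) * r, ?_, by group⟩
    have := P.com (a * b)⁻¹ (inv_mem (mul_mem h1 h2)) r⁻¹ (inv_mem hr)
    simpa using this
  obtain ⟨w, hw, hwe⟩ := h4
  have hnR : nm ρ r ∈ R := by rw [hn]; exact mul_mem (mul_mem hr h1) h2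
  set n := nm ρ r with hnd
  have h5 : ρ * n * ρ⁻¹ = n * w := by rw [h3, hwe, hn]
  have hρw : ρ * w * ρ⁻¹ = w := by rw [D.ρW w hw]; group
  have h6 : ρ * (ρ * (ρ * n * ρ⁻¹) * ρ⁻¹) * ρ⁻¹ = n * (w * w * w) := by
    have e1 : ρ * (n * w) * ρ⁻¹ = (ρ * n * ρ⁻¹) * (ρ * w * ρ⁻¹) := by group
    have e2 : ρ * (n * w * w) * ρ⁻¹ = (ρ * n * ρ⁻¹) * (ρ * w * ρ⁻¹) * (ρ * w * ρ⁻¹) := by group
    rw [h5, e1, h5, hρw, e2, h5, hρw]; group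
  have h7 : ρ * (ρ * (ρ * n * ρ⁻¹) * ρ⁻¹) * ρ⁻¹ = n := by
    calc ρ * (ρ * (ρ * n * ρ⁻¹) * ρ⁻¹) * ρ⁻¹ = (ρ * ρ * ρ) * n * (ρ * ρ * ρ)⁻¹ := by group
      _ = n := by rw [D.three]; group
  rw [h7, hW w hw, one_mul] at h6
  have hw1 : w = 1 := by
    have := h6.symm
    rwa [mul_eq_left] at this
  rw [hw1, mul_one] at h5
  calc ρ * n = ρ * n * ρ⁻¹ * ρ := by group
    _ = n * ρ := by rw [h5]

/-- `[nm r, t] = q` modulo `W` if `[r, t] = q` modulo `W` and `ρ` commutes with `q`. -/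
theorem nm_brk (P : Pt t X W Q R) (D : Rot t W R ρ) {r q w : G} (hr : r ∈ R) (hq : q ∈ Q) (hw : w ∈ W)
    (h : t * r * t = r * (q * w)) (hρq : ρ * q = q * ρ) :
    ∃ x ∈ W, t * nm ρ r * t = nm ρ r * (q * x) := by
  have ct : Commute ρ t := D.ρt
  have h1 := D.ρR r hr
  have h2 := D.ρR _ h1
  have hρw : ρ * w * ρ⁻¹ = w := by rw [D.ρW w hw]; group
  have hρqc : ρ * q * ρ⁻¹ = q := by rw [hρq]; group
  have hct : ∀ x : G, t * (ρ * x * ρ⁻¹) * t = ρ * (t * x * t) * ρ⁻¹ := by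
    intro x
    calc t * (ρ * x * ρ⁻¹) * t = (t * ρ) * x * (ρ⁻¹ * t) := by group
      _ = (ρ * t) * x * (t * ρ⁻¹) := by rw [← ct.eq, ct.inv_left.eq]
      _ = ρ * (t * x * t) * ρ⁻¹ := by group
  set a := ρ * r * ρ⁻¹ with ha
  set b := ρ * a * ρ⁻¹ with hb
  have hat : t * a * t = a * (q * w) := by
    rw [ha, hct, h]
    calc ρ * (r * (q * w)) * ρ⁻¹ = (ρ * r * ρ⁻¹) * ((ρ * q * ρ⁻¹) * (ρ * w * ρ⁻¹)) := by group
      _ = ρ * r * ρ⁻¹ * (q * w) := by rw [hρqc, hρw]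
  have hbt : t * b * t = b * (q * w) := by
    rw [hb, hct, hat]
    calc ρ * (a * (q * w)) * ρ⁻¹ = (ρ * a * ρ⁻¹) * ((ρ * q * ρ⁻¹) * (ρ * w * ρ⁻¹)) := by group
      _ = ρ * a * ρ⁻¹ * (q * w) := by rw [hρqc, hρw]
  have hn : nm ρ r = r * a * b := by unfold nm; rw [← ha, ← hb]
  have hqR := P.QR hq
  -- `t n t = r q w a q w b q w`
  refine ⟨(q⁻¹ * b⁻¹ * a⁻¹) * (q * w * a * (q * w) * b * (q * w)) * 1, ?_, ?_⟩
  · -- modulo `W`: `q⁻¹ b⁻¹ a⁻¹ q a q b q = q² = 1`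
    have e1 : Commute w a := P.Wc w hw a h1
    have e2 : Commute w b := P.Wc w hw b h2
    have e3 : Commute w q := P.Wc w hw q hqR
    have h5 : q⁻¹ * b⁻¹ * a⁻¹ * (q * w * a * (q * w) * b * (q * w)) =
        (q⁻¹ * b⁻¹ * a⁻¹ * (q * a * q * b * q)) * (w * w * w) := by
      calc q⁻¹ * b⁻¹ * a⁻¹ * (q * w * a * (q * w) * b * (q * w))
          = q⁻¹ * b⁻¹ * a⁻¹ * (q * (w * a) * q * (w * b) * q * w) := by group
        _ = q⁻¹ * b⁻¹ * a⁻¹ * (q * (a * w) * q * (b * w) * q * w) := by rw [e1.eq, e2.eq]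
        _ = q⁻¹ * b⁻¹ * a⁻¹ * (q * a * (w * (q * b)) * (w * q) * w) := by group
        _ = q⁻¹ * b⁻¹ * a⁻¹ * (q * a * ((q * b) * w) * (q * w) * w) := by
            rw [(e3.mul_right e2).eq, e3.eq]
        _ = q⁻¹ * b⁻¹ * a⁻¹ * (q * a * q * b * (w * q) * w * w) := by group
        _ = (q⁻¹ * b⁻¹ * a⁻¹ * (q * a * q * b * q)) * (w * w * w) := by rw [e3.eq]; group
    rw [mul_one, h5]
    refine mul_mem ?_ (mul_mem (mul_mem hw hw) hw)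
    -- `q⁻¹ b⁻¹ a⁻¹ q a q b q = q⁻¹ b⁻¹ [a⁻¹,q] q q b q`
    have h6 : q⁻¹ * b⁻¹ * a⁻¹ * (q * a * q * b * q) =
        q⁻¹ * (b⁻¹ * ((a⁻¹ * q * a⁻¹⁻¹ * q⁻¹) * (q * q)) * b) * q := by group
    rw [h6]
    have h7 : a⁻¹ * q * a⁻¹⁻¹ * q⁻¹ * (q * q) ∈ W :=
      mul_mem (P.com _ (inv_mem h1) q hqR) (P.sq q hqR)
    have h8 : b⁻¹ * (a⁻¹ * q * a⁻¹⁻¹ * q⁻¹ * (q * q)) * b = a⁻¹ * q * a⁻¹⁻¹ * q⁻¹ * (q * q) := by
      rw [mul_assoc, P.Wc _ h7 b h2]; group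
    rw [h8]
    have h9 : q⁻¹ * (a⁻¹ * q * a⁻¹⁻¹ * q⁻¹ * (q * q)) * q = a⁻¹ * q * a⁻¹⁻¹ * q⁻¹ * (q * q) := by
      rw [mul_assoc, P.Wc _ h7 q hqR]; group
    rw [h9]
    exact h7
  · rw [hn, P.t_mul, P.t_mul, h, hat, hbt]
    group

end

/-- The frame. `X j, W j, Qv j, R j` belong to the point `e_j`. -/
structure Frame (t : G) (m : ℕ) (X W Qv R : ℕ → Subgroup G) (ρ : ℕ → G) : Prop where
  tt : t * t = 1
  pt : ∀ j < m, Pt t (X j) (W j) (Qv j) (R j)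
  XQ : ∀ j < m, X j ≤ Qv j
  XW : ∀ j < m, X j ≤ W j
  Wsq : ∀ j < m, ∀ w ∈ W j, w * w = 1
  Wbrk : ∀ j < m, ∀ w ∈ W j, w⁻¹ * (t * w * t) ∈ X j
  Wonto : ∀ j < m, ∀ x ∈ X j, ∃ w ∈ W j, w⁻¹ * (t * w * t) = x
  rot : ∀ i j, i < j → j < m → Rot t (W j) (R j) (ρ i)
  ρρ : ∀ i j, i < m → j < m → ρ i * ρ j = ρ j * ρ i
  nR : ∀ i j, i < j → j < m → ∀ b ∈ R j, ρ i * b = b * ρ i → ∀ x ∈ R i, b * x * b⁻¹ ∈ R i

namespace Frame

variable {t : G} {m : ℕ} {X W Qv R : ℕ → Subgroup G} {ρ : ℕ → G}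

/-- `{ρ_i : i < j}` -/
def Dj (ρ : ℕ → G) (j : ℕ) : Set G := ρ '' Set.Iio j

/-- `Q_j = C_{Qv_j}(ρ_0, …, ρ_{j-1})` -/
def Qj (Qv : ℕ → Subgroup G) (ρ : ℕ → G) (j : ℕ) : Subgroup G := B (Qv j) (Dj ρ j)

/-- `T_j = C_{R_j}(ρ_0, …, ρ_{j-1})` -/
def Tj (R : ℕ → Subgroup G) (ρ : ℕ → G) (j : ℕ) : Subgroup G := B (R j) (Dj ρ j)

theorem mem_Qj {j : ℕ} {x : G} : x ∈ Qj Qv ρ j ↔ x ∈ Qv j ∧ ∀ i < j, ρ i * x = x * ρ i := by
  rw [Qj, mem_B, Dj]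
  simp only [Set.mem_image, Set.mem_Iio, forall_exists_index, and_imp, forall_apply_eq_imp_iff₂]

theorem mem_Tj {j : ℕ} {x : G} : x ∈ Tj R ρ j ↔ x ∈ R j ∧ ∀ i < j, ρ i * x = x * ρ i := by
  rw [Tj, mem_B, Dj]
  simp only [Set.mem_image, Set.mem_Iio, forall_exists_index, and_imp, forall_apply_eq_imp_iff₂]

/-- 6.1: lifting `q ∈ Q_j` to `T_j`. -/
theorem lift (h : Frame t m X W Qv R ρ) {j : ℕ} (hj : j < m) {q : G} (hq : q ∈ Qv j) (k : ℕ) (hk : k ≤ j)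
    (hqk : ∀ i < k, ρ i * q = q * ρ i) :
    ∃ r ∈ R j, (∀ i < k, ρ i * r = r * ρ i) ∧ ∃ w ∈ W j, t * r * t = r * (q * w) := by
  induction k with
  | zero =>
    obtain ⟨r, hr, w, hw, hrw⟩ := (h.pt j hj).onto q hq
    exact ⟨r, hr, by intro i hi; omega, w, hw, hrw⟩
  | succ k ih =>
    obtain ⟨r, hr, hri, w, hw, hrw⟩ := ih (by omega) (fun i hi => hqk i (by omega))
    have D := h.rot k j (by omega) hj
    have h1 := D.ρR r hr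
    have h2 := D.ρR _ h1
    obtain ⟨x, hx, hxe⟩ := nm_brk (h.pt j hj) D hr hq hw hrw (hqk k (by omega))
    refine ⟨nm (ρ k) r, mul_mem (mul_mem hr h1) h2, ?_, x, hx, hxe⟩
    intro i hi
    rcases Nat.lt_succ_iff_lt_or_eq.1 hi with hi' | rfl
    · exact (nm_comm (h.ρρ i k (by omega) (by omega)) (hri i hi')).eq
    · exact nm_fix (h.pt j hj) (h.Wsq j hj) D hr

/-- The layers `T_j`. -/
theorem layers (h : Frame t m X W Qv R ρ) (dir : ∀ j < m, ∀ q ∈ Qj Qv ρ j, q ∈ Chain.pr (Qj Qv ρ) j → q = 1) :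
    Chain.Layers t m X (Qj Qv ρ) W (Tj R ρ) where
  tt := h.tt
  Qt j hj x hx := (h.pt j hj).t_eq.2 ((h.pt j hj).tQ x (mem_Qj.1 hx).1)
  XQ j hj x hx := mem_Qj.2 ⟨h.XQ j hj hx, fun i hi => (h.rot i j hi hj).ρW x (h.XW j hj hx)⟩
  XW := h.XW
  WT j hj w hw := mem_Tj.2 ⟨(h.pt j hj).WR hw, fun i hi => (h.rot i j hi hj).ρW w hw⟩
  QT j hj q hq := mem_Tj.2 ⟨(h.pt j hj).QR (mem_Qj.1 hq).1, (mem_Qj.1 hq).2⟩
  Wsq := h.Wsq
  Tsq j hj x hx := (h.pt j hj).sq x (mem_Tj.1 hx).1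
  Wbrk := h.Wbrk
  Wonto := h.Wonto
  Wcent j hj w hw hwt := (h.pt j hj).Wfix w hw ((h.pt j hj).t_eq.1 hwt)
  Tbrk j hj r hr := by
    obtain ⟨hr1, hr2⟩ := mem_Tj.1 hr
    obtain ⟨q, hq, w, hw, hrw⟩ := (h.pt j hj).brk r hr1
    refine ⟨q, mem_Qj.2 ⟨hq, fun i hi => ?_⟩, ?_⟩
    · have D := h.rot i j hi hj
      have c1 : Commute (ρ i) t := D.ρt
      have c2 : Commute (ρ i) r := hr2 i hi
      have c3 : Commute (ρ i) w := D.ρW w hw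
      have e : q = r⁻¹ * (t * r * t) * w⁻¹ := by rw [hrw]; group
      have c4 : Commute (ρ i) q := by
        rw [e]
        exact (c2.inv_right.mul_right ((c1.mul_right c2).mul_right c1)).mul_right c3.inv_right
      exact c4.eq
    · rw [hrw]
      have : q⁻¹ * (r⁻¹ * (r * (q * w))) = w := by group
      rw [this]; exact hw
  Tonto j hj q hq := by
    obtain ⟨hq1, hq2⟩ := mem_Qj.1 hq
    obtain ⟨r, hr, hri, w, hw, hrw⟩ := h.lift hj hq1 j le_rfl hq2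
    refine ⟨r, mem_Tj.2 ⟨hr, hri⟩, ?_⟩
    rw [hrw]
    have : q⁻¹ * (r⁻¹ * (r * (q * w))) = w := by group
    rw [this]; exact hw
  Tker j hj r hr hrt := by
    obtain ⟨hr1, hr2⟩ := mem_Tj.1 hr
    have e : t * r * t = r * (r⁻¹ * (t * r * t)) := by group
    obtain ⟨q, hq, x, hx, hqx⟩ := (h.pt j hj).fixW hr1 hrt e
    refine ⟨q, mem_Qj.2 ⟨hq, fun i hi => ?_⟩, ?_⟩
    · have D := h.rot i j hi hj
      have c2 : Commute (ρ i) r := hr2 i hi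
      have c3 : Commute (ρ i) x := D.ρW x hx
      have e : q = r * x⁻¹ := by rw [hqx]; group
      have c4 : Commute (ρ i) q := by rw [e]; exact c2.mul_right c3.inv_right
      exact c4.eq
    · have : q⁻¹ * r = x := by rw [hqx]; group
      rw [this]; exact hx
  normT i j hij hj g hg x hx := by
    obtain ⟨hg1, hg2⟩ := mem_Tj.1 hg
    obtain ⟨hx1, hx2⟩ := mem_Tj.1 hx
    refine mem_Tj.2 ⟨h.nR i j hij hj g hg1 (hg2 i hij) x hx1, fun k hk => ?_⟩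
    have c1 : Commute (ρ k) g := hg2 k (by omega)
    have c2 : Commute (ρ k) x := hx2 k hk
    exact ((c1.mul_right c2).mul_right c1.inv_right).eq
  normW j hj g hg x hx := by
    have := (h.pt j hj).Wc x hx g (mem_Tj.1 hg).1
    rw [← this, mul_inv_cancel_right]
    exact hx
  dir := dir

end Frame

end Cfsg.Agent.OddHalf.D7.Uni.FrameLayers
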