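import Cfsg.Agent.OddHalf.D7.Uni.HeisLin

/-!
# The Heisenberg group of a point: maps normalising `P` are semilinear (helper575)

* `Form.semi` : an additive bijection of `N` normalising a group of linear isometries that contains the transvections
  is semilinear;
* `Heis.semi` : the same for a map of `G` normalising `P`;
* `Heis.form` : it preserves the form up to the field automorphism, if it is trivial on `X` and `|X| = 2`.
-/

set_option autoImplicit false

namespace Cfsg.Agent.OddHalf.D7.Uni.Ex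

open Subgroup

variable {G : Type*} [Group G] {F : Type*} [Field F] {N : Type*} [AddCommGroup N] [Module F N]

/-- a linear isometry -/
structure Iso' (B : N → N → F) (g : N → N) : Prop where
  add : ∀ x y, g (x + y) = g x + g y
  smul : ∀ (c : F) x, g (c • x) = c • g x
  iso : ∀ x y, B (g x) (g y) = B x y

/-- an additive bijection `ν` (inverse `μ`) such that `ν T_e μ` is a linear isometry for every transvection `T_e`, is
semilinear -/
theorem Form.semi {σ : F →+* F} {B : N → N → F} [Finite F] (H : Form σ B) {ν μ : N → N}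
    (hν : ∀ x y, ν (x + y) = ν x + ν y) (hμν : ∀ x, μ (ν x) = x) (hνμ : ∀ x, ν (μ x) = x)
    (hc : ∀ e, B e e = 0 → Iso' B (fun x => ν (μ x + B (μ x) e • e))) {ι : Type*} [Fintype ι] [Nonempty ι]
    {b : Module.Basis ι F N} (g : Geo B b) :
    ∃ τ : F →+* F, ∀ (l : F) x, ν (l • x) = τ l • ν x := by
  have hμ : ∀ x y, μ (x + y) = μ x + μ y := by
    intro x y
    rw [← hμν (μ x + μ y), hν, hνμ, hνμ]
  have hν0 : ν 0 = 0 := by
    have := hν 0 0
    rw [add_zero] at this
    exact (add_eq_left.1 this.symm)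
  have hinj : ∀ x, ν x = 0 → x = 0 := fun x h => by
    rw [← hμν x, h]
    conv_lhs => rw [← hν0]
    exact hμν 0
  -- the image of an isotropic line is a line
  have h1 : ∀ e, B e e = 0 → e ≠ 0 → (∀ c : F, ∃ l : F, c • ν e = ν (l • e)) := by
    intro e he he0 c
    obtain ⟨x0, hx0⟩ := H.exists_one he0
    have hI := hc e he
    have h2 : ∀ x : N, ν (μ x + B (μ x) e • e) = x + ν (B (μ x) e • e) := fun x => by rw [hν, hνμ]
    have h3 := hI.smul c (ν x0)
    simp only [h2] at h3
    rw [hμν, hx0, one_smul, smul_add] at h3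
    exact ⟨B (μ (c • ν x0)) e, (add_left_cancel h3).symm⟩
  have h2 : ∀ e, B e e = 0 → e ≠ 0 → ∃ m : F → F, ∀ l, ν (l • e) = m l • ν e := by
    intro e he he0
    choose l hl using h1 e he he0
    have hne : ν e ≠ 0 := fun h => he0 (hinj e h)
    have hli : Function.Injective l := by
      intro c c' hcc
      have h3 : (c - c') • ν e = 0 := by rw [sub_smul, hl, hl, hcc, sub_self]
      rcases smul_eq_zero.1 h3 with h4 | h4
      · exact sub_eq_zero.1 h4
      · exact absurd h4 hne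
    have hls := Finite.injective_iff_surjective.1 hli
    choose m hm using hls
    exact ⟨m, fun c => by rw [hl, hm]⟩
  choose! m hm using h2
  have hm1 : ∀ e, B e e = 0 → e ≠ 0 → m e 1 = 1 := by
    intro e he he0
    have h3 := hm e he he0 1
    rw [one_smul] at h3
    have h4 : (m e 1 - 1) • ν e = 0 := by rw [sub_smul, one_smul, ← h3, sub_self]
    rcases smul_eq_zero.1 h4 with h5 | h5
    · exact sub_eq_zero.1 h5
    · exact absurd (hinj e h5) he0
  -- two orthogonal independent vectors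
  have h2 : ∀ e f, B e e = 0 → B f f = 0 → B e f = 0 → Ind F e f →
      ∀ l c, m f (c * l) = m e c * m f l := by
    intro e f he hf hef hi l c
    have hiν : Ind F (ν e) (ν f) := by
      intro a d had
      obtain ⟨a', ha'⟩ := h1 e he hi.ne_left a
      obtain ⟨d', hd'⟩ := h1 f hf hi.ne_right d
      rw [ha', hd', ← hν] at had
      obtain ⟨h5, h6⟩ := hi _ _ (hinj _ had)
      rw [h5, zero_smul, hν0] at ha'
      rw [h6, zero_smul, hν0] at hd'
      refine ⟨?_, ?_⟩
      · rcases smul_eq_zero.1 ha' with h7 | h7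
        · exact h7
        · exact absurd (hinj e h7) hi.ne_left
      · rcases smul_eq_zero.1 hd' with h7 | h7
        · exact h7
        · exact absurd (hinj f h7) hi.ne_right
    have h3 : B (e + l • f) (e + l • f) = 0 := by
      rw [H.add_left, H.add_right, H.add_right, H.smul_left, H.smul_left, H.smul_right, H.smul_right, he, hf, hef,
        H.swap hef]
      simp
    have h4 : e + l • f ≠ 0 := by
      intro h
      have := (hi 1 l (by rw [one_smul]; exact h)).1
      exact one_ne_zero this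
    have h5 := hm _ h3 h4 c
    rw [smul_add, hν, hm e he hi.ne_left, smul_smul, hm f hf hi.ne_right, hν, hm f hf hi.ne_right, smul_add,
      smul_smul] at h5
    have h7 := hiν (m e c - m (e + l • f) c) (m f (c * l) - m (e + l • f) c * m f l) (by
      rw [sub_smul, sub_smul]
      have : m e c • ν e + m f (c * l) • ν f - (m (e + l • f) c • ν e + (m (e + l • f) c * m f l) • ν f) = 0 := by
        rw [h5, sub_self]
      rw [← this]; abel)
    rw [sub_eq_zero.1 h7.2, ← sub_eq_zero.1 h7.1]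
  have h3 : ∀ e f, B e e = 0 → B f f = 0 → B e f = 0 → Ind F e f → ∀ c, m f c = m e c := by
    intro e f he hf hef hi c
    have h4 := h2 e f he hf hef hi 1 c
    rwa [mul_one, hm1 f hf hi.ne_right, mul_one] at h4
  obtain ⟨i0⟩ := ‹Nonempty ι›
  have h4 : ∀ i c, m (b i) c = m (b i0) c := by
    intro i c
    obtain ⟨e, he, he1, he2, hi1, hi2⟩ := g.com i0 i
    rw [← h3 (b i0) e (g.iso i0) he he1 hi1, ← h3 (b i) e (g.iso i) he he2 hi2]
  have hmul : ∀ c l, m (b i0) (c * l) = m (b i0) c * m (b i0) l := by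
    intro c l
    obtain ⟨e, he, he1, he2, hi1, hi2⟩ := g.com i0 i0
    have h5 := h2 (b i0) e (g.iso i0) he he1 hi1 l c
    rwa [h3 (b i0) e (g.iso i0) he he1 hi1, h3 (b i0) e (g.iso i0) he he1 hi1] at h5
  have hb0 := b.ne_zero i0
  have hadd : ∀ c l, m (b i0) (c + l) = m (b i0) c + m (b i0) l := by
    intro c l
    have h5 := hm _ (g.iso i0) hb0 (c + l)
    rw [add_smul, hν, hm _ (g.iso i0) hb0, hm _ (g.iso i0) hb0, ← add_smul] at h5
    have h6 : (m (b i0) (c + l) - (m (b i0) c + m (b i0) l)) • ν (b i0) = 0 := by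
      rw [sub_smul, h5, sub_self]
    rcases smul_eq_zero.1 h6 with h7 | h7
    · exact sub_eq_zero.1 h7
    · exact absurd (hinj _ h7) hb0
  have hzero : m (b i0) 0 = 0 := by
    have := hadd 0 0
    rw [add_zero] at this
    exact (add_eq_left.1 this.symm)
  let τ : F →+* F :=
    { toFun := m (b i0)
      map_one' := hm1 _ (g.iso i0) hb0
      map_mul' := hmul
      map_zero' := hzero
      map_add' := hadd }
  refine ⟨τ, fun l x => ?_⟩
  have hsum : ∀ (s : Finset ι) (c : ι → F), ν (l • ∑ i ∈ s, c i • b i) = τ l • ν (∑ i ∈ s, c i • b i) := by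
    intro s c
    classical
    induction s using Finset.induction_on with
    | empty => simp [hν0]
    | insert i s hi ih =>
      rw [Finset.sum_insert hi, smul_add, hν, ih, hν, smul_add, smul_smul, hm _ (g.iso i) (b.ne_zero i),
        hm _ (g.iso i) (b.ne_zero i), h4, h4 i (c i), hmul, smul_smul]
      rfl
  rw [← b.sum_repr x]
  exact hsum _ _

/-- the action of `P` on `N` is linear and isometric -/
def Lin' (σ : F →+* F) (B : N → N → F) (P : Subgroup G) (S : N → F → G) : Prop :=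
  ∀ p ∈ P, ∃ g : N → N, Iso' B g ∧
    ∀ x a, a + σ a = B x x → ∃ a', a' + σ a' = B (g x) (g x) ∧ p * S x a * p⁻¹ = S (g x) a'

namespace Heis

variable {σ : F →+* F} {B : N → N → F} {X Q P : Subgroup G} {S : N → F → G}

/-- **semi**: an automorphism `α` (inverse `β`) of `Q` normalising `P` acts semilinearly on `N = Q/X`. -/
theorem semi [Finite F] (H : Heis σ B X Q S) (T : HasTr σ B P S) (L : Lin' σ B P S) {ι : Type*} [Fintype ι]
    [Nonempty ι] {b : Module.Basis ι F N} (g : Geo B b) {α β : G → G} (hαQ : ∀ q ∈ Q, α q ∈ Q)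
    (hαX : ∀ x ∈ X, α x ∈ X) (hαm : ∀ q ∈ Q, ∀ r ∈ Q, α (q * r) = α q * α r) (hβQ : ∀ q ∈ Q, β q ∈ Q)
    (hβX : ∀ x ∈ X, β x ∈ X) (hβm : ∀ q ∈ Q, ∀ r ∈ Q, β (q * r) = β q * β r)
    (hβα : ∀ q ∈ Q, β (α q) = q) (hαβ : ∀ q ∈ Q, α (β q) = q)
    (hP : ∀ p ∈ P, ∃ p' ∈ P, ∀ v ∈ Q, α (p * β v * p⁻¹) = p' * v * p'⁻¹) :
    ∃ ν μ : N → N, ∃ τ : F →+* F, (∀ x y, ν (x + y) = ν x + ν y) ∧ (∀ x, μ (ν x) = x) ∧ (∀ x, ν (μ x) = x) ∧
      (∀ (l : F) x, ν (l • x) = τ l • ν x) ∧
      ∀ x a, a + σ a = B x x → ∃ a', a' + σ a' = B (ν x) (ν x) ∧ α (S x a) = S (ν x) a' := by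
  obtain ⟨ν, hν, hα⟩ := H.exists_nu hαQ hαX hαm
  obtain ⟨μ, hμ, hβ⟩ := H.exists_nu hβQ hβX hβm
  have hμν : ∀ x, μ (ν x) = x := by
    intro x
    obtain ⟨a, ha⟩ := H.exists_S x
    obtain ⟨a1, ha1, e1⟩ := hα x a ha
    obtain ⟨a2, ha2, e2⟩ := hβ _ _ ha1
    rw [← e1, hβα _ (H.mem_Q ha)] at e2
    exact (H.eq_iff ha ha2 e2).1.symm
  have hνμ : ∀ x, ν (μ x) = x := by
    intro x
    obtain ⟨a, ha⟩ := H.exists_S x
    obtain ⟨a1, ha1, e1⟩ := hβ x a ha
    obtain ⟨a2, ha2, e2⟩ := hα _ _ ha1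
    rw [← e1, hαβ _ (H.mem_Q ha)] at e2
    exact (H.eq_iff ha ha2 e2).1.symm
  obtain ⟨τ, hτ⟩ := H.toForm.semi hν hμν hνμ (fun e he => by
    obtain ⟨p, hp, hpS⟩ := T e he
    obtain ⟨p', hp', hpp⟩ := hP p hp
    obtain ⟨r, hr, hrS⟩ := L p' hp'
    have hfun : (fun x => ν (μ x + B (μ x) e • e)) = r := by
      funext x
      obtain ⟨a, ha⟩ := H.exists_S x
      obtain ⟨a1, ha1, e1⟩ := hβ x a ha
      have h1 : a1 + σ a1 = B (μ x + B (μ x) e • e) (μ x + B (μ x) e • e) := by
        rw [H.isometry_tr he]; exact ha1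
      obtain ⟨a2, ha2, e2⟩ := hα _ a1 h1
      obtain ⟨a3, ha3, e3⟩ := hrS x a ha
      have h2 := hpp _ (H.mem_Q ha)
      rw [e1, hpS _ _ ha1, e2, e3] at h2
      exact (H.eq_iff ha2 ha3 h2).1
    rw [hfun]
    exact hr) g
  exact ⟨ν, μ, τ, hν, hμν, hνμ, hτ, hα⟩

/-- **form**: the semilinear map preserves the form up to `τ`, if `|X| = 2`. -/
theorem form [Finite F] (H : Heis σ B X Q S) (hF0 : ∀ c : F, σ c = c → c = 0 ∨ c = 1) {α : G → G}
    (hαm : ∀ q ∈ Q, ∀ r ∈ Q, α (q * r) = α q * α r) (hαX : ∀ x ∈ X, α x = x) {ν : N → N} {τ : F →+* F}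
    (hτ : ∀ (l : F) x, ν (l • x) = τ l • ν x)
    (hα : ∀ x a, a + σ a = B x x → ∃ a', a' + σ a' = B (ν x) (ν x) ∧ α (S x a) = S (ν x) a') (x y : N) :
    B (ν x) (ν y) = τ (B x y) := by
  have htr : ∀ x y, B (ν x) (ν y) + σ (B (ν x) (ν y)) = B x y + σ (B x y) := by
    intro x y
    obtain ⟨a, ha⟩ := H.exists_S x
    obtain ⟨b, hb⟩ := H.exists_S y
    obtain ⟨a', ha', e1⟩ := hα x a ha
    obtain ⟨b', hb', e2⟩ := hα y b hb
    have h1 := H.comm ha hb
    have h2 := H.comm ha' hb'
    have hx := H.mem_Q ha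
    have hy := H.mem_Q hb
    have hs := H.mem_X (H.tr_sigma (B x y))
    -- `y x = [y, x] x y`
    have h3 : S y b * S x a = S 0 (B x y + σ (B x y)) * (S x a * S y b) := by rw [← h1]; group
    have h4 := congrArg α h3
    rw [hαm _ hy _ hx, hαm _ (H.XQ hs) _ (mul_mem hx hy), hαm _ hx _ hy, hαX _ hs, e1, e2] at h4
    have h5 : S (ν y) b' * S (ν x) a' = S 0 (B (ν x) (ν y) + σ (B (ν x) (ν y))) * (S (ν x) a' * S (ν y) b') := by
      rw [← h2]; group
    rw [h5] at h4
    exact (H.eq_iff (H.tr0 (H.tr_sigma _)) (H.tr0 (H.tr_sigma _)) (mul_right_cancel h4)).2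
  -- `τ` commutes with `σ`
  have hτ1 : ∀ c, σ c = c → τ c = c := by
    intro c hc
    rcases hF0 c hc with h | h
    · rw [h, map_zero]
    · rw [h, map_one]
  have hcomm : ∀ c, τ (σ c) = σ (τ c) := by
    intro c
    have h1 := hτ1 _ (H.tr_sigma c)
    rw [map_add] at h1
    have hfix : ∀ c : F, σ c ≠ c → σ c = c + 1 := by
      intro c hc
      rcases hF0 _ (H.tr_sigma c) with h | h
      · exfalso; apply hc
        rw [add_eq_zero_iff_eq_neg, H.neg_eq] at h
        exact h.symm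
      · calc σ c = (c + σ c) + c := by linear_combination - c * H.two 1
          _ = c + 1 := by rw [h, add_comm]
    by_cases hc : σ c = c
    · rw [hc, hτ1 c hc, hc]
    · have h2 := hfix c hc
      have h3 : σ (τ c) ≠ τ c := by
        intro h4
        have h5 : c = 0 ∨ c = 1 := by
          rcases hF0 _ h4 with h | h
          · left; exact (map_eq_zero τ).1 h
          · right; exact τ.injective (by rw [h, map_one])
        rcases h5 with h | h
        · rw [h, map_zero] at hc; exact hc rfl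
        · rw [h, map_one] at hc; exact hc rfl
      rw [h2, hfix _ h3, map_add, map_one]
  have hτs : Function.Surjective τ := Finite.injective_iff_surjective.1 τ.injective
  have key : B (ν x) (ν y) + τ (B x y) = 0 := by
    apply H.tr_nondeg
    intro l
    obtain ⟨l, rfl⟩ := hτs l
    have h1 := htr (l • x) y
    rw [hτ, H.smul_left, H.smul_left] at h1
    have h2 : τ l * τ (B x y) + σ (τ l * τ (B x y)) = l * B x y + σ (l * B x y) := by
      rw [← map_mul, ← hcomm, ← map_add]
      exact hτ1 _ (H.tr_sigma _)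
    calc τ l * (B (ν x) (ν y) + τ (B x y)) + σ (τ l * (B (ν x) (ν y) + τ (B x y)))
        = (τ l * B (ν x) (ν y) + σ (τ l * B (ν x) (ν y))) + (τ l * τ (B x y) + σ (τ l * τ (B x y))) := by
          rw [mul_add, map_add]; ring
      _ = 0 := by rw [h1, h2, H.two]
  rw [add_eq_zero_iff_eq_neg, H.neg_eq] at key
  exact key

end Heis

end Cfsg.Agent.OddHalf.D7.Uni.Ex
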