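import Cfsg.Agent.KFacts.Unit.Point
import Cfsg.Agent.OddHalf.D7.Uni.Defs

/-!
# ODD D7, `K = PSU_n(q)`, `q` even: the interface in vector language

`Sg hF u w μ` = the Siegel element `siegel hF u w μ _` of `SU n F q` (or 1). `P2` = two orthogonal hyperbolic pairs.
`Sit` = `j : PSU n F q →* G` injective with image normalised by `C_G(t)`, `C_{C(t)}(K) = ⟨t⟩`.
`coord` = the coordinates `Defs.Coord` of the totally isotropic line `⟨p, r⟩`.
-/

set_option autoImplicit false

namespace Cfsg.Agent.OddHalf.D7.Uni.Face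

open Cfsg Cfsg.Agent.LieClassical.HermBasic Cfsg.Agent.LieClassical.HermSiegel
  Cfsg.Agent.LieClassical.HermGen Cfsg.Agent.LieClassical.SUBasic Matrix
  Cfsg.Agent.ClassicalGeometry.PSUAutBasic Cfsg.Agent.ClassicalGeometry.PSUAutSylow
  Cfsg.Agent.ClassicalGeometry.PSUAutUnip Cfsg.Agent.ClassicalGeometry.PSUAutPhi
  Cfsg.Agent.KFacts.Unit

variable {F : Type*} [Field F] [Fintype F] {q n : ℕ}

/-- The Siegel element as a total function. -/
noncomputable def Sg (hF : Fintype.card F = q ^ 2) (u w : Fin n → F) (μ : F) : SU n F q := by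
  classical exact if h : IsSiegel q u w μ then siegel hF u w μ h else 1

theorem Sg_eq (hF : Fintype.card F = q ^ 2) {u w : Fin n → F} {μ : F} (h : IsSiegel q u w μ) :
    Sg hF u w μ = siegel hF u w μ h := dif_pos h

theorem act_Sg (hF : Fintype.card F = q ^ 2) {u w : Fin n → F} {μ : F} (h : IsSiegel q u w μ) (v : Fin n → F) :
    act (Sg hF u w μ) v = v + hermForm n F q v u • w + (μ * hermForm n F q v u - hermForm n F q v w) • u := by
  rw [Sg_eq hF h, act_siegel]

theorem conj_Sg (hF : Fintype.card F = q ^ 2) {u w : Fin n → F} {μ : F} (h : IsSiegel q u w μ) (g : SU n F q) :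
    g * Sg hF u w μ * g⁻¹ = Sg hF (act g u) (act g w) μ := by
  rw [Sg_eq hF h, Sg_eq hF (h.map g), conj_siegel]

/-- the Frobenius `x ↦ x ^ q` as a ring homomorphism -/
def sig (hF : Fintype.card F = q ^ 2) : F →+* F := (conj hF).toRingHom

theorem sig_apply (hF : Fintype.card F = q ^ 2) (x : F) : sig hF x = x ^ q := rfl

/-- Two orthogonal hyperbolic pairs `(p, p')`, `(r, r')`. -/
structure P2 (q : ℕ) (p p' r r' : Fin n → F) : Prop where
  pp : hermForm n F q p p = 0
  p'p' : hermForm n F q p' p' = 0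
  pp' : hermForm n F q p p' = 1
  p'p : hermForm n F q p' p = 1
  rr : hermForm n F q r r = 0
  r'r' : hermForm n F q r' r' = 0
  rr' : hermForm n F q r r' = 1
  r'r : hermForm n F q r' r = 1
  pr : hermForm n F q p r = 0
  rp : hermForm n F q r p = 0
  pr' : hermForm n F q p r' = 0
  r'p : hermForm n F q r' p = 0
  p'r : hermForm n F q p' r = 0
  rp' : hermForm n F q r p' = 0
  p'r' : hermForm n F q p' r' = 0
  r'p' : hermForm n F q r' p' = 0

namespace P2

variable {p p' r r' : Fin n → F}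

omit [Fintype F] in
theorem swap (H : P2 q p p' r r') : P2 q r r' p p' where
  pp := H.rr
  p'p' := H.r'r'
  pp' := H.rr'
  p'p := H.r'r
  rr := H.pp
  r'r' := H.p'p'
  rr' := H.pp'
  r'r := H.p'p
  pr := H.rp
  rp := H.pr
  pr' := H.rp'
  r'p := H.p'r
  p'r := H.r'p
  rp' := H.pr'
  p'r' := H.r'p'
  r'p' := H.p'r'

omit [Fintype F] in
theorem p_ne (H : P2 q p p' r r') : p ≠ 0 := by
  rintro h
  have := H.pp'
  rw [h, herm_zero_left] at this
  exact zero_ne_one this

omit [Fintype F] in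
theorem r_ne (H : P2 q p p' r r') : r ≠ 0 := H.swap.p_ne

omit [Fintype F] in
theorem map (H : P2 q p p' r r') (g : SU n F q) : P2 q (act g p) (act g p') (act g r) (act g r') := by
  constructor <;> rw [herm_act]
  exacts [H.pp, H.p'p', H.pp', H.p'p, H.rr, H.r'r', H.rr', H.r'r, H.pr, H.rp, H.pr', H.r'p, H.p'r, H.rp', H.p'r', H.r'p']

end P2

omit [Fintype F] in
theorem isS_np [CharP F 2] {u : Fin n → F} (hu : hermForm n F q u u = 0) {x : F} (hx : x ^ q = x) : IsSiegel q u 0 x :=
  isSiegel_zero hu (add_self_pow x hx)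

theorem isS_vec (hF : Fintype.card F = q ^ 2) {u w : Fin n → F} (hu : hermForm n F q u u = 0)
    (hwu : hermForm n F q w u = 0) (hww : hermForm n F q w w = 0) (c : F) : IsSiegel q u (c • w) (0 : F) :=
  ⟨hu, by rw [herm_smul_left, hwu, mul_zero], by
    rw [herm_smul_left, herm_smul_right, hww, zero_pow_q hF]; ring⟩

variable {G : Type*} [Group G]

/-- The situation: `K = j(PSU)`, `C_G(t)` normalises `K`, `C_{C(t)}(K) = ⟨t⟩`. -/
structure Sit (n : ℕ) (F : Type*) [Field F] [Fintype F] (q : ℕ) (t : G) (j : PSU n F q →* G) : Prop where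
  inj : Function.Injective j
  tt : t * t = 1
  tj : ∀ x, t * j x = j x * t
  tK : ∀ x, j x ≠ t
  norm : ∀ c : G, c * t = t * c → ∀ x, ∃ y, c * j x * c⁻¹ = j y
  ker : ∀ c : G, c * t = t * c → (∀ x, c * j x = j x * c) → c = 1 ∨ c = t

/-- `f = j ∘ pr` -/
def fj (n : ℕ) (F : Type*) [Field F] (q : ℕ) (j : PSU n F q →* G) : SU n F q →* G := j.comp (pr n F q)

omit [Fintype F] in
theorem fj_apply (j : PSU n F q →* G) (g : SU n F q) : fj n F q j g = j (pr n F q g) := rfl

namespace Sit

variable {t : G} {j : PSU n F q →* G}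

/-- An element of the kernel of `f` which fixes a vector is trivial. -/
theorem eq_one (S : Sit n F q t j) (hF : Fintype.card F = q ^ 2) (hn : 3 ≤ n) {g : SU n F q} {u : Fin n → F}
    (hu : u ≠ 0) (hgu : act g u = u) (h : fj n F q j g = 1) : g = 1 := by
  have h1 : pr n F q g = 1 := S.inj (by rw [map_one]; exact h)
  rw [pr_eq_one_iff] at h1
  obtain ⟨c, -, -, hc⟩ := exists_scalar_of_mem_center hF hn h1
  have h2 : c • u = u := by rw [← hc, hgu]
  have hc1 : c = 1 := by
    have h3 : (c - 1) • u = 0 := by rw [sub_smul, one_smul, h2, sub_self]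
    rcases smul_eq_zero.1 h3 with h4 | h4
    · exact sub_eq_zero.1 h4
    · exact absurd h4 hu
  apply ext_act
  intro v
  rw [hc, hc1, one_smul, act_one]

theorem eq_of (S : Sit n F q t j) (hF : Fintype.card F = q ^ 2) (hn : 3 ≤ n) {g h : SU n F q} {u : Fin n → F}
    (hu : u ≠ 0) (hgu : act g u = act h u) (hgh : fj n F q j g = fj n F q j h) : g = h := by
  have h1 : h⁻¹ * g = 1 := by
    apply S.eq_one hF hn hu
    · rw [act_mul, hgu, act_inv_act]
    · rw [map_mul, map_inv, hgh, inv_mul_cancel]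
  exact (inv_mul_eq_one.1 h1).symm

/-- Elements of `C(t)` induce automorphisms of `PSU`. -/
theorem exists_aut (S : Sit n F q t j) {c : G} (hc : c * t = t * c) :
    ∃ α : MulAut (PSU n F q), ∀ x, c * j x * c⁻¹ = j (α x) := by
  have hc' : c⁻¹ * t = t * c⁻¹ := by
    have : Commute c t := hc
    exact this.inv_left.eq
  choose a ha using S.norm c hc
  choose b hb using S.norm c⁻¹ hc'
  have hab : ∀ x, a (b x) = x := by
    intro x
    apply S.inj
    rw [← ha, ← hb]; group
  have hba : ∀ x, b (a x) = x := by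
    intro x
    apply S.inj
    rw [← hb, ← ha]; group
  refine ⟨{ toFun := a, invFun := b, left_inv := hba, right_inv := hab, map_mul' := ?_ }, fun x => ha x⟩
  intro x y
  apply S.inj
  rw [map_mul, ← ha, ← ha, ← ha, map_mul]; group

/-- If `c ∈ C(t)` acts on `K` as the inner automorphism of `g`, then `c = g` or `c = t g`. -/
theorem eq_or (S : Sit n F q t j) {c : G} (hc : c * t = t * c) {g : SU n F q}
    (h : ∀ x, c * j x * c⁻¹ = j (MulAut.conj (pr n F q g) x)) : c = fj n F q j g ∨ c = t * fj n F q j g := by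
  set k := fj n F q j g with hk
  have hkt : Commute t k := S.tj _
  have h1 : (c * k⁻¹) * t = t * (c * k⁻¹) := by
    have h2 : Commute t c := hc.symm
    exact (h2.mul_right hkt.inv_right).eq.symm
  have h2 : ∀ x, (c * k⁻¹) * j x = j x * (c * k⁻¹) := by
    intro x
    have h3 := h ((pr n F q g)⁻¹ * x * pr n F q g)
    rw [MulAut.conj_apply] at h3
    have h4 : j (pr n F q g * ((pr n F q g)⁻¹ * x * pr n F q g) * (pr n F q g)⁻¹) = j x := by
      congr 1; group
    rw [h4, map_mul, map_mul, map_inv] at h3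
    have h5 : j (pr n F q g) = k := rfl
    rw [h5] at h3
    calc c * k⁻¹ * j x = c * (k⁻¹ * j x * k) * c⁻¹ * (c * k⁻¹) := by group
      _ = j x * (c * k⁻¹) := by rw [h3]
  rcases S.ker _ h1 h2 with h3 | h3
  · left
    rw [mul_inv_eq_one] at h3
    exact h3
  · right
    rw [← h3]; group

end Sit

/-- The double `W u` of the transvection group of the isotropic vector `u ≠ 0`. -/
structure Dbl (hF : Fintype.card F = q ^ 2) (t : G) (j : PSU n F q →* G) (W : (Fin n → F) → Subgroup G) : Prop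
    extends Sit n F q t j where
  /-- `W u` depends only on the point -/
  smul : ∀ {u : Fin n → F} {c : F}, u ≠ 0 → hermForm n F q u u = 0 → c ≠ 0 → W (c • u) = W u
  X_le : ∀ {u : Fin n → F}, u ≠ 0 → ∀ (hu : hermForm n F q u u = 0), (RR hF u hu).map j ≤ W u
  /-- `W u` centralises `P_u` -/
  cent : ∀ {u : Fin n → F}, u ≠ 0 → hermForm n F q u u = 0 → ∀ w ∈ W u, ∀ g : SU n F q, act g u = u →
    w * fj n F q j g = fj n F q j g * w
  brk : ∀ {u : Fin n → F}, u ≠ 0 → ∀ (hu : hermForm n F q u u = 0), ∀ w ∈ W u, ∃ x ∈ RR hF u hu, t * w * t = w * j x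
  surj : ∀ {u : Fin n → F}, u ≠ 0 → ∀ (hu : hermForm n F q u u = 0), ∀ x ∈ RR hF u hu, ∃ w ∈ W u, t * w * t = w * j x
  fix : ∀ {u : Fin n → F}, u ≠ 0 → ∀ (hu : hermForm n F q u u = 0), ∀ w ∈ W u, t * w = w * t → w ∈ (RR hF u hu).map j
  conj : ∀ {u : Fin n → F}, u ≠ 0 → hermForm n F q u u = 0 → ∀ g : SU n F q, ∀ w ∈ W u,
    fj n F q j g * w * (fj n F q j g)⁻¹ ∈ W (act g u)
  /-- `q = 2`: `W u` is a four-group -/
  sq : q = 2 → ∀ {u : Fin n → F}, u ≠ 0 → hermForm n F q u u = 0 → ∀ w ∈ W u, w * w = 1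

end Cfsg.Agent.OddHalf.D7.Uni.Face
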