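import Mathlib

/-!
# The `ℤ/4` phantom dies in a totally isotropic plane (K = U_n(2), n ≥ 6; helper850, text: bb ODD 9603 (B))

`F = F₄`, `A` an additive abelian group, `y v` (`v ∈ F³` nonzero, depending only on the point `⟨v⟩`) elements of
order 4 with `2 y v = α (v v*)`, `α` an injective additive map from the hermitian `3 × 3` matrices onto the
elements of order `≤ 2` of `A`, everything equivariant for `SL₃(F)`. Contradiction: sums over lines and over Baer
subplanes vanish, and three Baer subplanes `B, B^h, B^{h²}` give `2 (y e₁ + y e₂ + y (e₁ + e₂)) = 0`.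
-/

set_option autoImplicit false

namespace Cfsg.Agent.OddHalf.D7.Uni.PlaneCore

open Matrix

variable {F : Type*} [Field F]

/-- hermitian matrices -/
def Herm (σ : F →+* F) (H : Matrix (Fin 3) (Fin 3) F) : Prop := ∀ i j, σ (H i j) = H j i

/-- conjugate transpose -/
def st (σ : F →+* F) (M : Matrix (Fin 3) (Fin 3) F) : Matrix (Fin 3) (Fin 3) F := fun i j => σ (M j i)

/-- `v v*` -/
def rk (σ : F →+* F) (v : Fin 3 → F) : Matrix (Fin 3) (Fin 3) F := fun i j => v i * σ (v j)

variable {σ : F →+* F}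

theorem herm_rk (hσσ : ∀ x, σ (σ x) = x) (v : Fin 3 → F) : Herm σ (rk σ v) := fun i j => by
  simp [rk, hσσ, mul_comm]

theorem herm_add {H H' : Matrix (Fin 3) (Fin 3) F} (h : Herm σ H) (h' : Herm σ H') : Herm σ (H + H') :=
  fun i j => by simp [h i j, h' i j]

theorem herm_zero : Herm σ (0 : Matrix (Fin 3) (Fin 3) F) := fun i j => by simp

theorem herm_conj (hσσ : ∀ x, σ (σ x) = x) (M : Matrix (Fin 3) (Fin 3) F) {H : Matrix (Fin 3) (Fin 3) F}
    (h : Herm σ H) : Herm σ (M * H * st σ M) := by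
  intro i j
  simp only [Matrix.mul_apply, st, map_sum, map_mul, Finset.sum_mul, hσσ, h _ _]
  rw [Finset.sum_comm]
  refine Finset.sum_congr rfl fun a _ => Finset.sum_congr rfl fun b _ => ?_
  ring

/-- entries of `T H T*`, `T = 1 + c E_ij` -/
theorem entry (i j : Fin 3) (c : F) (H : Matrix (Fin 3) (Fin 3) F) (k l : Fin 3) :
    (transvection i j c * H * st σ (transvection i j c)) k l =
      H k l + (if k = i then c * H j l else 0) + (if l = i then σ c * H k j else 0) +
        (if k = i then if l = i then c * σ c * H j j else 0 else 0) := by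
  have h1 : ∀ k l, (transvection i j c * H) k l = H k l + (if k = i then c * H j l else 0) := by
    intro k l
    rw [transvection, Matrix.add_mul, Matrix.one_mul, Matrix.add_apply]
    congr 1
    rw [Matrix.mul_apply]
    by_cases hk : k = i
    · subst hk
      simp [Matrix.single_apply]
    · simp [hk, Ne.symm hk]
  rw [Matrix.mul_apply]
  simp only [h1]
  have h2 : ∀ a, st σ (transvection i j c) a l = (if a = l then 1 else 0) +
      (if l = i then if a = j then σ c else 0 else 0) := by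
    intro a
    show σ ((transvection i j c) l a) = _
    rw [transvection, Matrix.add_apply, map_add, Matrix.one_apply, Matrix.single_apply]
    congr 1
    · by_cases h : l = a
      · simp [h]
      · simp [h, Ne.symm h]
    · by_cases h : l = i
      · subst h
        by_cases h' : a = j
        · simp [h']
        · simp [h', Ne.symm h']
      · simp [h, Ne.symm h]
  simp only [h2]
  by_cases hl : l = i
  · by_cases hk : k = i
    · simp [hl, hk, mul_add, Finset.sum_add_distrib, add_mul]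
      ring
    · simp [hl, hk, mul_add, Finset.sum_add_distrib]
      ring
  · by_cases hk : k = i
    · simp [hl, hk]
    · simp [hl, hk]

/-- No hermitian matrix is fixed by `1 + c_ij E_ij` for all `i ≠ j` (`c_ij ≠ 0`). -/
theorem fix_baer {H : Matrix (Fin 3) (Fin 3) F} (c : Fin 3 → Fin 3 → F) (hc : ∀ i j, c i j ≠ 0)
    (hfix : ∀ i j, i ≠ j → transvection i j (c i j) * H * st σ (transvection i j (c i j)) = H) :
    H = 0 := by
  have key : ∀ i j k : Fin 3, i ≠ j → k ≠ i → H j k = 0 := by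
    intro i j k hij hki
    have h := congrFun (congrFun (hfix i j hij) i) k
    rw [entry] at h
    simp only [if_true, if_neg hki, add_zero, add_eq_left] at h
    exact (mul_eq_zero.mp h).resolve_left (hc i j)
  ext j k
  obtain ⟨i, hi, hi'⟩ : ∃ i : Fin 3, i ≠ j ∧ k ≠ i := by
    revert j k; decide
  exact key i j k hi hi'

/-- No hermitian matrix is fixed by the stabiliser of the line `⟨e₀, e₁⟩`. -/
theorem fix_line {H : Matrix (Fin 3) (Fin 3) F} (hH : Herm σ H) (w : F) (hw : σ w ≠ w) (h2 : ∀ x : F, x + x = 0)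
    (hfix : ∀ i j, i ≠ j → i ≠ 2 → ∀ c : F,
      transvection i j c * H * st σ (transvection i j c) = H) : H = 0 := by
  have key : ∀ i j k : Fin 3, i ≠ j → i ≠ 2 → k ≠ i → H j k = 0 := by
    intro i j k hij hi2 hki
    have h := congrFun (congrFun (hfix i j hij hi2 1) i) k
    rw [entry] at h
    simpa [hki] using h
  -- `j = 2`: `i = 0` or `1`
  have h2k : ∀ k, H 2 k = 0 := by
    intro k
    by_cases hk : k = 0
    · exact key 1 2 k (by decide) (by decide) (by rw [hk]; decide)
    · exact key 0 2 k (by decide) (by decide) hk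
  have hk2 : ∀ k, H k 2 = 0 := fun k => by rw [← hH 2 k, h2k, map_zero]
  have h11 : H 1 1 = 0 := key 0 1 1 (by decide) (by decide) (by decide)
  have h00 : H 0 0 = 0 := key 1 0 0 (by decide) (by decide) (by decide)
  have h01 : H 0 1 = 0 := by
    -- entry (0,0) of `T₀₁(c)`: `c H₁₀ + σ c H₀₁ = 0` for `c = 1, w`
    have e : ∀ c : F, c * H 1 0 + σ c * H 0 1 = 0 := by
      intro c
      have h := congrFun (congrFun (hfix 0 1 (by decide) (by decide) c) 0) 0
      rw [entry] at h
      simpa [h11, h00] using h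
    have e1 := e 1
    have ew := e w
    rw [map_one, one_mul, one_mul] at e1
    have e1' : H 1 0 = H 0 1 := by
      have := h2 (H 0 1)
      exact add_right_cancel (e1.trans this.symm)
    rw [e1', ← add_mul] at ew
    rcases mul_eq_zero.mp ew with h | h
    · exfalso
      apply hw
      exact add_right_cancel (((add_comm _ _).trans h).trans (h2 w).symm)
    · exact h
  have h10 : H 1 0 = 0 := by rw [← hH 0 1, h01, map_zero]
  ext j k
  fin_cases j <;> fin_cases k
  · exact h00
  · exact h01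
  · exact hk2 0
  · exact h10
  · exact h11
  · exact hk2 1
  · exact h2k 0
  · exact h2k 1
  · exact h2k 2

section Core

variable {A : Type*} [AddCommGroup A]

/-- a finite family `f : ι → V` of nonzero vectors whose sum of the `y`'s is fixed by `SL₃`-elements which fix no
hermitian matrix: the sum is `0`. -/
theorem sum_zero {ι : Type*} (S : Finset ι) (f : ι → Fin 3 → F) (hf : ∀ s ∈ S, f s ≠ 0)
    (hσσ : ∀ x, σ (σ x) = x)
    (y : (Fin 3 → F) → A) (α : Matrix (Fin 3) (Fin 3) F → A)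
    (α_zero : α 0 = 0)
    (α_add : ∀ H H', Herm σ H → Herm σ H' → α (H + H') = α H + α H')
    (α_inj : ∀ H H', Herm σ H → Herm σ H' → α H = α H' → H = H')
    (hy2 : ∀ v, v ≠ 0 → y v + y v = α (rk σ v))
    (htor : ∀ a : A, a + a = 0 → ∃ H, Herm σ H ∧ a = α H)
    (T : Set (Matrix (Fin 3) (Fin 3) F))
    (hT : ∀ H, Herm σ H → (∀ M ∈ T, M * H * st σ M = H) → H = 0)
    (hK : ∀ M ∈ T, ∃ κ : A →+ A, (∀ v, v ≠ 0 → κ (y v) = y (M.mulVec v)) ∧
      ∀ H, Herm σ H → κ (α H) = α (M * H * st σ M))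
    (hS : ∀ M ∈ T, ∑ s ∈ S, y (M.mulVec (f s)) = ∑ s ∈ S, y (f s)) :
    ∑ s ∈ S, y (f s) = 0 := by
  classical
  have hrk : ∀ S' : Finset ι, Herm σ (∑ s ∈ S', rk σ (f s)) := by
    intro S'
    induction S' using Finset.induction_on with
    | empty => simpa using herm_zero
    | insert a s ha ih => rw [Finset.sum_insert ha]; exact herm_add (herm_rk hσσ _) ih
  have hsum : ∀ S' : Finset ι, S' ⊆ S → (∑ s ∈ S', y (f s)) + (∑ s ∈ S', y (f s)) =
      α (∑ s ∈ S', rk σ (f s)) := by
    intro S'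
    induction S' using Finset.induction_on with
    | empty => intro _; simp [α_zero]
    | insert a s ha ih =>
      intro hs
      rw [Finset.sum_insert ha, Finset.sum_insert ha, α_add _ _ (herm_rk hσσ _) (hrk s),
        ← hy2 _ (hf a (hs (Finset.mem_insert_self a s))),
        ← ih ((Finset.subset_insert a s).trans hs)]
      abel
  -- the image under `κ`
  have hκ : ∀ κ : A →+ A, ∀ M ∈ T, (∀ v, v ≠ 0 → κ (y v) = y (M.mulVec v)) →
      κ (∑ s ∈ S, y (f s)) = ∑ s ∈ S, y (f s) := by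
    intro κ M hM h
    rw [map_sum, ← hS M hM]
    exact Finset.sum_congr rfl fun s hs => h _ (hf s hs)
  have h2 : ∑ s ∈ S, rk σ (f s) = 0 := by
    refine hT _ (hrk S) fun M hM => ?_
    obtain ⟨κ, hκy, hκα⟩ := hK M hM
    apply α_inj _ _ (herm_conj hσσ M (hrk S)) (hrk S)
    rw [← hκα _ (hrk S), ← hsum S subset_rfl, map_add, hκ κ M hM hκy]
  have h3 : (∑ s ∈ S, y (f s)) + (∑ s ∈ S, y (f s)) = 0 := by
    rw [hsum S subset_rfl, h2, α_zero]
  obtain ⟨H, hH, hHe⟩ := htor _ h3
  rw [hHe]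
  have : H = 0 := by
    refine hT _ hH fun M hM => ?_
    obtain ⟨κ, hκy, hκα⟩ := hK M hM
    apply α_inj _ _ (herm_conj hσσ M hH) hH
    rw [← hκα _ hH, ← hHe, hκ κ M hM hκy]
  rw [this, α_zero]

/-- `Σ_{p ≠ 0} g p = 3 (g (0,1) + Σ_b g (1,b))` for `g` constant on points of the line, `|F| = 4`. -/
theorem sum_pts [Fintype F] [DecidableEq F] (h4 : Fintype.card F = 4) (g : F × F → A)
    (hg : ∀ (c : F) p, c ≠ 0 → g (c • p) = g p) :
    ∑ p ∈ Finset.univ.filter (fun p : F × F => p ≠ 0), g p = 3 • (g (0, 1) + ∑ b : F, g (1, b)) := by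
  have hcard : (Finset.univ.erase (0 : F)).card = 3 := by
    rw [Finset.card_erase_of_mem (Finset.mem_univ _), Finset.card_univ, h4]
  have h1 : ∑ p : F × F, g p = g 0 + ∑ p ∈ Finset.univ.filter (fun p : F × F => p ≠ 0), g p := by
    have : (Finset.univ.filter (fun p : F × F => p ≠ 0)) = Finset.univ.erase 0 := by
      ext p; simp
    rw [this, Finset.add_sum_erase _ _ (Finset.mem_univ _)]
  have h2 : ∑ p : F × F, g p = ∑ b : F, g (0, b) + ∑ a ∈ Finset.univ.erase (0 : F), ∑ b : F, g (a, b) := by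
    rw [Fintype.sum_prod_type]
    exact (Finset.add_sum_erase _ _ (Finset.mem_univ (0 : F))).symm
  have h3 : ∀ a ∈ Finset.univ.erase (0 : F), ∑ b : F, g (a, b) = ∑ b : F, g (1, b) := by
    intro a ha
    have ha0 : a ≠ 0 := Finset.ne_of_mem_erase ha
    refine Fintype.sum_equiv (Equiv.mulLeft₀ a⁻¹ (inv_ne_zero ha0)) _ _ fun b => ?_
    rw [← hg a⁻¹ (a, b) (inv_ne_zero ha0)]
    congr 1
    ext
    · simp [ha0]
    · simp
  have h4' : ∑ b : F, g (0, b) = g 0 + 3 • g (0, 1) := by
    rw [← Finset.add_sum_erase _ _ (Finset.mem_univ (0 : F))]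
    congr 1
    rw [← hcard, ← Finset.sum_const]
    refine Finset.sum_congr rfl fun b hb => ?_
    have hb0 : b ≠ 0 := Finset.ne_of_mem_erase hb
    rw [← hg b (0, 1) hb0]
    congr 1
    ext <;> simp
  rw [Finset.sum_congr rfl h3, Finset.sum_const, hcard, h4', h1] at h2
  have : ∑ p ∈ Finset.univ.filter (fun p : F × F => p ≠ 0), g p =
      3 • g (0, 1) + 3 • ∑ b : F, g (1, b) := by
    rw [add_assoc] at h2
    exact add_left_cancel h2
  rw [this, smul_add]

theorem univ_eq [Fintype F] [DecidableEq F] (h4 : Fintype.card F = 4) (w : F) (hw : σ w ≠ w) :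
    (Finset.univ : Finset F) = {0, 1, w, σ w} ∧ (w ≠ 0 ∧ w ≠ 1 ∧ σ w ≠ 0 ∧ σ w ≠ 1) := by
  have hinj : Function.Injective σ := σ.injective
  have w0 : w ≠ 0 := fun e => hw (by rw [e, map_zero])
  have w1 : w ≠ 1 := fun e => hw (by rw [e, map_one])
  have s0 : σ w ≠ 0 := fun e => w0 (hinj (by rw [e, map_zero]))
  have s1 : σ w ≠ 1 := fun e => w1 (hinj (by rw [e, map_one]))
  refine ⟨?_, w0, w1, s0, s1⟩
  symm
  apply Finset.eq_univ_of_card
  rw [h4]
  rw [Finset.card_insert_of_notMem, Finset.card_insert_of_notMem, Finset.card_insert_of_notMem,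
    Finset.card_singleton]
  · simpa using Ne.symm hw
  · simp only [Finset.mem_insert, Finset.mem_singleton, not_or]
    exact ⟨Ne.symm w1, Ne.symm s1⟩
  · simp only [Finset.mem_insert, Finset.mem_singleton, not_or]
    exact ⟨zero_ne_one, Ne.symm w0, Ne.symm s0⟩

theorem sum_univ [Fintype F] [DecidableEq F] (h4 : Fintype.card F = 4) (w : F) (hw : σ w ≠ w) (g : F → A) :
    ∑ b : F, g b = g 0 + g 1 + g w + g (σ w) := by
  obtain ⟨h, w0, w1, s0, s1⟩ := univ_eq h4 w hw
  rw [h, Finset.sum_insert, Finset.sum_insert, Finset.sum_insert, Finset.sum_singleton]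
  · abel
  · simpa using Ne.symm hw
  · simp only [Finset.mem_insert, Finset.mem_singleton, not_or]
    exact ⟨Ne.symm w1, Ne.symm s1⟩
  · simp only [Finset.mem_insert, Finset.mem_singleton, not_or]
    exact ⟨zero_ne_one, Ne.symm w0, Ne.symm s0⟩

/-- the coordinates of a point of a Baer subplane -/
def bp (h : Fin 3 → F) (s : Fin 3 → ZMod 2) : Fin 3 → F := fun i => if s i = 0 then 0 else h i

theorem bp_ne {h : Fin 3 → F} (hh : ∀ i, h i ≠ 0) {s : Fin 3 → ZMod 2} (hs : s ≠ 0) : bp h s ≠ 0 := by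
  intro e
  apply hs
  funext i
  have := congrFun e i
  simp only [bp, Pi.zero_apply] at this
  by_contra hne
  have hne' : s i ≠ 0 := hne
  rw [if_neg hne'] at this
  exact hh i this

theorem trans_mulVec (i j : Fin 3) (c : F) (v : Fin 3 → F) (k : Fin 3) :
    (transvection i j c).mulVec v k = v k + if k = i then c * v j else 0 := by
  rw [transvection, Matrix.add_mulVec, Matrix.one_mulVec, Pi.add_apply]
  congr 1
  simp only [Matrix.mulVec, dotProduct, Matrix.single_apply]
  by_cases h : k = i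
  · subst h; simp
  · simp [h, Ne.symm h]

theorem trans_bp (h2 : ∀ x : F, x + x = 0) {h : Fin 3 → F} (hh : ∀ i, h i ≠ 0) (i j : Fin 3) (hij : i ≠ j)
    (s : Fin 3 → ZMod 2) :
    (transvection i j (h i / h j)).mulVec (bp h s) =
      bp h (fun k => if k = i then s i + s j else s k) := by
  funext k
  rw [trans_mulVec]
  by_cases hk : k = i
  · subst hk
    simp only [bp, if_true]
    by_cases a : s k = 0
    · by_cases b : s j = 0
      · simp [a, b]
      · have e1 : s k + s j ≠ 0 := by rw [a, zero_add]; exact b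
        rw [if_pos a, if_neg b, if_neg e1, zero_add, div_mul_cancel₀ _ (hh j)]
    · by_cases b : s j = 0
      · have e1 : s k + s j ≠ 0 := by rw [b, add_zero]; exact a
        rw [if_neg a, if_pos b, if_neg e1, mul_zero, add_zero]
      · have e1 : s k + s j = 0 := by
          revert a b
          generalize s k = x
          generalize s j = x'
          revert x x'
          decide
        rw [if_neg a, if_neg b, if_pos e1, div_mul_cancel₀ _ (hh j), h2]
  · simp [bp, hk]

/-- the three coordinates `1, 1, c` -/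
def hc (c : F) : Fin 3 → F := ![1, 1, c]

theorem hc_ne {c : F} (hc0 : c ≠ 0) (i : Fin 3) : hc c i ≠ 0 := by
  fin_cases i
  · exact one_ne_zero
  · exact one_ne_zero
  · exact hc0

/-- expansion of a sum over the seven points of a Baer subplane -/
theorem sum_bp (y : (Fin 3 → F) → A) (c : F) :
    ∑ s ∈ Finset.univ.filter (fun s : Fin 3 → ZMod 2 => s ≠ 0), y (bp (hc c) s) =
      y ![1, 0, 0] + y ![0, 1, 0] + y ![1, 1, 0] + y ![0, 0, c] + y ![1, 0, c] + y ![0, 1, c] +
        y ![1, 1, c] := by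
  have h : Finset.univ.filter (fun s : Fin 3 → ZMod 2 => s ≠ 0) =
      {![1, 0, 0], ![0, 1, 0], ![1, 1, 0], ![0, 0, 1], ![1, 0, 1], ![0, 1, 1], ![1, 1, 1]} := by decide
  have e : ∀ (a b d : ZMod 2) (x₁ x₂ x₃ : F), (if a = 0 then 0 else 1) = x₁ → (if b = 0 then 0 else 1) = x₂ →
      (if d = 0 then 0 else c) = x₃ → bp (hc c) ![a, b, d] = ![x₁, x₂, x₃] := by
    intro a b d x₁ x₂ x₃ h1 h2 h3
    funext i
    fin_cases i
    · exact h1
    · exact h2
    · exact h3
  rw [h, Finset.sum_insert (by decide), Finset.sum_insert (by decide), Finset.sum_insert (by decide),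
    Finset.sum_insert (by decide), Finset.sum_insert (by decide), Finset.sum_insert (by decide),
    Finset.sum_singleton,
    e 1 0 0 1 0 0 (by simp) (by simp) (by simp), e 0 1 0 0 1 0 (by simp) (by simp) (by simp),
    e 1 1 0 1 1 0 (by simp) (by simp) (by simp), e 0 0 1 0 0 c (by simp) (by simp) (by simp),
    e 1 0 1 1 0 c (by simp) (by simp) (by simp), e 0 1 1 0 1 c (by simp) (by simp) (by simp),
    e 1 1 1 1 1 c (by simp) (by simp) (by simp)]
  abel

theorem sum_perm {ι : Type*} (S : Finset ι) (τ : ι → ι) (hτ : ∀ s ∈ S, τ s ∈ S)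
    (hinj : ∀ s ∈ S, ∀ s' ∈ S, τ s = τ s' → s = s') (g : ι → A) :
    ∑ s ∈ S, g (τ s) = ∑ s ∈ S, g s := by
  refine Finset.sum_bij (fun s _ => τ s) hτ (fun s hs s' hs' h => hinj s hs s' hs' h) ?_ (fun _ _ => rfl)
  have := Finset.surjOn_of_injOn_of_card_le (s := S) (t := S) τ (fun s hs => hτ s hs)
    (fun s hs s' hs' h => hinj s hs s' hs' h) le_rfl
  intro b hb
  obtain ⟨a, ha, e⟩ := this hb
  exact ⟨a, ha, e⟩

theorem trans_inj (i j : Fin 3) (hij : i ≠ j) (c : F) {v v' : Fin 3 → F}
    (h : (transvection i j c).mulVec v = (transvection i j c).mulVec v') : v = v' := by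
  have hk : ∀ k, k ≠ i → v k = v' k := by
    intro k hk
    have := congrFun h k
    rwa [trans_mulVec, trans_mulVec, if_neg hk, if_neg hk, add_zero, add_zero] at this
  funext k
  by_cases hki : k = i
  · have := congrFun h k
    rw [trans_mulVec, trans_mulVec, if_pos hki, if_pos hki, hk j (Ne.symm hij)] at this
    exact add_right_cancel this
  · exact hk k hki

private theorem tau_inj (i j : Fin 3) (hij : i ≠ j) (s s' : Fin 3 → ZMod 2)
    (h : (fun k => if k = i then s i + s j else s k) = (fun k => if k = i then s' i + s' j else s' k)) :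
    s = s' := by
  have hk : ∀ k, k ≠ i → s k = s' k := by
    intro k hk
    have := congrFun h k
    simpa [hk] using this
  funext k
  by_cases hki : k = i
  · have := congrFun h k
    simp only [hki, if_true] at this
    rw [hk j (Ne.symm hij)] at this
    rw [hki]
    exact add_right_cancel this
  · exact hk k hki

private theorem tau_ne (i j : Fin 3) (hij : i ≠ j) (s : Fin 3 → ZMod 2) (hs : s ≠ 0) :
    (fun k => if k = i then s i + s j else s k) ≠ (0 : Fin 3 → ZMod 2) := by
  intro e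
  apply hs
  apply tau_inj i j hij
  rw [e]
  funext k
  simp

/-- **No `ℤ/4` phantom in a totally isotropic plane.** -/
theorem core [Fintype F] [DecidableEq F] (h4 : Fintype.card F = 4) (h2 : ∀ x : F, x + x = 0)
    (hσσ : ∀ x, σ (σ x) = x) (w : F) (hw : σ w ≠ w)
    (y : (Fin 3 → F) → A) (α : Matrix (Fin 3) (Fin 3) F → A)
    (hys : ∀ (c : F) v, c ≠ 0 → y (c • v) = y v)
    (α_add : ∀ H H', Herm σ H → Herm σ H' → α (H + H') = α H + α H')
    (α_ker : ∀ H, Herm σ H → α H = 0 → H = 0)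
    (hy2 : ∀ v, v ≠ 0 → y v + y v = α (rk σ v))
    (hK : ∀ M : Matrix (Fin 3) (Fin 3) F, M.det = 1 → ∃ κ : A →+ A,
      (∀ v, v ≠ 0 → κ (y v) = y (M.mulVec v)) ∧ ∀ H, Herm σ H → κ (α H) = α (M * H * st σ M))
    (htor : ∀ a : A, a + a = 0 → ∃ H, Herm σ H ∧ a = α H) : False := by
  classical
  have α_zero : α 0 = 0 := by
    have := α_add 0 0 herm_zero herm_zero
    rw [add_zero] at this
    exact left_eq_add.mp this
  have α_inj : ∀ H H', Herm σ H → Herm σ H' → α H = α H' → H = H' := by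
    intro H H' hH hH' h
    have h1 : H' + H' = 0 := by ext i j; exact h2 _
    have h3 : α (H + H') = 0 := by
      rw [α_add _ _ hH hH', h, ← α_add _ _ hH' hH', h1, α_zero]
    have h5 := α_ker _ (herm_add hH hH') h3
    exact add_right_cancel (h5.trans h1.symm)
  have hy4 : ∀ v, v ≠ 0 → y v + y v + (y v + y v) = 0 := by
    intro v hv
    rw [hy2 v hv, ← α_add _ _ (herm_rk hσσ _) (herm_rk hσσ _)]
    have : rk σ v + rk σ v = 0 := by ext i j; exact h2 _
    rw [this, α_zero]
  obtain ⟨-, w0, w1, s0, s1⟩ := univ_eq h4 w hw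
  -- lines
  set S₁ := Finset.univ.filter (fun p : F × F => p ≠ 0) with hS₁
  set f₁ : F × F → Fin 3 → F := fun p => ![p.1, p.2, 0] with hf₁
  have f₁ne : ∀ p ∈ S₁, f₁ p ≠ 0 := by
    intro p hp e
    rw [hS₁, Finset.mem_filter] at hp
    apply hp.2
    ext
    · exact congrFun e 0
    · exact congrFun e 1
  have line₀ : ∑ p ∈ S₁, y (f₁ p) = 0 := by
    refine sum_zero S₁ f₁ f₁ne hσσ y α α_zero α_add α_inj hy2 htor
      {M | ∃ (i j : Fin 3) (c : F), i ≠ j ∧ i ≠ 2 ∧ M = transvection i j c} ?_ ?_ ?_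
    · intro H hH h
      exact fix_line hH w hw h2 fun i j hij hi2 c => h _ ⟨i, j, c, hij, hi2, rfl⟩
    · rintro M ⟨i, j, c, hij, hi2, rfl⟩
      exact hK _ (det_transvection_of_ne i j hij c)
    · rintro M ⟨i, j, c, hij, hi2, rfl⟩
      set τ : F × F → F × F := fun p =>
        ((transvection i j c).mulVec (f₁ p) 0, (transvection i j c).mulVec (f₁ p) 1) with hτ
      have hτf : ∀ p, (transvection i j c).mulVec (f₁ p) = f₁ (τ p) := by
        intro p
        funext k
        fin_cases k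
        · rfl
        · rfl
        · show (transvection i j c).mulVec (f₁ p) 2 = 0
          rw [trans_mulVec, if_neg (Ne.symm hi2), add_zero]
          rfl
      have f₁inj : ∀ p p', f₁ p = f₁ p' → p = p' := by
        intro p p' e
        ext
        · exact congrFun e 0
        · exact congrFun e 1
      have τinj : ∀ p p', τ p = τ p' → p = p' := by
        intro p p' e
        apply f₁inj
        apply trans_inj i j hij c
        rw [hτf, hτf, e]
      have τ0 : τ 0 = 0 := by
        apply f₁inj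
        rw [← hτf]
        have : f₁ 0 = 0 := by funext k; fin_cases k <;> rfl
        rw [this, Matrix.mulVec_zero]
      rw [Finset.sum_congr rfl fun p _ => by rw [hτf p]]
      refine sum_perm S₁ τ ?_ (fun p _ p' _ h => τinj p p' h) (fun p => y (f₁ p))
      intro p hp
      rw [hS₁, Finset.mem_filter] at hp ⊢
      exact ⟨Finset.mem_univ _, fun e => hp.2 (τinj _ _ (e.trans τ0.symm))⟩
  -- the line spanned by the first two columns of `M`
  have line₁ : ∀ M : Matrix (Fin 3) (Fin 3) F, M.det = 1 →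
      y (M.mulVec ![0, 1, 0]) + (y (M.mulVec ![1, 0, 0]) + y (M.mulVec ![1, 1, 0]) +
        y (M.mulVec ![1, w, 0]) + y (M.mulVec ![1, σ w, 0])) = 0 := by
    intro M hM
    obtain ⟨κ, hκy, -⟩ := hK M hM
    have h1 : ∑ p ∈ S₁, y (M.mulVec (f₁ p)) = 0 := by
      rw [← map_zero κ, ← line₀, map_sum]
      exact Finset.sum_congr rfl fun p hp => (hκy _ (f₁ne p hp)).symm
    have h3 := sum_pts h4 (fun p : F × F => y (M.mulVec (f₁ p))) (by
      intro c p hc0
      have : f₁ (c • p) = c • f₁ p := by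
        funext k; fin_cases k
        · rfl
        · rfl
        · show (0 : F) = c • 0
          rw [smul_zero]
      show y (M.mulVec (f₁ (c • p))) = y (M.mulVec (f₁ p))
      rw [this, Matrix.mulVec_smul, hys c _ hc0])
    rw [← hS₁, h1, sum_univ h4 w hw] at h3
    set X := y (M.mulVec ![0, 1, 0]) + (y (M.mulVec ![1, 0, 0]) + y (M.mulVec ![1, 1, 0]) +
        y (M.mulVec ![1, w, 0]) + y (M.mulVec ![1, σ w, 0])) with hX
    have h3' : 0 = 3 • X := h3
    have hMinj : ∀ v, v ≠ 0 → M.mulVec v ≠ 0 := by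
      intro v hv e
      apply hv
      have hu : IsUnit M.det := by rw [hM]; exact isUnit_one
      exact (Matrix.mulVec_injective_of_isUnit ((Matrix.isUnit_iff_isUnit_det M).mpr hu))
        (by rw [e, Matrix.mulVec_zero])
    have n1 : ∀ a : F, (![1, a, 0] : Fin 3 → F) ≠ 0 := fun a e => one_ne_zero (congrFun e 0)
    have n2 : (![0, 1, 0] : Fin 3 → F) ≠ 0 := fun e => one_ne_zero (congrFun e 1)
    have h4X : 4 • X = 0 := by
      have e1 := hy4 _ (hMinj _ n2)
      have e2 := hy4 _ (hMinj _ (n1 0))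
      have e3 := hy4 _ (hMinj _ (n1 1))
      have e4 := hy4 _ (hMinj _ (n1 w))
      have e5 := hy4 _ (hMinj _ (n1 (σ w)))
      have : 4 • X = (y (M.mulVec ![0, 1, 0]) + y (M.mulVec ![0, 1, 0]) +
          (y (M.mulVec ![0, 1, 0]) + y (M.mulVec ![0, 1, 0]))) +
          (y (M.mulVec ![1, 0, 0]) + y (M.mulVec ![1, 0, 0]) +
          (y (M.mulVec ![1, 0, 0]) + y (M.mulVec ![1, 0, 0]))) +
          (y (M.mulVec ![1, 1, 0]) + y (M.mulVec ![1, 1, 0]) +
          (y (M.mulVec ![1, 1, 0]) + y (M.mulVec ![1, 1, 0]))) +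
          (y (M.mulVec ![1, w, 0]) + y (M.mulVec ![1, w, 0]) +
          (y (M.mulVec ![1, w, 0]) + y (M.mulVec ![1, w, 0]))) +
          (y (M.mulVec ![1, σ w, 0]) + y (M.mulVec ![1, σ w, 0]) +
          (y (M.mulVec ![1, σ w, 0]) + y (M.mulVec ![1, σ w, 0]))) := by
        rw [hX]; abel
      rw [this, e1, e2, e3, e4, e5]
      simp
    have : X = 4 • X - 3 • X := by abel
    rw [this, h4X, ← h3', sub_zero]
  -- Baer subplanes
  have baer : ∀ c : F, c ≠ 0 →
      y ![1, 0, 0] + y ![0, 1, 0] + y ![1, 1, 0] + y ![0, 0, c] + y ![1, 0, c] + y ![0, 1, c] +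
        y ![1, 1, c] = 0 := by
    intro c hc0
    rw [← sum_bp]
    have hh := hc_ne hc0
    refine sum_zero _ (bp (hc c)) ?_ hσσ y α α_zero α_add α_inj hy2 htor
      {M | ∃ (i j : Fin 3), i ≠ j ∧ M = transvection i j (hc c i / hc c j)} ?_ ?_ ?_
    · intro s hs
      rw [Finset.mem_filter] at hs
      exact bp_ne hh hs.2
    · intro H hH h
      exact fix_baer (fun i j => hc c i / hc c j) (fun i j => div_ne_zero (hh i) (hh j))
        fun i j hij => h _ ⟨i, j, hij, rfl⟩
    · rintro M ⟨i, j, hij, rfl⟩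
      exact hK _ (det_transvection_of_ne i j hij _)
    · rintro M ⟨i, j, hij, rfl⟩
      rw [Finset.sum_congr rfl fun s _ => by rw [trans_bp h2 hh i j hij s]]
      refine sum_perm _ (fun s : Fin 3 → ZMod 2 => fun k => if k = i then s i + s j else s k) ?_ ?_
        (fun s => y (bp (hc c) s))
      · intro s hs
        rw [Finset.mem_filter] at hs ⊢
        exact ⟨Finset.mem_univ _, tau_ne i j hij s hs.2⟩
      · exact fun s _ s' _ h => tau_inj i j hij s s' h
  -- the three lines through `e₂` and `q`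
  have hsmul : ∀ (c : F) (x₁ x₂ x₃ z₁ z₂ z₃ : F), c ≠ 0 → c * x₁ = z₁ → c * x₂ = z₂ → c * x₃ = z₃ →
      y ![x₁, x₂, x₃] = y ![z₁, z₂, z₃] := by
    intro c x₁ x₂ x₃ z₁ z₂ z₃ hc0 h1 h2' h3
    rw [← hys c _ hc0]
    congr 1
    funext k
    fin_cases k
    · exact h1
    · exact h2'
    · exact h3
  have hneg : ∀ x : F, -x = x := fun x => neg_eq_of_add_eq_zero_left (h2 x)
  have L : ∀ a b : F, (∃ d : Matrix (Fin 3) (Fin 3) F, d.det = 1 ∧
      ∀ x y : F, d.mulVec ![x, y, 0] = ![x * a, x * b, y]) →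
      y ![0, 0, 1] + (y ![a, b, 0] + y ![a, b, 1] + y ![a, b, w] + y ![a, b, σ w]) = 0 := by
    rintro a b ⟨d, hd, hdv⟩
    have := line₁ d hd
    rw [hdv, hdv, hdv, hdv, hdv] at this
    simpa using this
  have L1 := L 1 0 ⟨!![1, 0, 0; 0, 0, 1; 0, 1, 0], by simp [Matrix.det_fin_three, hneg], by
    intro x y; funext k; fin_cases k <;> simp [Matrix.mulVec, dotProduct, Fin.sum_univ_three]⟩
  have L2 := L 0 1 ⟨!![0, 0, 1; 1, 0, 0; 0, 1, 0], by simp [Matrix.det_fin_three], by
    intro x y; funext k; fin_cases k <;> simp [Matrix.mulVec, dotProduct, Fin.sum_univ_three]⟩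
  have L3 := L 1 1 ⟨!![1, 0, 0; 1, 0, 1; 0, 1, 0], by simp [Matrix.det_fin_three, hneg], by
    intro x y; funext k; fin_cases k <;> simp [Matrix.mulVec, dotProduct, Fin.sum_univ_three]⟩
  have B1 := baer 1 one_ne_zero
  have Bw := baer w w0
  have Bs := baer (σ w) s0
  have ew : y ![0, 0, w] = y ![0, 0, 1] :=
    hsmul w⁻¹ _ _ _ _ _ _ (inv_ne_zero w0) (mul_zero _) (mul_zero _) (inv_mul_cancel₀ w0)
  have es : y ![0, 0, σ w] = y ![0, 0, 1] :=
    hsmul (σ w)⁻¹ _ _ _ _ _ _ (inv_ne_zero s0) (mul_zero _) (mul_zero _) (inv_mul_cancel₀ s0)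
  rw [ew] at Bw
  rw [es] at Bs
  have final : (y ![1, 0, 0] + y ![1, 0, 0]) + (y ![0, 1, 0] + y ![0, 1, 0]) +
      (y ![1, 1, 0] + y ![1, 1, 0]) = 0 := by
    have key : (y ![1, 0, 0] + y ![1, 0, 0]) + (y ![0, 1, 0] + y ![0, 1, 0]) +
        (y ![1, 1, 0] + y ![1, 1, 0]) =
        (y ![1, 0, 0] + y ![0, 1, 0] + y ![1, 1, 0] + y ![0, 0, 1] + y ![1, 0, 1] + y ![0, 1, 1] +
          y ![1, 1, 1]) +
        (y ![1, 0, 0] + y ![0, 1, 0] + y ![1, 1, 0] + y ![0, 0, 1] + y ![1, 0, w] + y ![0, 1, w] +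
          y ![1, 1, w]) +
        (y ![1, 0, 0] + y ![0, 1, 0] + y ![1, 1, 0] + y ![0, 0, 1] + y ![1, 0, σ w] + y ![0, 1, σ w] +
          y ![1, 1, σ w]) -
        (y ![0, 0, 1] + (y ![1, 0, 0] + y ![1, 0, 1] + y ![1, 0, w] + y ![1, 0, σ w])) -
        (y ![0, 0, 1] + (y ![0, 1, 0] + y ![0, 1, 1] + y ![0, 1, w] + y ![0, 1, σ w])) -
        (y ![0, 0, 1] + (y ![1, 1, 0] + y ![1, 1, 1] + y ![1, 1, w] + y ![1, 1, σ w])) := by
      abel
    rw [key, B1, Bw, Bs, L1, L2, L3]
    simp
  have n100 : (![1, 0, 0] : Fin 3 → F) ≠ 0 := fun e => one_ne_zero (congrFun e 0)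
  have n010 : (![0, 1, 0] : Fin 3 → F) ≠ 0 := fun e => one_ne_zero (congrFun e 1)
  have n110 : (![1, 1, 0] : Fin 3 → F) ≠ 0 := fun e => one_ne_zero (congrFun e 0)
  rw [hy2 _ n100, hy2 _ n010, hy2 _ n110, ← α_add _ _ (herm_rk hσσ _) (herm_rk hσσ _),
    ← α_add _ _ (herm_add (herm_rk hσσ _) (herm_rk hσσ _)) (herm_rk hσσ _)] at final
  have := α_ker _ (herm_add (herm_add (herm_rk hσσ _) (herm_rk hσσ _)) (herm_rk hσσ _)) final
  have := congrFun (congrFun this 0) 1
  simp [rk] at this

end Core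

end Cfsg.Agent.OddHalf.D7.Uni.PlaneCore
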