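import Mathlib

/-!
# The pentagon in semilinear form (K = U_n(2), odd half D7; helper850; hypotheses as asked for by helper575)

`z p` (`p : F × F` a nonzero vector, `F = F₄`) the transvection of the point `⟨p⟩` of a totally isotropic line.
If `C(t)` induces exactly the linear maps on the points, there is no `y` with `y t y⁻¹ = t * z s` which acts
semilinearly: walk `t → t z_{e+f} → …` with five elements which all act as the Frobenius.
-/

set_option autoImplicit false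

namespace Cfsg.Agent.OddHalf.D7.Uni.PentagonSemi

variable {G : Type*} [Group G] {F : Type*} [Field F]

/-- a linear map sending `(1, 0)` to a given nonzero vector -/
theorem exists_of_ne (s : F × F) (hs : s ≠ 0) : ∃ A : (F × F) ≃ₗ[F] (F × F), A (1, 0) = s := by
  obtain ⟨a, b⟩ := s
  by_cases ha : a = 0
  · have hb : b ≠ 0 := fun hb => hs (by rw [ha, hb]; rfl)
    refine ⟨{ toFun := fun p => (p.2, b * p.1)
              map_add' := fun p q => by ext <;> simp [mul_add]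
              map_smul' := fun c p => by ext <;> simp [mul_left_comm]
              invFun := fun p => (b⁻¹ * p.2, p.1)
              left_inv := fun p => by ext <;> simp [hb]
              right_inv := fun p => by ext <;> simp [hb] }, ?_⟩
    ext <;> simp [ha]
  · refine ⟨{ toFun := fun p => (a * p.1, b * p.1 + p.2)
              map_add' := fun p q => by ext <;> simp <;> ring
              map_smul' := fun c p => by ext <;> simp <;> ring
              invFun := fun p => (a⁻¹ * p.1, p.2 - b * (a⁻¹ * p.1))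
              left_inv := fun p => by ext <;> simp [ha]
              right_inv := fun p => by ext <;> simp [ha] }, ?_⟩
    ext <;> simp

theorem exists_map (s s' : F × F) (hs : s ≠ 0) (hs' : s' ≠ 0) :
    ∃ A : (F × F) ≃ₗ[F] (F × F), A s = s' := by
  obtain ⟨A, hA⟩ := exists_of_ne s hs
  obtain ⟨B, hB⟩ := exists_of_ne s' hs'
  exact ⟨A.symm.trans B, by simp [← hA, hB]⟩

/-- **Five odd permutations**, semilinear form. -/
theorem pentagon_semi (σ : F →+* F) (hσσ : ∀ x, σ (σ x) = x) (ω : F) (hω : σ ω ≠ ω)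
    (t : G) (z : F × F → G)
    (hinj : ∀ p q : F × F, p ≠ 0 → q ≠ 0 → z p = z q → ∃ c : F, q = c • p)
    (hzc : ∀ p q, z p * z q = z q * z p)
    (hprod : z (1, 0) * z (0, 1) * z (1, 1) * z (1, ω) * z (1, σ ω) = 1)
    (lin : ∀ A : (F × F) ≃ₗ[F] (F × F), ∃ k : G, k * t = t * k ∧
      ∀ p, p ≠ 0 → k * z p * k⁻¹ = z (A p))
    (ct : ∀ k : G, k * t = t * k → (∀ p, p ≠ 0 → ∃ q, q ≠ 0 ∧ k * z p * k⁻¹ = z q) →
      ∃ A : (F × F) ≃ₗ[F] (F × F), ∀ p, p ≠ 0 → k * z p * k⁻¹ = z (A p))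
    (y : G) (s : F × F) (hs : s ≠ 0) (hy : y * t * y⁻¹ = t * z s)
    (g : F × F → F × F) (g_add : ∀ p q, g (p + q) = g p + g q) (g_smul : ∀ (c : F) p, g (c • p) = σ c • g p)
    (g_ne : ∀ p, p ≠ 0 → g p ≠ 0)
    (hyz : ∀ p, p ≠ 0 → y * z p * y⁻¹ = z (g p)) : False := by
  classical
  -- the Frobenius
  set φ : F × F → F × F := fun p => (σ p.1, σ p.2) with hφ
  have φφ : ∀ p, φ (φ p) = p := fun p => by simp [hφ, hσσ]
  have φ_ne : ∀ p, p ≠ 0 → φ p ≠ 0 := fun p hp h => hp (by rw [← φφ p, h]; simp [hφ])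
  -- `g` is bijective: `p ↦ g (φ p)` is linear and injective
  have ginj : Function.Injective g := by
    intro p q h
    by_contra hne
    refine g_ne (p - q) (sub_ne_zero.mpr hne) ?_
    have h1 : g (p - q) + g q = g p := by rw [← g_add, sub_add_cancel]
    rw [h] at h1
    exact add_eq_right.mp h1
  let L : (F × F) →ₗ[F] (F × F) :=
    { toFun := fun p => g (φ p)
      map_add' := fun p q => by
        have : φ (p + q) = φ p + φ q := by simp [hφ]
        show g (φ (p + q)) = _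
        rw [this, g_add]
      map_smul' := fun c p => by
        have : φ (c • p) = σ c • φ p := by simp [hφ]
        show g (φ (c • p)) = _
        rw [this, g_smul, hσσ]
        rfl }
  have Linj : Function.Injective L := fun p q h => by
    have h1 : φ p = φ q := ginj h
    rw [← φφ p, h1, φφ]
  let E : (F × F) ≃ₗ[F] (F × F) := LinearEquiv.ofInjectiveEndo L Linj
  have hE : ∀ p, g p = E (φ p) := fun p => by
    show g p = L (φ p)
    show g p = g (φ (φ p))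
    rw [φφ]
  -- `Y p : t ↦ t z_p`, acting as `φ`
  have hY : ∀ q : F × F, q ≠ 0 → ∃ Y : G, Y * t * Y⁻¹ = t * z q ∧ ∀ p, p ≠ 0 → Y * z p * Y⁻¹ = z (φ p) := by
    intro q hq
    obtain ⟨A, hA⟩ := exists_map s q hs hq
    obtain ⟨k, hkt, hk⟩ := lin A
    -- `A ∘ g ∘ B = φ`, `B = φ ∘ (A ∘ E)⁻¹ ∘ φ`
    let B₀ : (F × F) ≃ₗ[F] (F × F) := (E.trans A).symm
    let B : (F × F) ≃ₗ[F] (F × F) :=
      { toFun := fun p => φ (B₀ (φ p))
        map_add' := fun p q => by
          have h1 : ∀ p q, φ (p + q) = φ p + φ q := fun p q => by simp [hφ]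
          show φ (B₀ (φ (p + q))) = _
          rw [h1, map_add, h1]
        map_smul' := fun c p => by
          have h1 : ∀ (c : F) p, φ (c • p) = σ c • φ p := fun c p => by simp [hφ]
          show φ (B₀ (φ (c • p))) = _
          rw [h1, map_smul, h1, hσσ]
          rfl
        invFun := fun p => φ (B₀.symm (φ p))
        left_inv := fun p => by
          show φ (B₀.symm (φ (φ (B₀ (φ p))))) = p
          rw [φφ, LinearEquiv.symm_apply_apply, φφ]
        right_inv := fun p => by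
          show φ (B₀ (φ (φ (B₀.symm (φ p))))) = p
          rw [φφ, LinearEquiv.apply_symm_apply, φφ] }
    obtain ⟨k', hkt', hk'⟩ := lin B
    have hB : ∀ p, A (g (B p)) = φ p := by
      intro p
      rw [hE]
      show A (E (φ (φ (B₀ (φ p))))) = φ p
      rw [φφ]
      show (E.trans A) (B₀ (φ p)) = φ p
      exact (E.trans A).apply_symm_apply (φ p)
    refine ⟨k * y * k', ?_, fun p hp => ?_⟩
    · have h1 : k' * t * k'⁻¹ = t := by rw [hkt']; group
      have h2 : k * t * k⁻¹ = t := by rw [hkt]; group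
      calc k * y * k' * t * (k * y * k')⁻¹ = k * (y * (k' * t * k'⁻¹) * y⁻¹) * k⁻¹ := by group
        _ = (k * t * k⁻¹) * (k * z s * k⁻¹) := by rw [h1, hy]; group
        _ = t * z q := by rw [h2, hk s hs, hA]
    · have hBp : B p ≠ 0 := by
        intro h; apply hp; rw [← B.symm_apply_apply p, h, map_zero]
      calc k * y * k' * z p * (k * y * k')⁻¹ = k * (y * (k' * z p * k'⁻¹) * y⁻¹) * k⁻¹ := by group
        _ = z (φ p) := by rw [hk' p hp, hyz _ hBp, hk _ (g_ne _ hBp), hB]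
  have n10 : ((1, 0) : F × F) ≠ 0 := fun h => one_ne_zero (congrArg Prod.fst h)
  have n01 : ((0, 1) : F × F) ≠ 0 := fun h => one_ne_zero (congrArg Prod.snd h)
  have n1 : ∀ x : F, ((1, x) : F × F) ≠ 0 := fun x h => one_ne_zero (congrArg Prod.fst h)
  have f10 : φ (1, 0) = (1, 0) := by simp [hφ]
  have f01 : φ (0, 1) = (0, 1) := by simp [hφ]
  have f11 : φ (1, 1) = (1, 1) := by simp [hφ]
  have fω : φ (1, ω) = (1, σ ω) := by simp [hφ]
  have fσ : φ (1, σ ω) = (1, ω) := by simp [hφ, hσσ]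
  obtain ⟨Y2, hY2, hz2⟩ := hY _ n10
  obtain ⟨Y3, hY3, hz3⟩ := hY _ n01
  obtain ⟨Y4, hY4, hz4⟩ := hY _ (n1 1)
  obtain ⟨Y0, hY0, hz0⟩ := hY _ (n1 ω)
  obtain ⟨Y1, hY1, hz1⟩ := hY _ (n1 (σ ω))
  have s0 : Y0 * (t * z (1, 0)) * Y0⁻¹ = t * z (1, ω) * z (1, 0) := by
    calc Y0 * (t * z (1, 0)) * Y0⁻¹ = (Y0 * t * Y0⁻¹) * (Y0 * z (1, 0) * Y0⁻¹) := by group
      _ = _ := by rw [hY0, hz0 _ n10, f10]
  have s3 : Y3 * (t * z (1, ω) * z (1, 0)) * Y3⁻¹ = t * z (0, 1) * z (1, σ ω) * z (1, 0) := by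
    calc Y3 * (t * z (1, ω) * z (1, 0)) * Y3⁻¹
        = (Y3 * t * Y3⁻¹) * (Y3 * z (1, ω) * Y3⁻¹) * (Y3 * z (1, 0) * Y3⁻¹) := by group
      _ = _ := by rw [hY3, hz3 _ n10, hz3 _ (n1 ω), f10, fω]
  have s1 : Y1 * (t * z (0, 1) * z (1, σ ω) * z (1, 0)) * Y1⁻¹ =
      t * z (1, σ ω) * z (0, 1) * z (1, ω) * z (1, 0) := by
    calc Y1 * (t * z (0, 1) * z (1, σ ω) * z (1, 0)) * Y1⁻¹
        = (Y1 * t * Y1⁻¹) * (Y1 * z (0, 1) * Y1⁻¹) * (Y1 * z (1, σ ω) * Y1⁻¹) *
            (Y1 * z (1, 0) * Y1⁻¹) := by group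
      _ = _ := by rw [hY1, hz1 _ n10, hz1 _ n01, hz1 _ (n1 _), f10, f01, fσ]
  have s4 : Y4 * (t * z (1, σ ω) * z (0, 1) * z (1, ω) * z (1, 0)) * Y4⁻¹ =
      t * z (1, 1) * z (1, ω) * z (0, 1) * z (1, σ ω) * z (1, 0) := by
    calc Y4 * (t * z (1, σ ω) * z (0, 1) * z (1, ω) * z (1, 0)) * Y4⁻¹
        = (Y4 * t * Y4⁻¹) * (Y4 * z (1, σ ω) * Y4⁻¹) * (Y4 * z (0, 1) * Y4⁻¹) *
            (Y4 * z (1, ω) * Y4⁻¹) * (Y4 * z (1, 0) * Y4⁻¹) := by group
      _ = _ := by rw [hY4, hz4 _ n10, hz4 _ n01, hz4 _ (n1 _), hz4 _ (n1 _), f10, f01, fσ, fω]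
  have e2 : z (1, 1) * z (1, ω) * z (0, 1) * z (1, σ ω) * z (1, 0) = 1 := by
    rw [← hprod]
    calc z (1, 1) * z (1, ω) * z (0, 1) * z (1, σ ω) * z (1, 0)
        = z (1, 1) * z (1, ω) * z (0, 1) * (z (1, σ ω) * z (1, 0)) := by group
      _ = z (1, 1) * z (1, ω) * (z (0, 1) * z (1, 0)) * z (1, σ ω) := by
        rw [hzc (1, σ ω) (1, 0)]; group
      _ = z (1, 1) * (z (1, ω) * z (1, 0)) * z (0, 1) * z (1, σ ω) := by
        rw [hzc (0, 1) (1, 0)]; group
      _ = (z (1, 1) * z (1, 0)) * z (1, ω) * z (0, 1) * z (1, σ ω) := by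
        rw [hzc (1, ω) (1, 0)]; group
      _ = z (1, 0) * z (1, 1) * (z (1, ω) * z (0, 1)) * z (1, σ ω) := by
        rw [hzc (1, 1) (1, 0)]; group
      _ = z (1, 0) * (z (1, 1) * z (0, 1)) * z (1, ω) * z (1, σ ω) := by
        rw [hzc (1, ω) (0, 1)]; group
      _ = z (1, 0) * z (0, 1) * z (1, 1) * z (1, ω) * z (1, σ ω) := by
        rw [hzc (1, 1) (0, 1)]; group
  obtain ⟨P, hP⟩ : ∃ P : G, P = Y4 * (Y1 * (Y3 * (Y0 * Y2))) := ⟨_, rfl⟩
  have hPt : P * t * P⁻¹ = t := by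
    calc P * t * P⁻¹ = Y4 * (Y1 * (Y3 * (Y0 * (Y2 * t * Y2⁻¹) * Y0⁻¹) * Y3⁻¹) * Y1⁻¹) * Y4⁻¹ := by
          rw [hP]; group
      _ = t * (z (1, 1) * z (1, ω) * z (0, 1) * z (1, σ ω) * z (1, 0)) := by
          rw [hY2, s0, s3, s1, s4]; group
      _ = t := by rw [e2, mul_one]
  have hc : P * t = t * P := by
    calc P * t = (P * t * P⁻¹) * P := by group
      _ = t * P := by rw [hPt]
  have hPz : ∀ p, p ≠ 0 → P * z p * P⁻¹ = z (φ p) := by
    intro p hp
    calc P * z p * P⁻¹ = Y4 * (Y1 * (Y3 * (Y0 * (Y2 * z p * Y2⁻¹) * Y0⁻¹) * Y3⁻¹) * Y1⁻¹) * Y4⁻¹ := by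
          rw [hP]; group
      _ = z (φ (φ (φ (φ (φ p))))) := by
          have p1 := φ_ne p hp
          have p2 := φ_ne _ p1
          have p3 := φ_ne _ p2
          have p4 := φ_ne _ p3
          rw [hz2 _ hp, hz0 _ p1, hz3 _ p2, hz1 _ p3, hz4 _ p4]
      _ = z (φ p) := by rw [φφ, φφ]
  obtain ⟨A, hA⟩ := ct P hc fun p hp => ⟨φ p, φ_ne p hp, hPz p hp⟩
  have hAφ : ∀ p, p ≠ 0 → ∃ c : F, A p = c • φ p := by
    intro p hp
    refine hinj _ _ (φ_ne p hp) (fun h => hp ?_) ((hPz p hp).symm.trans (hA p hp))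
    rw [← A.symm_apply_apply p, h, map_zero]
  obtain ⟨a, ha⟩ := hAφ _ n10
  obtain ⟨b, hb⟩ := hAφ _ n01
  obtain ⟨c, hcc⟩ := hAφ _ (n1 1)
  obtain ⟨d, hd⟩ := hAφ _ (n1 ω)
  have e11 : ((1, 1) : F × F) = (1, 0) + (0, 1) := by ext <;> simp
  have eω : ((1, ω) : F × F) = (1, 0) + ω • (0, 1) := by ext <;> simp
  rw [f10] at ha
  rw [f01] at hb
  rw [f11] at hcc
  rw [fω, eω, map_add, map_smul, ha, hb] at hd
  rw [e11, map_add, ha, hb] at hcc
  have c1 := congrArg Prod.fst hcc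
  have c2 := congrArg Prod.snd hcc
  have d1 := congrArg Prod.fst hd
  have d2 := congrArg Prod.snd hd
  simp only [Prod.fst_add, Prod.snd_add, Prod.smul_fst, Prod.smul_snd, smul_eq_mul, mul_zero, mul_one,
    add_zero, zero_add] at c1 c2 d1 d2
  have ha0 : a ≠ 0 := by
    intro h0
    rw [h0, zero_smul] at ha
    exact n10 ((map_eq_zero_iff A A.injective).mp ha)
  apply hω
  rw [c2, ← c1, ← d1] at d2
  have : a * σ ω = a * ω := by rw [← d2]; ring
  exact mul_left_cancel₀ ha0 this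

end Cfsg.Agent.OddHalf.D7.Uni.PentagonSemi
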