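import Mathlib
import Cfsg.Agent.KFacts.Unit.PentExtAll
import Cfsg.Agent.OddHalf.D7.Uni.Face
import Cfsg.Agent.OddHalf.D7.Uni.PentagonSemi

/-!
# ODD D7, `K = PSU n F 2`: a root involution, `q = 2`

`exists_inner`: in the situation `Sit n F 2 t j`, `n ≥ 6`, if some `y` with `y t y⁻¹ = t z_u` normalises `j(PP u)` and
`j(QQ u)`, then some `n₀` with `n₀ t n₀⁻¹ = t z_u` induces on `j(PP u)` an inner automorphism.
-/

set_option autoImplicit false

namespace Cfsg.Agent.OddHalf.D7.Uni.PentGlue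

open Cfsg Matrix Cfsg.Agent.LieClassical.HermBasic Cfsg.Agent.LieClassical.HermSiegel
  Cfsg.Agent.LieClassical.HermGen Cfsg.Agent.LieClassical.SUBasic
  Cfsg.Agent.ClassicalGeometry.PSUAutBasic Cfsg.Agent.ClassicalGeometry.PSUAutSylow
  Cfsg.Agent.ClassicalGeometry.PSUAutUnip Cfsg.Agent.ClassicalGeometry.PSUAutPhi
  Cfsg.Agent.ClassicalGeometry.PSUAutExt Cfsg.Agent.ClassicalGeometry.PSUAutSemi
  Cfsg.Agent.KFacts.Unit Cfsg.Agent.OddHalf.D7.Uni.Face

open Cfsg.Agent.ClassicalGeometry.PSUAutCount (gm semiConj toAut herm_gm act_semiConj herm_semi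
  gm_inv_mulVec gm_mulVec_inv gm_mul)

variable {F : Type*} [Field F] [Fintype F] {q n : ℕ}

section Tr

variable [CharP F 2]

/-- The transvection of an isotropic vector with parameter one. -/
abbrev tv (hF : Fintype.card F = q ^ 2) (v : Fin n → F) (hv : hermForm n F q v v = 0) : SU n F q :=
  transv hF v hv 1 one_tr

theorem act_tv (hF : Fintype.card F = q ^ 2) {v : Fin n → F} (hv : hermForm n F q v v = 0) (x : Fin n → F) :
    act (tv hF v hv) x = x + hermForm n F q x v • v := by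
  rw [tv, act_transv, one_mul]

theorem tv_congr (hF : Fintype.card F = q ^ 2) {v v' : Fin n → F} (hv : hermForm n F q v v = 0)
    (hv' : hermForm n F q v' v' = 0) (h : v = v') : tv hF v hv = tv hF v' hv' := by
  subst h; rfl

theorem conj_tv (hF : Fintype.card F = q ^ 2) {v v' : Fin n → F} (hv : hermForm n F q v v = 0)
    (hv' : hermForm n F q v' v' = 0) (g : SU n F q) (h : act g v = v') : g * tv hF v hv * g⁻¹ = tv hF v' hv' := by
  rw [tv, transv, conj_siegel]
  exact siegel_congr hF _ _ h (act_zero g) rfl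

theorem toAut_tv (hF : Fintype.card F = q ^ 2) {v v' : Fin n → F} (hv : hermForm n F q v v = 0)
    (hv' : hermForm n F q v' v' = 0) (A : GU n F q) (ρ : F ≃+* F) (h : sg A ρ v = v') :
    toAut A ρ (pr n F q (tv hF v hv)) = pr n F q (tv hF v' hv') := by
  rw [tv, transv, Cfsg.Agent.ClassicalGeometry.PSUAutMain.toAut_pr', semiConj_siegel]
  congr 1
  exact siegel_congr hF _ _ h (sg_zero A ρ) (map_one ρ)

theorem tv_inj (hF : Fintype.card F = q ^ 2) (hn : 3 ≤ n) {v v' : Fin n → F} (hv : hermForm n F q v v = 0)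
    (hv' : hermForm n F q v' v' = 0) (hv0 : v ≠ 0)
    (h : pr n F q (tv hF v hv) = pr n F q (tv hF v' hv')) : ∃ c : F, c ≠ 0 ∧ v = c • v' := by
  have h1 : tv hF v hv = tv hF v' hv' := siegel_pr_inj hF hn _ _ h
  obtain ⟨f, -, hvf, hfv⟩ := exists_partner hF hv0 hv
  have h2 := congrArg (fun g => act g f) h1
  simp only [act_tv] at h2
  rw [add_right_inj, hfv, one_smul] at h2
  refine ⟨hermForm n F q f v', ?_, h2⟩
  intro h0
  rw [h0, zero_smul] at h2
  exact hv0 h2

theorem tv_comm (hF : Fintype.card F = q ^ 2) {v v' : Fin n → F} (hv : hermForm n F q v v = 0)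
    (hv' : hermForm n F q v' v' = 0) (h : hermForm n F q v v' = 0) :
    tv hF v hv * tv hF v' hv' = tv hF v' hv' * tv hF v hv := by
  have h' := herm_eq_zero_swap hF h
  apply ext_act
  intro x
  rw [act_mul, act_mul, act_tv, act_tv, act_tv, act_tv, herm_add_left, herm_add_left, herm_smul_left,
    herm_smul_left, h, h', mul_zero, mul_zero, add_zero, add_zero]
  abel

/-- The product of the five transvections of a totally isotropic line, `q = 2`. -/
theorem tv_prod (hF : Fintype.card F = 2 ^ 2) {u v : Fin n → F} (huu : hermForm n F 2 u u = 0)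
    (hvv : hermForm n F 2 v v = 0) (huv : hermForm n F 2 u v = 0) {ω : F} (hω : ω ^ 2 = ω + 1)
    (h1 : hermForm n F 2 (u + v) (u + v) = 0) (h2 : hermForm n F 2 (u + ω • v) (u + ω • v) = 0)
    (h3 : hermForm n F 2 (u + (ω + 1) • v) (u + (ω + 1) • v) = 0) :
    tv hF u huu * tv hF v hvv * tv hF (u + v) h1 * tv hF (u + ω • v) h2 * tv hF (u + (ω + 1) • v) h3 = 1 := by
  have hvu := herm_eq_zero_swap hF huv
  have two : (2 : F) = 0 := CharTwo.two_eq_zero
  apply ext_act
  intro x
  rw [act_mul, act_mul, act_mul, act_mul, act_one]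
  simp only [act_tv, herm_add_left, herm_add_right hF, herm_smul_left, herm_smul_right, huu, hvv, huv, hvu,
    mul_zero, add_zero]
  set X := hermForm n F 2 x u
  set Y := hermForm n F 2 x v
  have e : ∀ i : Fin n, (X + (ω + 1) ^ 2 * Y) * (u i + (ω + 1) * v i) + (X + ω ^ 2 * Y) * (u i + ω * v i) +
      (X + Y) * (u i + v i) + Y * v i + X * u i = 0 := by
    intro i
    linear_combination (X * ω * v i + 2 * X * u i + X * v i + ω * Y * u i + ω ^ 2 * Y * u i + ω ^ 3 * Y * v i +
      Y * u i + 3 * Y * v i * (ω + 1)) * two + 3 * Y * v i * hω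
  funext i
  simp only [Pi.add_apply, Pi.smul_apply, smul_eq_mul]
  linear_combination e i

/-- Scalars do not change the transvection, `q = 2`. -/
theorem tv_smul (hF : Fintype.card F = 2 ^ 2) {v : Fin n → F} (hv : hermForm n F 2 v v = 0) {c : F} (hc : c ≠ 0)
    (hcv : hermForm n F 2 (c • v) (c • v) = 0) : tv hF (c • v) hcv = tv hF v hv := by
  have h1 : c ^ 3 = 1 := by
    have := FiniteField.pow_card_sub_one_eq_one c hc
    rwa [hF] at this
  apply ext_act
  intro x
  rw [act_tv, act_tv, herm_smul_right, smul_smul]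
  congr 2
  linear_combination hermForm n F 2 x v * h1

omit [Fintype F] in
/-- A field automorphism `≠ 1` of the field with four elements. -/
theorem aut_four {ρ : F ≃+* F} (hρ : ρ ≠ RingEquiv.refl F) {ω : F}
    (hω : ω ^ 2 = ω + 1) (hall : ∀ x : F, x = 0 ∨ x = 1 ∨ x = ω ∨ x = ω + 1) :
    ρ ω = ω + 1 ∧ ∀ x, ρ (ρ x) = x := by
  have two : (2 : F) = 0 := CharTwo.two_eq_zero
  have h1 : ρ ω = ω + 1 := by
    rcases hall (ρ ω) with h | h | h | h
    · rw [map_eq_zero_iff ρ ρ.injective] at h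
      rw [h] at hω
      norm_num at hω
    · rw [map_eq_one_iff ρ ρ.injective] at h
      rw [h] at hω
      exfalso
      have : (1 : F) = 0 := by linear_combination -hω
      exact one_ne_zero this
    · exfalso
      apply hρ
      ext x
      rcases hall x with rfl | rfl | rfl | rfl
      · rw [map_zero, map_zero]
      · rw [map_one, map_one]
      · rw [h]; rfl
      · rw [map_add, h, map_one]; rfl
    · exact h
  have h2 : ρ (ρ ω) = ω := by
    rw [h1, map_add, h1, map_one]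
    linear_combination two
  refine ⟨h1, fun x => ?_⟩
  rcases hall x with rfl | rfl | rfl | rfl
  · rw [map_zero, map_zero]
  · rw [map_one, map_one]
  · exact h2
  · rw [map_add, map_add, h2, map_one, map_one]

/-- The vector with coordinates `p`. -/
def lv (u w : Fin n → F) (p : F × F) : Fin n → F := p.1 • u + p.2 • w

omit [Fintype F] [CharP F 2] in
theorem lv_def (u w : Fin n → F) (p : F × F) : lv u w p = p.1 • u + p.2 • w := rfl

omit [Fintype F] [CharP F 2] in
theorem lv_add (u w : Fin n → F) (p p' : F × F) : lv u w (p + p') = lv u w p + lv u w p' := by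
  rw [lv_def, lv_def, lv_def, Prod.fst_add, Prod.snd_add, add_smul, add_smul]; abel

omit [Fintype F] [CharP F 2] in
theorem lv_smul (u w : Fin n → F) (c : F) (p : F × F) : lv u w (c • p) = c • lv u w p := by
  rw [lv_def, lv_def, Prod.smul_fst, Prod.smul_snd, smul_add, smul_smul, smul_smul]; rfl

omit [CharP F 2] in
theorem lv_iso (hF : Fintype.card F = q ^ 2) {u w : Fin n → F} (huu : hermForm n F q u u = 0)
    (hww : hermForm n F q w w = 0) (hwu : hermForm n F q w u = 0) (p p' : F × F) :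
    hermForm n F q (lv u w p) (lv u w p') = 0 := by
  have huw := herm_eq_zero_swap hF hwu
  rw [lv_def, lv_def]
  simp only [herm_add_left, herm_add_right hF, herm_smul_left, herm_smul_right, huu, hww, hwu, huw]
  ring

omit [Fintype F] [CharP F 2] in
theorem lv_inj {u w : Fin n → F} (hind : ∀ a b : F, a • u + b • w = 0 → a = 0 ∧ b = 0) {p p' : F × F}
    (h : lv u w p = lv u w p') : p = p' := by
  have h1 : (p.1 - p'.1) • u + (p.2 - p'.2) • w = 0 := by
    have h2 : lv u w p - lv u w p' = 0 := sub_eq_zero.2 h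
    rw [← h2, lv_def, lv_def]; module
  obtain ⟨ha, hb⟩ := hind _ _ h1
  exact Prod.ext (sub_eq_zero.1 ha) (sub_eq_zero.1 hb)

end Tr

section Main

variable [CharP F 2] {G : Type*} [Group G]

omit [CharP F 2] in
/-- Two independent orthogonal isotropic vectors are part of a frame. -/
theorem exists_Frm_pair (hF : Fintype.card F = q ^ 2) {u w : Fin n → F} (huu : hermForm n F q u u = 0)
    (hww : hermForm n F q w w = 0) (hwu : hermForm n F q w u = 0)
    (hind : ∀ a b : F, a • u + b • w = 0 → a = 0 ∧ b = 0) : ∃ f, Frm q ![u, w] f := by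
  have huw := herm_eq_zero_swap hF hwu
  refine exists_Frm hF (LinearIndependent.pair_iff.2 hind) ?_
  intro i k
  fin_cases i <;> fin_cases k <;> assumption

/-- **No semilinear switch** when `C(t)` acts linearly. -/
theorem no_semi (hF : Fintype.card F = 2 ^ 2) (hn : 6 ≤ n) {t : G} {j : PSU n F 2 →* G} (S : Sit n F 2 t j)
    (hlin : ∀ c : G, c * t = t * c → ∀ (A : GU n F 2) (ρ : F ≃+* F),
      (∀ x, c * j x * c⁻¹ = j (toAut A ρ x)) → ρ = RingEquiv.refl F)
    {u : Fin n → F} (hu0 : u ≠ 0) (hu : hermForm n F 2 u u = 0) {y : G}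
    (hy : y * t * y⁻¹ = t * j (pr n F 2 (tv hF u hu))) {A : GU n F 2} {ρ : F ≃+* F} (hρ : ρ ≠ RingEquiv.refl F)
    {c : F} (hc : sg A ρ u = c • u) (hc0 : c ≠ 0)
    (hyP : ∀ x ∈ PP 2 u, y * j x * y⁻¹ = j (toAut A ρ x)) : False := by
  obtain ⟨ω, hω, hall⟩ := exists_omega hF
  obtain ⟨hρω, hρρ⟩ := aut_four hρ hω hall
  have two : (2 : F) = 0 := CharTwo.two_eq_zero
  obtain ⟨w, w', hwu, hw'u, hww, -, hww'⟩ := exists_pair_of_iso hF (by omega) hu0 hu
  have huw := herm_eq_zero_swap hF hwu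
  have huw' := herm_eq_zero_swap hF hw'u
  have hind : ∀ a b : F, a • u + b • w = 0 → a = 0 ∧ b = 0 := by
    intro a b h
    have h1 := congrArg (fun v => hermForm n F 2 v w') h
    simp only [herm_add_left, herm_smul_left, huw', hww', herm_zero_left] at h1
    have hb : b = 0 := by linear_combination h1
    rw [hb, zero_smul, add_zero] at h
    exact ⟨(smul_eq_zero.1 h).resolve_right hu0, hb⟩
  set w2 := sg A ρ w with hw2
  have hw2w2 : hermForm n F 2 w2 w2 = 0 := by rw [hw2, herm_sg, hww, map_zero]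
  have hw2u : hermForm n F 2 w2 u = 0 := by
    have h1 : hermForm n F 2 w2 (sg A ρ u) = 0 := by rw [hw2, herm_sg, hwu, map_zero]
    rw [hc, herm_smul_right] at h1
    exact (mul_eq_zero.1 h1).resolve_left (pow_ne_zero _ hc0)
  have hind2 : ∀ a b : F, a • u + b • w2 = 0 → a = 0 ∧ b = 0 := by
    intro a b h
    have h0 : hermForm n F 2 u (sg A ρ w') = 0 := by
      have h1 : hermForm n F 2 (sg A ρ u) (sg A ρ w') = 0 := by rw [herm_sg, huw', map_zero]
      rw [hc, herm_smul_left] at h1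
      exact (mul_eq_zero.1 h1).resolve_left hc0
    have h1 := congrArg (fun v => hermForm n F 2 v (sg A ρ w')) h
    simp only [herm_add_left, herm_smul_left, h0, hw2, herm_sg, hww', herm_zero_left, map_one] at h1
    have hb : b = 0 := by linear_combination h1
    rw [hb, zero_smul, add_zero] at h
    exact ⟨(smul_eq_zero.1 h).resolve_right hu0, hb⟩
  obtain ⟨f, E⟩ := exists_Frm_pair hF hu hww hwu hind
  obtain ⟨f', E'⟩ := exists_Frm_pair hF hu hw2w2 hw2u hind2
  obtain ⟨g0, hg0, -⟩ := exists_map_Frm hF (by omega) E' E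
  have hg0u : act g0 u = u := hg0 0
  have hg0w : act g0 w2 = w := hg0 1
  -- the transvections
  have iso := lv_iso hF hu hww hwu
  let z : F × F → G := fun p => j (pr n F 2 (tv hF (lv u w p) (iso p p)))
  have hz : ∀ p, z p = j (pr n F 2 (tv hF (lv u w p) (iso p p))) := fun _ => rfl
  have lv0 : ∀ p : F × F, p ≠ 0 → lv u w p ≠ 0 := by
    intro p hp h
    apply hp
    apply lv_inj hind
    rw [h, lv_def, Prod.fst_zero, Prod.snd_zero, zero_smul, zero_smul, add_zero]
  have hztv : ∀ (p : F × F) (v : Fin n → F) (hv : hermForm n F 2 v v = 0), v = lv u w p →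
      j (pr n F 2 (tv hF v hv)) = z p := by
    intro p v hv h
    rw [hz]
    congr 2
    exact tv_congr hF _ _ h
  -- `z p` lies in `PP u`
  have hzP : ∀ p : F × F, pr n F 2 (tv hF (lv u w p) (iso p p)) ∈ PP 2 u := by
    intro p
    refine mem_PP.2 ⟨_, ?_, rfl⟩
    rw [act_tv]
    have h1 : hermForm n F 2 u (lv u w p) = 0 := by
      have h2 := iso (1, 0) p
      rwa [show lv u w (1, 0) = u by rw [lv_def, one_smul, zero_smul, add_zero]] at h2
    rw [h1, zero_smul, add_zero]
  refine PentagonSemi.pentagon_semi (F := F) (ρ : F →+* F) hρρ ω ?_ t z ?_ ?_ ?_ ?_ ?_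
    (j (pr n F 2 g0) * y) (1, 0) ?_ ?_ (fun p => (ρ p.1 * c, ρ p.2)) ?_ ?_ ?_ ?_
  · -- `σ ω ≠ ω`
    intro h
    have h1 : ρ ω = ω := h
    rw [hρω] at h1
    exact one_ne_zero (add_eq_left.1 h1)
  · -- injectivity
    intro p p' hp hp' h
    obtain ⟨a, ha0, ha⟩ := tv_inj hF (by omega) (iso p' p') (iso p p) (lv0 p' hp') (S.inj h.symm)
    rw [← lv_smul] at ha
    exact ⟨a, lv_inj hind ha⟩
  · -- commuting
    intro p p'
    rw [hz, hz, ← map_mul, ← map_mul, ← map_mul, ← map_mul, tv_comm hF _ _ (iso p p')]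
  · -- product
    have e1 : lv u w (1, 0) = u := by rw [lv_def, one_smul, zero_smul, add_zero]
    have e2 : lv u w (0, 1) = w := by rw [lv_def, one_smul, zero_smul, zero_add]
    have e3 : ∀ x : F, lv u w (1, x) = u + x • w := fun x => by rw [lv_def, one_smul]
    have e4 : lv u w (1, 1) = u + w := by rw [e3, one_smul]
    have hh : ∀ x : F, hermForm n F 2 (u + x • w) (u + x • w) = 0 := fun x => by
      rw [← e3]; exact iso _ _
    have hh1 : hermForm n F 2 (u + w) (u + w) = 0 := by rw [← e4]; exact iso _ _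
    rw [← hztv (1, 0) u hu e1.symm, ← hztv (0, 1) w hww e2.symm, ← hztv (1, 1) (u + w) hh1 e4.symm,
      ← hztv (1, ω) (u + ω • w) (hh ω) (e3 ω).symm,
      ← hztv (1, (ρ : F →+* F) ω) (u + (ω + 1) • w) (hh _) (by
        change _ = lv u w (1, ρ ω)
        rw [hρω, e3]),
      ← map_mul, ← map_mul, ← map_mul, ← map_mul, ← map_mul, ← map_mul, ← map_mul, ← map_mul,
      tv_prod hF hu hww huw hω hh1 (hh ω) (hh (ω + 1)), map_one, map_one]
  · -- `C(t)` induces all linear maps
    intro B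
    obtain ⟨P, hP⟩ : ∃ P, B (1, 0) = P := ⟨_, rfl⟩
    obtain ⟨Q, hQ⟩ : ∃ Q, B (0, 1) = Q := ⟨_, rfl⟩
    have hB : ∀ p : F × F, B p = p.1 • P + p.2 • Q := by
      intro p
      rw [← hP, ← hQ, ← map_smul, ← map_smul, ← map_add]
      congr 1
      ext <;> simp
    set D := P.1 * Q.2 - Q.1 * P.2 with hD
    have hD0 : D ≠ 0 := by
      intro h0
      by_cases hQ0 : Q = 0
      · have h1 : ((0, 1) : F × F) = 0 := by
          rw [← map_eq_zero_iff B B.injective, hQ, hQ0]
        exact one_ne_zero (congrArg Prod.snd h1)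
      · have h1 : B (Q.1, -P.1) = 0 := by
          rw [hB]
          ext
          · simp; ring
          · simp only [Prod.snd_add, Prod.smul_snd, smul_eq_mul, Prod.snd_zero]
            rw [hD] at h0
            linear_combination -h0
        have h2 : B (Q.2, -P.2) = 0 := by
          rw [hB]
          ext
          · simp only [Prod.fst_add, Prod.smul_fst, smul_eq_mul, Prod.fst_zero]
            rw [hD] at h0
            linear_combination h0
          · simp; ring
        rw [map_eq_zero_iff B B.injective] at h1 h2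
        have e1 : Q.1 = 0 := congrArg Prod.fst h1
        have e2 : Q.2 = 0 := congrArg Prod.fst h2
        exact hQ0 (Prod.ext e1 e2)
    have hD3 : D ^ 3 = 1 := by
      have := FiniteField.pow_card_sub_one_eq_one D hD0
      rwa [hF] at this
    obtain ⟨g, hg, -⟩ := exists_SL hF E (M := !![D * P.1, D * Q.1; D * P.2, D * Q.2]) (by
      rw [Matrix.det_fin_two_of]
      linear_combination hD3 - D ^ 2 * hD)
    have hgu : act g u = D • lv u w P := by
      have := hg 0
      simp only [Matrix.cons_val_zero, Fin.sum_univ_two, Matrix.cons_val_one, Matrix.of_apply,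
        Matrix.cons_val_fin_one] at this
      rw [this, lv_def, smul_add, smul_smul, smul_smul]
    have hgw : act g w = D • lv u w Q := by
      have := hg 1
      simp only [Matrix.cons_val_zero, Fin.sum_univ_two, Matrix.cons_val_one, Matrix.of_apply,
        Matrix.cons_val_fin_one] at this
      rw [this, lv_def, smul_add, smul_smul, smul_smul]
    refine ⟨j (pr n F 2 g), (S.tj _).symm, fun p hp => ?_⟩
    have h1 : act g (lv u w p) = D • lv u w (B p) := by
      rw [hB, lv_add, lv_smul, lv_smul, lv_def u w p, act_add, act_smul, act_smul, hgu, hgw]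
      module
    have h2 : hermForm n F 2 (D • lv u w (B p)) (D • lv u w (B p)) = 0 := by
      rw [← lv_smul]; exact iso _ _
    rw [hz, hz, ← map_inv, ← map_inv, ← map_mul, ← map_mul, ← map_mul, ← map_mul, conj_tv hF _ h2 g h1,
      tv_smul hF (iso _ _) hD0]
  · -- `C(t)` acts linearly
    intro k hk hkz
    obtain ⟨α, hα⟩ := S.exists_aut hk
    obtain ⟨A', ρ', rfl⟩ := Cfsg.Agent.ClassicalGeometry.PSUAutMain.exists_toAut hF (by omega) (by omega) α
    have hρ' := hlin k hk A' ρ' hα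
    subst hρ'
    have isog : ∀ p, hermForm n F 2 (sg A' (RingEquiv.refl F) (lv u w p)) (sg A' (RingEquiv.refl F) (lv u w p)) = 0 :=
      fun p => by rw [herm_sg, iso, map_zero]
    have hkz' : ∀ p, k * z p * k⁻¹ = j (pr n F 2 (tv hF (sg A' (RingEquiv.refl F) (lv u w p)) (isog p))) := by
      intro p
      rw [hz, hα, toAut_tv hF (iso p p) (isog p) A' _ rfl]
    have hex : ∀ p, p ≠ 0 → ∃ P, sg A' (RingEquiv.refl F) (lv u w p) = lv u w P := by
      intro p hp
      obtain ⟨p', hp', h1⟩ := hkz p hp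
      rw [hkz', hz] at h1
      obtain ⟨a, -, ha⟩ := tv_inj hF (by omega) (isog p) (iso p' p') (fun h => lv0 p hp (sg_eq_zero A' _ h)) (S.inj h1)
      exact ⟨a • p', by rw [ha, lv_smul]⟩
    obtain ⟨P, hP⟩ := hex (1, 0) (fun h => one_ne_zero (congrArg Prod.fst h))
    obtain ⟨Q, hQ⟩ := hex (0, 1) (fun h => one_ne_zero (congrArg Prod.snd h))
    have hPQ : ∀ p : F × F, sg A' (RingEquiv.refl F) (lv u w p) = lv u w (p.1 • P + p.2 • Q) := by
      intro p
      have e1 : p = p.1 • (1, 0) + p.2 • (0, 1) := by ext <;> simp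
      conv_lhs => rw [e1, lv_add, lv_smul, lv_smul, sg_add, sg_smul, sg_smul, hP, hQ]
      rw [lv_add, lv_smul, lv_smul]
      rfl
    let L : (F × F) →ₗ[F] (F × F) :=
      { toFun := fun p => p.1 • P + p.2 • Q
        map_add' := fun p p' => by
          simp only [Prod.fst_add, Prod.snd_add]; module
        map_smul' := fun a p => by
          simp only [Prod.smul_fst, Prod.smul_snd, smul_eq_mul, RingHom.id_apply]; module }
    have hL : ∀ p, L p = p.1 • P + p.2 • Q := fun _ => rfl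
    have Linj : Function.Injective L := by
      rw [← LinearMap.ker_eq_bot, LinearMap.ker_eq_bot']
      intro p h
      by_contra hp
      have h1 := hPQ p
      rw [← hL, h] at h1
      have h2 : lv u w (0 : F × F) = 0 := by
        rw [lv_def, Prod.fst_zero, Prod.snd_zero, zero_smul, zero_smul, add_zero]
      rw [h2] at h1
      exact lv0 p hp (sg_eq_zero A' _ h1)
    refine ⟨LinearEquiv.ofInjectiveEndo L Linj, fun p hp => ?_⟩
    rw [hkz']
    exact hztv _ _ (isog p) (hPQ p)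
  · exact fun h => one_ne_zero (congrArg Prod.fst h)
  · have e1 : lv u w (1, 0) = u := by rw [lv_def, one_smul, zero_smul, add_zero]
    rw [← hztv (1, 0) u hu e1.symm]
    have h1 := S.tj (pr n F 2 g0)
    have h2 : j (pr n F 2 g0) * j (pr n F 2 (tv hF u hu)) * (j (pr n F 2 g0))⁻¹ = j (pr n F 2 (tv hF u hu)) := by
      rw [← map_inv, ← map_inv, ← map_mul, ← map_mul, ← map_mul, ← map_mul, conj_tv hF hu hu g0 hg0u]
    calc j (pr n F 2 g0) * y * t * (j (pr n F 2 g0) * y)⁻¹
        = j (pr n F 2 g0) * (y * t * y⁻¹) * (j (pr n F 2 g0))⁻¹ := by group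
      _ = j (pr n F 2 g0) * t * j (pr n F 2 (tv hF u hu)) * (j (pr n F 2 g0))⁻¹ := by rw [hy]; group
      _ = t * (j (pr n F 2 g0) * j (pr n F 2 (tv hF u hu)) * (j (pr n F 2 g0))⁻¹) := by rw [← h1]; group
      _ = _ := by rw [h2]
  · intro p p'
    ext <;> simp [add_mul]
  · intro a p
    ext <;> simp [mul_assoc]
  · intro p hp h
    apply hp
    have h1 := congrArg Prod.fst h
    have h2 := congrArg Prod.snd h
    simp only [Prod.fst_zero, Prod.snd_zero] at h1 h2
    refine Prod.ext ?_ ?_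
    · exact (map_eq_zero_iff ρ ρ.injective).1 ((mul_eq_zero.1 h1).resolve_right hc0)
    · exact (map_eq_zero_iff ρ ρ.injective).1 h2
  · intro p hp
    have h1 := hyP _ (hzP p)
    rw [toAut_tv hF (iso p p) (by rw [herm_sg, iso, map_zero]) A ρ rfl] at h1
    have h3 : act g0 (sg A ρ (lv u w p)) = lv u w (ρ p.1 * c, ρ p.2) := by
      rw [lv_def, sg_add, sg_smul, sg_smul, hc, ← hw2, act_add, act_smul, act_smul, act_smul, hg0u, hg0w, smul_smul,
        lv_def]
    rw [hz]
    calc j (pr n F 2 g0) * y * j (pr n F 2 (tv hF (lv u w p) (iso p p))) * (j (pr n F 2 g0) * y)⁻¹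
        = j (pr n F 2 g0) * (y * j (pr n F 2 (tv hF (lv u w p) (iso p p))) * y⁻¹) * (j (pr n F 2 g0))⁻¹ := by group
      _ = _ := by
        rw [h1, ← map_inv, ← map_inv, ← map_mul, ← map_mul, ← map_mul, ← map_mul,
          conj_tv hF _ (iso (ρ p.1 * c, ρ p.2) (ρ p.1 * c, ρ p.2)) g0 h3]

omit [CharP F 2] [Fintype F] in
theorem toAut_mem_PP {u : Fin n → F} {A : GU n F q} {ρ : F ≃+* F} {c : F} (hc0 : c ≠ 0) (hc : sg A ρ u = c • u)
    {x : PSU n F q} (hx : x ∈ PP q u) : toAut A ρ x ∈ PP q u := by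
  obtain ⟨g, hg, rfl⟩ := mem_PP.1 hx
  rw [Cfsg.Agent.ClassicalGeometry.PSUAutMain.toAut_pr', ← PP_smul hc0]
  refine mem_PP.2 ⟨_, ?_, rfl⟩
  rw [← hc, act_semiConj_sg, hg]

theorem tv_mul_self (hF : Fintype.card F = q ^ 2) {v : Fin n → F} (hv : hermForm n F q v v = 0) :
    tv hF v hv * tv hF v hv = 1 := by
  have two : (2 : F) = 0 := CharTwo.two_eq_zero
  apply ext_act
  intro x
  rw [act_mul, act_one, act_tv, act_tv, herm_add_left, herm_smul_left, hv, mul_zero, add_zero]
  funext i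
  simp only [Pi.add_apply, Pi.smul_apply, smul_eq_mul]
  linear_combination hermForm n F q x v * v i * two

theorem tv_mem_PP (hF : Fintype.card F = q ^ 2) {v : Fin n → F} (hv : hermForm n F q v v = 0) :
    pr n F q (tv hF v hv) ∈ PP q v := by
  refine mem_PP.2 ⟨_, ?_, rfl⟩
  rw [act_tv, hv, zero_smul, add_zero]

/-- A switch inducing a linear automorphism: its cube induces an inner one. -/
theorem inner_of_linear (hF : Fintype.card F = 2 ^ 2) {t : G} {j : PSU n F 2 →* G}
    {u : Fin n → F} (hu : hermForm n F 2 u u = 0) {y : G} (hy : y * t * y⁻¹ = t * j (pr n F 2 (tv hF u hu)))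
    {A : GU n F 2} {c : F} (hc : sg A (RingEquiv.refl F) u = c • u) (hc0 : c ≠ 0)
    (hyP : ∀ x ∈ PP 2 u, y * j x * y⁻¹ = j (toAut A (RingEquiv.refl F) x)) :
    ∃ n₀ : G, n₀ * t * n₀⁻¹ = t * j (pr n F 2 (tv hF u hu)) ∧
      ∃ p₀ ∈ PP 2 u, ∀ p ∈ PP 2 u, n₀ * j p * n₀⁻¹ = j (p₀ * p * p₀⁻¹) := by
  obtain ⟨s, hs, hsact⟩ := toAut_cube hF A
  have hc3 : c ^ 3 = 1 := by
    have := FiniteField.pow_card_sub_one_eq_one c hc0
    rwa [hF] at this
  have hsu : act s u = u := by
    rw [hsact, hc, sg_smul, hc, sg_smul, sg_smul, hc, smul_smul, smul_smul]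
    have : (RingEquiv.refl F) ((RingEquiv.refl F) c) * (RingEquiv.refl F) c * c = 1 := by
      change c * c * c = 1
      rw [← hc3]; ring
    rw [this, one_smul]
  set z := j (pr n F 2 (tv hF u hu)) with hz
  have hzz : z * z = 1 := by rw [hz, ← map_mul, ← map_mul, tv_mul_self, map_one, map_one]
  have hyz : y * z * y⁻¹ = z := by
    have h1 : hermForm n F 2 (c • u) (c • u) = 0 := by rw [herm_smul_left, herm_smul_right, hu]; ring
    rw [hz, hyP _ (tv_mem_PP hF hu), toAut_tv hF hu h1 A _ hc, tv_smul hF hu hc0]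
  refine ⟨y * (y * y), ?_, pr n F 2 s, mem_PP.2 ⟨s, hsu, rfl⟩, fun p hp => ?_⟩
  · calc y * (y * y) * t * (y * (y * y))⁻¹ = y * (y * (y * t * y⁻¹) * y⁻¹) * y⁻¹ := by group
      _ = y * (y * (t * z) * y⁻¹) * y⁻¹ := by rw [hy]
      _ = y * ((y * t * y⁻¹) * (y * z * y⁻¹)) * y⁻¹ := by group
      _ = y * (t * (z * z)) * y⁻¹ := by rw [hy, hyz]; group
      _ = t * z := by rw [hzz, mul_one, hy]
  · have h1 := toAut_mem_PP hc0 hc hp
    have h2 := toAut_mem_PP hc0 hc h1
    have h3 : toAut A (RingEquiv.refl F) (toAut A (RingEquiv.refl F) (toAut A (RingEquiv.refl F) p)) =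
        pr n F 2 s * p * (pr n F 2 s)⁻¹ := by
      rw [← MulAut.conj_apply, ← hs, pow_succ, pow_succ, pow_one, MulAut.mul_apply, MulAut.mul_apply]
    calc y * (y * y) * j p * (y * (y * y))⁻¹ = y * (y * (y * j p * y⁻¹) * y⁻¹) * y⁻¹ := by group
      _ = _ := by rw [hyP p hp, hyP _ h1, hyP _ h2, h3]

/-- **A switch inducing an inner automorphism on `PP u`**, `q = 2`. -/
theorem exists_inner (hF : Fintype.card F = 2 ^ 2) (hn : 6 ≤ n) {t : G} {j : PSU n F 2 →* G} (S : Sit n F 2 t j)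
    {u : Fin n → F} (hu0 : u ≠ 0) (hu : hermForm n F 2 u u = 0) {y : G}
    (hy : y * t * y⁻¹ = t * j (pr n F 2 (tv hF u hu)))
    (hyP : ∀ x ∈ PP 2 u, ∃ x' ∈ PP 2 u, y * j x * y⁻¹ = j x')
    (hyQ : ∀ x ∈ QQ hF u hu, ∃ x' ∈ QQ hF u hu, y * j x * y⁻¹ = j x') :
    ∃ n₀ : G, n₀ * t * n₀⁻¹ = t * j (pr n F 2 (tv hF u hu)) ∧
      ∃ p₀ ∈ PP 2 u, ∀ p ∈ PP 2 u, n₀ * j p * n₀⁻¹ = j (p₀ * p * p₀⁻¹) := by
  -- the automorphism of `PP u`
  have hyP' : ∀ x : ↥(PP 2 u : Subgroup (PSU n F 2)), ∃ x' : ↥(PP 2 u : Subgroup (PSU n F 2)),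
      y * j x * y⁻¹ = j x' := fun x => by
    obtain ⟨x', h, h'⟩ := hyP x x.2
    exact ⟨⟨x', h⟩, h'⟩
  choose b hb using hyP'
  have hbinj : Function.Injective b := by
    intro x x' h
    have h1 : y * j x * y⁻¹ = y * j x' * y⁻¹ := by rw [hb, hb, h]
    have h2 : j x = j x' := mul_left_cancel (mul_right_cancel h1)
    exact Subtype.ext (S.inj h2)
  have hbbij : Function.Bijective b := Finite.injective_iff_bijective.1 hbinj
  let β₀ : ↥(PP 2 u : Subgroup (PSU n F 2)) →* ↥(PP 2 u : Subgroup (PSU n F 2)) :=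
    MonoidHom.mk' b (fun x x' => by
      apply Subtype.ext
      apply S.inj
      rw [Subgroup.coe_mul, map_mul, ← hb, ← hb, ← hb, Subgroup.coe_mul, map_mul]
      group)
  let β : MulAut ↥(PP 2 u : Subgroup (PSU n F 2)) := MulEquiv.ofBijective β₀ hbbij
  have hβ : ∀ x, β x = b x := fun _ => rfl
  have hQle : QQ hF u hu ≤ PP 2 u := QQ_le_PP hF hu
  have hβQ : ∀ x : ↥(PP 2 u : Subgroup (PSU n F 2)), (x : PSU n F 2) ∈ QQ hF u hu → (β x : PSU n F 2) ∈ QQ hF u hu := by
    intro x hx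
    obtain ⟨x', hx', h⟩ := hyQ x hx
    rw [hβ]
    have : (b x : PSU n F 2) = x' := S.inj (by rw [← hb, h])
    rw [this]; exact hx'
  have hPres : PresQ hF hu β := by
    intro x
    refine ⟨hβQ x, fun hx => ?_⟩
    -- `β` maps `QQ` onto itself
    let QP : Subgroup ↥(PP 2 u : Subgroup (PSU n F 2)) := (QQ hF u hu).subgroupOf (PP 2 u)
    have hle : QP.map (β : ↥(PP 2 u : Subgroup (PSU n F 2)) →* ↥(PP 2 u : Subgroup (PSU n F 2))) ≤ QP := by
      rintro _ ⟨w, hw, rfl⟩
      exact hβQ w hw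
    have hcard : Nat.card (QP.map (β : ↥(PP 2 u : Subgroup (PSU n F 2)) →* ↥(PP 2 u : Subgroup (PSU n F 2)))) =
        Nat.card QP := (Nat.card_congr (Subgroup.equivMapOfInjective _ _ β.injective).toEquiv).symm
    have heq := Subgroup.eq_of_le_of_card_ge hle hcard.ge
    have h1 : β x ∈ QP := hx
    rw [← heq] at h1
    obtain ⟨w, hw, hwx⟩ := h1
    have : w = x := β.injective hwx
    rw [← this]
    exact hw
  obtain ⟨α, hα⟩ := ext_point hF hn hu0 hu hPres
  have hyα : ∀ x ∈ PP 2 u, y * j x * y⁻¹ = j (α x) := by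
    intro x hx
    have h1 := hα ⟨x, hx⟩
    rw [← h1]
    exact hb ⟨x, hx⟩
  obtain ⟨A, ρ, rfl⟩ := Cfsg.Agent.ClassicalGeometry.PSUAutMain.exists_toAut hF (by omega) (by omega) α
  -- the centre is fixed
  set z := pr n F 2 (tv hF u hu) with hz
  have hzR : z ∈ RR hF u hu := mem_RR.2 ⟨_, _, rfl⟩
  have hzP : z ∈ PP 2 u := tv_mem_PP hF hu
  have hz1 : z ≠ 1 := by
    intro h0
    obtain ⟨f, -, huf, hfu⟩ := exists_partner hF hu0 hu
    have h2 : pr n F 2 (siegel hF u 0 1 (isSiegel_zero hu one_tr)) =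
        pr n F 2 (siegel hF u 0 0 (isSiegel_zero hu (by ring))) := by
      rw [siegel_zero, map_one]; exact h0
    have h3 := siegel_pr_inj hF (by omega) _ _ h2
    have h4 := congrArg (fun g => act g f) h3
    simp only [act_siegel] at h4
    rw [hfu, herm_zero_right hF, smul_zero, add_zero, add_right_inj, mul_one, mul_one, sub_zero, sub_zero, one_smul,
      zero_smul] at h4
    exact hu0 h4
  have hRR : ∀ x ∈ RR hF u hu, x = 1 ∨ x = z := by
    intro x hx
    obtain ⟨μ, hμ, rfl⟩ := mem_RR.1 hx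
    rcases zero_or_one_of_trace hμ with rfl | rfl
    · left; rw [transv_zero, map_one]
    · right; rfl
  have hαz : toAut A ρ z = z := by
    have h1 : (β ⟨z, hzP⟩ : PSU n F 2) ∈ RR hF u hu := hPres.map_RR (by omega) hu0 hzR
    rw [hα] at h1
    rcases hRR _ h1 with h2 | h2
    · exact absurd ((map_eq_one_iff _ (toAut A ρ).injective).1 h2) hz1
    · exact h2
  obtain ⟨c, hc0, hc⟩ := scalar_of_fix_transv hF (by omega) A ρ hu0 one_ne_zero (isSiegel_zero hu one_tr) hαz
  by_cases hρ : ρ = RingEquiv.refl F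
  · subst hρ
    exact inner_of_linear hF hu hy hc hc0 hyα
  by_cases hlin : ∀ k : G, k * t = t * k → ∀ (A : GU n F 2) (ρ : F ≃+* F),
      (∀ x, k * j x * k⁻¹ = j (toAut A ρ x)) → ρ = RingEquiv.refl F
  · exact (no_semi hF hn S hlin hu0 hu hy hρ hc hc0 hyα).elim
  push Not at hlin
  obtain ⟨k, hk, A', ρ', hk', hρ'⟩ := hlin
  -- both field automorphisms are the Frobenius
  have hρρ' : ρ.trans ρ' = RingEquiv.refl F := by
    obtain ⟨ω, hω, hall⟩ := exists_omega hF
    obtain ⟨h1, -⟩ := aut_four hρ hω hall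
    obtain ⟨h2, h3⟩ := aut_four hρ' hω hall
    have h4 : ρ' (ρ ω) = ω := by rw [h1, ← h2, h3]
    ext x
    change ρ' (ρ x) = x
    rcases hall x with rfl | rfl | rfl | rfl
    · rw [map_zero, map_zero]
    · rw [map_one, map_one]
    · exact h4
    · rw [map_add, map_add, h4, map_one, map_one]
  have hw0 : sg A' ρ' u ≠ 0 := fun h => hu0 (sg_eq_zero A' ρ' h)
  have hw : hermForm n F 2 (sg A' ρ' u) (sg A' ρ' u) = 0 := by rw [herm_sg, hu, map_zero]
  obtain ⟨g, -, hg⟩ := exists_map_iso hF (by omega) le_rfl (mem_coordSub_top (sg A' ρ' u)) (mem_coordSub_top u)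
    hw0 hu0 hw hu
  obtain ⟨B, hB, hBv⟩ := toAut_conj_left hF g A' ρ'
  obtain ⟨B', hB', hBv'⟩ := toAut_mul hF A B ρ ρ'
  rw [hρρ'] at hB' hBv'
  have hBu : sg B ρ' u = u := by rw [hBv, hg]
  have hkx : ∀ x, (j (pr n F 2 g) * k) * j x * (j (pr n F 2 g) * k)⁻¹ = j (toAut B ρ' x) := by
    intro x
    rw [← hB, MulAut.mul_apply, MulAut.conj_apply, map_mul, map_mul, map_inv, ← hk']
    group
  have hkt : (j (pr n F 2 g) * k) * t * (j (pr n F 2 g) * k)⁻¹ = t := by
    have h1 := S.tj (pr n F 2 g)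
    calc (j (pr n F 2 g) * k) * t * (j (pr n F 2 g) * k)⁻¹
        = j (pr n F 2 g) * (k * t) * k⁻¹ * (j (pr n F 2 g))⁻¹ := by group
      _ = j (pr n F 2 g) * t * (j (pr n F 2 g))⁻¹ := by rw [hk]; group
      _ = t := by rw [← h1]; group
  have hBz : toAut B ρ' z = z := by
    rw [hz, toAut_tv hF hu hu B ρ' hBu]
  refine inner_of_linear hF hu (y := j (pr n F 2 g) * k * y) ?_ (A := B') (c := ρ' c) ?_ ?_ ?_
  · calc j (pr n F 2 g) * k * y * t * (j (pr n F 2 g) * k * y)⁻¹
        = (j (pr n F 2 g) * k) * (y * t * y⁻¹) * (j (pr n F 2 g) * k)⁻¹ := by group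
      _ = ((j (pr n F 2 g) * k) * t * (j (pr n F 2 g) * k)⁻¹) *
          ((j (pr n F 2 g) * k) * j z * (j (pr n F 2 g) * k)⁻¹) := by rw [hy]; group
      _ = t * j z := by rw [hkt, hkx, hBz]
  · rw [hBv', hc, sg_smul, hBu]
  · rw [map_ne_zero_iff ρ' ρ'.injective]; exact hc0
  · intro x hx
    calc j (pr n F 2 g) * k * y * j x * (j (pr n F 2 g) * k * y)⁻¹
        = (j (pr n F 2 g) * k) * (y * j x * y⁻¹) * (j (pr n F 2 g) * k)⁻¹ := by group
      _ = _ := by rw [hyα x hx, hkx, ← MulAut.mul_apply, hB']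

end Main

end Cfsg.Agent.OddHalf.D7.Uni.PentGlue
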