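import Cfsg.Agent.OddHalf.D7.Uni.ConstInst

/-!
# ODD D7, `K = PSU_n(q)`: (c01) for involutions of `C(t)` normalising the points of a frame

`c01`: `g ∈ C(t)`, `g² = 1`, `g` normalises `X_v`, `X_{v'}`, `X_u`, `X_{u'}` for two orthogonal hyperbolic pairs:
`g` or `t g` centralises `W v`.
-/

set_option autoImplicit false
set_option linter.unusedSectionVars false

namespace Cfsg.Agent.OddHalf.D7.Uni.ConstInst

open Cfsg Cfsg.Agent.LieClassical.HermBasic Cfsg.Agent.LieClassical.HermSiegel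
  Cfsg.Agent.LieClassical.HermGen Cfsg.Agent.LieClassical.SUBasic Matrix
  Cfsg.Agent.ClassicalGeometry.PSUAutBasic Cfsg.Agent.ClassicalGeometry.PSUAutSylow
  Cfsg.Agent.ClassicalGeometry.PSUAutUnip Cfsg.Agent.ClassicalGeometry.PSUAutPhi
  Cfsg.Agent.KFacts.Unit Cfsg.Agent.OddHalf.D7.Uni.Face Cfsg.Agent.OddHalf.D7.Uni.Equiv
  Cfsg.Agent.OddHalf.D7.Uni.FaceR Cfsg.Agent.OddHalf.D7Out

open Cfsg.Agent.ClassicalGeometry.PSUAutCount (gm semiConj toAut act_semiConj)

variable {F : Type*} [Field F] [Fintype F] {q n : ℕ} {G : Type*} [Group G] {t g : G} {j : PSU n F q →* G}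

/-- The involution of `Aut(F)`. -/
theorem frob_of_invol [CharP F 2] (hF : Fintype.card F = q ^ 2) {ρ : F ≃+* F} (h2 : ∀ x, ρ (ρ x) = x)
    (hne : ∃ x, ρ x ≠ x) : ∀ x, ρ x = x ^ q := by
  classical
  let _ := ZMod.algebra F 2
  have key : ∀ (τ : F ≃+* F) (r : ZMod 2), τ (algebraMap (ZMod 2) F r) = algebraMap (ZMod 2) F r := fun τ r =>
    RingHom.congr_fun (Subsingleton.elim ((τ : F →+* F).comp (algebraMap (ZMod 2) F)) (algebraMap (ZMod 2) F)) r
  let ρ' : F ≃ₐ[ZMod 2] F := AlgEquiv.ofRingEquiv (key ρ)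
  let σ' : F ≃ₐ[ZMod 2] F := AlgEquiv.ofRingEquiv (key (conj hF))
  by_contra hcon
  push Not at hcon
  obtain ⟨y, hy⟩ := hcon
  obtain ⟨x, hx⟩ := hne
  obtain ⟨z, hz⟩ := exists_not_fixed hF
  have h1 : ρ' ≠ σ' := fun h => hy (DFunLike.congr_fun h y)
  have h3 : (1 : F ≃ₐ[ZMod 2] F) ≠ ρ' := fun h => hx (DFunLike.congr_fun h x).symm
  have h4 : (1 : F ≃ₐ[ZMod 2] F) ≠ σ' := fun h => hz (DFunLike.congr_fun h z).symm
  have hc := IsCyclic.card_pow_eq_one_le (α := F ≃ₐ[ZMod 2] F) (n := 2) two_pos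
  have h5 : ({1, ρ', σ'} : Finset (F ≃ₐ[ZMod 2] F)) ⊆ Finset.univ.filter (fun a => a ^ 2 = 1) := by
    intro a ha
    rw [Finset.mem_filter]
    refine ⟨Finset.mem_univ _, ?_⟩
    simp only [Finset.mem_insert, Finset.mem_singleton] at ha
    rcases ha with rfl | rfl | rfl
    · exact one_pow 2
    · ext w
      rw [pow_two]
      exact h2 w
    · ext w
      rw [pow_two]
      exact pow_q_pow_q hF w
  have h6 := Finset.card_le_card h5
  rw [Finset.card_insert_of_notMem (by simp [h3, h4]), Finset.card_insert_of_notMem (by simpa using h1),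
    Finset.card_singleton] at h6
  omega

/-- A nontrivial transvection determines its point. -/
theorem pt_of_mem (hF : Fintype.card F = q ^ 2) (hn : 3 ≤ n) {u u' : Fin n → F} (hu0 : u ≠ 0)
    {hu : hermForm n F q u u = 0} {hu' : hermForm n F q u' u' = 0} {μ : F} (hμ0 : μ ≠ 0) (hμ : μ + μ ^ q = 0)
    (h : pr n F q (transv hF u hu μ hμ) ∈ RR hF u' hu') : ∃ c : F, c ≠ 0 ∧ u' = c • u := by
  obtain ⟨μ', hμ', h2⟩ := mem_RR.1 h
  have h3 := siegel_pr_inj hF hn _ _ h2
  obtain ⟨f, -, huf, hfu⟩ := exists_partner hF hu0 hu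
  have h4 := congrArg (fun g => act g f) h3
  have h5 : f + (μ * 1) • u = f + (μ' * hermForm n F q f u') • u' := by
    have h6 := act_transv hF hu hμ f
    have h7 := act_transv hF hu' hμ' f
    rw [hfu] at h6
    rw [← h6, ← h7]
    exact h4
  rw [add_right_inj, mul_one] at h5
  have hne : μ' * hermForm n F q f u' ≠ 0 := by
    intro h0
    rw [h0, zero_smul, smul_eq_zero] at h5
    rcases h5 with h | h
    · exact hμ0 h
    · exact hu0 h
  refine ⟨(μ' * hermForm n F q f u')⁻¹ * μ, mul_ne_zero (inv_ne_zero hne) hμ0, ?_⟩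
  rw [mul_smul, h5, smul_smul, inv_mul_cancel₀ hne, one_smul]

omit [Fintype F] in
theorem sg_iso {A : GU n F q} {ρ : F ≃+* F} {x : Fin n → F} (hx : hermForm n F q x x = 0) :
    hermForm n F q (sg A ρ x) (sg A ρ x) = 0 := by
  rw [herm_sg, hx, map_zero]

/-- `g` normalises `X_x`: it fixes the point. -/
theorem fix_of_norm (hF : Fintype.card F = q ^ 2) (hn : 3 ≤ n) (S : Sit n F q t j) {A : GU n F q} {ρ : F ≃+* F}
    (D : Semi t j g A ρ) {x : Fin n → F} (hx0 : x ≠ 0) (hx : hermForm n F q x x = 0)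
    (hg : ∀ y ∈ (RR hF x hx).map j, g * y * g⁻¹ ∈ (RR hF x hx).map j) : ∃ c : F, c ≠ 0 ∧ sg A ρ x = c • x := by
  obtain ⟨μ, hμ0, hμ⟩ := exists_trace_zero_ne hF
  have hρ : ρ.symm μ + ρ.symm μ ^ q = 0 := by rw [← map_pow, ← map_add, hμ, map_zero]
  have h1 : pr n F q (transv hF x hx (ρ.symm μ) hρ) ∈ RR hF x hx := mem_RR.2 ⟨_, hρ, rfl⟩
  have hs0 : sg A ρ x ≠ 0 := fun h => hx0 (sg_eq_zero A ρ h)
  obtain ⟨y, hy, e⟩ := hg _ ⟨_, h1, rfl⟩
  have h2 : g * j (pr n F q (transv hF x hx (ρ.symm μ) hρ)) * g⁻¹ =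
      j (pr n F q (semiConj A ρ (transv hF x hx (ρ.symm μ) hρ))) := D.conj _
  rw [h2] at e
  have h3 := S.inj e
  have h4 : semiConj A ρ (transv hF x hx (ρ.symm μ) hρ) = transv hF (sg A ρ x) (sg_iso hx) μ hμ := by
    rw [transv, Cfsg.Agent.ClassicalGeometry.PSUAutExt.semiConj_siegel, transv]
    refine siegel_congr hF _ _ rfl ?_ (ρ.apply_symm_apply μ)
    exact sg_zero A ρ
  rw [h4] at h3
  rw [h3] at hy
  obtain ⟨c, hc0, hc⟩ := pt_of_mem hF hn hs0 hμ0 hμ hy
  refine ⟨c⁻¹, inv_ne_zero hc0, ?_⟩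
  conv_rhs => rw [hc]
  rw [smul_smul, inv_mul_cancel₀ hc0, one_smul]

/-- The square of the semilinear isometry of an involution is a scalar. -/
theorem scalar_of_sq (hF : Fintype.card F = q ^ 2) (hn : 3 ≤ n) (S : Sit n F q t j) {A : GU n F q} {ρ : F ≃+* F}
    (D : Semi t j g A ρ) (gg : g * g = 1) : (∀ x, ρ (ρ x) = x) ∧ ∃ b : F, b ≠ 0 ∧ ∀ x, sg A ρ (sg A ρ x) = b • x := by
  obtain ⟨μ, hμ0, hμ⟩ := exists_trace_zero_ne hF
  set B : Matrix (Fin n) (Fin n) F := gm A * (gm A).map ρ with hB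
  have hBx : ∀ x : Fin n → F, (B *ᵥ fun i => (ρ.trans ρ) (x i)) = sg A ρ (sg A ρ x) := by
    intro x
    rw [hB, ← Matrix.mulVec_mulVec, sg_def, sg_def]
    congr 1
    funext i
    simp [Matrix.mulVec, dotProduct, map_sum]
  have hB0 : B ≠ 0 := by
    intro h
    have h1 := hBx (Pi.single (⟨0, by omega⟩ : Fin n) 1)
    rw [h, Matrix.zero_mulVec] at h1
    have h2 := sg_eq_zero A ρ (sg_eq_zero A ρ h1.symm)
    have h3 := congrFun h2 ⟨0, by omega⟩
    simp at h3
  obtain ⟨h1, b, hb0, hb⟩ := Cfsg.Agent.ClassicalGeometry.PSUAutCount.scalar_of_isotropic hF hn hB0 (ψ := ρ.trans ρ) (by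
    intro x hx hx0
    rw [hBx]
    have h1 : g * (g * fj n F q j (transv hF x hx μ hμ) * g⁻¹) * g⁻¹ = fj n F q j (transv hF x hx μ hμ) := by
      calc g * (g * fj n F q j (transv hF x hx μ hμ) * g⁻¹) * g⁻¹
          = (g * g) * fj n F q j (transv hF x hx μ hμ) * (g * g)⁻¹ := by group
        _ = _ := by rw [gg]; group
    rw [D.conj, D.conj] at h1
    have h2 := S.inj h1
    have h3 : pr n F q (semiConj A ρ (semiConj A ρ (transv hF x hx μ hμ))) ∈
        RR hF (sg A ρ (sg A ρ x)) (sg_iso (sg_iso hx)) := by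
      have h4 : pr n F q (transv hF x hx μ hμ) ∈ RR hF x hx := mem_RR.2 ⟨_, hμ, rfl⟩
      have h5 := (Cfsg.Agent.ClassicalGeometry.PSUAutMain.toAut_RR hF A ρ hx (sg_iso hx) rfl _).1 h4
      exact (Cfsg.Agent.ClassicalGeometry.PSUAutMain.toAut_RR hF A ρ (sg_iso hx) (sg_iso (sg_iso hx)) rfl _).1 h5
    rw [h2] at h3
    obtain ⟨c, -, hc⟩ := pt_of_mem hF hn hx0 hμ0 hμ h3
    exact ⟨c, hc⟩)
  refine ⟨h1, b, hb0, fun x => ?_⟩
  rw [← hBx, hb, Matrix.smul_mulVec, Matrix.one_mulVec]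
  congr 1
  funext i
  exact h1 (x i)

/-- Hilbert 90. -/
theorem exists_hilb [CharP F 2] (hF : Fintype.card F = q ^ 2) {c : F} (hc : c * c ^ q = 1) :
    ∃ d : F, d ≠ 0 ∧ d ^ q * c = d := by
  have key : ∀ x : F, (x + x ^ q * c) ^ q * c = x + x ^ q * c := by
    intro x
    rw [add_pow_q hF, mul_pow, pow_q_pow_q hF]
    linear_combination x * hc
  by_cases h1 : c = 1
  · exact ⟨1, one_ne_zero, by rw [one_pow, h1, mul_one]⟩
  · refine ⟨_, ?_, key 1⟩
    intro h
    rw [one_pow, one_mul, CharTwo.add_eq_zero] at h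
    exact h1 h.symm

theorem P2.smul2 (hF : Fintype.card F = q ^ 2) {v v' u u' : Fin n → F} (H : P2 q v v' u u') {d e : F} (hd : d ≠ 0)
    (he : e ≠ 0) : P2 q (d • v) ((d ^ q)⁻¹ • v') (e • u) ((e ^ q)⁻¹ • u') := by
  have e1 : d * ((d ^ q)⁻¹) ^ q = 1 := by rw [inv_pow, pow_q_pow_q hF, mul_inv_cancel₀ hd]
  have e2 : (d ^ q)⁻¹ * d ^ q = 1 := inv_mul_cancel₀ (pow_ne_zero _ hd)
  have e3 : e * ((e ^ q)⁻¹) ^ q = 1 := by rw [inv_pow, pow_q_pow_q hF, mul_inv_cancel₀ he]
  have e4 : (e ^ q)⁻¹ * e ^ q = 1 := inv_mul_cancel₀ (pow_ne_zero _ he)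
  constructor <;>
    simp only [herm_smul_left, herm_smul_right, H.pp, H.p'p', H.pp', H.p'p, H.rr,
      H.r'r', H.rr', H.r'r, H.pr, H.rp, H.pr', H.r'p, H.p'r, H.rp', H.p'r', H.r'p', mul_zero, mul_one] <;>
    first
      | done
      | linear_combination e1
      | linear_combination e2
      | linear_combination e3
      | linear_combination e4

section c01

variable [CharP F 2] {hF : Fintype.card F = q ^ 2} {v v' u u' : Fin n → F} {W R : (Fin n → F) → Subgroup G}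

/-- **(c01).** -/
theorem c01 (Y : RF hF t j W R) (hn : 6 ≤ n) (H : P2 q v v' u u') (gt : g * t = t * g) (gg : g * g = 1)
    (gv : ∀ x ∈ (RR hF v H.pp).map j, g * x * g⁻¹ ∈ (RR hF v H.pp).map j)
    (gv' : ∀ x ∈ (RR hF v' H.p'p').map j, g * x * g⁻¹ ∈ (RR hF v' H.p'p').map j)
    (gu : ∀ x ∈ (RR hF u H.rr).map j, g * x * g⁻¹ ∈ (RR hF u H.rr).map j)
    (gu' : ∀ x ∈ (RR hF u' H.r'r').map j, g * x * g⁻¹ ∈ (RR hF u' H.r'r').map j) :
    (∀ w ∈ W v, g * w = w * g) ∨ (∀ w ∈ W v, (t * g) * w = w * (t * g)) := by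
  have S := Y.toSit
  obtain ⟨A, ρ, D⟩ := exists_semi S hF (by omega) gt
  have hv0 : v ≠ 0 := H.p_ne
  have hu0 : u ≠ 0 := H.r_ne
  have hv'0 : v' ≠ 0 := by
    rintro h
    have := H.p'p
    rw [h, herm_zero_left] at this
    exact zero_ne_one this
  have hu'0 : u' ≠ 0 := by
    rintro h
    have := H.r'r
    rw [h, herm_zero_left] at this
    exact zero_ne_one this
  obtain ⟨c, hc0, hc⟩ := fix_of_norm hF (by omega) S D hv0 H.pp gv
  obtain ⟨c', hc'0, hc'⟩ := fix_of_norm hF (by omega) S D hv'0 H.p'p' gv'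
  obtain ⟨e, he0, he⟩ := fix_of_norm hF (by omega) S D hu0 H.rr gu
  obtain ⟨e', he'0, he'⟩ := fix_of_norm hF (by omega) S D hu'0 H.r'r' gu'
  obtain ⟨hρ, b, hb0, hb⟩ := scalar_of_sq hF (by omega) S D gg
  -- `b b ^ q = 1`
  have hbb : b * b ^ q = 1 := by
    have h1 := herm_sg A ρ (sg A ρ v) (sg A ρ v')
    rw [hb, hb, herm_sg, hρ, herm_smul_left, herm_smul_right, H.pp', mul_one] at h1
    exact h1
  have hcb : ∀ {x : Fin n → F} {a : F}, x ≠ 0 → sg A ρ x = a • x → ρ a * a = b := by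
    intro x a hx0 hx
    have h1 := hb x
    rw [hx, sg_smul, hx, smul_smul] at h1
    have h2 : (ρ a * a - b) • x = 0 := by rw [sub_smul, h1, sub_self]
    rcases smul_eq_zero.1 h2 with h3 | h3
    · exact sub_eq_zero.1 h3
    · exact absurd h3 hx0
  by_cases hlin : ∀ x, ρ x = x
  · -- linear
    have hρ1 : ρ = RingEquiv.refl F := RingEquiv.ext hlin
    subst hρ1
    have hcc : c * c = b := hcb hv0 hc
    have hci : c⁻¹ * c⁻¹ ^ q = 1 := by
      have h1 : (c * c ^ q) * (c * c ^ q) = 1 := by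
        have h2 : (c * c) * (c * c) ^ q = 1 := by rw [hcc, hbb]
        rw [mul_pow] at h2
        linear_combination h2
      have h3 : c * c ^ q = 1 := by
        have h9 : (c * c ^ q + 1) * (c * c ^ q + 1) = 0 := by
          have h10 := CharTwo.add_self_eq_zero (c * c ^ q)
          have h11 := CharTwo.add_self_eq_zero (1 : F)
          linear_combination h1 + h10 + h11
        have h10 := mul_self_eq_zero.1 h9
        rwa [CharTwo.add_eq_zero] at h10
      rw [inv_pow, ← mul_inv, h3, inv_one]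
    have hsq : ∀ x, c⁻¹ • sg A (RingEquiv.refl F) (c⁻¹ • sg A (RingEquiv.refl F) x) = x := by
      intro x
      rw [sg_smul, hb, smul_smul, smul_smul, RingEquiv.refl_apply, ← hcc]
      have : c⁻¹ * c⁻¹ * (c * c) = 1 := by
        field_simp
      rw [this, one_smul]
    obtain ⟨s, hs⟩ := exists_SU_of_isometry hF A hci (fun x => by
      have h1 : sg A (RingEquiv.refl F) (c⁻¹ • sg A (RingEquiv.refl F) x - x) =
          sg A (RingEquiv.refl F) (c⁻¹ • sg A (RingEquiv.refl F) x) - sg A (RingEquiv.refl F) x := by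
        rw [sub_eq_add_neg, sg_add, sub_eq_add_neg]
        congr 1
        have h2 := sg_smul A (RingEquiv.refl F) (-1) x
        rw [neg_smul, one_smul, map_neg, map_one, neg_smul, one_smul] at h2
        exact h2
      rw [h1, smul_sub, hsq]
      funext i
      simp only [Pi.sub_apply, CharTwo.sub_eq_add]
      exact add_comm _ _)
    have hin := toAut_eq_conj A (inv_ne_zero hc0) hs
    have hsv : act s v = v := by rw [hs, hc, smul_smul, inv_mul_cancel₀ hc0, one_smul]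
    have hg : ∀ x, g * j x * g⁻¹ = j (MulAut.conj (pr n F q s) x) := by
      intro x
      obtain ⟨k, rfl⟩ := pr_surjective x
      rw [← hin]
      exact D.conj k
    rcases S.eq_or gt hg with h1 | h1
    · left
      intro w hw
      rw [h1]
      exact (Y.cent hv0 H.pp w hw s hsv).symm
    · right
      intro w hw
      rw [h1, ← mul_assoc, Y.tt, one_mul]
      exact (Y.cent hv0 H.pp w hw s hsv).symm
  · -- field
    push Not at hlin
    have hfr := frob_of_invol hF hρ hlin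
    have hb1 : b = 1 := by
      have h1 : c ^ q * c = b := by rw [← hfr]; exact hcb hv0 hc
      have h2 : b ^ q = b := by rw [← h1, mul_pow, pow_q_pow_q hF, mul_comm]
      rw [h2] at hbb
      have h9 : (b + 1) * (b + 1) = 0 := by
        have h10 := CharTwo.add_self_eq_zero b
        have h11 := CharTwo.add_self_eq_zero (1 : F)
        linear_combination hbb + h10 + h11
      have h10 := mul_self_eq_zero.1 h9
      rwa [CharTwo.add_eq_zero] at h10
    have hcc : c * c ^ q = 1 := by rw [mul_comm, ← hfr, hcb hv0 hc, hb1]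
    have hee : e * e ^ q = 1 := by rw [mul_comm, ← hfr, hcb hu0 he, hb1]
    have hc'c : c' * c' ^ q = 1 := by rw [mul_comm, ← hfr, hcb hv'0 hc', hb1]
    have he'e : e' * e' ^ q = 1 := by rw [mul_comm, ← hfr, hcb hu'0 he', hb1]
    have hcc' : c' = c := by
      have h1 := herm_sg A ρ v v'
      rw [hc, hc', herm_smul_left, herm_smul_right, H.pp', map_one, mul_one] at h1
      have h2 : c' ^ q ≠ 0 := pow_ne_zero _ hc'0
      exact mul_right_cancel₀ h2 (hc'c.trans h1.symm)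
    have hee' : e' = e := by
      have h1 := herm_sg A ρ u u'
      rw [he, he', herm_smul_left, herm_smul_right, H.rr', map_one, mul_one] at h1
      have h2 : e' ^ q ≠ 0 := pow_ne_zero _ he'0
      exact mul_right_cancel₀ h2 (he'e.trans h1.symm)
    obtain ⟨d, hd0, hd⟩ := exists_hilb hF hcc
    obtain ⟨f, hf0, hf⟩ := exists_hilb hF hee
    have H' := P2.smul2 hF H hd0 hf0
    have e1 : ∀ {d c : F}, d ≠ 0 → d ^ q * c = d → ρ (d ^ q)⁻¹ * c = (d ^ q)⁻¹ := by
      intro d c hd0 hd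
      have h1 : d ^ q ≠ 0 := pow_ne_zero _ hd0
      rw [map_inv₀, hfr, pow_q_pow_q hF]
      field_simp
      linear_combination hd
    have D' : Fld t j g A ρ (d • v) ((d ^ q)⁻¹ • v') (f • u) ((f ^ q)⁻¹ • u') :=
      { toSemi := D
        gg := gg
        fr := hfr
        fv := by rw [sg_smul, hc, smul_smul, hfr, hd]
        fv' := by rw [sg_smul, hc', smul_smul, hcc', e1 hd0 hd]
        fu := by rw [sg_smul, he, smul_smul, hfr, hf]
        fu' := by rw [sg_smul, he', smul_smul, hee', e1 hf0 hf] }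
    have h1 := cent_or_fld Y hn H' D'
    rwa [Y.smul hv0 H.pp hd0] at h1

end c01

end Cfsg.Agent.OddHalf.D7.Uni.ConstInst
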