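import Cfsg.Agent.OddHalf.D7.Uni.FaceInv

/-!
# ODD D7, `K = PSU_n(q)`, `q` even, `n ≥ 6`: the growth `U ≤ U*` in one statement

`Gr t U Us T W X`: the fields of `D7Out.TwEnd.Dat` which come from the growth. `gr`: they hold for the doubled unipotent
group `Us = FaceFrame.US` of a Witt frame, `T = U P`, `P ≤ C(t)` normalising the root groups of the frame.
-/

set_option autoImplicit false
set_option linter.unusedSectionVars false

namespace Cfsg.Agent.OddHalf.D7.Uni.Grow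

open Cfsg Cfsg.Agent.LieClassical.HermBasic Cfsg.Agent.LieClassical.HermSiegel
  Cfsg.Agent.LieClassical.HermGen Cfsg.Agent.LieClassical.SUBasic
  Cfsg.Agent.ClassicalGeometry.PSUAutBasic Cfsg.Agent.ClassicalGeometry.PSUAutSylow
  Cfsg.Agent.ClassicalGeometry.PSUAutUnip Cfsg.Agent.ClassicalGeometry.PSUAutPhi
  Cfsg.Agent.KFacts.Unit Cfsg.Agent.KFacts.Unit.Flag Cfsg.Agent.KFacts.Unit.FlagMap
  Cfsg.Agent.OddHalf.D7.Uni.Face Cfsg.Agent.OddHalf.D7.Uni.Norm Cfsg.Agent.OddHalf.D7.Uni.Layers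
  Cfsg.Agent.OddHalf.D7.Uni.FrameLayers Cfsg.Agent.OddHalf.D7.Uni.FaceR Cfsg.Agent.OddHalf.D7.Uni.FaceFrame
  Cfsg.Agent.OddHalf.D7.Uni.FaceInv

/-- The fields of `TwEnd.Dat` which come from the growth. -/
structure Gr {G : Type*} [Group G] (t : G) (U Us T W X : Subgroup G) : Prop where
  U_Us : U ≤ Us
  Us2 : IsPGroup 2 Us
  T_Us : ∀ x ∈ T, ∀ y ∈ Us, x * y * x⁻¹ ∈ Us
  CUs : ∀ x ∈ Us, x * t = t * x → x ∈ U
  W_Us : W ≤ Us
  W_cent : ∀ w ∈ W, ∀ x ∈ Us, w * x = x * w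
  hfree : ∀ x ∈ Us, t * x * (t * x) = 1 → ∃ y ∈ Us, y * t * y⁻¹ = t * x
  cardW : Nat.card W = Nat.card X ^ 2
  X_ne : X ≠ ⊥

variable {F : Type*} [Field F] [Fintype F] {q n : ℕ} {G : Type*} [Group G]
  {hF : Fintype.card F = q ^ 2} {t : G} {j : PSU n F q →* G} {W : (Fin n → F) → Subgroup G}
  {m : ℕ} {e f : ℕ → Fin n → F}

/-- **The growth.** -/
theorem gr [CharP F 2] (D : Dbl hF t j W) (hn : 6 ≤ n) (h : Flag.Fr q m e f) (hm : 3 ≤ m) {T P : Subgroup G}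
    (hT : ∀ x ∈ T, ∃ u ∈ (Chain.pr (QS q e f) m).map (fj n F q j), ∃ p ∈ P, x = u * p)
    (hPt : ∀ p ∈ P, p * t = t * p)
    (hPe : ∀ p ∈ P, ∀ i (hi : i < m), ∀ y ∈ XP hF j (e i) (h.ee i hi i hi), p * y * p⁻¹ ∈ XP hF j (e i) (h.ee i hi i hi))
    (hPf : ∀ p ∈ P, ∀ i (hi : i < m), ∀ y ∈ XP hF j (f i) (h.ff i hi i hi),
      p * y * p⁻¹ ∈ XP hF j (f i) (h.ff i hi i hi)) :
    ∃ Us : Subgroup G, Gr t ((Chain.pr (QS q e f) m).map (fj n F q j)) Us T (W (e 0))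
      (XP hF j (e 0) (h.ee 0 (by omega) 0 (by omega))) := by
  obtain ⟨ρ, Rh⟩ := exists_rho hF h
  have RD := rf D hn
  have tt := D.tt
  have ht : t⁻¹ = t := inv_eq_of_mul_eq_one_left tt
  have hU : ∀ x, x ∈ (Chain.pr (QS q e f) m).map (fj n F q j) ↔ x ∈ US (Rt hF j W) j m e ρ ∧ t * x * t = x :=
    fun x => mem_U_iff RD (by omega) h Rh hm
  have hPi : ∀ p ∈ P, ∀ x ∈ US (Rt hF j W) j m e ρ, p * x * p⁻¹ ∈ US (Rt hF j W) j m e ρ := by
    intro p hp x hx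
    have hpi := inv_mem hp
    refine FaceInv.conj_US D hn h Rh hm (hPt p hp) (fun i hi => ⟨?_, ?_, ?_⟩) hx
    · rw [Xd_eq (h.ee i hi i hi)]
      exact hPe p hp i hi
    · rw [Xd_eq (h.ee i hi i hi)]
      intro y hy
      have := hPe _ hpi i hi y hy
      rwa [inv_inv] at this
    · rw [Xd_eq (h.ff i hi i hi)]
      intro y hy
      have := hPf _ hpi i hi y hy
      rwa [inv_inv] at this
  refine ⟨US (Rt hF j W) j m e ρ, ?_⟩
  refine
    { U_Us := fun x hx => ((hU x).1 hx).1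
      Us2 := isPGroup_US RD (by omega) h Rh hm
      T_Us := ?_
      CUs := ?_
      W_Us := FaceInv.W_le_US D hn h hm
      W_cent := fun w hw x hx => FaceInv.W_cent D hn h Rh hm hw hx
      hfree := ?_
      cardW := card_W D hn (h.ne_zero (by omega)) (h.ee 0 (by omega) 0 (by omega))
      X_ne := ?_ }
  · intro x hx y hy
    obtain ⟨u, hu, p, hp, rfl⟩ := hT x hx
    have h1 := hPi p hp y hy
    have h2 := ((hU u).1 hu).1
    have e1 : u * p * y * (u * p)⁻¹ = u * (p * y * p⁻¹) * u⁻¹ := by group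
    rw [e1]
    exact mul_mem (mul_mem h2 h1) (inv_mem h2)
  · intro x hx hxt
    refine (hU x).2 ⟨hx, ?_⟩
    rw [← hxt, mul_assoc, tt, mul_one]
  · intro x hx hxx
    obtain ⟨y, hy, e1⟩ := exists_conj_US RD (by omega) h Rh hm hx hxx
    exact ⟨y, hy, e1.symm⟩
  · intro h0
    obtain ⟨x, hx, hx1⟩ := XP_ne hF (h.ee 0 (by omega) 0 (by omega)) D.toSit (by omega) (h.ne_zero (by omega))
    rw [h0] at hx
    exact hx1 (Subgroup.mem_bot.1 hx)

end Cfsg.Agent.OddHalf.D7.Uni.Grow
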