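import Cfsg.Agent.KFacts.Unit.SheetTwo
import Cfsg.Agent.KFacts.Unit.SheetTwoAut
import Cfsg.Agent.KFacts.Unit.SheetTwoM
import Cfsg.Agent.OddHalf.D8.MainE
import Cfsg.Agent.OddHalf.D8.SheetMap
import Cfsg.Agent.OddHalf.D8.SheetMMap
import Cfsg.Agent.OddHalf.D7.Cases

/-!
# ODD D7, `K ≅ PSU_n(2)`, `n ≥ 6`: the row by the nodes D8 (E), (M)
-/

set_option autoImplicit false

namespace Cfsg.Agent.OddHalf.D7.Uni.RowTwo

open Cfsg Cfsg.Agent.LieClassical.HermBasic Cfsg.Agent.LieClassical.HermSiegel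
  Cfsg.Agent.LieClassical.HermGen Cfsg.Agent.LieClassical.SUBasic Matrix
  Cfsg.Agent.ClassicalGeometry.PSUAutBasic Cfsg.Agent.ClassicalGeometry.PSUAutSylow
  Cfsg.Agent.ClassicalGeometry.PSUAutUnip Cfsg.Agent.KFacts.Unit
  Cfsg.Agent.KFacts.Unit.SheetTwo Cfsg.Agent.OddHalf.D8.Sheet

universe u

variable {F : Type*} [Field F] [Fintype F] {n : ℕ} [CharP F 2] {e f : Fin n → F}

theorem autFacts (hF : Fintype.card F = 2 ^ 2) (hn : 6 ≤ n) (H : IsFrame 2 e f) : AutFacts hF H where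
  aut := fun α hα hαz h => SheetTwoAut.aut hF hn H α hα h11 hαz h
  ytrick := SheetTwoAut.ytrick hF hn H h11 (QQ_le_PP hF H.ee (RR_le_QQ hF H.ee (zt_mem hF H.ee)))

theorem sheetE (hF : Fintype.card F = 2 ^ 2) (hn : 6 ≤ n) (H : IsFrame 2 e f) :
    SheetE (zt hF H.ee) (PP 2 e) (QQ hF e H.ee) := SheetTwo.sheetE hF hn H (autFacts hF hn H)

/-- `PSU_n(2)`, `n ≥ 6`. -/
def FamUTwo (X : Type u) [Group X] : Prop :=
  ∃ (F : Type) (_ : Field F) (_ : Fintype F) (n : ℕ), Fintype.card F = 2 ^ 2 ∧ 6 ≤ n ∧ Nonempty (X ≃* PSU n F 2)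

/-- the facts for `MainE.row_of` -/
theorem facts (K : Type u) [Group K] (_ : Finite K) (h : FamUTwo K) :
    ∃ (z : K) (P R : Subgroup K), SheetE z P R ∧ CaseM.SheetM P R := by
  obtain ⟨F, _, _, n, hF, hn, ⟨i⟩⟩ := h
  have : CharP F 2 := by
    have : Fact (Nat.Prime 2) := ⟨Nat.prime_two⟩
    exact charP_of_card_eq_prime_pow hF
  obtain ⟨e, f, H⟩ := exists_frame (F := F) (q := 2) (n := n) hF (by omega)
  have h1 := sheetE hF hn H
  exact ⟨_, _, _, D8.SheetMap.sheetE_map i.symm h1, D8.SheetMMap.sheetM_map i.symm (sheetM hF hn H h1)⟩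

/-- **the row `PSU_n(2)`, `n ≥ 6`** -/
theorem row (hM : D8.MainE.NoComp.{u} (fun _ _ _ P R => CaseM.SheetM P R)) :
    D7.Cases.Node.{u} @FamUTwo.{u} := D8.MainE.row_of hM facts

end Cfsg.Agent.OddHalf.D7.Uni.RowTwo
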