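import Cfsg.Agent.OddHalf.D7.Uni.RowStart
import Cfsg.Agent.OddHalf.D7.Uni.RowTwo
import Cfsg.Agent.OddHalf.D7.Uni.Grow
import Cfsg.Agent.OddHalf.D7.Uni.ConstC01
import Cfsg.Agent.OddHalf.D7Out.PZeroU
import Cfsg.Agent.OddHalf.D7Out.TwFrame
import Cfsg.Agent.KFacts.TwFrame.UFrame
import Cfsg.Agent.KFacts.OutCyc.PSU

/-!
# ODD D7, `K ≅ PSU_n(2^a)`, `n ≥ 6`: the row

`false_big` : `q > 2` (growth of Sylow subgroups, clean and outer case together); `node` : the row, with the node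
D8 (M) as hypothesis for `q = 2`.
-/

set_option autoImplicit false
set_option linter.unusedSectionVars false

namespace Cfsg.Agent.OddHalf.D7.Uni.RowU

open Subgroup
open Cfsg Cfsg.Agent.LieClassical.HermBasic Cfsg.Agent.LieClassical.HermSiegel
  Cfsg.Agent.LieClassical.HermGen Cfsg.Agent.LieClassical.SUBasic
  Cfsg.Agent.ClassicalGeometry.PSUAutBasic Cfsg.Agent.ClassicalGeometry.PSUAutSylow
  Cfsg.Agent.ClassicalGeometry.PSUAutUnip Cfsg.Agent.KFacts.Unit Cfsg.Agent.KFacts.Unit.Flag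
  Cfsg.Agent.OddHalf.D7.Uni.Face Cfsg.Agent.OddHalf.D7.Uni.RowStart

universe u

variable {F : Type*} [Field F] [Fintype F] {q n : ℕ} [CharP F 2] {G : Type u} [Group G]

/-- **The row**, `q > 2`. -/
theorem false_big (C : Iface.Ctx G) {K : Subgroup G} (S : Iface.Std G K) (hcyc : Iface.Cyc K)
    (hF : Fintype.card F = q ^ 2) (hn : 6 ≤ n) (hq : q ≠ 2) (i : ↥K ≃* PSU n F q) : False := by
  have := C.fin
  have h32 : ¬ (n = 3 ∧ q = 2) := by omega
  have hcy : D7Out.TwChoice.CycOut (PSU n F q) := by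
    intro A hA
    obtain ⟨γ, hγ, h⟩ := Cfsg.Agent.KFacts.OutCyc.PSU.cyc2 hF (by omega) h32 (Ex.q_even hF) A hA
    exact ⟨γ, hγ, fun β hβ => by obtain ⟨k, x, hx⟩ := h β hβ; exact ⟨k, x, hx⟩⟩
  obtain ⟨t, St, hct, hsch, W, D⟩ := exists_dbl C S hcyc hF hn hq i hcy
  set j := emb i with hj
  -- the frame
  obtain ⟨m, hm⟩ : ∃ m, n = 2 * m ∨ n = 2 * m + 1 := by
    rcases Nat.even_or_odd' n with ⟨m, h | h⟩
    · exact ⟨m, Or.inl h⟩
    · exact ⟨m, Or.inr h⟩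
  have hm3 : 3 ≤ m := by omega
  obtain ⟨e, f, h⟩ := exists_fr hF hm
  have h0m : 0 < m := by omega
  have h1m : 1 < m := by omega
  -- `T = U P`
  have FF := (Cfsg.Agent.KFacts.TwFrame.UFrame.frameFact hF (by omega) h32 h).map i.symm
  obtain ⟨P, O⟩ := D7Out.TwFrame.exists_out St.toStart0 FF
  have hmm : ∀ A : Subgroup (PSU n F q), (A.map i.symm.toMonoidHom).map K.subtype = A.map j := by
    intro A; rw [Subgroup.map_map]; rfl
  have hU : (((Chain.pr (QS q e f) m).map (pr n F q)).map i.symm.toMonoidHom).map K.subtype =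
      (Chain.pr (QS q e f) m).map (fj n F q j) := by
    rw [hmm, Subgroup.map_map]; rfl
  rw [hU] at O
  set U := (Chain.pr (QS q e f) m).map (fj n F q j) with hUdef
  set T := U ⊔ P with hT
  have hPY : ∀ p ∈ P, ∀ (k : Fin m × Bool), ∀ x ∈ (Cfsg.Agent.KFacts.TwFrame.UFrame.frm hF h k).map j,
      p * x * p⁻¹ ∈ (Cfsg.Agent.KFacts.TwFrame.UFrame.frm hF h k).map j := by
    intro p hp k x hx
    have h1 := (D7Out.TwFrame.mem_frY.1 (O.PY hp)).2 k
    rw [hmm] at h1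
    exact h1 x hx
  have hPe : ∀ p ∈ P, ∀ i (hi : i < m), ∀ y ∈ XP hF j (e i) (h.ee i hi i hi), p * y * p⁻¹ ∈ XP hF j (e i) (h.ee i hi i hi) :=
    fun p hp i hi => hPY p hp (⟨i, hi⟩, true)
  have hPf : ∀ p ∈ P, ∀ i (hi : i < m), ∀ y ∈ XP hF j (f i) (h.ff i hi i hi),
      p * y * p⁻¹ ∈ XP hF j (f i) (h.ff i hi i hi) :=
    fun p hp i hi => hPY p hp (⟨i, hi⟩, false)
  have hPt : ∀ p ∈ P, p * t = t * p := fun p hp => O.tc p (O.PT hp)
  obtain ⟨Us, Gr⟩ := Grow.gr D hn h hm3 (T := T) (P := P) (fun x hx => (O.T_eq x).1 hx) hPt hPe hPf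
  have hKt := St.toStart0.Kt
  have htK : t ∉ K := fun h1 => St.t1 (St.cen t h1 fun y hy => hKt y hy)
  have hKn : ∀ c, c * t = t * c → ∀ x ∈ K, c * x * c⁻¹ ∈ K := fun c hc x hx =>
    (mem_normalizer_iff.1 (St.nK c hc) x).1 hx
  have hUK : U ≤ K := by
    rintro _ ⟨g, -, rfl⟩
    exact emb_mem i _
  have hz : ∀ r ∈ zpowers t, r = 1 ∨ r = t := by
    intro r hr
    exact D.ker r (St.toStart0.Qt r hr) fun x => (St.toStart0.QK r hr _ (emb_mem i x)).symm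
  have hcyT : ∃ y ∈ T, ∀ x ∈ T, ∃ i : ℤ, y ^ i * x ∈ U ∨ t * (y ^ i * x) ∈ U := by
    obtain ⟨y, hy, h1⟩ := O.cyc_T hct
    refine ⟨y, O.PT hy, fun x hx => ?_⟩
    obtain ⟨k, r, hr, w, hw, rfl⟩ := h1 x hx
    refine ⟨-k, ?_⟩
    have e1 : y ^ (-k) * (y ^ k * r * w) = r * w := by group
    rw [e1]
    rcases hz r hr with rfl | rfl
    · left; rw [one_mul]; exact hw
    · right; rw [← mul_assoc, St.tt, one_mul]; exact hw
  have hP2 : P2 q (e 0) (f 0) (e 1) (f 1) :=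
    { pp := h.ee 0 h0m 0 h0m
      p'p' := h.ff 0 h0m 0 h0m
      pp' := by rw [h.ef 0 h0m 0 h0m, if_pos rfl]
      p'p := by rw [h.fe 0 h0m 0 h0m, if_pos rfl]
      rr := h.ee 1 h1m 1 h1m
      r'r' := h.ff 1 h1m 1 h1m
      rr' := by rw [h.ef 1 h1m 1 h1m, if_pos rfl]
      r'r := by rw [h.fe 1 h1m 1 h1m, if_pos rfl]
      pr := h.ee 0 h0m 1 h1m
      rp := h.ee 1 h1m 0 h0m
      pr' := by rw [h.ef 0 h0m 1 h1m, if_neg (by omega)]
      r'p := by rw [h.fe 1 h1m 0 h0m, if_neg (by omega)]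
      p'r := by rw [h.fe 0 h0m 1 h1m, if_neg (by omega)]
      rp' := by rw [h.ef 1 h1m 0 h0m, if_neg (by omega)]
      p'r' := h.ff 0 h0m 1 h1m
      r'p' := h.ff 1 h1m 0 h0m }
  have hQU : ∀ y ∈ QQ hF (e 0) (h.ee 0 h0m 0 h0m), (i.symm y : G) ∈ U := by
    rintro _ ⟨g, hg, rfl⟩
    refine ⟨g, Chain.le_pr (QS q e f) h0m ?_, rfl⟩
    rw [QS, mem_inf, QA_eq hF (h.ee 0 h0m 0 h0m) (h.ff 0 h0m 0 h0m) (by rw [h.ef 0 h0m 0 h0m, if_pos rfl])]
    exact ⟨hg, fun i hi => absurd hi (Nat.not_lt_zero i)⟩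
  have Da : D7Out.TwEnd.Dat D7Out.OddGen.OddGen t K U Us T (W (e 0)) (XP hF j (e 0) (h.ee 0 h0m 0 h0m)) :=
    { tt := St.tt
      K_t := hKt
      hconj := D7Out.PZeroU.hconj
      hS := D7Out.PZeroU.hS (T := T) St.tt htK hKt hKn O.pT O.tc O.odd_relIndex hUK hcyT
      t_K := htK
      t_T := O.PT O.vP
      T_t := O.tc
      T2 := O.pT
      hodd := O.odd_relIndex
      U_K := hUK
      U_T := O.UT
      hU := fun x hx hxT => by
        have h1 : x ∈ T ⊓ K := ⟨hxT, hx⟩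
        rwa [O.TK] at h1
      U_Us := Gr.U_Us
      Us2 := Gr.Us2
      T_Us := Gr.T_Us
      CUs := Gr.CUs
      W_Us := Gr.W_Us
      W_cent := Gr.W_cent
      hfree := Gr.hfree
      cyc := hcyT
      c01 := by
        intro g hg hgg
        rcases O.c01 (W := W (e 0)) (fun u hu w hw => (Gr.W_cent w hw u (Gr.U_Us hu)).symm) (fun g hg hgg =>
          ConstInst.c01 (rf D hn) hn hP2 (hPt g hg) hgg (hPe g hg 0 h0m) (hPf g hg 0 h0m) (hPe g hg 1 h1m)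
            (hPf g hg 1 h1m)) g hg hgg with h1 | h1
        · exact Or.inl fun w hw => (h1 w hw).symm
        · exact Or.inr fun w hw => (h1 w hw).symm
      f3 := D7Out.PZeroU.f3_U hF hn (h.ne_zero h0m) (h.ee 0 h0m 0 h0m) i.symm St.tt hKt hKn
        (fun z hz' h1 => D.ker z hz' fun x => h1 _ (emb_mem i x)) O.tc hQU (fun y hy => ⟨y, hy, rfl⟩)
      cardW := Gr.cardW
      X_ne := Gr.X_ne }
  exact D7Out.TwEnd.false_of (Front.FE.commutator_eq_top C) Da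

/-- **The row `PSU_n(2^a)`, `n ≥ 6`, of node D7.** -/
theorem node (hM : D8.MainE.NoComp.{u} (fun _ _ _ P R => CaseM.SheetM P R)) :
    Cases.Node.{u} @Cases.FamU.{u} := by
  intro G _ C K S hcyc hK
  obtain ⟨F, instF, instT, a, n, ha, hF, hn, ⟨i⟩⟩ := hK
  have hF' : Fintype.card F = (2 ^ a) ^ 2 := by rw [hF, ← pow_mul, mul_comm, pow_mul]; norm_num
  by_cases h1 : a = 1
  · subst h1
    have h2 : Fintype.card F = 2 ^ 2 := by rw [hF]; norm_num
    exact RowTwo.row hM G C K S hcyc ⟨F, instF, instT, n, h2, hn, ⟨i⟩⟩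
  · have : Fact (Nat.Prime 2) := ⟨Nat.prime_two⟩
    have : CharP F 2 := charP_of_card_eq_prime_pow (f := a * 2) (by rw [hF', ← pow_mul])
    refine false_big C S hcyc hF' hn ?_ i
    intro h2
    apply h1
    have h3 : 2 ^ a = 2 ^ 1 := by rw [h2, pow_one]
    exact Nat.pow_right_injective le_rfl h3

end Cfsg.Agent.OddHalf.D7.Uni.RowU
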