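import Cfsg.Agent.OddHalf.D7.Uni.Defs

/-!
# The double `E_{v,l}` of `V_l ∩ Q_v` (helper371, text: bb ODD 10033, section 3)

`l` a totally isotropic line through `v` in coordinates (`Coord`), `E = E_l` elementary abelian, `W = W_v`, `Q = Q_v`.
`Evl E W Q = {e ∈ E | [e, Q] ≤ W}`.
-/

set_option autoImplicit false

namespace Cfsg.Agent.OddHalf.D7.Uni.Quad

open Defs

variable {G : Type*} [Group G] {F : Type*} [Field F]

/-- `E = E_l` for one totally isotropic line `l = ⟨v, r⟩`, `W = W_v`, `Q = Q_v`. -/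
structure EL (σ : F →+* F) (t : G) (E W Q : Subgroup G) (np nr m g : F → G) : Prop
    extends Coord σ t np nr m g where
  ab : ∀ a ∈ E, ∀ b ∈ E, a * b = b * a
  sq : ∀ a ∈ E, a * a = 1
  WE : W ≤ E
  np_E : ∀ x, σ x = x → np x ∈ E
  m_E : ∀ x, m x ∈ E
  nr_E : ∀ x, σ x = x → nr x ∈ E
  brk : ∀ e ∈ E, ∃ x μ y, σ x = x ∧ σ y = y ∧ t * e * t = e * (np x * m μ * nr y)
  surj : ∀ x μ y, σ x = x → σ y = y → ∃ e ∈ E, t * e * t = e * (np x * m μ * nr y)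
  cent : ∀ e ∈ E, t * e = e * t → ∃ x μ y, σ x = x ∧ σ y = y ∧ e = np x * m μ * nr y
  dW : Double σ t np W
  g_E : ∀ l, ∀ e ∈ E, g l * e * (g l)⁻¹ ∈ E
  g_W : ∀ l, ∀ w ∈ W, g l * w = w * g l
  gQ : ∀ l, g l ∈ Q
  npQ : ∀ x, σ x = x → np x ∈ Q
  mQ : ∀ x, m x ∈ Q
  Q_E : ∀ q ∈ Q, ∃ l, ∀ e ∈ E, q * e * q⁻¹ = g l * e * (g l)⁻¹

/-- `{e ∈ E | [e, Q] ≤ W}` -/
def Evl (E W Q : Subgroup G) : Subgroup G :=
  Subgroup.closure {e | e ∈ E ∧ ∀ q ∈ Q, q * e * q⁻¹ * e⁻¹ ∈ W}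

namespace Coord

variable {σ : F →+* F} {t : G} {np nr m g : F → G}

theorem g_zero (C : Coord σ t np nr m g) : g 0 = 1 := by
  have h := C.g_add 0 0
  rw [add_zero] at h
  exact (mul_eq_left.mp h.symm)

theorem g_sq (C : Coord σ t np nr m g) (l : F) : g l * g l = 1 := by
  rw [← C.g_add, C.two, g_zero C]

theorem g_comm (C : Coord σ t np nr m g) (l k : F) : g l * g k = g k * g l := by
  rw [← C.g_add, ← C.g_add, add_comm]

theorem g_inv (C : Coord σ t np nr m g) (l : F) : (g l)⁻¹ = g l :=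
  inv_eq_of_mul_eq_one_left (g_sq C l)

theorem np_zero (C : Coord σ t np nr m g) : np 0 = 1 := by
  have h := C.np_add 0 0 (map_zero σ) (map_zero σ)
  rw [add_zero] at h
  exact (mul_eq_left.mp h.symm)

theorem nr_zero (C : Coord σ t np nr m g) : nr 0 = 1 := by
  have h := C.nr_add 0 0 (map_zero σ) (map_zero σ)
  rw [add_zero] at h
  exact (mul_eq_left.mp h.symm)

theorem m_zero (C : Coord σ t np nr m g) : m 0 = 1 := by
  have h := C.m_add 0 0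
  rw [add_zero] at h
  exact (mul_eq_left.mp h.symm)

/-- the action of `g l` on `A_E` -/
theorem g_all (C : Coord σ t np nr m g) (l x μ y : F) (hx : σ x = x) (hy : σ y = y) :
    g l * (np x * m μ * nr y) * (g l)⁻¹ =
      np (x + (l * σ μ + σ l * μ) + l * σ l * y) * m (μ + l * y) * nr y := by
  have h1 : σ (l * σ μ + σ l * μ) = l * σ μ + σ l * μ := by
    rw [map_add, map_mul, map_mul, C.σσ, C.σσ, add_comm]
  have h2 : σ (l * σ l * y) = l * σ l * y := by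
    rw [map_mul, map_mul, C.σσ, hy, mul_comm (σ l) l]
  have h3 : σ (x + (l * σ μ + σ l * μ)) = x + (l * σ μ + σ l * μ) := by
    rw [map_add, h1, hx]
  have e : g l * (np x * m μ * nr y) * (g l)⁻¹ =
      (g l * np x * (g l)⁻¹) * (g l * m μ * (g l)⁻¹) * (g l * nr y * (g l)⁻¹) := by group
  rw [e, C.g_np l x hx, C.g_m l μ, C.g_nr l y hy, C.np_add _ _ h3 h2, C.np_add _ _ hx h1, C.m_add]
  have a1 := C.np_m (l * σ μ + σ l * μ) μ h1
  have a2 := C.np_nr (l * σ l * y) y h2 hy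
  have a3 := C.m_nr (l * y) y hy
  have a4 := C.np_m (l * σ l * y) (l * y) h2
  have a5 := C.np_m (l * σ l * y) μ h2
  have a6 := C.np_m (l * σ μ + σ l * μ) (l * y) h1
  have a7 := C.np_nr (l * σ μ + σ l * μ) y h1 hy
  calc np x * (m μ * np (l * σ μ + σ l * μ)) * (nr y * m (l * y) * np (l * σ l * y))
      = np x * (m μ * np (l * σ μ + σ l * μ)) * ((nr y * m (l * y)) * np (l * σ l * y)) := by group
    _ = np x * (np (l * σ μ + σ l * μ) * m μ) * ((m (l * y) * nr y) * np (l * σ l * y)) := by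
        rw [a3, a1]
    _ = np x * np (l * σ μ + σ l * μ) * m μ * m (l * y) * (nr y * np (l * σ l * y)) := by group
    _ = np x * np (l * σ μ + σ l * μ) * m μ * m (l * y) * (np (l * σ l * y) * nr y) := by rw [a2]
    _ = np x * np (l * σ μ + σ l * μ) * m μ * (m (l * y) * np (l * σ l * y)) * nr y := by group
    _ = np x * np (l * σ μ + σ l * μ) * m μ * (np (l * σ l * y) * m (l * y)) * nr y := by rw [a4]
    _ = np x * np (l * σ μ + σ l * μ) * (m μ * np (l * σ l * y)) * m (l * y) * nr y := by group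
    _ = np x * np (l * σ μ + σ l * μ) * (np (l * σ l * y) * m μ) * m (l * y) * nr y := by rw [a5]
    _ = _ := by group

end Coord

namespace EL

variable {σ : F →+* F} {t : G} {E W Q : Subgroup G} {np nr m g : F → G}

theorem all_E (L : EL σ t E W Q np nr m g) {x μ y : F} (hx : σ x = x) (hy : σ y = y) :
    np x * m μ * nr y ∈ E :=
  E.mul_mem (E.mul_mem (L.np_E x hx) (L.m_E μ)) (L.nr_E y hy)

theorem q_E (L : EL σ t E W Q np nr m g) {q e : G} (hq : q ∈ Q) (he : e ∈ E) : q * e * q⁻¹ ∈ E := by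
  obtain ⟨l, hl⟩ := L.Q_E q hq
  rw [hl e he]
  exact L.g_E l e he

theorem q_W (L : EL σ t E W Q np nr m g) {q w : G} (hq : q ∈ Q) (hw : w ∈ W) : q * w = w * q := by
  obtain ⟨l, hl⟩ := L.Q_E q hq
  have h := hl w (L.WE hw)
  rw [L.g_W l w hw, mul_assoc w, mul_inv_cancel, mul_one] at h
  rw [mul_inv_eq_iff_eq_mul] at h
  exact h

theorem inv_E (L : EL σ t E W Q np nr m g) {e : G} (he : e ∈ E) : e⁻¹ = e :=
  inv_eq_of_mul_eq_one_left (L.sq e he)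

/-- `x_l e = [g l, e]` -/
theorem c_E (L : EL σ t E W Q np nr m g) (l : F) {e : G} (he : e ∈ E) :
    g l * e * (g l)⁻¹ * e⁻¹ ∈ E :=
  E.mul_mem (L.g_E l e he) (E.inv_mem he)

theorem c_mul (L : EL σ t E W Q np nr m g) (l : F) {e f : G} (he : e ∈ E) (hf : f ∈ E) :
    g l * (e * f) * (g l)⁻¹ * (e * f)⁻¹ =
      (g l * e * (g l)⁻¹ * e⁻¹) * (g l * f * (g l)⁻¹ * f⁻¹) := by
  have h := L.ab _ (L.c_E l hf) _ (E.inv_mem he)
  calc g l * (e * f) * (g l)⁻¹ * (e * f)⁻¹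
      = (g l * e * (g l)⁻¹) * ((g l * f * (g l)⁻¹ * f⁻¹) * e⁻¹) := by group
    _ = _ := by rw [h]; group

theorem c_inv (L : EL σ t E W Q np nr m g) (l : F) {e : G} (he : e ∈ E) :
    g l * e⁻¹ * (g l)⁻¹ * (e⁻¹)⁻¹ = g l * e * (g l)⁻¹ * e⁻¹ := by
  rw [L.inv_E he]
  simp only [L.inv_E he]

theorem c_comm (L : EL σ t E W Q np nr m g) (l k : F) {e : G} (he : e ∈ E) :
    g l * (g k * e * (g k)⁻¹ * e⁻¹) * (g l)⁻¹ * (g k * e * (g k)⁻¹ * e⁻¹)⁻¹ =
      g k * (g l * e * (g l)⁻¹ * e⁻¹) * (g k)⁻¹ * (g l * e * (g l)⁻¹ * e⁻¹)⁻¹ := by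
  have h1 : g l * g k = g k * g l := Coord.g_comm L.toCoord l k
  have A : g l * (g k * e * (g k)⁻¹ * e⁻¹) * (g l)⁻¹ * (g k * e * (g k)⁻¹ * e⁻¹)⁻¹ =
      ((g l * g k) * e * (g l * g k)⁻¹) * ((g l * e * (g l)⁻¹)⁻¹ * (e * (g k * e * (g k)⁻¹)⁻¹)) := by
    rw [show (g l * g k)⁻¹ = (g k)⁻¹ * (g l)⁻¹ from mul_inv_rev _ _]
    have : (g l * g k)⁻¹ = (g l)⁻¹ * (g k)⁻¹ := by rw [h1, mul_inv_rev]
    have h2 : (g k)⁻¹ * (g l)⁻¹ = (g l)⁻¹ * (g k)⁻¹ := by rw [← mul_inv_rev, this]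
    group
  have B : g k * (g l * e * (g l)⁻¹ * e⁻¹) * (g k)⁻¹ * (g l * e * (g l)⁻¹ * e⁻¹)⁻¹ =
      ((g k * g l) * e * (g k * g l)⁻¹) * ((g k * e * (g k)⁻¹)⁻¹ * (e * (g l * e * (g l)⁻¹)⁻¹)) := by
    group
  rw [A, B, h1]
  congr 1
  have e1 := L.g_E l e he
  have e2 := L.g_E k e he
  have k1 := L.ab _ (E.inv_mem e1) _ (E.mul_mem he (E.inv_mem e2))
  have k2 := L.ab _ (E.inv_mem e2) _ he
  rw [k1, ← k2, mul_assoc]

theorem c_c (L : EL σ t E W Q np nr m g) (l : F) {e : G} (he : e ∈ E) :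
    g l * (g l * e * (g l)⁻¹ * e⁻¹) * (g l)⁻¹ * (g l * e * (g l)⁻¹ * e⁻¹)⁻¹ = 1 := by
  have h1 : g l * g l = 1 := Coord.g_sq L.toCoord l
  have h2 : (g l)⁻¹ = g l := Coord.g_inv L.toCoord l
  have e1 := L.g_E l e he
  have A : g l * (g l * e * (g l)⁻¹ * e⁻¹) * (g l)⁻¹ * (g l * e * (g l)⁻¹ * e⁻¹)⁻¹ =
      ((g l * g l) * e * (g l * g l)⁻¹) * ((g l * e * (g l)⁻¹)⁻¹ * (e * (g l * e * (g l)⁻¹)⁻¹)) := by
    group
  rw [A, h1, inv_one, mul_one, one_mul, L.inv_E e1, L.ab _ he _ e1, ← mul_assoc (g l * e * (g l)⁻¹),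
    L.sq _ e1, one_mul, L.sq _ he]

/-- `t` commutes with `x_l` -/
theorem t_c (L : EL σ t E W Q np nr m g) (l : F) (e : G) :
    t * (g l * e * (g l)⁻¹ * e⁻¹) * t = g l * (t * e * t) * (g l)⁻¹ * (t * e * t)⁻¹ := by
  have h1 : t * g l = g l * t := L.t_g l
  have h2 : t⁻¹ = t := inv_eq_of_mul_eq_one_left L.tt
  have h3 : t * (g l)⁻¹ = (g l)⁻¹ * t := by
    rw [Coord.g_inv L.toCoord]
    exact h1
  have hg : t * g l * t = g l := by rw [h1, mul_assoc, L.tt, mul_one]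
  have hgi : t * (g l)⁻¹ * t = (g l)⁻¹ := by rw [h3, mul_assoc, L.tt, mul_one]
  have he : t * e⁻¹ * t = (t * e * t)⁻¹ := by rw [mul_inv_rev, mul_inv_rev, h2, mul_assoc]
  calc t * (g l * e * (g l)⁻¹ * e⁻¹) * t
      = t * g l * 1 * e * 1 * (g l)⁻¹ * 1 * e⁻¹ * t := by group
    _ = t * g l * (t * t) * e * (t * t) * (g l)⁻¹ * (t * t) * e⁻¹ * t := by rw [L.tt]
    _ = (t * g l * t) * (t * e * t) * (t * (g l)⁻¹ * t) * (t * e⁻¹ * t) := by group
    _ = _ := by rw [hg, hgi, he]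

theorem mem_Evl (L : EL σ t E W Q np nr m g) {e : G} :
    e ∈ Evl E W Q ↔ e ∈ E ∧ ∀ q ∈ Q, q * e * q⁻¹ * e⁻¹ ∈ W := by
  constructor
  · intro h
    refine Subgroup.closure_induction (p := fun x _ => x ∈ E ∧ ∀ q ∈ Q, q * x * q⁻¹ * x⁻¹ ∈ W)
      (fun x hx => hx) ⟨E.one_mem, fun q _ => ?_⟩ ?_ ?_ h
    · simp [W.one_mem]
    · rintro x y _ _ ⟨hx, hx'⟩ ⟨hy, hy'⟩
      refine ⟨E.mul_mem hx hy, fun q hq => ?_⟩
      have h1 := L.ab _ (E.mul_mem (L.q_E hq hy) (E.inv_mem hy)) _ (E.inv_mem hx)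
      have : q * (x * y) * q⁻¹ * (x * y)⁻¹ = (q * x * q⁻¹ * x⁻¹) * (q * y * q⁻¹ * y⁻¹) := by
        calc q * (x * y) * q⁻¹ * (x * y)⁻¹ = (q * x * q⁻¹) * ((q * y * q⁻¹ * y⁻¹) * x⁻¹) := by group
          _ = _ := by rw [h1]; group
      rw [this]
      exact W.mul_mem (hx' q hq) (hy' q hq)
    · rintro x _ ⟨hx, hx'⟩
      rw [L.inv_E hx]
      exact ⟨hx, hx'⟩
  · intro h
    exact Subgroup.subset_closure h

theorem Evl_le (L : EL σ t E W Q np nr m g) : Evl E W Q ≤ E := fun _ h => (L.mem_Evl.mp h).1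

theorem W_le (L : EL σ t E W Q np nr m g) : W ≤ Evl E W Q := fun w hw => by
  refine L.mem_Evl.mpr ⟨L.WE hw, fun q hq => ?_⟩
  rw [L.q_W hq hw]
  simp [W.one_mem]

theorem c_W (L : EL σ t E W Q np nr m g) (l : F) {w : G} (hw : w ∈ W) :
    g l * w * (g l)⁻¹ * w⁻¹ = 1 := by
  rw [L.g_W l w hw]
  group

/-- `x_l` on `V_l` -/
theorem c_V (L : EL σ t E W Q np nr m g) (l : F) {x μ y : F} (hx : σ x = x) (hy : σ y = y) :
    g l * (np x * m μ * nr y) * (g l)⁻¹ * (np x * m μ * nr y)⁻¹ =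
      np (l * σ μ + σ l * μ + l * σ l * y) * m (l * y) * nr 0 := by
  have h1 : σ (l * σ μ + σ l * μ) = l * σ μ + σ l * μ := by
    rw [map_add, map_mul, map_mul, L.σσ, L.σσ, add_comm]
  have h2 : σ (l * σ l * y) = l * σ l * y := by
    rw [map_mul, map_mul, L.σσ, hy, mul_comm (σ l) l]
  have h3 : σ (l * σ μ + σ l * μ + l * σ l * y) = l * σ μ + σ l * μ + l * σ l * y := by
    rw [map_add, h1, h2]
  rw [Coord.g_all L.toCoord l x μ y hx hy, Coord.nr_zero L.toCoord, mul_one, mul_inv_eq_iff_eq_mul]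
  have e : x + (l * σ μ + σ l * μ) + l * σ l * y = (l * σ μ + σ l * μ + l * σ l * y) + x := by ring
  have e' : μ + l * y = l * y + μ := add_comm _ _
  rw [e, e', L.np_add _ _ h3 hx, L.m_add]
  have h4 := L.np_m x (l * y) hx
  calc np (l * σ μ + σ l * μ + l * σ l * y) * np x * (m (l * y) * m μ) * nr y
      = np (l * σ μ + σ l * μ + l * σ l * y) * (np x * m (l * y)) * m μ * nr y := by group
    _ = _ := by rw [h4]; group

theorem V_mul (L : EL σ t E W Q np nr m g) {x μ y x' μ' y' : F} (hx : σ x = x) (hy : σ y = y)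
    (hx' : σ x' = x') (hy' : σ y' = y') :
    (np x * m μ * nr y) * (np x' * m μ' * nr y') = np (x + x') * m (μ + μ') * nr (y + y') := by
  rw [L.np_add _ _ hx hx', L.m_add, L.nr_add _ _ hy hy']
  have h1 := L.np_nr x' y hx' hy
  have h2 := L.m_nr μ' y hy
  have h3 := L.np_m x' μ hx'
  calc (np x * m μ * nr y) * (np x' * m μ' * nr y')
      = np x * m μ * (nr y * np x') * m μ' * nr y' := by group
    _ = np x * (m μ * np x') * (nr y * m μ') * nr y' := by rw [← h1]; group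
    _ = _ := by rw [← h3, ← h2]; group

theorem V_one (L : EL σ t E W Q np nr m g) : np 0 * m 0 * nr 0 = 1 := by
  rw [Coord.np_zero L.toCoord, Coord.m_zero L.toCoord, Coord.nr_zero L.toCoord]
  simp

theorem V_inj (L : EL σ t E W Q np nr m g) {x μ y x' μ' y' : F} (hx : σ x = x) (hy : σ y = y)
    (hx' : σ x' = x') (hy' : σ y' = y')
    (h : np x * m μ * nr y = np x' * m μ' * nr y') : x = x' ∧ μ = μ' ∧ y = y' := by
  have h1 : (np x * m μ * nr y) * (np x' * m μ' * nr y') = 1 := by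
    rw [h]
    exact L.sq _ (L.all_E hx' hy')
  rw [L.V_mul hx hy hx' hy'] at h1
  obtain ⟨a, b, c⟩ := L.inj _ _ _ (by rw [map_add, hx, hx']) (by rw [map_add, hy, hy']) h1
  have key : ∀ u v : F, u + v = 0 → u = v := fun u v huv => by
    have := L.two v
    exact add_right_cancel (huv.trans this.symm)
  exact ⟨key _ _ a, key _ _ b, key _ _ c⟩

theorem t_V (L : EL σ t E W Q np nr m g) {x μ y : F} (hx : σ x = x) (hy : σ y = y) :
    t * (np x * m μ * nr y) * t = np x * m μ * nr y := by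
  have h1 : t * (np x * m μ * nr y) = (np x * m μ * nr y) * t := by
    rw [← mul_assoc, ← mul_assoc, L.t_np x hx, mul_assoc (np x), L.t_m, ← mul_assoc,
      mul_assoc (np x * m μ), L.t_nr y hy, ← mul_assoc]
  rw [h1, mul_assoc, L.tt, mul_one]

/-- an element of `E` killed by `x_1` and `x_b` lies in `W` -/
theorem zz (L : EL σ t E W Q np nr m g) {b : F} (hb : σ b ≠ b) {z : G} (hz : z ∈ E)
    (h1 : g 1 * z * (g 1)⁻¹ * z⁻¹ = 1) (h2 : g b * z * (g b)⁻¹ * z⁻¹ = 1) : z ∈ W := by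
  have key : ∀ u v : F, u + v = 0 → u = v := fun u v huv => by
    have := L.two v
    exact add_right_cancel (huv.trans this.symm)
  -- elements of `V_l` killed by both
  have kill : ∀ x μ y : F, σ x = x → σ y = y →
      (∀ l, (l = 1 ∨ l = b) → g l * (np x * m μ * nr y) * (g l)⁻¹ * (np x * m μ * nr y)⁻¹ = 1) →
      μ = 0 ∧ y = 0 := by
    intro x μ y hx hy h
    have e1 := h 1 (Or.inl rfl)
    have e2 := h b (Or.inr rfl)
    rw [L.c_V 1 hx hy] at e1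
    rw [L.c_V b hx hy] at e2
    have hs : ∀ l : F, σ (l * σ μ + σ l * μ + l * σ l * y) = l * σ μ + σ l * μ + l * σ l * y := by
      intro l
      simp only [map_add, map_mul, L.σσ, hy]
      ring
    obtain ⟨a1, a2, -⟩ := L.inj _ _ _ (hs 1) (map_zero σ) e1
    obtain ⟨b1, b2, -⟩ := L.inj _ _ _ (hs b) (map_zero σ) e2
    rw [one_mul] at a2
    subst a2
    simp only [map_one, one_mul, mul_zero, add_zero] at a1 b1
    have a3 := key _ _ a1
    rw [a3, ← add_mul] at b1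
    rcases mul_eq_zero.mp b1 with h | h
    · exact absurd (key _ _ h).symm hb
    · exact ⟨h, rfl⟩
  obtain ⟨x, μ, y, hx, hy, hbr⟩ := L.brk z hz
  have hφ : ∀ l, (l = 1 ∨ l = b) → g l * (np x * m μ * nr y) * (g l)⁻¹ * (np x * m μ * nr y)⁻¹ = 1 := by
    intro l hl
    have h3 : g l * z * (g l)⁻¹ * z⁻¹ = 1 := by
      rcases hl with rfl | rfl
      · exact h1
      · exact h2
    have h4 := L.t_c l z
    rw [h3, mul_one, L.tt, hbr, L.c_mul l hz (L.all_E hx hy), h3, one_mul] at h4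
    exact h4.symm
  obtain ⟨hμ, hy0⟩ := kill x μ y hx hy hφ
  subst hμ; subst hy0
  rw [Coord.m_zero L.toCoord, Coord.nr_zero L.toCoord, mul_one, mul_one] at hbr
  obtain ⟨w, hw, hwt⟩ := L.dW.surj x hx
  have hzw : z * w⁻¹ ∈ E := E.mul_mem hz (E.inv_mem (L.WE hw))
  have hcom : t * (z * w⁻¹) = (z * w⁻¹) * t := by
    have h3 : t * w⁻¹ * t = (t * w * t)⁻¹ := by
      have h2 : t⁻¹ = t := inv_eq_of_mul_eq_one_left L.tt
      rw [mul_inv_rev, mul_inv_rev, h2, mul_assoc]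
    have h4 : t * (z * w⁻¹) * t = z * w⁻¹ := by
      calc t * (z * w⁻¹) * t = t * z * 1 * w⁻¹ * t := by group
        _ = (t * z * t) * (t * w⁻¹ * t) := by rw [← L.tt]; group
        _ = (z * np x) * (w * np x)⁻¹ := by rw [hbr, h3, hwt]
        _ = _ := by group
    calc t * (z * w⁻¹) = t * (z * w⁻¹) * (t * t) := by rw [L.tt, mul_one]
      _ = (t * (z * w⁻¹) * t) * t := by group
      _ = _ := by rw [h4]
  obtain ⟨x', μ', y', hx', hy', h5⟩ := L.cent _ hzw hcom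
  have h6 : ∀ l, (l = 1 ∨ l = b) →
      g l * (np x' * m μ' * nr y') * (g l)⁻¹ * (np x' * m μ' * nr y')⁻¹ = 1 := by
    intro l hl
    have h3 : g l * z * (g l)⁻¹ * z⁻¹ = 1 := by
      rcases hl with rfl | rfl
      · exact h1
      · exact h2
    rw [← h5, L.c_mul l hz (E.inv_mem (L.WE hw)), h3, one_mul]
    exact L.c_W l (W.inv_mem hw)
  obtain ⟨rfl, rfl⟩ := kill x' μ' y' hx' hy' h6
  rw [Coord.m_zero L.toCoord, Coord.nr_zero L.toCoord, mul_one, mul_one] at h5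
  have : z = np x' * w := by rw [← h5]; group
  rw [this]
  exact W.mul_mem (L.dW.mem x' hx') hw

/-- `x_1 x_b E ≤ W` -/
theorem cc_W (L : EL σ t E W Q np nr m g) {b : F} (hb : σ b ≠ b) {e : G} (he : e ∈ E) :
    g 1 * (g b * e * (g b)⁻¹ * e⁻¹) * (g 1)⁻¹ * (g b * e * (g b)⁻¹ * e⁻¹)⁻¹ ∈ W := by
  have e1 := L.c_E b he
  refine L.zz hb (L.c_E 1 e1) (L.c_c 1 e1) ?_
  rw [L.c_comm b 1 e1, L.c_c b he]
  group

/-- `ker x_1 x_b ≤ E_{v,l}` -/
theorem of_cc (L : EL σ t E W Q np nr m g) {b : F} (hb : σ b ≠ b) {e : G} (he : e ∈ E)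
    (h : g 1 * (g b * e * (g b)⁻¹ * e⁻¹) * (g 1)⁻¹ * (g b * e * (g b)⁻¹ * e⁻¹)⁻¹ = 1) (l : F) :
    g l * e * (g l)⁻¹ * e⁻¹ ∈ W := by
  have hbW : g b * e * (g b)⁻¹ * e⁻¹ ∈ W := L.zz hb (L.c_E b he) h (L.c_c b he)
  have h1W : g 1 * e * (g 1)⁻¹ * e⁻¹ ∈ W := by
    refine L.zz hb (L.c_E 1 he) (L.c_c 1 he) ?_
    rw [L.c_comm b 1 he]
    exact h
  refine L.zz hb (L.c_E l he) ?_ ?_
  · rw [L.c_comm 1 l he]
    exact L.c_W l h1W
  · rw [L.c_comm b l he]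
    exact L.c_W l hbW

theorem mem_of_c (L : EL σ t E W Q np nr m g) {e : G} (he : e ∈ E)
    (h : ∀ l, g l * e * (g l)⁻¹ * e⁻¹ ∈ W) : e ∈ Evl E W Q := by
  refine L.mem_Evl.mpr ⟨he, fun q hq => ?_⟩
  obtain ⟨l, hl⟩ := L.Q_E q hq
  rw [hl e he]
  exact h l

/-- (3b) `[E_l, Q_v] ≤ E_{v,l}` -/
theorem comm_Q (L : EL σ t E W Q np nr m g) {e q : G} (he : e ∈ E) (hq : q ∈ Q) :
    q * e * q⁻¹ * e⁻¹ ∈ Evl E W Q := by
  obtain ⟨b, hb⟩ := L.nt
  obtain ⟨l, hl⟩ := L.Q_E q hq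
  rw [hl e he]
  refine L.mem_of_c (L.c_E l he) (L.of_cc hb (L.c_E l he) ?_)
  have e1 := L.c_E b he
  rw [L.c_comm b l he, L.c_comm 1 l e1]
  exact L.c_W l (L.cc_W hb he)

/-- `C_{E_{v,l}}(t) = V_l ∩ Q_v` -/
theorem cent_Evl (L : EL σ t E W Q np nr m g) {e : G} (he : e ∈ Evl E W Q) (h : t * e = e * t) :
    ∃ x μ, σ x = x ∧ e = np x * m μ := by
  obtain ⟨x, μ, y, hx, hy, rfl⟩ := L.cent e (L.Evl_le he) h
  have h1 := (L.mem_Evl.mp he).2 (g 1) (L.gQ 1)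
  rw [L.c_V 1 hx hy] at h1
  have hs : σ (1 * σ μ + σ 1 * μ + 1 * σ 1 * y) = 1 * σ μ + σ 1 * μ + 1 * σ 1 * y := by
    simp only [map_add, map_mul, L.σσ, hy, map_one]
    ring
  have h2 := L.t_V (μ := 1 * y) hs (map_zero σ)
  obtain ⟨x', hx', h3⟩ := L.dW.cent _ h1 (by
    calc _ = t * (np (1 * σ μ + σ 1 * μ + 1 * σ 1 * y) * m (1 * y) * nr 0) * (t * t) := by
          rw [L.tt, mul_one]
      _ = (t * (np (1 * σ μ + σ 1 * μ + 1 * σ 1 * y) * m (1 * y) * nr 0) * t) * t := by group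
      _ = _ := by rw [h2])
  have h4 : np x' = np x' * m 0 * nr 0 := by
    rw [Coord.m_zero L.toCoord, Coord.nr_zero L.toCoord, mul_one, mul_one]
  rw [h4] at h3
  have h5 := (L.V_inj hs (map_zero σ) hx' (map_zero σ) h3).2.1
  rw [one_mul] at h5
  subst h5
  exact ⟨x, μ, hx, by rw [Coord.nr_zero L.toCoord, mul_one]⟩

/-- `φ(E_{v,l}) ≤ V_l ∩ Q_v` -/
theorem brk_Evl (L : EL σ t E W Q np nr m g) {e : G} (he : e ∈ Evl E W Q) :
    ∃ x μ, σ x = x ∧ t * e * t = e * (np x * m μ) := by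
  obtain ⟨x, μ, y, hx, hy, hbr⟩ := L.brk e (L.Evl_le he)
  have h1 := (L.mem_Evl.mp he).2 (g 1) (L.gQ 1)
  obtain ⟨x', hx', h2⟩ := L.dW.brk _ h1
  rw [L.t_c 1 e, hbr, L.c_mul 1 (L.Evl_le he) (L.all_E hx hy), L.c_V 1 hx hy] at h2
  have h3 := mul_left_cancel h2
  have h4 : np x' = np x' * m 0 * nr 0 := by
    rw [Coord.m_zero L.toCoord, Coord.nr_zero L.toCoord, mul_one, mul_one]
  rw [h4] at h3
  have hs : σ (1 * σ μ + σ 1 * μ + 1 * σ 1 * y) = 1 * σ μ + σ 1 * μ + 1 * σ 1 * y := by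
    simp only [map_add, map_mul, L.σσ, hy, map_one]
    ring
  have h5 := (L.V_inj hs (map_zero σ) hx' (map_zero σ) h3).2.1
  rw [one_mul] at h5
  subst h5
  exact ⟨x, μ, hx, by rw [hbr, Coord.nr_zero L.toCoord, mul_one]⟩

/-- `V_l ∩ Q_v ≤ φ(E_{v,l})` -/
theorem surj_Evl (L : EL σ t E W Q np nr m g) {x μ : F} (hx : σ x = x) :
    ∃ e ∈ Evl E W Q, t * e * t = e * (np x * m μ) := by
  obtain ⟨b, hb⟩ := L.nt
  have key : ∀ u v : F, u + v = 0 → u = v := fun u v huv => by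
    have := L.two v
    exact add_right_cancel (huv.trans this.symm)
  have hb' : b + σ b ≠ 0 := fun h => hb (key _ _ h).symm
  obtain ⟨e, he, hbr⟩ := L.surj x μ 0 hx (map_zero σ)
  have hw := L.cc_W hb he
  -- `φ (x_1 x_b e) = 1`
  have hs : ∀ (l μ y : F), σ y = y →
      σ (l * σ μ + σ l * μ + l * σ l * y) = l * σ μ + σ l * μ + l * σ l * y := by
    intro l μ y hy
    simp only [map_add, map_mul, L.σσ, hy]
    ring
  have hφ : t * (g 1 * (g b * e * (g b)⁻¹ * e⁻¹) * (g 1)⁻¹ * (g b * e * (g b)⁻¹ * e⁻¹)⁻¹) * t =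
      g 1 * (g b * e * (g b)⁻¹ * e⁻¹) * (g 1)⁻¹ * (g b * e * (g b)⁻¹ * e⁻¹)⁻¹ := by
    have hE := L.all_E (μ := b * 0) (hs b μ 0 (map_zero σ)) (map_zero σ)
    rw [L.t_c 1, L.t_c b, hbr, L.c_mul b he (L.all_E hx (map_zero σ)),
      L.c_V b hx (map_zero σ), L.c_mul 1 (L.c_E b he) hE,
      L.c_V 1 (hs b μ 0 (map_zero σ)) (map_zero σ)]
    have : np (1 * σ (b * 0) + σ 1 * (b * 0) + 1 * σ 1 * 0) * m (1 * 0) * nr 0 = 1 := by
      simp only [mul_zero, map_zero, add_zero]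
      exact L.V_one
    rw [this, mul_one]
  obtain ⟨x0, hx0, h0⟩ := L.dW.cent _ hw (by
    calc _ = t * (g 1 * (g b * e * (g b)⁻¹ * e⁻¹) * (g 1)⁻¹ * (g b * e * (g b)⁻¹ * e⁻¹)⁻¹) * (t * t) := by
          rw [L.tt, mul_one]
      _ = (t * (g 1 * (g b * e * (g b)⁻¹ * e⁻¹) * (g 1)⁻¹ * (g b * e * (g b)⁻¹ * e⁻¹)⁻¹) * t) * t := by
          group
      _ = _ := by rw [hφ])
  -- the correction `nr y`
  obtain ⟨y, hy, hyx⟩ : ∃ y : F, σ y = y ∧ (b + σ b) * y = x0 := by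
    refine ⟨x0 / (b + σ b), ?_, ?_⟩
    · rw [map_div₀, hx0, map_add, L.σσ, add_comm (σ b) b]
    · field_simp
  have hn : np 0 * m 0 * nr y = nr y := by
    rw [Coord.m_zero L.toCoord, Coord.np_zero L.toCoord, one_mul, one_mul]
  have hnE := L.nr_E y hy
  have hcn : g 1 * (g b * nr y * (g b)⁻¹ * (nr y)⁻¹) * (g 1)⁻¹ * (g b * nr y * (g b)⁻¹ * (nr y)⁻¹)⁻¹ =
      np x0 := by
    rw [← hn, L.c_V b (map_zero σ) hy, L.c_V 1 (hs b 0 y hy) (map_zero σ)]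
    have e1 : 1 * σ (b * y) + σ 1 * (b * y) + 1 * σ 1 * 0 = x0 := by
      rw [← hyx]
      simp only [map_mul, map_one, one_mul, mul_zero, add_zero, hy]
      ring
    rw [e1, mul_zero, Coord.m_zero L.toCoord, Coord.nr_zero L.toCoord, mul_one, mul_one]
  refine ⟨e * nr y, L.mem_of_c (E.mul_mem he hnE) (L.of_cc hb (E.mul_mem he hnE) ?_), ?_⟩
  · rw [L.c_mul b he hnE, L.c_mul 1 (L.c_E b he) (L.c_E b hnE), hcn, h0]
    exact L.sq _ (L.np_E x0 hx0)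
  · have h1 := L.t_nr y hy
    calc t * (e * nr y) * t = t * e * (nr y * t) := by group
      _ = (t * e * t) * nr y := by rw [← h1]; group
      _ = e * ((np x * m μ * nr 0) * nr y) := by rw [hbr]; group
      _ = e * (nr y * (np x * m μ * nr 0)) := by
          rw [L.ab _ (L.all_E hx (map_zero σ)) _ hnE]
      _ = _ := by rw [Coord.nr_zero L.toCoord, mul_one]; group

/-- (3c) -/
theorem V_le (L : EL σ t E W Q np nr m g) {x μ : F} (hx : σ x = x) : np x * m μ ∈ Evl E W Q := by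
  have hn : np x * m μ * nr 0 = np x * m μ := by rw [Coord.nr_zero L.toCoord, mul_one]
  refine L.mem_of_c (E.mul_mem (L.np_E x hx) (L.m_E μ)) fun l => ?_
  rw [← hn, L.c_V l hx (map_zero σ)]
  simp only [mul_zero, add_zero]
  rw [Coord.m_zero L.toCoord, Coord.nr_zero L.toCoord, mul_one, mul_one]
  refine L.dW.mem _ ?_
  simp only [map_add, map_mul, L.σσ]
  ring

theorem mem_Q (L : EL σ t E W Q np nr m g) {x μ : F} (hx : σ x = x) : np x * m μ ∈ Q :=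
  Q.mul_mem (L.npQ x hx) (L.mQ μ)

end EL

/-- transport under an automorphism -/
theorem Evl_map {H : Type*} [Group H] (f : G ≃* H) (E W Q : Subgroup G) :
    (Evl E W Q).map f.toMonoidHom =
      Evl (E.map f.toMonoidHom) (W.map f.toMonoidHom) (Q.map f.toMonoidHom) := by
  rw [Evl, Evl, MonoidHom.map_closure]
  congr 1
  ext x
  constructor
  · rintro ⟨e, ⟨he, h⟩, rfl⟩
    refine ⟨⟨e, he, rfl⟩, ?_⟩
    rintro _ ⟨q, hq, rfl⟩
    refine ⟨q * e * q⁻¹ * e⁻¹, h q hq, ?_⟩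
    simp
  · rintro ⟨⟨e, he, rfl⟩, h⟩
    refine ⟨e, ⟨he, fun q hq => ?_⟩, rfl⟩
    obtain ⟨w, hw, hw'⟩ := h (f.toMonoidHom q) ⟨q, hq, rfl⟩
    have : w = q * e * q⁻¹ * e⁻¹ := by
      apply f.injective
      simpa using hw'
    rw [← this]
    exact hw

end Cfsg.Agent.OddHalf.D7.Uni.Quad
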