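import Mathlib

/-!
# The double `R_v` of `Q_v` (helper371, text: bb ODD 10033, section 4)

`t` an involution, `X = X_v`, `Q = Q_v ≤ C(t)`, `W = W_v` the double of `X`, `A i = E_{v,l}` (`l` the totally
isotropic lines through `v`). `R = ⟨A i, Q, W⟩`.
-/

set_option autoImplicit false

namespace Cfsg.Agent.OddHalf.D7.Uni.Quad

variable {G : Type*} [Group G] {ι : Type*}

structure RData (t : G) (X W Q : Subgroup G) (A : ι → Subgroup G) : Prop where
  tt : t * t = 1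
  X_ne : ∃ x ∈ X, x ≠ 1
  XQ : X ≤ Q
  Qt : ∀ q ∈ Q, t * q = q * t
  Q_comm : ∀ a ∈ Q, ∀ b ∈ Q, a * b * a⁻¹ * b⁻¹ ∈ X
  Q_sq : ∀ q ∈ Q, q * q ∈ X
  /-- (k1) -/
  Q_cen : ∀ z ∈ Q, (∀ q ∈ Q, z * q = q * z) → z ∈ X
  /-- (k2) -/
  k2 : ∀ c, c * t = t * c → (∀ q ∈ Q, q * c * q⁻¹ * c⁻¹ ∈ X) → c ∈ Q ∨ t * c ∈ Q
  W_ab : ∀ v ∈ W, ∀ w ∈ W, v * w = w * v
  W_sq : ∀ w ∈ W, w * w = 1
  W_Q : ∀ w ∈ W, ∀ q ∈ Q, w * q = q * w
  W_brk : ∀ w ∈ W, ∃ x ∈ X, t * w * t = w * x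
  W_surj : ∀ x ∈ X, ∃ w ∈ W, t * w * t = w * x
  W_cent : ∀ w ∈ W, t * w = w * t → w ∈ X
  XW : X ≤ W
  A_ab : ∀ i, ∀ a ∈ A i, ∀ b ∈ A i, a * b = b * a
  A_sq : ∀ i, ∀ a ∈ A i, a * a ∈ W
  A_W : ∀ i, ∀ a ∈ A i, ∀ w ∈ W, a * w = w * a
  A_Q : ∀ i, ∀ a ∈ A i, ∀ q ∈ Q, q * a * q⁻¹ * a⁻¹ ∈ W
  A_brk : ∀ i, ∀ a ∈ A i, ∃ q ∈ Q, q ∈ A i ∧ t * a * t = a * q
  /-- `Q` is generated by `X` and the `[a, t]` -/
  Q_gen : Q ≤ Subgroup.closure ((X : Set G) ∪ {q | ∃ i, ∃ a ∈ A i, t * a * t = a * q})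

/-- `R_v` -/
def Rv (W Q : Subgroup G) (A : ι → Subgroup G) : Subgroup G :=
  Subgroup.closure ({a | ∃ i, a ∈ A i} ∪ ((Q : Set G) ∪ (W : Set G)))

section comm

variable {W : Subgroup G}

theorem mulc {x y b : G} (hx : ∀ w ∈ W, x * w = w * x) (h1 : x * b * x⁻¹ * b⁻¹ ∈ W)
    (h2 : y * b * y⁻¹ * b⁻¹ ∈ W) : (x * y) * b * (x * y)⁻¹ * b⁻¹ ∈ W := by
  have h := hx _ h2
  have : (x * y) * b * (x * y)⁻¹ * b⁻¹ = (y * b * y⁻¹ * b⁻¹) * (x * b * x⁻¹ * b⁻¹) := by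
    calc (x * y) * b * (x * y)⁻¹ * b⁻¹ = (x * (y * b * y⁻¹ * b⁻¹)) * b * x⁻¹ * b⁻¹ := by group
      _ = _ := by rw [h]; group
  rw [this]
  exact W.mul_mem h2 h1

theorem invc {x b : G} (hx : ∀ w ∈ W, x * w = w * x) (h : x * b * x⁻¹ * b⁻¹ ∈ W) :
    x⁻¹ * b * (x⁻¹)⁻¹ * b⁻¹ ∈ W := by
  have h1 := hx _ (W.inv_mem h)
  have : x⁻¹ * b * (x⁻¹)⁻¹ * b⁻¹ = (x * b * x⁻¹ * b⁻¹)⁻¹ := by
    calc x⁻¹ * b * (x⁻¹)⁻¹ * b⁻¹ = x⁻¹ * ((x * b * x⁻¹ * b⁻¹)⁻¹ * x) := by group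
      _ = _ := by rw [← h1]; group
  rw [this]
  exact W.inv_mem h

theorem swapc {x b : G} (h : x * b * x⁻¹ * b⁻¹ ∈ W) : b * x * b⁻¹ * x⁻¹ ∈ W := by
  have : b * x * b⁻¹ * x⁻¹ = (x * b * x⁻¹ * b⁻¹)⁻¹ := by group
  rw [this]
  exact W.inv_mem h

end comm

namespace RData

variable {t : G} {X W Q : Subgroup G} {A : ι → Subgroup G}

theorem A_R (_ : RData t X W Q A) (i : ι) : A i ≤ Rv W Q A := fun _ ha =>
  Subgroup.subset_closure (Or.inl ⟨i, ha⟩)

theorem Q_R (_ : RData t X W Q A) : Q ≤ Rv W Q A := fun _ ha =>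
  Subgroup.subset_closure (Or.inr (Or.inl ha))

theorem W_R (_ : RData t X W Q A) : W ≤ Rv W Q A := fun _ ha =>
  Subgroup.subset_closure (Or.inr (Or.inr ha))

theorem t_inv (D : RData t X W Q A) : t⁻¹ = t := inv_eq_of_mul_eq_one_left D.tt

theorem t_mul (D : RData t X W Q A) (a b : G) : t * (a * b) * t = (t * a * t) * (t * b * t) := by
  calc t * (a * b) * t = t * a * 1 * b * t := by group
    _ = _ := by rw [← D.tt]; group

theorem t_invt (D : RData t X W Q A) (a : G) : t * a⁻¹ * t = (t * a * t)⁻¹ := by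
  rw [mul_inv_rev, mul_inv_rev, D.t_inv, mul_assoc]

theorem t_t (D : RData t X W Q A) (a : G) : t * (t * a * t) * t = a := by
  calc t * (t * a * t) * t = (t * t) * a * (t * t) := by group
    _ = a := by rw [D.tt]; group

theorem comm_iff (D : RData t X W Q A) {a : G} : t * a = a * t ↔ t * a * t = a := by
  constructor
  · intro h
    rw [h, mul_assoc, D.tt, mul_one]
  · intro h
    calc t * a = t * a * (t * t) := by rw [D.tt, mul_one]
      _ = (t * a * t) * t := by group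
      _ = _ := by rw [h]

/-- `R` centralises `W` -/
theorem R_W (D : RData t X W Q A) {r : G} (hr : r ∈ Rv W Q A) : ∀ w ∈ W, r * w = w * r := by
  refine Subgroup.closure_induction (p := fun x _ => ∀ w ∈ W, x * w = w * x) ?_ ?_ ?_ ?_ hr
  · rintro x (⟨i, hx⟩ | hx | hx) w hw
    · exact D.A_W i x hx w hw
    · exact (D.W_Q w hw x hx).symm
    · exact D.W_ab x hx w hw
  · intro w _
    rw [one_mul, mul_one]
  · intro x y _ _ hx hy w hw
    rw [mul_assoc, hy w hw, ← mul_assoc, hx w hw, mul_assoc]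
  · intro x _ hx w hw
    have h := hx w hw
    calc x⁻¹ * w = x⁻¹ * (w * x) * x⁻¹ := by group
      _ = x⁻¹ * (x * w) * x⁻¹ := by rw [h]
      _ = w * x⁻¹ := by group

/-- `[R, Q] ≤ W` -/
theorem R_Q (D : RData t X W Q A) {r : G} (hr : r ∈ Rv W Q A) : ∀ q ∈ Q, q * r * q⁻¹ * r⁻¹ ∈ W := by
  intro q hq
  refine Subgroup.closure_induction (p := fun x _ => q * x * q⁻¹ * x⁻¹ ∈ W) ?_ ?_ ?_ ?_ hr
  · rintro x (⟨i, hx⟩ | hx | hx)
    · exact D.A_Q i x hx q hq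
    · exact D.XW (D.Q_comm q hq x hx)
    · rw [← D.W_Q x hx q hq]
      simp [W.one_mem]
  · simp [W.one_mem]
  · intro x y hx' hy' hx hy
    exact swapc (mulc (D.R_W hx') (swapc hx) (swapc hy))
  · intro x hx' hx
    exact swapc (invc (D.R_W hx') (swapc hx))

theorem t_R (D : RData t X W Q A) {r : G} (hr : r ∈ Rv W Q A) : t * r * t ∈ Rv W Q A := by
  refine Subgroup.closure_induction (p := fun x _ => t * x * t ∈ Rv W Q A) ?_ ?_ ?_ ?_ hr
  · rintro x (⟨i, hx⟩ | hx | hx)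
    · obtain ⟨q, hq, hqA, h⟩ := D.A_brk i x hx
      rw [h]
      exact D.A_R i ((A i).mul_mem hx hqA)
    · rw [D.Qt x hx, mul_assoc, D.tt, mul_one]
      exact D.Q_R hx
    · obtain ⟨y, hy, h⟩ := D.W_brk x hx
      rw [h]
      exact D.W_R (W.mul_mem hx (D.XW hy))
  · rw [mul_one, D.tt]
    exact Subgroup.one_mem _
  · intro x y _ _ hx hy
    rw [D.t_mul]
    exact Subgroup.mul_mem _ hx hy
  · intro x _ hx
    rw [D.t_invt]
    exact Subgroup.inv_mem _ hx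

/-- `t` does not centralise `W` -/
theorem t_W (D : RData t X W Q A) : ∃ w ∈ W, t * w ≠ w * t := by
  obtain ⟨x, hx, hx1⟩ := D.X_ne
  obtain ⟨w, hw, h⟩ := D.W_surj x hx
  refine ⟨w, hw, fun hc => hx1 ?_⟩
  rw [D.comm_iff.mp hc] at h
  exact (mul_eq_left.mp h.symm)

/-- (4.2), general form -/
theorem mem_Q_of (D : RData t X W Q A) {g : G} (hW : ∀ w ∈ W, g * w = w * g)
    (hQ : ∀ q ∈ Q, q * g * q⁻¹ * g⁻¹ ∈ W) (ht : t * g = g * t) : g ∈ Q := by
  have h1 : ∀ q ∈ Q, q * g * q⁻¹ * g⁻¹ ∈ X := by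
    intro q hq
    refine D.W_cent _ (hQ q hq) ?_
    rw [D.comm_iff, D.t_mul, D.t_mul, D.t_mul, D.t_invt, D.t_invt, D.comm_iff.mp ht,
      D.comm_iff.mp (D.Qt q hq)]
  rcases D.k2 g ht.symm h1 with h | h
  · exact h
  · exfalso
    obtain ⟨w, hw, hne⟩ := D.t_W
    apply hne
    have h2 := D.W_Q w hw _ h
    have h3 := hW w hw
    have : t * w * g = w * t * g := by
      calc t * w * g = t * (w * g) := by group
        _ = t * g * w := by rw [← h3]; group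
        _ = w * (t * g) := h2.symm
        _ = w * t * g := by group
    exact mul_right_cancel this

/-- (4.3), general form: an element fixed by `t` modulo `W` -/
theorem fix_of (D : RData t X W Q A) {g c : G} (hW : ∀ w ∈ W, g * w = w * g)
    (hQ : ∀ q ∈ Q, q * g * q⁻¹ * g⁻¹ ∈ W) (hc : c ∈ W) (ht : t * g * t = g * c) :
    ∃ w ∈ W, g * w ∈ Q := by
  have h1 : c * (t * c * t) = 1 := by
    have h := D.t_t g
    rw [ht, D.t_mul, ht, mul_assoc] at h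
    exact (mul_eq_left.mp h)
  have h2 : t * c * t = c := by
    have h3 := D.W_sq c hc
    exact mul_left_cancel (h1.trans h3.symm)
  have hcX : c ∈ X := D.W_cent c hc (D.comm_iff.mpr h2)
  obtain ⟨w, hw, h⟩ := D.W_surj c hcX
  refine ⟨w, hw, D.mem_Q_of ?_ ?_ ?_⟩
  · intro v hv
    rw [mul_assoc, D.W_ab w hw v hv, ← mul_assoc, hW v hv, mul_assoc]
  · intro q hq
    refine swapc (mulc hW (swapc (hQ q hq)) ?_)
    rw [D.W_Q w hw q hq]
    simp [W.one_mem]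
  · rw [D.comm_iff, D.t_mul, ht, h]
    calc g * c * (w * c) = g * (c * w) * c := by group
      _ = g * w * (c * c) := by rw [D.W_ab c hc w hw]; group
      _ = g * w := by rw [D.W_sq c hc, mul_one]

/-- (4.1) for two generators -/
theorem A_A (D : RData t X W Q A) {i j : ι} {a b : G} (ha : a ∈ A i) (hb : b ∈ A j) :
    a * b * a⁻¹ * b⁻¹ ∈ W := by
  obtain ⟨p, hp, hpA, ha'⟩ := D.A_brk i a ha
  obtain ⟨q, hq, hqA, hb'⟩ := D.A_brk j b hb
  -- `p = φ a`, `q = φ b`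
  set u := a * b * a⁻¹ * b⁻¹ with hu
  have haW := D.A_W i a ha
  have hbW := D.A_W j b hb
  have huW : ∀ w ∈ W, u * w = w * u := fun w hw => by
    have h1 : a ∈ Subgroup.centralizer (W : Set G) := Subgroup.mem_centralizer_iff.mpr
      fun w hw => (haW w hw).symm
    have h2 : b ∈ Subgroup.centralizer (W : Set G) := Subgroup.mem_centralizer_iff.mpr
      fun w hw => (hbW w hw).symm
    have h3 : u ∈ Subgroup.centralizer (W : Set G) :=
      Subgroup.mul_mem _ (Subgroup.mul_mem _ (Subgroup.mul_mem _ h1 h2) (Subgroup.inv_mem _ h1))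
        (Subgroup.inv_mem _ h2)
    exact (Subgroup.mem_centralizer_iff.mp h3 w hw).symm
  -- `u` commutes with `Q`
  have huQ : ∀ s ∈ Q, s * u * s⁻¹ = u := by
    intro s hs
    obtain ⟨w1, hw1, e1⟩ : ∃ w ∈ W, s * a * s⁻¹ = w * a := ⟨_, D.A_Q i a ha s hs, by group⟩
    obtain ⟨w2, hw2, e2⟩ : ∃ w ∈ W, s * b * s⁻¹ = w * b := ⟨_, D.A_Q j b hb s hs, by group⟩
    have e3 : s * u * s⁻¹ = (s * a * s⁻¹) * (s * b * s⁻¹) * (s * a * s⁻¹)⁻¹ * (s * b * s⁻¹)⁻¹ := by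
      rw [hu]; group
    rw [e3, e1, e2]
    have k1 := haW w2 hw2
    have k2 := huW w2 hw2
    have k3 := D.W_ab w1 hw1 w2 hw2
    have k4 := hbW w1 hw1
    have k5 := haW w1 hw1
    calc w1 * a * (w2 * b) * (w1 * a)⁻¹ * (w2 * b)⁻¹
        = w1 * (a * w2) * b * a⁻¹ * w1⁻¹ * b⁻¹ * w2⁻¹ := by group
      _ = w1 * w2 * a * b * a⁻¹ * w1⁻¹ * b⁻¹ * w2⁻¹ := by rw [k1]; group
      _ = w1 * w2 * a * b * a⁻¹ * (b⁻¹ * w1⁻¹) * w2⁻¹ := by
          have : b⁻¹ * w1⁻¹ = w1⁻¹ * b⁻¹ := by rw [← mul_inv_rev, ← mul_inv_rev, k4]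
          rw [this]; group
      _ = w1 * (w2 * u) * w1⁻¹ * w2⁻¹ := by rw [hu]; group
      _ = w1 * u * (w2 * w1⁻¹ * w2⁻¹) := by rw [← k2]; group
      _ = w1 * u * (w1⁻¹) := by
          have : w2 * w1⁻¹ = w1⁻¹ * w2 := D.W_ab w2 hw2 _ (W.inv_mem hw1)
          rw [this]; group
      _ = u := by rw [← huW w1 hw1]; group
  -- `x = [a, q]`, `y = [p, b]`, `β = [p, q]`
  obtain ⟨x, hx, ex⟩ : ∃ x ∈ W, a * q = x * q * a :=
    ⟨a * q * a⁻¹ * q⁻¹, swapc (D.A_Q i a ha q hq), by group⟩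
  obtain ⟨y, hy, ey⟩ : ∃ y ∈ W, p * b = y * b * p := ⟨p * b * p⁻¹ * b⁻¹, D.A_Q j b hb p hp, by group⟩
  obtain ⟨β, hβ, eβ⟩ : ∃ β ∈ X, p * q = β * q * p := ⟨p * q * p⁻¹ * q⁻¹, D.Q_comm p hp q hq, by group⟩
  have hβW := D.XW hβ
  have hap := D.A_ab i a ha p hpA
  have hbq := D.A_ab j b hb q hqA
  have hpW : ∀ w ∈ W, p * w = w * p := fun w hw => (D.W_Q w hw p hp).symm
  have hqW : ∀ w ∈ W, q * w = w * q := fun w hw => (D.W_Q w hw q hq).symm
  have hpt := D.comm_iff.mp (D.Qt p hp)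
  have hqt := D.comm_iff.mp (D.Qt q hq)
  have hβt : t * β * t = β := D.comm_iff.mp (D.Qt β (D.XQ hβ))
  -- `t u t = u x y β`
  have hut : t * u * t = u * (x * y * β) := by
    have e1 : t * u * t = (a * p) * (b * q) * (a * p)⁻¹ * (b * q)⁻¹ := by
      rw [hu, D.t_mul, D.t_mul, D.t_mul, D.t_invt, D.t_invt, ha', hb']
    -- `a p b q = x y β u b q a p`
    have e2 : (a * p) * (b * q) = (u * (x * y * β)) * ((b * q) * (a * p)) := by
      have huab : a * b = u * b * a := by rw [hu]; group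
      calc (a * p) * (b * q) = a * (p * b) * q := by group
        _ = a * y * b * (p * q) := by rw [ey]; group
        _ = y * a * b * β * q * p := by rw [eβ, haW y hy]; group
        _ = y * (u * b * a) * β * q * p := by rw [← huab]; group
        _ = y * u * b * (β * a) * q * p := by rw [← haW β hβW]; group
        _ = y * u * (b * β) * (a * q) * p := by group
        _ = y * u * β * b * x * q * a * p := by rw [hbW β hβW, ex]; group
        _ = y * u * β * (x * b) * q * a * p := by rw [← hbW x hx]; group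
        _ = (u * y) * β * x * b * q * a * p := by rw [huW y hy]; group
        _ = u * (y * β * x) * (b * q) * (a * p) := by group
        _ = u * (x * y * β) * (b * q) * (a * p) := by
            have h1 : y * β * x = x * y * β := by
              calc y * β * x = y * (β * x) := by group
                _ = y * x * β := by rw [D.W_ab β hβW x hx]; group
                _ = _ := by rw [D.W_ab y hy x hx]
            rw [h1]
        _ = _ := by group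
    rw [e1]
    calc (a * p) * (b * q) * (a * p)⁻¹ * (b * q)⁻¹
        = ((u * (x * y * β)) * ((b * q) * (a * p))) * (a * p)⁻¹ * (b * q)⁻¹ := by rw [e2]
      _ = _ := by group
  -- `φ x = φ y = β`
  have hxt : t * x * t = x * β := by
    have e1 : (a * p) * q = (t * x * t) * q * (a * p) := by
      have h := congrArg (fun z => t * z * t) ex
      simp only [D.t_mul, ha', hqt] at h
      exact h
    have e2 : (a * p) * q = (x * β) * q * (a * p) := by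
      calc (a * p) * q = a * (p * q) := by group
        _ = (a * β) * q * p := by rw [eβ]; group
        _ = β * (a * q) * p := by rw [haW β hβW]; group
        _ = (β * x) * q * (a * p) := by rw [ex]; group
        _ = _ := by rw [D.W_ab β hβW x hx]
    have e3 := e1.symm.trans e2
    exact mul_right_cancel (mul_right_cancel e3)
  have hyt : t * y * t = y * β := by
    have e1 : p * (b * q) = (t * y * t) * (b * q) * p := by
      have h := congrArg (fun z => t * z * t) ey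
      simp only [D.t_mul, hb', hpt] at h
      exact h
    have e2 : p * (b * q) = (y * β) * (b * q) * p := by
      calc p * (b * q) = (p * b) * q := by group
        _ = y * b * (p * q) := by rw [ey]; group
        _ = y * (b * β) * q * p := by rw [eβ]; group
        _ = _ := by rw [hbW β hβW]; group
    have e3 := e1.symm.trans e2
    exact mul_right_cancel (mul_right_cancel e3)
  have hβsq := D.W_sq β hβW
  set b' := x * y * β with hb'def
  have hbW' : b' ∈ W := W.mul_mem (W.mul_mem hx hy) hβW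
  have hbt : t * b' * t = b' := by
    rw [hb'def, D.t_mul, D.t_mul, hxt, hyt, hβt]
    calc x * β * (y * β) * β = x * (β * y) * (β * β) := by group
      _ = x * y * β := by rw [D.W_ab β hβW y hy, hβsq]; group
  have hbX : b' ∈ X := D.W_cent _ hbW' (D.comm_iff.mpr hbt)
  obtain ⟨w, hw, ew⟩ := D.W_surj _ hbX
  -- `g = u w` commutes with `t`, `Q`, `W`
  have hg : u * w ∈ Q := by
    refine D.mem_Q_of ?_ ?_ ?_
    · intro v hv
      rw [mul_assoc, D.W_ab w hw v hv, ← mul_assoc, huW v hv, mul_assoc]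
    · intro s hs
      have : s * (u * w) * s⁻¹ * (u * w)⁻¹ = 1 := by
        have h1 := huQ s hs
        have h2 := D.W_Q w hw s hs
        calc s * (u * w) * s⁻¹ * (u * w)⁻¹ = s * u * s⁻¹ * (s * w) * s⁻¹ * w⁻¹ * u⁻¹ := by group
          _ = u * (s * w) * s⁻¹ * w⁻¹ * u⁻¹ := by rw [h1]
          _ = 1 := by rw [← h2]; group
      rw [this]
      exact W.one_mem
    · rw [D.comm_iff, D.t_mul, hut, ew]
      calc u * b' * (w * b') = u * (b' * w) * b' := by group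
        _ = u * w * (b' * b') := by rw [D.W_ab b' hbW' w hw]; group
        _ = _ := by rw [D.W_sq b' hbW', mul_one]
  have hgX : u * w ∈ X := D.Q_cen _ hg fun s hs => by
    have h1 := huQ s hs
    have h2 := D.W_Q w hw s hs
    have h3 : s * u = u * s := by
      calc s * u = (s * u * s⁻¹) * s := by group
        _ = _ := by rw [h1]
    rw [mul_assoc, h2, ← mul_assoc, ← h3, mul_assoc]
  have : u = (u * w) * w⁻¹ := by group
  rw [this]
  exact W.mul_mem (D.XW hgX) (W.inv_mem hw)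

/-- (4.1) `[R, R] ≤ W` -/
theorem R_R (D : RData t X W Q A) {r s : G} (hr : r ∈ Rv W Q A) (hs : s ∈ Rv W Q A) :
    r * s * r⁻¹ * s⁻¹ ∈ W := by
  have h1 : ∀ x ∈ ({a | ∃ i, a ∈ A i} ∪ ((Q : Set G) ∪ (W : Set G))), ∀ s ∈ Rv W Q A,
      x * s * x⁻¹ * s⁻¹ ∈ W := by
    intro x hx s hs
    rcases hx with ⟨i, hx⟩ | hx | hx
    · refine Subgroup.closure_induction (p := fun s _ => x * s * x⁻¹ * s⁻¹ ∈ W) ?_ ?_ ?_ ?_ hs
      · rintro y (⟨j, hy⟩ | hy | hy)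
        · exact D.A_A hx hy
        · exact swapc (D.A_Q i x hx y hy)
        · rw [D.A_W i x hx y hy]
          simp [W.one_mem]
      · simp [W.one_mem]
      · intro y z hy' _ hy hz
        exact swapc (mulc (D.R_W hy') (swapc hy) (swapc hz))
      · intro y hy' hy
        exact swapc (invc (D.R_W hy') (swapc hy))
    · exact D.R_Q hs x hx
    · rw [← D.R_W hs x hx]
      simp [W.one_mem]
  refine Subgroup.closure_induction (p := fun r _ => r * s * r⁻¹ * s⁻¹ ∈ W) ?_ ?_ ?_ ?_ hr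
  · intro x hx
    exact h1 x hx s hs
  · simp [W.one_mem]
  · intro x y hx' _ hx hy
    exact mulc (D.R_W hx') hx hy
  · intro x hx' hx
    exact invc (D.R_W hx') hx

/-- `R / W` has exponent `2` -/
theorem R_sq (D : RData t X W Q A) {r : G} (hr : r ∈ Rv W Q A) : r * r ∈ W := by
  refine Subgroup.closure_induction (p := fun x _ => x * x ∈ W) ?_ ?_ ?_ ?_ hr
  · rintro x (⟨i, hx⟩ | hx | hx)
    · exact D.A_sq i x hx
    · exact D.XW (D.Q_sq x hx)
    · rw [D.W_sq x hx]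
      exact W.one_mem
  · rw [one_mul]
    exact W.one_mem
  · intro x y hx' hy' hx hy
    have h1 := D.R_R (Subgroup.inv_mem _ hx') hy'
    have h2 := D.R_W hx' _ h1
    have : x * y * (x * y) = (x * x) * (x⁻¹ * y * (x⁻¹)⁻¹ * y⁻¹) * (y * y) := by group
    rw [this]
    exact W.mul_mem (W.mul_mem hx h1) hy
  · intro x _ hx
    have : x⁻¹ * x⁻¹ = (x * x)⁻¹ := by group
    rw [this]
    exact W.inv_mem hx

theorem R_four (D : RData t X W Q A) {r : G} (hr : r ∈ Rv W Q A) : r ^ 4 = 1 := by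
  have : r ^ 4 = (r * r) * (r * r) := by simp only [pow_succ, pow_zero, one_mul, mul_assoc]
  rw [this]
  exact D.W_sq _ (D.R_sq hr)

theorem R_pGroup (D : RData t X W Q A) : IsPGroup 2 (Rv W Q A) := by
  intro g
  refine ⟨2, ?_⟩
  apply Subtype.ext
  simpa using D.R_four g.2

/-- (4.2) `C_R(t) = Q` -/
theorem cent_R (D : RData t X W Q A) {r : G} (hr : r ∈ Rv W Q A) (ht : t * r = r * t) : r ∈ Q :=
  D.mem_Q_of (D.R_W hr) (D.R_Q hr) ht

theorem t_notMem (D : RData t X W Q A) : t ∉ Rv W Q A := by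
  intro h
  obtain ⟨w, hw, hne⟩ := D.t_W
  exact hne (D.R_W h w hw)

theorem Q_W (D : RData t X W Q A) {a : G} (h1 : a ∈ Q) (h2 : a ∈ W) : a ∈ X :=
  D.W_cent a h2 (D.Qt a h1)

/-- (4.3) `C_{R/W}(t) = QW/W` -/
theorem fix_R (D : RData t X W Q A) {r c : G} (hr : r ∈ Rv W Q A) (hc : c ∈ W)
    (ht : t * r * t = r * c) : ∃ w ∈ W, r * w ∈ Q :=
  D.fix_of (D.R_W hr) (D.R_Q hr) hc ht

/-- `[R, t] ≤ QW` -/
theorem brk_R (D : RData t X W Q A) {r : G} (hr : r ∈ Rv W Q A) :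
    ∃ q ∈ Q, ∃ w ∈ W, t * r * t = r * (q * w) := by
  -- `c = r⁻¹ (t r t)`: `t r t = r c`, `c (t c t) = 1`, so `c` is inverted by `t`
  have hc' : t * r * t = r * (r⁻¹ * (t * r * t)) := by group
  set c := r⁻¹ * (t * r * t) with hc
  have hcR : c ∈ Rv W Q A := Subgroup.mul_mem _ (Subgroup.inv_mem _ hr) (D.t_R hr)
  have h1 : c * (t * c * t) = 1 := by
    have h := D.t_t r
    rw [hc', D.t_mul, hc', mul_assoc] at h
    exact (mul_eq_left.mp h)
  have h2 : t * c * t = c * (c * c)⁻¹ := by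
    have : t * c * t = c⁻¹ := (inv_eq_of_mul_eq_one_right h1).symm
    rw [this]
    group
  obtain ⟨w, hw, hq⟩ := D.fix_R hcR (W.inv_mem (D.R_sq hcR)) h2
  exact ⟨c * w, hq, w⁻¹, W.inv_mem hw, by rw [hc']; group⟩

/-- `Q ≤ [R, t] W` -/
theorem surj_R (D : RData t X W Q A) {q : G} (hq : q ∈ Q) :
    ∃ r ∈ Rv W Q A, ∃ w ∈ W, t * r * t = r * (q * w) := by
  suffices H : ∀ q ∈ Subgroup.closure ((X : Set G) ∪ {q | ∃ i, ∃ a ∈ A i, t * a * t = a * q}),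
      ∃ r ∈ Rv W Q A, ∃ w ∈ W, t * r * t = r * (q * w) from H q (D.Q_gen hq)
  intro q hq
  have hsub : Subgroup.closure ((X : Set G) ∪ {q | ∃ i, ∃ a ∈ A i, t * a * t = a * q}) ≤
      Rv W Q A := by
    rw [Subgroup.closure_le]
    rintro x (hx | ⟨i, a, ha, h⟩)
    · exact D.W_R (D.XW hx)
    · have : x = a⁻¹ * (t * a * t) := by rw [h]; group
      rw [this]
      exact Subgroup.mul_mem _ (Subgroup.inv_mem _ (D.A_R i ha)) (D.t_R (D.A_R i ha))
  refine Subgroup.closure_induction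
    (p := fun q _ => ∃ r ∈ Rv W Q A, ∃ w ∈ W, t * r * t = r * (q * w)) ?_ ?_ ?_ ?_ hq
  · rintro x (hx | ⟨i, a, ha, h⟩)
    · obtain ⟨w, hw, h⟩ := D.W_surj x hx
      exact ⟨w, D.W_R hw, 1, W.one_mem, by rw [h, mul_one]⟩
    · exact ⟨a, D.A_R i ha, 1, W.one_mem, by rw [h, mul_one]⟩
  · exact ⟨1, Subgroup.one_mem _, 1, W.one_mem, by rw [mul_one, D.tt]; group⟩
  · rintro x y hx' hy' ⟨r, hr, w, hw, h1⟩ ⟨s, hs, v, hv, h2⟩
    have hxR := hsub hx'
    have hyR := hsub hy'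
    have hc : x * w ∈ Rv W Q A := Subgroup.mul_mem _ hxR (D.W_R hw)
    have h3 := D.R_R (Subgroup.inv_mem _ hs) hc
    refine ⟨r * s, Subgroup.mul_mem _ hr hs, _,
      W.mul_mem (W.mul_mem h3 hw) hv, ?_⟩
    rw [D.t_mul, h1, h2]
    have k1 := D.R_W hyR w hw
    have k2 := D.R_W (Subgroup.mul_mem _ hxR hyR) _ h3
    calc r * (x * w) * (s * (y * v))
        = r * s * ((s⁻¹ * (x * w) * (s⁻¹)⁻¹ * (x * w)⁻¹) * x) * (w * y) * v := by group
      _ = r * s * ((s⁻¹ * (x * w) * (s⁻¹)⁻¹ * (x * w)⁻¹) * x) * (y * w) * v := by rw [k1]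
      _ = r * s * ((s⁻¹ * (x * w) * (s⁻¹)⁻¹ * (x * w)⁻¹) * (x * y)) * w * v := by group
      _ = r * s * ((x * y) * (s⁻¹ * (x * w) * (s⁻¹)⁻¹ * (x * w)⁻¹)) * w * v := by rw [k2]
      _ = _ := by group
  · rintro x hx' ⟨r, hr, w, hw, h1⟩
    have hxR := hsub hx'
    have hc : (x * w)⁻¹ ∈ Rv W Q A := Subgroup.inv_mem _ (Subgroup.mul_mem _ hxR (D.W_R hw))
    have h3 := D.R_R hr hc
    refine ⟨r⁻¹, Subgroup.inv_mem _ hr, _, W.mul_mem h3 (W.inv_mem hw), ?_⟩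
    rw [D.t_invt, h1]
    have k1 := D.R_W hxR _ (W.inv_mem hw)
    have k2 := D.R_W (Subgroup.inv_mem _ hxR) _ h3
    have k3 := D.R_W (Subgroup.inv_mem _ hxR) _ (W.inv_mem hw)
    calc (r * (x * w))⁻¹ = r⁻¹ * ((r * (x * w)⁻¹ * r⁻¹ * ((x * w)⁻¹)⁻¹) * (w⁻¹ * x⁻¹)) := by group
      _ = r⁻¹ * ((r * (x * w)⁻¹ * r⁻¹ * ((x * w)⁻¹)⁻¹) * (x⁻¹ * w⁻¹)) := by rw [k3]
      _ = r⁻¹ * (((r * (x * w)⁻¹ * r⁻¹ * ((x * w)⁻¹)⁻¹) * x⁻¹) * w⁻¹) := by group
      _ = r⁻¹ * ((x⁻¹ * (r * (x * w)⁻¹ * r⁻¹ * ((x * w)⁻¹)⁻¹)) * w⁻¹) := by rw [k2]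
      _ = _ := by group

/-- (4.3) `C_{B/W}(t) ≤ [B/W, t]`, for `B = R` -/
theorem lift_R (D : RData t X W Q A) {r c : G} (hr : r ∈ Rv W Q A) (hc : c ∈ W)
    (ht : t * r * t = r * c) : ∃ s ∈ Rv W Q A, ∃ w ∈ W, t * s * t = s * (r * w) := by
  obtain ⟨w, hw, hq⟩ := D.fix_R hr hc ht
  obtain ⟨s, hs, v, hv, h⟩ := D.surj_R hq
  exact ⟨s, hs, w * v, W.mul_mem hw hv, by rw [h, mul_assoc r w v]⟩

/-- (4.4): `y ∈ B` inverted by `t` is `[y₂, t]` with `y₂ ∈ B`, for `W ≤ B ≤ R` with `C_{B/W}(t) ≤ [B/W, t]` -/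
theorem inv_of (D : RData t X W Q A) {B : Subgroup G} (hWB : W ≤ B) (hB : B ≤ Rv W Q A)
    (hl : ∀ b ∈ B, ∀ c ∈ W, t * b * t = b * c → ∃ s ∈ B, ∃ w ∈ W, t * s * t = s * (b * w))
    {y : G} (hy : y ∈ B) (ht : t * y * t = y⁻¹) : ∃ z ∈ B, t * z * t = z * y := by
  have hyR := hB hy
  obtain ⟨s, hs, w, hw, h⟩ := hl y hy (y * y)⁻¹ (W.inv_mem (D.R_sq hyR)) (by rw [ht]; group)
  have k1 := D.R_W hyR w hw
  have h1 : w * (t * w * t) = 1 := by
    have h2 := D.t_t s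
    rw [h, D.t_mul, h, D.t_mul, ht, mul_assoc] at h2
    have h3 := mul_eq_left.mp h2
    rw [k1] at h3
    calc w * (t * w * t) = w * y * (y⁻¹ * (t * w * t)) := by group
      _ = 1 := h3
  have h2 : t * w * t = w := mul_left_cancel (h1.trans (D.W_sq w hw).symm)
  obtain ⟨v, hv, h3⟩ := D.W_surj w (D.W_cent w hw (D.comm_iff.mpr h2))
  refine ⟨s * v, B.mul_mem hs (hWB hv), ?_⟩
  rw [D.t_mul, h, h3]
  have k2 := D.R_W hyR v hv
  have k3 := D.R_W (D.W_R hv) w hw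
  calc s * (y * w) * (v * w) = s * y * (w * v) * w := by group
    _ = s * (y * v) * (w * w) := by rw [← k3]; group
    _ = s * v * y := by rw [D.W_sq w hw, k2]; group

/-- (4.4) for `R` -/
theorem inv_R (D : RData t X W Q A) {y : G} (hy : y ∈ Rv W Q A) (ht : t * y * t = y⁻¹) :
    ∃ z ∈ Rv W Q A, t * z * t = z * y :=
  D.inv_of D.W_R le_rfl (fun _ hb _ hc h => D.lift_R hb hc h) hy ht

/-- every involution of `tB` is conjugate to `t` under `B` -/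
theorem conj_of (D : RData t X W Q A) {B : Subgroup G} (hWB : W ≤ B) (hB : B ≤ Rv W Q A)
    (htB : ∀ b ∈ B, t * b * t ∈ B)
    (hl : ∀ b ∈ B, ∀ c ∈ W, t * b * t = b * c → ∃ s ∈ B, ∃ w ∈ W, t * s * t = s * (b * w))
    {y : G} (hy : y ∈ B) (h2 : (t * y) * (t * y) = 1) : ∃ z ∈ B, t * y = z * t * z⁻¹ := by
  have h1 : t * y * t = y⁻¹ := by
    rw [eq_inv_iff_mul_eq_one, mul_assoc (t * y)]
    exact h2
  obtain ⟨z, hz, h⟩ := D.inv_of hWB hB hl hy h1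
  refine ⟨t * z⁻¹ * t, htB _ (B.inv_mem hz), ?_⟩
  have h3 : t * y = t * (z⁻¹ * (t * z * t)) := by rw [h]; group
  rw [h3]
  have h4 : (t * z⁻¹ * t)⁻¹ = t * z * t := by rw [D.t_invt, inv_inv]
  rw [h4]
  calc t * (z⁻¹ * (t * z * t)) = t * z⁻¹ * t * z * t := by group
    _ = t * z⁻¹ * t * 1 * z * t := by group
    _ = _ := by rw [← D.tt]; group

theorem conj_R (D : RData t X W Q A) {y : G} (hy : y ∈ Rv W Q A) (h2 : (t * y) * (t * y) = 1) :
    ∃ z ∈ Rv W Q A, t * y = z * t * z⁻¹ :=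
  D.conj_of D.W_R le_rfl (fun _ hb => D.t_R hb) (fun _ hb _ hc h => D.lift_R hb hc h) hy h2

/-- characterisation of `R` -/
theorem mem_iff (D : RData t X W Q A) {g : G} : g ∈ Rv W Q A ↔
    (∀ w ∈ W, g * w = w * g) ∧ (∀ q ∈ Q, q * g * q⁻¹ * g⁻¹ ∈ W) ∧
      ∃ q ∈ Q, ∃ w ∈ W, t * g * t = g * (q * w) := by
  constructor
  · intro h
    exact ⟨D.R_W h, D.R_Q h, D.brk_R h⟩
  · rintro ⟨hW, hQ, q, hq, w, hw, h⟩
    obtain ⟨r, hr, v, hv, h'⟩ := D.surj_R hq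
    -- `k = g r⁻¹`
    have hrW := D.R_W hr
    have hri := Subgroup.inv_mem _ hr
    have hriW := D.R_W hri
    have h1 : t * (g * r⁻¹) * t = (g * r⁻¹) * (w * v⁻¹) := by
      rw [D.t_mul, D.t_invt, h, h']
      have k1 : w * v⁻¹ * q⁻¹ = q⁻¹ * (w * v⁻¹) :=
        D.W_Q _ (W.mul_mem hw (W.inv_mem hv)) _ (Q.inv_mem hq)
      have k2 := hriW _ (W.mul_mem hw (W.inv_mem hv))
      calc g * (q * w) * (r * (q * v))⁻¹ = g * q * (w * v⁻¹ * q⁻¹) * r⁻¹ := by group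
        _ = g * ((w * v⁻¹) * r⁻¹) := by rw [k1]; group
        _ = _ := by rw [← k2]; group
    have hkW : ∀ x ∈ W, g * r⁻¹ * x = x * (g * r⁻¹) := by
      intro x hx
      rw [mul_assoc, hriW x hx, ← mul_assoc, hW x hx, mul_assoc]
    have hkQ : ∀ s ∈ Q, s * (g * r⁻¹) * s⁻¹ * (g * r⁻¹)⁻¹ ∈ W := fun s hs =>
      swapc (mulc hW (swapc (hQ s hs)) (swapc (D.R_Q hri s hs)))
    obtain ⟨u, hu, h2⟩ := D.fix_of hkW hkQ (W.mul_mem hw (W.inv_mem hv)) h1
    have e : g = (g * r⁻¹ * u) * u⁻¹ * r := by group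
    have h5 : (g * r⁻¹ * u) * u⁻¹ * r ∈ Rv W Q A :=
      Subgroup.mul_mem _ (Subgroup.mul_mem _ (D.Q_R h2) (D.W_R (W.inv_mem hu))) hr
    rwa [← e] at h5

/-- `Z(R) = W` -/
theorem center_R (D : RData t X W Q A) {z : G} (hz : z ∈ Rv W Q A)
    (h : ∀ r ∈ Rv W Q A, z * r = r * z) : z ∈ W := by
  -- elements of `QW` centralising `Q` lie in `W`
  have key : ∀ q ∈ Q, ∀ w ∈ W, (∀ r ∈ Q, q * w * r = r * (q * w)) → q * w ∈ W := by
    intro q hq w hw hc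
    refine W.mul_mem (D.XW (D.Q_cen q hq fun r hr => ?_)) hw
    have h1 := hc r hr
    have h2 := D.W_Q w hw r hr
    have : q * r * w = r * q * w := by
      calc q * r * w = q * (w * r) := by rw [h2]; group
        _ = _ := by rw [← mul_assoc, h1]; group
    exact mul_right_cancel this
  obtain ⟨q, hq, w, hw, hb⟩ := D.brk_R hz
  have h1 : q * w ∈ W := by
    refine key q hq w hw fun r hr => ?_
    have e1 : q * w = z⁻¹ * (t * z * t) := by rw [hb]; group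
    have e2 : z * r = r * z := h r (D.Q_R hr)
    have e3 : (t * z * t) * r = r * (t * z * t) := by
      have h3 := h (t * r * t) (D.t_R (D.Q_R hr))
      have h4 : t * (z * (t * r * t)) * t = t * ((t * r * t) * z) * t := by rw [h3]
      rw [D.t_mul z, D.t_t, D.t_mul (t * r * t), D.t_t] at h4
      exact h4
    have e4 : z⁻¹ * r = r * z⁻¹ := by
      calc z⁻¹ * r = z⁻¹ * (r * z) * z⁻¹ := by group
        _ = _ := by rw [← e2]; group
    rw [e1, mul_assoc, e3, ← mul_assoc, e4, mul_assoc]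
  obtain ⟨v, hv, h2⟩ := D.fix_R hz h1 hb
  have h3 : z * v ∈ W := by
    have := key (z * v) h2 1 W.one_mem fun r hr => by
      rw [mul_one, mul_assoc, D.W_Q v hv r hr, ← mul_assoc, h r (D.Q_R hr), mul_assoc]
    rwa [mul_one] at this
  have : z = z * v * v⁻¹ := by group
  rw [this]
  exact W.mul_mem h3 (W.inv_mem hv)

/-- transport of `R` -/
theorem Rv_map {H : Type*} [Group H] (f : G →* H) (W Q : Subgroup G) (A : ι → Subgroup G) :
    (Rv W Q A).map f = Rv (W.map f) (Q.map f) (fun i => (A i).map f) := by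
  rw [Rv, Rv, MonoidHom.map_closure]
  congr 1
  ext x
  constructor
  · rintro ⟨a, (⟨i, ha⟩ | ha | ha), rfl⟩
    · exact Or.inl ⟨i, a, ha, rfl⟩
    · exact Or.inr (Or.inl ⟨a, ha, rfl⟩)
    · exact Or.inr (Or.inr ⟨a, ha, rfl⟩)
  · rintro (⟨i, a, ha, rfl⟩ | ⟨a, ha, rfl⟩ | ⟨a, ha, rfl⟩)
    · exact ⟨a, Or.inl ⟨i, ha⟩, rfl⟩
    · exact ⟨a, Or.inr (Or.inl ha), rfl⟩
    · exact ⟨a, Or.inr (Or.inr ha), rfl⟩

/-- an element of `C(t)` taking `(W, Q)` to `(W', Q')` takes `R` into `R'` -/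
theorem conj_mem {κ : Type*} (D : RData t X W Q A) {X' W' Q' : Subgroup G} {A' : κ → Subgroup G}
    (D' : RData t X' W' Q' A') {k : G} (hk : t * k = k * t)
    (hW : ∀ w ∈ W', k⁻¹ * w * k ∈ W) (hW' : ∀ w ∈ W, k * w * k⁻¹ ∈ W')
    (hQ : ∀ q ∈ Q', k⁻¹ * q * k ∈ Q) (hQ' : ∀ q ∈ Q, k * q * k⁻¹ ∈ Q')
    {r : G} (hr : r ∈ Rv W Q A) : k * r * k⁻¹ ∈ Rv W' Q' A' := by
  obtain ⟨h1, h2, q, hq, w, hw, h3⟩ := D.mem_iff.mp hr
  refine D'.mem_iff.mpr ⟨fun v hv => ?_, fun s hs => ?_, k * q * k⁻¹, hQ' q hq, k * w * k⁻¹,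
    hW' w hw, ?_⟩
  · have h := h1 _ (hW v hv)
    calc k * r * k⁻¹ * v = k * (r * (k⁻¹ * v * k)) * k⁻¹ := by group
      _ = _ := by rw [h]; group
  · have h := hW' _ (h2 _ (hQ s hs))
    have e : k * (k⁻¹ * s * k * r * (k⁻¹ * s * k)⁻¹ * r⁻¹) * k⁻¹ =
      s * (k * r * k⁻¹) * s⁻¹ * (k * r * k⁻¹)⁻¹ := by group
    rwa [e] at h
  · have hkt := D.comm_iff.mp hk
    rw [D.t_mul, D.t_mul, D.t_invt, hkt, h3]
    group

end RData

end Cfsg.Agent.OddHalf.D7.Uni.Quad
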