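import Cfsg.Agent.OddHalf.D7.Uni.Face
import Cfsg.Agent.KFacts.Unit.Torus
import Cfsg.Agent.OddHalf.D7.Uni.Rv
import Cfsg.Agent.OddHalf.D7.Uni.Evl

/-!
# ODD D7, `K = PSU_n(q)`, `q` even: equivariance of `W_u`, `Q_u`, `X_u`, `P_u` under all of `C_G(t)` (O8 of bb ODD 11669)

`Semi t j c A ρ`: `c ∈ C(t)` acts on `K = j(PSU)` as conjugation by the semilinear isometry `sg A ρ`.
`Mv`: `c` moves the isotropic vector `u` to `u'` (symmetric notion). `Mv.conj_W`: `c W_u c⁻¹ ≤ W_{u'}`.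
-/

set_option autoImplicit false

namespace Cfsg.Agent.OddHalf.D7.Uni.Equiv

open Cfsg Cfsg.Agent.LieClassical.HermBasic Cfsg.Agent.LieClassical.HermSiegel
  Cfsg.Agent.LieClassical.HermGen Cfsg.Agent.LieClassical.SUBasic Matrix
  Cfsg.Agent.ClassicalGeometry.PSUAutBasic Cfsg.Agent.ClassicalGeometry.PSUAutSylow
  Cfsg.Agent.ClassicalGeometry.PSUAutUnip Cfsg.Agent.ClassicalGeometry.PSUAutPhi
  Cfsg.Agent.KFacts.Unit Cfsg.Agent.OddHalf.D7.Uni.Face

open Cfsg.Agent.ClassicalGeometry.PSUAutCount (gm semiConj toAut act_semiConj)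

variable {F : Type*} [Field F] [Fintype F] {q n : ℕ} {G : Type*} [Group G] {t : G} {j : PSU n F q →* G}

/-- `c ∈ C(t)` acts on `K` as conjugation by the semilinear isometry `sg A ρ`. -/
structure Semi (t : G) (j : PSU n F q →* G) (c : G) (A : GU n F q) (ρ : F ≃+* F) : Prop where
  comm : c * t = t * c
  conj : ∀ g : SU n F q, c * fj n F q j g * c⁻¹ = fj n F q j (semiConj A ρ g)

theorem exists_semi (S : Sit n F q t j) (hF : Fintype.card F = q ^ 2) (hn : 4 ≤ n) {c : G} (hc : c * t = t * c) :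
    ∃ (A : GU n F q) (ρ : F ≃+* F), Semi t j c A ρ := by
  obtain ⟨α, hα⟩ := S.exists_aut hc
  obtain ⟨A, ρ, rfl⟩ := Cfsg.Agent.ClassicalGeometry.PSUAutMain.exists_toAut hF (by omega) (by omega) α
  exact ⟨A, ρ, hc, fun g => hα _⟩

/-- `c` moves the vector `u` to `u'`. -/
structure Mv (hF : Fintype.card F = q ^ 2) (t : G) (j : PSU n F q →* G) (c : G) (ρ : F ≃+* F)
    (u u' : Fin n → F) (hu : hermForm n F q u u = 0) (hu' : hermForm n F q u' u' = 0) : Prop where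
  comm : c * t = t * c
  st : ∀ (g : SU n F q) (a : F), act g u = a • u →
    ∃ g' : SU n F q, act g' u' = ρ a • u' ∧ c * fj n F q j g * c⁻¹ = fj n F q j g'
  st' : ∀ (g : SU n F q) (a : F), act g u' = a • u' →
    ∃ g' : SU n F q, act g' u = ρ.symm a • u ∧ c⁻¹ * fj n F q j g * c = fj n F q j g'
  rr : ∀ x ∈ RR hF u hu, ∃ y ∈ RR hF u' hu', c * j x * c⁻¹ = j y
  rr' : ∀ x ∈ RR hF u' hu', ∃ y ∈ RR hF u hu, c⁻¹ * j x * c = j y
  qq : ∀ x ∈ QQ hF u hu, ∃ y ∈ QQ hF u' hu', c * j x * c⁻¹ = j y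
  qq' : ∀ x ∈ QQ hF u' hu', ∃ y ∈ QQ hF u hu, c⁻¹ * j x * c = j y

theorem Mv.symm {hF : Fintype.card F = q ^ 2} {c : G} {ρ : F ≃+* F} {u u' : Fin n → F}
    {hu : hermForm n F q u u = 0} {hu' : hermForm n F q u' u' = 0} (M : Mv hF t j c ρ u u' hu hu') :
    Mv hF t j c⁻¹ ρ.symm u' u hu' hu where
  comm := (show Commute c t from M.comm).inv_left.eq
  st g a h := by
    obtain ⟨g', h1, h2⟩ := M.st' g a h
    exact ⟨g', h1, by rwa [inv_inv]⟩
  st' g a h := by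
    obtain ⟨g', h1, h2⟩ := M.st g a h
    exact ⟨g', h1, by rwa [inv_inv]⟩
  rr x hx := by
    obtain ⟨y, hy, h⟩ := M.rr' x hx
    exact ⟨y, hy, by rwa [inv_inv]⟩
  rr' x hx := by
    obtain ⟨y, hy, h⟩ := M.rr x hx
    exact ⟨y, hy, by rwa [inv_inv]⟩
  qq x hx := by
    obtain ⟨y, hy, h⟩ := M.qq' x hx
    exact ⟨y, hy, by rwa [inv_inv]⟩
  qq' x hx := by
    obtain ⟨y, hy, h⟩ := M.qq x hx
    exact ⟨y, hy, by rwa [inv_inv]⟩

omit [Fintype F] in
theorem Semi.inv_conj {c : G} {A : GU n F q} {ρ : F ≃+* F} (S : Semi t j c A ρ) (g : SU n F q) :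
    c⁻¹ * fj n F q j g * c = fj n F q j ((semiConj A ρ).symm g) := by
  have h := S.conj ((semiConj A ρ).symm g)
  rw [MulEquiv.apply_symm_apply] at h
  rw [← h]; group

omit [Fintype F] in
theorem sg_inj (A : GU n F q) (ρ : F ≃+* F) {v w : Fin n → F} (h : sg A ρ v = sg A ρ w) : v = w := by
  have h1 : sg A ρ (v + (-1 : F) • w) = 0 := by
    rw [sg_add, sg_smul, h, map_neg, map_one, neg_smul, one_smul, add_neg_cancel]
  have h2 := sg_eq_zero A ρ h1
  rw [neg_smul, one_smul, ← sub_eq_add_neg, sub_eq_zero] at h2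
  exact h2

omit [Fintype F] in
theorem act_sg (A : GU n F q) (ρ : F ≃+* F) (g : SU n F q) (v : Fin n → F) :
    act (semiConj A ρ g) (sg A ρ v) = sg A ρ (act g v) := act_semiConj A ρ g v

/-- An element of `C(t)` with semilinear isometry `sg A ρ` moves `u` to `sg A ρ u`. -/
theorem Semi.mv {hF : Fintype.card F = q ^ 2} {c : G} {A : GU n F q} {ρ : F ≃+* F} (S : Semi t j c A ρ)
    {u : Fin n → F} (hu : hermForm n F q u u = 0) (hu' : hermForm n F q (sg A ρ u) (sg A ρ u) = 0) :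
    Mv hF t j c ρ u (sg A ρ u) hu hu' where
  comm := S.comm
  st g a h := ⟨semiConj A ρ g, by rw [act_sg, h, sg_smul], S.conj g⟩
  st' g a h := by
    refine ⟨(semiConj A ρ).symm g, ?_, S.inv_conj g⟩
    apply sg_inj A ρ
    rw [← act_sg, MulEquiv.apply_symm_apply, h, sg_smul, RingEquiv.apply_symm_apply]
  rr x hx := by
    obtain ⟨g, rfl⟩ := pr_surjective x
    exact ⟨_, (Cfsg.Agent.ClassicalGeometry.PSUAutMain.toAut_RR hF A ρ hu hu' rfl _).1 hx, S.conj g⟩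
  rr' x hx := by
    obtain ⟨g, rfl⟩ := pr_surjective x
    refine ⟨pr n F q ((semiConj A ρ).symm g), ?_, S.inv_conj g⟩
    rw [Cfsg.Agent.ClassicalGeometry.PSUAutMain.toAut_RR hF A ρ hu hu' rfl,
      Cfsg.Agent.ClassicalGeometry.PSUAutMain.toAut_pr', MulEquiv.apply_symm_apply]
    exact hx
  qq x hx := by
    obtain ⟨w, μ, hs, rfl⟩ := mem_QQ.1 hx
    refine ⟨pr n F q (siegel hF (sg A ρ u) (sg A ρ w) (ρ μ) (Cfsg.Agent.ClassicalGeometry.PSUAutExt.isSiegel_semi A ρ hs)),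
      mem_QQ.2 ⟨_, _, _, rfl⟩, ?_⟩
    have h := S.conj (siegel hF u w μ hs)
    rw [Cfsg.Agent.ClassicalGeometry.PSUAutExt.semiConj_siegel] at h
    exact h
  qq' x hx := by
    obtain ⟨w, μ, hs, rfl⟩ := mem_QQ.1 hx
    obtain ⟨v, rfl⟩ := exists_sg A ρ w
    obtain ⟨ν, rfl⟩ := ρ.surjective μ
    have hs' : IsSiegel q u v ν := by
      refine ⟨hu, ?_, ?_⟩
      · have h1 := hs.orth
        rw [herm_sg] at h1
        exact (map_eq_zero ρ).1 h1
      · have h1 := hs.tr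
        rw [herm_sg, ← map_pow, ← map_add, ← map_add] at h1
        exact (map_eq_zero ρ).1 h1
    refine ⟨pr n F q (siegel hF u v ν hs'), mem_QQ.2 ⟨_, _, _, rfl⟩, ?_⟩
    have h := S.conj (siegel hF u v ν hs')
    rw [Cfsg.Agent.ClassicalGeometry.PSUAutExt.semiConj_siegel] at h
    have h3 : c * j (pr n F q (siegel hF u v ν hs')) * c⁻¹ =
      j (pr n F q (siegel hF (sg A ρ u) (sg A ρ v) (ρ ν) hs)) := h
    rw [← h3]; group


section W

variable [CharP F 2] {hF : Fintype.card F = q ^ 2} {W : (Fin n → F) → Subgroup G}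

omit [CharP F 2] in
/-- `t` normalises `W u`. -/
theorem t_W (D : Dbl hF t j W) {u : Fin n → F} (hu0 : u ≠ 0) (hu : hermForm n F q u u = 0) {w : G} (hw : w ∈ W u) :
    t * w * t ∈ W u := by
  obtain ⟨x, hx, e⟩ := D.brk hu0 hu w hw
  rw [e]
  exact mul_mem hw (D.X_le hu0 hu ⟨x, hx, rfl⟩)

theorem W_X (D : Dbl hF t j W) {u : Fin n → F} (hu0 : u ≠ 0) (hu : hermForm n F q u u = 0) {w : G} (hw : w ∈ W u)
    {x : PSU n F q} (hx : x ∈ RR hF u hu) : w * j x = j x * w := by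
  obtain ⟨g, hg, rfl⟩ := QQ_le_PP hF hu (RR_le_QQ hF hu hx)
  exact D.cent hu0 hu w hw g hg

/-- The elements of `C(t)` which centralise `P_u`. -/
theorem cent_P (S : Sit n F q t j) (hn : 4 ≤ n) {u : Fin n → F} (hu0 : u ≠ 0) (hu : hermForm n F q u u = 0) {d : G}
    (hd : d * t = t * d) (hc : ∀ g : SU n F q, act g u = u → d * fj n F q j g = fj n F q j g * d) :
    ∃ x ∈ RR hF u hu, d = j x ∨ d = t * j x := by
  obtain ⟨α, hα⟩ := S.exists_aut hd
  have h1 : ∀ x ∈ QQ hF u hu, α x = x := by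
    intro x hx
    obtain ⟨g, hg, rfl⟩ := QQ_le_PP hF hu hx
    apply S.inj
    rw [← hα]
    have h2 : d * j (pr n F q g) = j (pr n F q g) * d := hc g hg
    rw [h2, mul_inv_cancel_right]
  obtain ⟨x, hx, rfl⟩ := autCent_point hF hn hu0 hu α h1
  obtain ⟨g, rfl⟩ := pr_surjective x
  exact ⟨_, hx, S.eq_or hd hα⟩

theorem dich (D : Dbl hF t j W) (hn : 4 ≤ n) {c : G} {ρ : F ≃+* F} {u u' : Fin n → F} (hu0 : u ≠ 0) (hu0' : u' ≠ 0)
    {hu : hermForm n F q u u = 0} {hu' : hermForm n F q u' u' = 0} (M : Mv hF t j c ρ u u' hu hu') {w : G}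
    (hw : w ∈ W u) : c * w * c⁻¹ ∈ W u' ∨ ∃ v ∈ W u', c * w * c⁻¹ = t * v := by
  obtain ⟨x, hx, e⟩ := D.brk hu0 hu w hw
  obtain ⟨y, hy, ey⟩ := M.rr x hx
  obtain ⟨v, hv, ev⟩ := D.surj hu0' hu' y hy
  have ct : Commute c t := M.comm
  set w' := c * w * c⁻¹ with hw'
  have h1 : t * w' * t = w' * j y := by
    calc t * w' * t = (t * c) * w * (c⁻¹ * t) := by rw [hw']; group
      _ = (c * t) * w * (t * c⁻¹) := by rw [ct.eq, ct.inv_left.eq]
      _ = c * (t * w * t) * c⁻¹ := by group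
      _ = c * (w * j x) * c⁻¹ := by rw [e]
      _ = (c * w * c⁻¹) * (c * j x * c⁻¹) := by group
      _ = w' * j y := by rw [ey]
  have htt : t * t = 1 := D.tt
  have htv : t * v⁻¹ * t = (j y)⁻¹ * v⁻¹ := by
    have h2 : (t * v * t)⁻¹ = t * v⁻¹ * t := by
      have : t⁻¹ = t := inv_eq_of_mul_eq_one_left htt
      rw [_root_.mul_inv_rev, _root_.mul_inv_rev, this, mul_assoc]
    rw [← h2, ev, _root_.mul_inv_rev]
  have hd : (w' * v⁻¹) * t = t * (w' * v⁻¹) := by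
    have h2 : t * (w' * v⁻¹) * t = w' * v⁻¹ := by
      calc t * (w' * v⁻¹) * t = t * w' * (t * t) * v⁻¹ * t := by rw [htt]; group
        _ = (t * w' * t) * (t * v⁻¹ * t) := by group
        _ = w' * v⁻¹ := by rw [h1, htv]; group
    calc (w' * v⁻¹) * t = (t * (w' * v⁻¹) * t) * t := by rw [h2]
      _ = t * (w' * v⁻¹) * (t * t) := by group
      _ = t * (w' * v⁻¹) := by rw [htt, mul_one]
  have hc : ∀ g : SU n F q, act g u' = u' → (w' * v⁻¹) * fj n F q j g = fj n F q j g * (w' * v⁻¹) := by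
    intro g hg
    have h2 : Commute v (fj n F q j g) := D.cent hu0' hu' v hv g hg
    obtain ⟨g', hg', e'⟩ := M.st' g 1 (by rw [one_smul]; exact hg)
    rw [map_one, one_smul] at hg'
    have h3 : Commute w (fj n F q j g') := D.cent hu0 hu w hw g' hg'
    have h4 : Commute w' (fj n F q j g) := by
      have h5 : fj n F q j g = c * fj n F q j g' * c⁻¹ := by rw [← e']; group
      rw [h5, hw']
      show c * w * c⁻¹ * (c * fj n F q j g' * c⁻¹) = c * fj n F q j g' * c⁻¹ * (c * w * c⁻¹)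
      calc c * w * c⁻¹ * (c * fj n F q j g' * c⁻¹) = c * (w * fj n F q j g') * c⁻¹ := by group
        _ = c * (fj n F q j g' * w) * c⁻¹ := by rw [h3.eq]
        _ = _ := by group
    exact (h4.mul_left h2.inv_left).eq
  obtain ⟨z, hz, h2⟩ := cent_P (hF := hF) D.toSit hn hu0' hu' hd hc
  have hzW : j z ∈ W u' := D.X_le hu0' hu' ⟨z, hz, rfl⟩
  rcases h2 with h2 | h2
  · left
    rw [mul_inv_eq_iff_eq_mul] at h2
    rw [h2]
    exact mul_mem hzW hv
  · right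
    refine ⟨j z * v, mul_mem hzW hv, ?_⟩
    rw [mul_inv_eq_iff_eq_mul] at h2
    rw [h2, mul_assoc]

/-- **`c W_u c⁻¹ ≤ W_{u'}`.** -/
theorem Mv.conj_W (D : Dbl hF t j W) (hn : 4 ≤ n) {c : G} {ρ : F ≃+* F} {u u' : Fin n → F} (hu0 : u ≠ 0) (hu0' : u' ≠ 0)
    {hu : hermForm n F q u u = 0} {hu' : hermForm n F q u' u' = 0} (M : Mv hF t j c ρ u u' hu hu') {w : G}
    (hw : w ∈ W u) : c * w * c⁻¹ ∈ W u' := by
  have ct : Commute c t := M.comm
  have htt : t * t = 1 := D.tt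
  -- the elements of `X_u`
  have hX : ∀ x ∈ RR hF u hu, c * j x * c⁻¹ ∈ W u' := by
    intro x hx
    obtain ⟨y, hy, e⟩ := M.rr x hx
    rw [e]
    exact D.X_le hu0' hu' ⟨y, hy, rfl⟩
  by_cases hq : q = 2
  · rcases dich D hn hu0 hu0' M hw with h | ⟨v, hv, h⟩
    · exact h
    · -- `(t v)² = 1` gives `[v, t] = 1`
      have h1 : (t * v) * (t * v) = 1 := by
        rw [← h]
        calc c * w * c⁻¹ * (c * w * c⁻¹) = c * (w * w) * c⁻¹ := by group
          _ = 1 := by rw [D.sq hq hu0 hu w hw]; group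
      have h2 : v * v = 1 := D.sq hq hu0' hu' v hv
      have h3 : t * v * t = v⁻¹ := by
        rw [eq_inv_iff_mul_eq_one, mul_assoc]
        exact h1
      have h4 : v⁻¹ = v := inv_eq_of_mul_eq_one_left h2
      rw [h4] at h3
      have h5 : t * v = v * t := by
        calc t * v = (t * v * t) * t := by rw [mul_assoc (t * v), htt, mul_one]
          _ = v * t := by rw [h3]
      -- `w` commutes with `t`
      have h6 : t * w = w * t := by
        have h7 : Commute t (c * w * c⁻¹) := by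
          rw [h]
          exact (Commute.refl t).mul_right h5
        have h8 : Commute t (c⁻¹ * (c * w * c⁻¹) * c) := ((ct.symm.inv_right.mul_right h7).mul_right ct.symm)
        have h9 : c⁻¹ * (c * w * c⁻¹) * c = w := by group
        rw [h9] at h8
        exact h8.eq
      obtain ⟨x, hx, rfl⟩ := D.fix hu0 hu w hw h6
      exact hX x hx
  · -- `q > 2`: `w = (h w₁ h⁻¹) w₁⁻¹ x`
    obtain ⟨f, hf⟩ := exists_hyp hF hu0 hu
    obtain ⟨h, hh, hfree⟩ := exists_HH_free hF (by omega) hq hf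
    obtain ⟨b, hb0, hbq, rfl⟩ := hh
    set h0 : SU n F q := hyp hF hf b hb0 hbq with hh0
    have hh0u : act h0 u = b • u := act_hyp_e hF hf hb0 hbq
    obtain ⟨x, hx, e⟩ := D.brk hu0 hu w hw
    -- `x = [h, x₁]`
    have hnorm : ∀ x ∈ RR hF u hu, pr n F q h0 * x * (pr n F q h0)⁻¹ ∈ RR hF u hu := fun x hx =>
      HH_conj_RR hF hf ⟨b, hb0, hbq, rfl⟩ hx
    have hab : ∀ x ∈ RR hF u hu, ∀ y ∈ RR hF u hu, x * y = y * x := by
      intro x hx y hy
      exact PP_comm_RR hF hu (QQ_le_PP hF hu (RR_le_QQ hF hu hx)) hy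
    let φ : RR hF u hu → RR hF u hu := fun x =>
      ⟨pr n F q h0 * x * (pr n F q h0)⁻¹ * (x : PSU n F q)⁻¹, mul_mem (hnorm x x.2) (inv_mem x.2)⟩
    have hφ : Function.Injective φ := by
      intro x y hxy
      have h1 : pr n F q h0 * x * (pr n F q h0)⁻¹ * (x : PSU n F q)⁻¹ =
          pr n F q h0 * y * (pr n F q h0)⁻¹ * (y : PSU n F q)⁻¹ := congrArg Subtype.val hxy
      have h2 : pr n F q h0 * ((y : PSU n F q)⁻¹ * x) * (pr n F q h0)⁻¹ = (y : PSU n F q)⁻¹ * x := by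
        have c1 := hab _ (inv_mem y.2) _ x.2
        calc pr n F q h0 * ((y : PSU n F q)⁻¹ * x) * (pr n F q h0)⁻¹
            = (pr n F q h0 * y * (pr n F q h0)⁻¹)⁻¹ * (pr n F q h0 * x * (pr n F q h0)⁻¹) := by group
          _ = (pr n F q h0 * y * (pr n F q h0)⁻¹)⁻¹ *
              ((pr n F q h0 * x * (pr n F q h0)⁻¹ * (x : PSU n F q)⁻¹) * x) := by group
          _ = (pr n F q h0 * y * (pr n F q h0)⁻¹)⁻¹ *
              ((pr n F q h0 * y * (pr n F q h0)⁻¹ * (y : PSU n F q)⁻¹) * x) := by rw [h1]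
          _ = (y : PSU n F q)⁻¹ * x := by group
      have h3 := hfree _ (mul_mem (inv_mem y.2) x.2) h2
      rw [inv_mul_eq_one] at h3
      exact Subtype.ext h3.symm
    obtain ⟨⟨x₁, hx₁⟩, hx₁e⟩ := (Finite.injective_iff_surjective.1 hφ) ⟨x, hx⟩
    have hx₁e : pr n F q h0 * x₁ * (pr n F q h0)⁻¹ * x₁⁻¹ = x := congrArg Subtype.val hx₁e
    obtain ⟨w₁, hw₁, e₁⟩ := D.surj hu0 hu x₁ hx₁
    set k := fj n F q j h0 with hk
    have hkt : Commute t k := D.tj _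
    -- `k w₁ k⁻¹ ∈ W u`
    have hkw : k * w₁ * k⁻¹ ∈ W u := by
      have h1 := D.conj hu0 hu h0 w₁ hw₁
      rw [hh0u, D.smul hu0 hu hb0] at h1
      exact h1
    set w₂ := k * w₁ * k⁻¹ * w₁⁻¹ with hw₂
    have hw₂W : w₂ ∈ W u := mul_mem hkw (inv_mem hw₁)
    have hti : t⁻¹ = t := inv_eq_of_mul_eq_one_left htt
    have hj : k * j x₁ * k⁻¹ * (j x₁)⁻¹ = j x := by
      rw [← hx₁e, map_mul, map_mul, map_mul, map_inv, map_inv]; rfl
    have e₂ : t * w₂ * t = w₂ * j x := by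
      have h1 : t * w₁⁻¹ * t = (j x₁)⁻¹ * w₁⁻¹ := by
        have h2 : (t * w₁ * t)⁻¹ = t * w₁⁻¹ * t := by
          rw [_root_.mul_inv_rev, _root_.mul_inv_rev, hti, mul_assoc]
        rw [← h2, e₁, _root_.mul_inv_rev]
      have h3 : Commute w₁ (j x) := W_X D hu0 hu hw₁ hx
      calc t * w₂ * t = (t * k) * w₁ * (k⁻¹ * t) * (t * w₁⁻¹ * t) := by
            rw [hw₂]
            calc t * (k * w₁ * k⁻¹ * w₁⁻¹) * t = t * k * w₁ * k⁻¹ * 1 * w₁⁻¹ * t := by group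
              _ = t * k * w₁ * k⁻¹ * (t * t) * w₁⁻¹ * t := by rw [htt]
              _ = _ := by group
        _ = (k * t) * w₁ * (t * k⁻¹) * ((j x₁)⁻¹ * w₁⁻¹) := by rw [hkt.eq, hkt.symm.inv_left.eq, h1]
        _ = k * (t * w₁ * t) * k⁻¹ * ((j x₁)⁻¹ * w₁⁻¹) := by group
        _ = k * w₁ * k⁻¹ * (k * j x₁ * k⁻¹ * (j x₁)⁻¹) * w₁⁻¹ := by rw [e₁]; group
        _ = k * w₁ * k⁻¹ * (j x * w₁⁻¹) := by rw [hj]; group
        _ = w₂ * j x := by rw [← h3.inv_left.eq, hw₂]; group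
    -- `w = w₂` modulo `X`
    have hd : t * (w * w₂⁻¹) = (w * w₂⁻¹) * t := by
      have h2 : t * w₂⁻¹ * t = (j x)⁻¹ * w₂⁻¹ := by
        have h2 : (t * w₂ * t)⁻¹ = t * w₂⁻¹ * t := by
          rw [_root_.mul_inv_rev, _root_.mul_inv_rev, hti, mul_assoc]
        rw [← h2, e₂, _root_.mul_inv_rev]
      have h3 : t * (w * w₂⁻¹) * t = w * w₂⁻¹ := by
        calc t * (w * w₂⁻¹) * t = t * w * 1 * w₂⁻¹ * t := by group
          _ = t * w * (t * t) * w₂⁻¹ * t := by rw [htt]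
          _ = (t * w * t) * (t * w₂⁻¹ * t) := by group
          _ = w * w₂⁻¹ := by rw [e, h2]; group
      calc t * (w * w₂⁻¹) = (t * (w * w₂⁻¹) * t) * t := by rw [mul_assoc (t * (w * w₂⁻¹)), htt, mul_one]
        _ = _ := by rw [h3]
    obtain ⟨y, hy, hye⟩ := D.fix hu0 hu _ (mul_mem hw (inv_mem hw₂W)) hd
    have hwe : w = j y * w₂ := by
      have : j y = w * w₂⁻¹ := hye
      rw [this]; group
    -- the image of `w₂`
    obtain ⟨g', hg', hge⟩ := M.st h0 b hh0u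
    have hb' : ρ b ≠ 0 := (map_ne_zero ρ).2 hb0
    have hkey : c * w₂ * c⁻¹ ∈ W u' := by
      set k' := fj n F q j g' with hk'
      have hk't : Commute t k' := D.tj _
      have hWk : ∀ v ∈ W u', k' * v * k'⁻¹ ∈ W u' := by
        intro v hv
        have h1 := D.conj hu0' hu' g' v hv
        rw [hg', D.smul hu0' hu' hb'] at h1
        exact h1
      have h1 : c * w₂ * c⁻¹ = k' * (c * w₁ * c⁻¹) * k'⁻¹ * (c * w₁ * c⁻¹)⁻¹ := by
        rw [← hge, ← hk, hw₂]; group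
      rw [h1]
      rcases dich D hn hu0 hu0' M hw₁ with h2 | ⟨v, hv, h2⟩
      · exact mul_mem (hWk _ h2) (inv_mem h2)
      · rw [h2]
        have h3 : k' * (t * v) * k'⁻¹ * (t * v)⁻¹ = t * ((k' * v * k'⁻¹) * v⁻¹) * t := by
          calc k' * (t * v) * k'⁻¹ * (t * v)⁻¹ = (k' * t) * v * k'⁻¹ * v⁻¹ * t⁻¹ := by group
            _ = (t * k') * v * k'⁻¹ * v⁻¹ * t := by rw [hk't.eq, hti]
            _ = _ := by group
        rw [h3]
        exact t_W D hu0' hu' (mul_mem (hWk v hv) (inv_mem hv))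
    have h1 : c * w * c⁻¹ = (c * j y * c⁻¹) * (c * w₂ * c⁻¹) := by rw [hwe]; group
    rw [h1]
    exact mul_mem (hX y hy) hkey

end W


section All

variable {hF : Fintype.card F = q ^ 2} {W : (Fin n → F) → Subgroup G}

theorem map_QQ (hF : Fintype.card F = q ^ 2) (j : PSU n F q →* G) {u : Fin n → F} (hu : hermForm n F q u u = 0) :
    (QQ hF u hu).map j = (siegG hF u hu).map (fj n F q j) := by
  rw [QQ, fj, Subgroup.map_map]

theorem map_RR (hF : Fintype.card F = q ^ 2) (j : PSU n F q →* G) {u : Fin n → F} (hu : hermForm n F q u u = 0) :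
    (RR hF u hu).map j = (transvG hF u hu).map (fj n F q j) := by
  rw [RR, fj, Subgroup.map_map]

theorem Mv.conj_X {c : G} {ρ : F ≃+* F} {u u' : Fin n → F}
    {hu : hermForm n F q u u = 0} {hu' : hermForm n F q u' u' = 0} (M : Mv hF t j c ρ u u' hu hu') {x : G}
    (hx : x ∈ (RR hF u hu).map j) : c * x * c⁻¹ ∈ (RR hF u' hu').map j := by
  obtain ⟨y, hy, rfl⟩ := hx
  obtain ⟨z, hz, e⟩ := M.rr y hy
  exact ⟨z, hz, e.symm⟩

theorem Mv.conj_Q {c : G} {ρ : F ≃+* F} {u u' : Fin n → F}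
    {hu : hermForm n F q u u = 0} {hu' : hermForm n F q u' u' = 0} (M : Mv hF t j c ρ u u' hu hu') {x : G}
    (hx : x ∈ (QQ hF u hu).map j) : c * x * c⁻¹ ∈ (QQ hF u' hu').map j := by
  obtain ⟨y, hy, rfl⟩ := hx
  obtain ⟨z, hz, e⟩ := M.qq y hy
  exact ⟨z, hz, e.symm⟩

/-- `c R_u c⁻¹ ≤ R_{u'}` -/
theorem Mv.conj_R [CharP F 2] (D : Dbl hF t j W) (hn : 4 ≤ n) {c : G} {ρ : F ≃+* F} {u u' : Fin n → F} (hu0 : u ≠ 0)
    (hu0' : u' ≠ 0) {hu : hermForm n F q u u = 0} {hu' : hermForm n F q u' u' = 0} (M : Mv hF t j c ρ u u' hu hu')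
    {ι κ : Type*} {X X' Q Q' : Subgroup G} {A : ι → Subgroup G} {A' : κ → Subgroup G}
    (hQ : Q = (QQ hF u hu).map j) (hQ' : Q' = (QQ hF u' hu').map j)
    (R : Quad.RData t X (W u) Q A) (R' : Quad.RData t X' (W u') Q' A') {r : G}
    (hr : r ∈ Quad.Rv (W u) Q A) : c * r * c⁻¹ ∈ Quad.Rv (W u') Q' A' := by
  have M' := M.symm
  subst hQ hQ'
  refine R.conj_mem R' M.comm.symm ?_ (fun w hw => M.conj_W D hn hu0 hu0' hw) ?_ (fun x hx => M.conj_Q hx) hr
  · intro w hw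
    have := M'.conj_W D hn hu0' hu0 hw
    rwa [inv_inv] at this
  · intro x hx
    have := M'.conj_Q hx
    rwa [inv_inv] at this

omit [Fintype F] in
/-- Conjugation of closures. -/
theorem conj_closure {c : G} {S S' : Set G} (h : ∀ x ∈ S, c * x * c⁻¹ ∈ Subgroup.closure S') {x : G}
    (hx : x ∈ Subgroup.closure S) : c * x * c⁻¹ ∈ Subgroup.closure S' := by
  have h1 : Subgroup.closure S ≤ (Subgroup.closure S').comap (MulAut.conj c).toMonoidHom := by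
    rw [Subgroup.closure_le]
    exact h
  exact h1 hx

omit [Fintype F] in
/-- Conjugation of `E_{v,l}`. -/
theorem conj_Evl {c : G} {E W Q E' W' Q' : Subgroup G} (hE : ∀ x ∈ E, c * x * c⁻¹ ∈ E')
    (hW : ∀ x ∈ W, c * x * c⁻¹ ∈ W') (hQ : ∀ x ∈ Q', c⁻¹ * x * c ∈ Q) {x : G} (hx : x ∈ Quad.Evl E W Q) :
    c * x * c⁻¹ ∈ Quad.Evl E' W' Q' := by
  refine conj_closure ?_ hx
  rintro x ⟨h1, h2⟩
  refine Subgroup.subset_closure ⟨hE x h1, fun y hy => ?_⟩
  have h3 := hW _ (h2 _ (hQ y hy))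
  have e : c * (c⁻¹ * y * c * x * (c⁻¹ * y * c)⁻¹ * x⁻¹) * c⁻¹ = y * (c * x * c⁻¹) * y⁻¹ * (c * x * c⁻¹)⁻¹ := by group
  rwa [e] at h3

end All

end Cfsg.Agent.OddHalf.D7.Uni.Equiv
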