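import Mathlib

/-!
# `W_u` normalises `R_v` for `u ⟂ v` (ODD D7, `K = U_n(q)`; text: helper929, `blueprints/ODD-D7-Un-helper929.md`, section 5)

`Pt t X W Q R`: the doubled group `R` of `Q` at one point `v` (`W` = the double of `X = Z(Q)`).
`Pair t X W Q R Xu Wu`: a second point `u ⟂ v`, with its doubled transvection group `Wu ≥ Xu`.
`Pair.conj_mem`: `Wu` normalises `R`.
-/

set_option autoImplicit false

namespace Cfsg.Agent.OddHalf.D7.Uni.Norm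

open Subgroup

variable {G : Type*} [Group G]

/-- `R` is a double of `Q`: section 4 of the text. -/
structure Pt (t : G) (X W Q R : Subgroup G) : Prop where
  tt : t * t = 1
  WR : W ≤ R
  QR : Q ≤ R
  tQ : ∀ q ∈ Q, t * q = q * t
  Wc : ∀ w ∈ W, ∀ r ∈ R, w * r = r * w
  com : ∀ r ∈ R, ∀ s ∈ R, r * s * r⁻¹ * s⁻¹ ∈ W
  sq : ∀ r ∈ R, r * r ∈ W
  /-- `[r, t] ∈ Q W` -/
  brk : ∀ r ∈ R, ∃ q ∈ Q, ∃ w ∈ W, t * r * t = r * (q * w)
  /-- every element of `Q` is `[r, t]` modulo `W` -/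
  onto : ∀ q ∈ Q, ∃ r ∈ R, ∃ w ∈ W, t * r * t = r * (q * w)
  Wt : ∀ w ∈ W, t * w * t ∈ W
  Wfix : ∀ w ∈ W, t * w = w * t → w ∈ X
  /-- an element of `W` inverted by `t` is `[x, t]` with `x ∈ W` -/
  Winv : ∀ w ∈ W, t * w * t = w⁻¹ → ∃ x ∈ W, t * x * t = x * w
  /-- `C_{C(t)}(Q / X) ∩ C(W) = Q` -/
  k2 : ∀ g : G, t * g = g * t → (∀ q ∈ Q, g * q * g⁻¹ * q⁻¹ ∈ X) → (∀ w ∈ W, g * w = w * g) → g ∈ Q

namespace Pt

variable {t : G} {X W Q R : Subgroup G}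

theorem tinv (P : Pt t X W Q R) : t⁻¹ = t := inv_eq_of_mul_eq_one_left P.tt

/-- `t a b t = (t a t) (t b t)` -/
theorem t_mul (P : Pt t X W Q R) (a b : G) : t * (a * b) * t = (t * a * t) * (t * b * t) := by
  calc t * (a * b) * t = t * a * 1 * b * t := by group
    _ = t * a * (t * t) * b * t := by rw [P.tt]
    _ = (t * a * t) * (t * b * t) := by group

theorem t_inv (P : Pt t X W Q R) (a : G) : t * a⁻¹ * t = (t * a * t)⁻¹ := by
  rw [mul_inv_rev, mul_inv_rev, P.tinv, mul_assoc]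

theorem t_t (P : Pt t X W Q R) (a : G) : t * (t * a * t) * t = a := by
  calc t * (t * a * t) * t = (t * t) * a * (t * t) := by group
    _ = a := by rw [P.tt]; group

theorem t_eq (P : Pt t X W Q R) {a : G} : t * a * t = a ↔ t * a = a * t := by
  constructor
  · intro h
    calc t * a = t * a * t * t⁻¹ := by group
      _ = a * t := by rw [h, P.tinv]
  · intro h
    rw [h, mul_assoc, P.tt, mul_one]

/-- (4.2) `C_R(t) = Q` -/
theorem fix (P : Pt t X W Q R) {g : G} (hg : g ∈ R) (ht : t * g = g * t) : g ∈ Q := by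
  refine P.k2 g ht (fun q hq => ?_) (fun w hw => (P.Wc w hw g hg).symm)
  apply P.Wfix _ (P.com g hg q (P.QR hq))
  have c1 : Commute t g := ht
  have c2 : Commute t q := P.tQ q hq
  exact (((c1.mul_right c2).mul_right c1.inv_right).mul_right c2.inv_right).eq

/-- (4.3) an element of `R` which is centralised by `t` modulo `W` lies in `Q W`. -/
theorem fixW (P : Pt t X W Q R) {g w : G} (hg : g ∈ R) (hw : w ∈ W) (h : t * g * t = g * w) :
    ∃ q ∈ Q, ∃ x ∈ W, g = q * x := by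
  have h1 : t * w * t = w⁻¹ := by
    have h2 : t * (t * g * t) * t = t * (g * w) * t := by rw [h]
    rw [P.t_t, P.t_mul, h, mul_assoc] at h2
    have h3 : w * (t * w * t) = 1 := by
      have := h2.symm
      rwa [mul_eq_left] at this
    exact eq_inv_of_mul_eq_one_right h3
  obtain ⟨x, hx, hxw⟩ := P.Winv w hw h1
  refine ⟨g * x⁻¹, P.fix (mul_mem hg (inv_mem (P.WR hx))) ?_, x, hx, by group⟩
  rw [← P.t_eq, P.t_mul, P.t_inv, hxw, h]
  group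

/-- (4.4) an element of `R` inverted by `t` is `[x, t]` with `x ∈ R`. -/
theorem inv (P : Pt t X W Q R) {y : G} (hy : y ∈ R) (h : t * y * t = y⁻¹) : ∃ x ∈ R, t * x * t = x * y := by
  -- `[y, t] = y⁻² ∈ W`, so `y ∈ Q W`
  have h1 : t * y * t = y * (y * y)⁻¹ := by rw [h]; group
  obtain ⟨q, hq, v, hv, rfl⟩ := P.fixW hy (inv_mem (P.sq y hy)) h1
  obtain ⟨r, hr, w, hw, hrw⟩ := P.onto q hq
  -- `t r t = r q w`; correct by an element of `W`
  have hvq : v * q = q * v := P.Wc v hv q (P.QR hq)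
  have hcQ : t * q * t = q := P.t_eq.2 (P.tQ q hq)
  -- `u := w⁻¹ v` is inverted by `t`
  have h2 : t * (t * r * t) * t = t * (r * (q * w)) * t := by rw [hrw]
  rw [P.t_t, P.t_mul, hrw, P.t_mul, hcQ] at h2
  -- `r = r q w q (t w t)`
  have h3 : w * (t * w * t) = (q * q)⁻¹ := by
    have h4 : q * w * (q * (t * w * t)) = 1 := by
      have : r * (q * w * (q * (t * w * t))) = r := by
        rw [← mul_assoc]; exact h2.symm
      rwa [mul_eq_left] at this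
    have h5 : w * q = q * w := P.Wc w hw q (P.QR hq)
    have h6 : q * q * (w * (t * w * t)) = 1 := by
      calc q * q * (w * (t * w * t)) = q * (q * w) * (t * w * t) := by group
        _ = q * (w * q) * (t * w * t) := by rw [h5]
        _ = q * w * (q * (t * w * t)) := by group
        _ = 1 := h4
    exact eq_inv_of_mul_eq_one_right h6
  have h7 : v * (t * v * t) = (q * q)⁻¹ := by
    rw [P.t_mul, hcQ, mul_inv_rev] at h
    -- `q (t v t) = v⁻¹ q⁻¹`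
    have h8 : v * q * (t * v * t) * q = 1 := by
      calc v * q * (t * v * t) * q = v * (q * (t * v * t)) * q := by group
        _ = v * (v⁻¹ * q⁻¹) * q := by rw [h]
        _ = 1 := by group
    have h9 : (t * v * t) * q = q * (t * v * t) := P.Wc _ (P.Wt v hv) q (P.QR hq)
    have h10 : q * q * (v * (t * v * t)) = 1 := by
      calc q * q * (v * (t * v * t)) = q * (q * v) * (t * v * t) := by group
        _ = q * (v * q) * (t * v * t) := by rw [hvq]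
        _ = (q * v) * q * (t * v * t) := by group
        _ = (v * q) * (q * (t * v * t)) := by rw [← hvq]; group
        _ = (v * q) * ((t * v * t) * q) := by rw [h9]
        _ = v * q * (t * v * t) * q := by group
        _ = 1 := h8
    exact eq_inv_of_mul_eq_one_right h10
  have h11 : t * (w⁻¹ * v) * t = (w⁻¹ * v)⁻¹ := by
    rw [P.t_mul, P.t_inv]
    have h12 : t * w * t = w⁻¹ * (q * q)⁻¹ := by rw [← h3]; group
    have h13 : t * v * t = v⁻¹ * (q * q)⁻¹ := by rw [← h7]; group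
    rw [h12, h13]
    -- `(w⁻¹ c)⁻¹ (v⁻¹ c) = c⁻¹ w v⁻¹ c = w v⁻¹`
    have h14 : (w * v⁻¹) * (q * q)⁻¹ = (q * q)⁻¹ * (w * v⁻¹) :=
      P.Wc _ (mul_mem hw (inv_mem hv)) _ (inv_mem (mul_mem (P.QR hq) (P.QR hq)))
    have h15 : v⁻¹ * w = w * v⁻¹ := P.Wc _ (inv_mem hv) w (P.WR hw)
    have h17 : ∀ c : G, (w⁻¹ * c⁻¹)⁻¹ * (v⁻¹ * c⁻¹) = c * ((w * v⁻¹) * c⁻¹) := by intro c; group
    rw [h17, h14, mul_inv_cancel_left, ← h15]
    group
  obtain ⟨x, hx, hxw⟩ := P.Winv _ (mul_mem (inv_mem hw) hv) h11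
  refine ⟨r * x, mul_mem hr (P.WR hx), ?_⟩
  rw [P.t_mul, hrw, hxw]
  have h16 : x * (q * w) = (q * w) * x := P.Wc x hx _ (mul_mem (P.QR hq) (P.WR hw))
  calc r * (q * w) * (x * (w⁻¹ * v)) = r * ((q * w) * x) * (w⁻¹ * v) := by group
    _ = r * (x * (q * w)) * (w⁻¹ * v) := by rw [h16]
    _ = r * x * (q * v) := by group

end Pt

/-- Two perpendicular points `v ≠ u`: `Pt t X W Q R` at `v`, and the doubled group `Wu ≥ Xu` at `u`. -/
structure Pair (t : G) (X W Q R Xu Wu : Subgroup G) : Prop where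
  tXu : ∀ z ∈ Xu, t * z = z * t
  Xu2 : ∀ z ∈ Xu, z * z = 1
  XWu : Xu ≤ Wu
  Wuc : ∀ w ∈ Wu, ∀ z ∈ Xu, w * z = z * w
  brk : ∀ w ∈ Wu, ∃ z ∈ Xu, t * w * t = w * z
  WW : ∀ w ∈ Wu, ∀ v ∈ W, w * v = v * w
  /-- (5a) `[W_u, Q_v] ≤ E_{v,⟨v,u⟩}` -/
  nQ : ∀ w ∈ Wu, ∀ q ∈ Q, w⁻¹ * q⁻¹ * w * q ∈ R ∧ ∀ w' ∈ Wu, w' * (w⁻¹ * q⁻¹ * w * q) = w⁻¹ * q⁻¹ * w * q * w'
  nR : ∀ z ∈ Xu, ∀ r ∈ R, z * r * z⁻¹ ∈ R
  /-- `[q, z] = [y, t]` modulo `W`, with `y ∈ E_{v,⟨v,u⟩}` -/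
  lift : ∀ z ∈ Xu, ∀ q ∈ Q, ∃ y ∈ R, (∀ w ∈ Wu, w * y = y * w) ∧ ∃ x ∈ W,
    t * y * t = y * (q⁻¹ * z⁻¹ * q * z) * x
  /-- `q ∈ Q` commuting with `z ∈ Xu`, `z ≠ 1`, modulo `X` lies in `P_u`. -/
  perp : ∀ z ∈ Xu, z ≠ 1 → ∀ q ∈ Q, q⁻¹ * z⁻¹ * q * z ∈ X → ∀ w ∈ Wu, w * q = q * w
  /-- generators of `R` -/
  gen : R ≤ closure {e | e ∈ R ∧ ∃ q ∈ Q, t * e * t = e * q ∧ q * e = e * q}

namespace Pair

variable {t : G} {X W Q R Xu Wu : Subgroup G}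

theorem nR' (S : Pair t X W Q R Xu Wu) {z : G} (hz : z ∈ Xu) {r : G} (hr : r ∈ R) : z⁻¹ * r * z ∈ R := by
  simpa using S.nR z⁻¹ (inv_mem hz) r hr

/-- (5.1) `[R, Xu] ≤ C_R(Wu)` -/
theorem kappa (P : Pt t X W Q R) (S : Pair t X W Q R Xu Wu) {r z : G} (hr : r ∈ R) (hz : z ∈ Xu) :
    ∀ w ∈ Wu, w * (r⁻¹ * z⁻¹ * r * z) = r⁻¹ * z⁻¹ * r * z * w := by
  rcases eq_or_ne z 1 with rfl | hz1
  · intro w _
    simp
  obtain ⟨q, hq, w, hw, hrw⟩ := P.brk r hr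
  have hzW : ∀ x ∈ W, z * x = x * z := fun x hx => S.WW z (S.XWu hz) x hx
  have htz : t * z * t = z := P.t_eq.2 (S.tXu z hz)
  set κ := r⁻¹ * z⁻¹ * r * z with hκ
  have hκR : κ ∈ R := by
    have h1 : κ = r⁻¹ * (z⁻¹ * r * z) := by rw [hκ]; group
    rw [h1]
    exact mul_mem (inv_mem hr) (S.nR' hz hr)
  -- `t κ t`
  have h1 : t * κ * t = κ * ((κ⁻¹ * q⁻¹ * κ * q) * (q⁻¹ * z⁻¹ * q * z)) := by
    have h2 : t * κ * t = (r * (q * w))⁻¹ * z⁻¹ * (r * (q * w)) * z := by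
      rw [hκ, P.t_mul, P.t_mul, P.t_mul, P.t_inv, P.t_inv, hrw, htz]
    have h3 : z⁻¹ * w * z = w := by
      rw [mul_assoc, ← hzW w hw]; group
    have h4 : w⁻¹ * (q⁻¹ * κ * (z⁻¹ * q * z)) * w = q⁻¹ * κ * (z⁻¹ * q * z) := by
      have h5 : q⁻¹ * κ * (z⁻¹ * q * z) ∈ R :=
        mul_mem (mul_mem (inv_mem (P.QR hq)) hκR) (S.nR' hz (P.QR hq))
      rw [mul_assoc, ← P.Wc w hw _ h5]; group
    calc t * κ * t = w⁻¹ * q⁻¹ * (r⁻¹ * z⁻¹ * r * z) * (z⁻¹ * q * z) * (z⁻¹ * w * z) := by rw [h2]; group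
      _ = w⁻¹ * (q⁻¹ * κ * (z⁻¹ * q * z)) * w := by rw [h3, hκ]; group
      _ = q⁻¹ * κ * (z⁻¹ * q * z) := h4
      _ = κ * ((κ⁻¹ * q⁻¹ * κ * q) * (q⁻¹ * z⁻¹ * q * z)) := by group
  have h2 : κ⁻¹ * q⁻¹ * κ * q ∈ W := by
    have := P.com κ⁻¹ (inv_mem hκR) q⁻¹ (inv_mem (P.QR hq))
    simpa using this
  obtain ⟨y, hy, hyW, x, hx, hyx⟩ := S.lift z hz q hq
  -- `g = κ y⁻¹` is centralised by `t` modulo `W`
  have h3 : t * (κ * y⁻¹) * t = κ * y⁻¹ * (y * ((κ⁻¹ * q⁻¹ * κ * q) * x⁻¹) * y⁻¹) := by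
    rw [P.t_mul, P.t_inv, h1, hyx]
    have hcW := P.Wc x hx
    set c := q⁻¹ * z⁻¹ * q * z with hc
    have hcR : c ∈ R := by
      have : c = q⁻¹ * (z⁻¹ * q * z) := by rw [hc]; group
      rw [this]; exact mul_mem (inv_mem (P.QR hq)) (S.nR' hz (P.QR hq))
    have h5 : c * x⁻¹ = x⁻¹ * c := (P.Wc _ (inv_mem hx) c hcR).symm
    set k := κ⁻¹ * q⁻¹ * κ * q with hk
    calc κ * (k * c) * (y * c * x)⁻¹ = κ * k * (c * x⁻¹) * c⁻¹ * y⁻¹ := by group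
      _ = κ * k * (x⁻¹ * c) * c⁻¹ * y⁻¹ := by rw [h5]
      _ = κ * y⁻¹ * (y * (k * x⁻¹) * y⁻¹) := by group
  have h4 : y * ((κ⁻¹ * q⁻¹ * κ * q) * x⁻¹) * y⁻¹ ∈ W := by
    have h5 := mul_mem h2 (inv_mem hx)
    rw [← P.Wc _ h5 y hy, mul_inv_cancel_right]
    exact h5
  obtain ⟨q0, hq0, y', hy', hg⟩ := P.fixW (mul_mem hκR (inv_mem hy)) h4 h3
  have hκe : κ = q0 * y' * y := by rw [← hg]; group
  -- `q0` is fixed by `z` modulo `X`
  have h5 : z⁻¹ * κ * z = κ⁻¹ := by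
    have hzz : z * z = 1 := S.Xu2 z hz
    have hzi : z⁻¹ = z := inv_eq_of_mul_eq_one_left hzz
    rw [hκ, hzi]
    calc z * (r⁻¹ * z * r * z) * z = z * r⁻¹ * z * r * (z * z) := by group
      _ = z * r⁻¹ * z * r := by rw [hzz, mul_one]
      _ = z⁻¹ * r⁻¹ * z⁻¹⁻¹ * r := by rw [hzi, hzi]
      _ = (r⁻¹ * z⁻¹ * r * z)⁻¹ := by group
      _ = (r⁻¹ * z * r * z)⁻¹ := by rw [hzi]
  have h6 : z⁻¹ * y * z = y := by
    rw [mul_assoc, ← hyW z (S.XWu hz)]; group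
  have h7 : z⁻¹ * y' * z = y' := by
    rw [mul_assoc, ← hzW y' hy']; group
  have h8 : (z⁻¹ * q0 * z) = q0 * (κ * κ)⁻¹ := by
    have h9 : z⁻¹ * κ * z = (z⁻¹ * q0 * z) * (z⁻¹ * y' * z) * (z⁻¹ * y * z) := by rw [hκe]; group
    rw [h5, h6, h7] at h9
    have h10 : z⁻¹ * q0 * z = κ⁻¹ * (y' * y)⁻¹ := by rw [h9]; group
    have h11 := P.Wc _ (inv_mem (P.sq κ hκR)) (y' * y)⁻¹ (inv_mem (mul_mem (P.WR hy') hy))
    have h12 : ∀ a b : G, a⁻¹ * b = a * ((a * a)⁻¹ * b) := by intro a b; group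
    rw [h10, h12, h11, hκe]
    have h13 : ∀ c : G, q0 * y' * y * ((y' * y)⁻¹ * c) = q0 * c := by intro c; group
    rw [h13]
  have h9 : q0⁻¹ * z⁻¹ * q0 * z ∈ X := by
    have h10 : q0⁻¹ * z⁻¹ * q0 * z = (κ * κ)⁻¹ := by
      have : q0⁻¹ * z⁻¹ * q0 * z = q0⁻¹ * (z⁻¹ * q0 * z) := by group
      rw [this, h8]; group
    apply P.Wfix
    · rw [h10]; exact inv_mem (P.sq κ hκR)
    · have c1 : Commute t z := S.tXu z hz
      have c2 : Commute t q0 := P.tQ q0 hq0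
      exact (((c2.inv_right.mul_right c1.inv_right).mul_right c2).mul_right c1).eq
  have h10 := S.perp z hz hz1 q0 hq0 h9
  intro a ha
  rw [hκe]
  have c1 : Commute a q0 := h10 a ha
  have c2 : Commute a y' := S.WW a ha y' hy'
  have c3 : Commute a y := hyW a ha
  exact ((c1.mul_right c2).mul_right c3).eq

/-- (5.2) for a generator `e` of `R`: `[w, e] ∈ R`. -/
theorem comm_mem (P : Pt t X W Q R) (S : Pair t X W Q R Xu Wu) {w e q₀ : G} (hw : w ∈ Wu) (he : e ∈ R)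
    (hq₀ : q₀ ∈ Q) (het : t * e * t = e * q₀) (hqe : q₀ * e = e * q₀) : w⁻¹ * e⁻¹ * w * e ∈ R := by
  obtain ⟨z, hz, hwt⟩ := S.brk w hw
  set d := w⁻¹ * e⁻¹ * w * e with hd
  have hWw : ∀ x ∈ W, Commute x w := fun x hx => (S.WW w hw x hx).symm
  have hWe : ∀ x ∈ W, Commute x e := fun x hx => P.Wc x hx e he
  have hWd : ∀ x ∈ W, Commute x d := fun x hx =>
    (((hWw x hx).inv_right.mul_right (hWe x hx).inv_right).mul_right (hWw x hx)).mul_right (hWe x hx)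
  -- (A)
  have hA : ∀ a ∈ R, (∀ w ∈ Wu, w * a = a * w) → Commute a d := by
    intro a ha haw
    have h1 : a * w * a⁻¹ = w := by rw [← haw w hw]; group
    have h2 : a * e * a⁻¹ = (a * e * a⁻¹ * e⁻¹) * e := by group
    have h3 := P.com a ha e he
    set x := a * e * a⁻¹ * e⁻¹ with hx
    have h4 : a * d * a⁻¹ = w⁻¹ * (x * e)⁻¹ * w * (x * e) := by
      rw [← h2, hd]
      calc a * (w⁻¹ * e⁻¹ * w * e) * a⁻¹
          = (a * w * a⁻¹)⁻¹ * (a * e * a⁻¹)⁻¹ * (a * w * a⁻¹) * (a * e * a⁻¹) := by group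
        _ = w⁻¹ * (a * e * a⁻¹)⁻¹ * w * (a * e * a⁻¹) := by rw [h1]
    have h5 : w⁻¹ * (x * e)⁻¹ * w * (x * e) = d := by
      have h6 : w * x = x * w := (hWw x h3).eq.symm
      calc w⁻¹ * (x * e)⁻¹ * w * (x * e) = w⁻¹ * e⁻¹ * x⁻¹ * (w * x) * e := by group
        _ = w⁻¹ * e⁻¹ * x⁻¹ * (x * w) * e := by rw [h6]
        _ = w⁻¹ * e⁻¹ * w * e := by group
    rw [h5] at h4
    show a * d = d * a
    calc a * d = a * d * a⁻¹ * a := by group
      _ = d * a := by rw [h4]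
  -- general: `a⁻¹ d a ∈ d W` for `a` with `[w, a] ∈ C_R(Wu)`, `[e, a] ∈ W`
  have hB : ∀ a : G, w⁻¹ * a⁻¹ * w * a ∈ R → (∀ w' ∈ Wu, w' * (w⁻¹ * a⁻¹ * w * a) = w⁻¹ * a⁻¹ * w * a * w') →
      e⁻¹ * a⁻¹ * e * a ∈ W → ∃ x ∈ W, a⁻¹ * d * a = d * x := by
    intro a h1 h2 h3
    set y := w⁻¹ * a⁻¹ * w * a with hy
    set x := e⁻¹ * a⁻¹ * e * a with hx
    refine ⟨y⁻¹ * e⁻¹ * y * e, by simpa using P.com y⁻¹ (inv_mem h1) e⁻¹ (inv_mem he), ?_⟩
    have h4 : a⁻¹ * w * a = w * y := by rw [hy]; group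
    have h5 : a⁻¹ * e * a = e * x := by rw [hx]; group
    have hxy : Commute x y := P.Wc x h3 y h1
    have hxw := hWw x h3
    have hxe := hWe x h3
    have h6 := hA y h1 h2
    calc a⁻¹ * d * a = (a⁻¹ * w * a)⁻¹ * (a⁻¹ * e * a)⁻¹ * (a⁻¹ * w * a) * (a⁻¹ * e * a) := by rw [hd]; group
      _ = (w * y)⁻¹ * x⁻¹ * e⁻¹ * (w * y) * (e * x) := by rw [h4, h5]; group
      _ = x⁻¹ * ((w * y)⁻¹ * e⁻¹ * (w * y) * e) * x := by
          rw [((hxw.mul_right hxy).inv_inv.eq).symm]; group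
      _ = (w * y)⁻¹ * e⁻¹ * (w * y) * e := by
          have h7 : Commute x ((w * y)⁻¹ * e⁻¹ * (w * y) * e) :=
            ((((hxw.mul_right hxy).inv_right).mul_right hxe.inv_right).mul_right (hxw.mul_right hxy)).mul_right hxe
          rw [mul_assoc, ← h7.eq]; group
      _ = y⁻¹ * (w⁻¹ * e⁻¹ * w * e) * e⁻¹ * y * e := by group
      _ = y⁻¹ * d * e⁻¹ * y * e := by rw [hd]
      _ = d * y⁻¹ * e⁻¹ * y * e := by rw [h6.inv_left.eq]
      _ = d * (y⁻¹ * e⁻¹ * y * e) := by group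
  obtain ⟨hy0R, hy0W⟩ := S.nQ w hw q₀ hq₀
  obtain ⟨x1, hx1, hdq⟩ := hB q₀ hy0R hy0W (by
    have : e⁻¹ * q₀⁻¹ * e * q₀ = 1 := by
      calc e⁻¹ * q₀⁻¹ * e * q₀ = e⁻¹ * q₀⁻¹ * (e * q₀) := by group
        _ = e⁻¹ * q₀⁻¹ * (q₀ * e) := by rw [hqe]
        _ = 1 := by group
    rw [this]; exact one_mem _)
  set y0 := w⁻¹ * q₀⁻¹ * w * q₀ with hy0
  -- `z` commutes with `d`
  have hzd : Commute z d := by
    have hκR : e⁻¹ * z⁻¹ * e * z ∈ R := by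
      have h1 : e⁻¹ * z⁻¹ * e * z = e⁻¹ * (z⁻¹ * e * z) := by group
      rw [h1]; exact mul_mem (inv_mem he) (S.nR' hz he)
    have h2 := hA _ hκR (fun a ha => S.kappa P he hz a ha)
    have hwz : w * z = z * w := S.Wuc w hw z hz
    set κ := e⁻¹ * z⁻¹ * e * z with hκ
    have h3 : z⁻¹ * d * z = κ⁻¹ * d * κ := by
      have h4 : z⁻¹ * w * z = w := by rw [mul_assoc, hwz]; group
      have h5 : z⁻¹ * e * z = e * κ := by rw [hκ]; group
      have hκw : κ⁻¹ * w * κ = w := by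
        have := S.kappa P he hz w hw
        rw [← hκ] at this
        rw [mul_assoc, this]; group
      calc z⁻¹ * d * z = (z⁻¹ * w * z)⁻¹ * (z⁻¹ * e * z)⁻¹ * (z⁻¹ * w * z) * (z⁻¹ * e * z) := by rw [hd]; group
        _ = w⁻¹ * (κ⁻¹ * e⁻¹ * w * e * κ) := by rw [h4, h5]; group
        _ = (κ⁻¹ * w * κ)⁻¹ * (κ⁻¹ * e⁻¹ * w * e * κ) := by rw [hκw]
        _ = κ⁻¹ * (w⁻¹ * e⁻¹ * w * e) * κ := by group
        _ = κ⁻¹ * d * κ := by rw [hd]
    have h6 : κ⁻¹ * d * κ = d := by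
      rw [mul_assoc, ← h2.eq]; group
    rw [h6] at h3
    show z * d = d * z
    calc z * d = z * (z⁻¹ * d * z) := by rw [h3]
      _ = d * z := by group
  -- `t d t = d y1`
  set s := z⁻¹ * (e * q₀)⁻¹ * z * (e * q₀) with hs
  have hsR : s ∈ R := by
    have h1 : s = (z⁻¹ * (e * q₀)⁻¹ * z) * (e * q₀) := by rw [hs]
    rw [h1]
    have h2 : e * q₀ ∈ R := mul_mem he (P.QR hq₀)
    exact mul_mem (S.nR' hz (inv_mem h2)) h2
  have hdt : t * d * t = d * (y0 * x1 * s) := by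
    have h1 : t * d * t = (w * z)⁻¹ * (e * q₀)⁻¹ * (w * z) * (e * q₀) := by
      rw [hd, P.t_mul, P.t_mul, P.t_mul, P.t_inv, P.t_inv, hwt, het]
    have h2 : w⁻¹ * (e * q₀)⁻¹ * w * (e * q₀) = y0 * (d * x1) := by
      rw [← hdq, hy0, hd]; group
    have h3 : z⁻¹ * (y0 * (d * x1)) * z = y0 * (d * x1) := by
      have c1 : Commute z y0 := hy0W z (S.XWu hz)
      have c2 : Commute z x1 := S.WW z (S.XWu hz) x1 hx1
      have c3 : Commute z (y0 * (d * x1)) := c1.mul_right (hzd.mul_right c2)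
      rw [mul_assoc, ← c3.eq]; group
    have h4 := (hA y0 hy0R hy0W).eq
    calc t * d * t = z⁻¹ * (w⁻¹ * (e * q₀)⁻¹ * w * (e * q₀)) * z * s := by rw [h1, hs]; group
      _ = y0 * (d * x1) * s := by rw [h2, h3]
      _ = (y0 * d) * (x1 * s) := by group
      _ = d * (y0 * x1 * s) := by rw [h4]; group
  have hy1R : y0 * x1 * s ∈ R := mul_mem (mul_mem hy0R (P.WR hx1)) hsR
  set y1 := y0 * x1 * s with hy1
  have hy1t : t * y1 * t = y1⁻¹ := by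
    have h1 : t * (t * d * t) * t = t * (d * y1) * t := by rw [hdt]
    rw [P.t_t, P.t_mul, hdt, mul_assoc] at h1
    have h2 := h1.symm
    rw [mul_eq_left] at h2
    exact eq_inv_of_mul_eq_one_right h2
  obtain ⟨y2, hy2, hy2t⟩ := P.inv hy1R hy1t
  have hd0t : t * (d * y2⁻¹) = d * y2⁻¹ * t := by
    rw [← P.t_eq, P.t_mul, P.t_inv, hdt, hy2t]; group
  have hd0 : d * y2⁻¹ ∈ Q := by
    refine P.k2 _ hd0t (fun q hq => ?_) (fun a ha => ?_)
    · obtain ⟨h1, h2⟩ := S.nQ w hw q hq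
      have h3 : e⁻¹ * q⁻¹ * e * q ∈ W := by
        have := P.com e⁻¹ (inv_mem he) q⁻¹ (inv_mem (P.QR hq))
        simpa using this
      obtain ⟨x, hx, hdx⟩ := hB q h1 h2 h3
      have h4 : y2⁻¹ * q * y2 = q * (q⁻¹ * y2⁻¹ * q * y2) := by group
      have h5 : q⁻¹ * y2⁻¹ * q * y2 ∈ W := by
        have := P.com q⁻¹ (inv_mem (P.QR hq)) y2⁻¹ (inv_mem hy2)
        simpa using this
      set c := q⁻¹ * y2⁻¹ * q * y2 with hc
      have h6 : d * y2⁻¹ * q * (d * y2⁻¹)⁻¹ * q⁻¹ = x * c := by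
        have h7 : d * q = q * d * x := by
          have : q * (q⁻¹ * d * q) = q * (d * x) := by rw [hdx]
          calc d * q = q * (q⁻¹ * d * q) := by group
            _ = q * (d * x) := this
            _ = q * d * x := by group
        have c1 : Commute c d := hWd c h5
        have c2 : Commute x d := hWd x hx
        have c3 : Commute c q := P.Wc c h5 q (P.QR hq)
        have c4 : Commute x q := P.Wc x hx q (P.QR hq)
        calc d * y2⁻¹ * q * (d * y2⁻¹)⁻¹ * q⁻¹ = d * (y2⁻¹ * q * y2) * d⁻¹ * q⁻¹ := by group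
          _ = (d * q) * (c * d⁻¹) * q⁻¹ := by rw [h4]; group
          _ = (q * d * x) * (d⁻¹ * c) * q⁻¹ := by rw [h7, c1.inv_right.eq]
          _ = q * (d * (x * d⁻¹)) * c * q⁻¹ := by group
          _ = q * (d * (d⁻¹ * x)) * c * q⁻¹ := by rw [c2.inv_right.eq]
          _ = q * x * (c * q⁻¹) := by group
          _ = q * x * (q⁻¹ * c) := by rw [c3.inv_right.eq]
          _ = q * (x * q⁻¹) * c := by group
          _ = q * (q⁻¹ * x) * c := by rw [c4.inv_right.eq]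
          _ = x * c := by group
      have h7 : d * y2⁻¹ * q * (d * y2⁻¹)⁻¹ * q⁻¹ ∈ W := by
        rw [h6]; exact mul_mem hx h5
      apply P.Wfix _ h7
      have c1 : Commute t (d * y2⁻¹) := hd0t
      have c2 : Commute t q := P.tQ q hq
      exact (((c1.mul_right c2).mul_right c1.inv_right).mul_right c2.inv_right).eq
    · have c1 : Commute a d := hWd a ha
      have c2 : Commute a y2 := P.Wc a ha y2 hy2
      exact ((c1.mul_right c2.inv_right).eq).symm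
  have h1 : d = d * y2⁻¹ * y2 := by group
  rw [h1]
  exact mul_mem (P.QR hd0) hy2

/-- **`W_u` normalises `R_v`.** -/
theorem conj_mem (P : Pt t X W Q R) (S : Pair t X W Q R Xu Wu) {w r : G} (hw : w ∈ Wu) (hr : r ∈ R) :
    w * r * w⁻¹ ∈ R := by
  have key : R ≤ R.comap (MulAut.conj w).toMonoidHom := by
    refine S.gen.trans ?_
    rw [closure_le]
    rintro e ⟨he, q, hq, het, hqe⟩
    show w * e * w⁻¹ ∈ R
    have h1 := S.comm_mem P (inv_mem hw) he hq het hqe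
    -- `w e⁻¹ w⁻¹ e ∈ R`
    rw [inv_inv] at h1
    have h2 : w * e * w⁻¹ = e * (w * e⁻¹ * w⁻¹ * e)⁻¹ := by group
    rw [h2]
    exact mul_mem he (inv_mem h1)
  exact key hr

end Pair

end Cfsg.Agent.OddHalf.D7.Uni.Norm
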