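import Cfsg.Agent.OddHalf.D7.Uni.FaceInst
import Cfsg.Agent.OddHalf.D7.Uni.Norm

/-!
# The doubled groups `R v` in vector language: the interface between `FaceQ` and `FaceFrame` (helper54)

`RF hF t j W R`: for every isotropic `v ≠ 0` the double `R v` of `Q v` (`Norm.Pt`), equivariance, `W u` normalises `R v`
for `u ⟂ v`, and the elements of `R v` above `S(v; x, 0)`, `x` isotropic, `x ⟂ v`.
-/

set_option autoImplicit false

namespace Cfsg.Agent.OddHalf.D7.Uni.FaceR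

open Cfsg Cfsg.Agent.LieClassical.HermBasic Cfsg.Agent.LieClassical.HermSiegel
  Cfsg.Agent.LieClassical.HermGen Cfsg.Agent.LieClassical.SUBasic Matrix
  Cfsg.Agent.ClassicalGeometry.PSUAutBasic Cfsg.Agent.ClassicalGeometry.PSUAutSylow
  Cfsg.Agent.ClassicalGeometry.PSUAutUnip Cfsg.Agent.ClassicalGeometry.PSUAutPhi
  Cfsg.Agent.KFacts.Unit Cfsg.Agent.OddHalf.D7.Uni.Face

variable {F : Type*} [Field F] [Fintype F] {q n : ℕ} {G : Type*} [Group G]

/-- Output of `FaceQ`. -/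
structure RF (hF : Fintype.card F = q ^ 2) (t : G) (j : PSU n F q →* G) (W R : (Fin n → F) → Subgroup G) : Prop
    extends Dbl hF t j W where
  Wsq : ∀ {u : Fin n → F}, u ≠ 0 → hermForm n F q u u = 0 → ∀ w ∈ W u, w * w = 1
  pt : ∀ {u : Fin n → F}, u ≠ 0 → ∀ (hu : hermForm n F q u u = 0),
    Norm.Pt t ((RR hF u hu).map j) (W u) ((QQ hF u hu).map j) (R u)
  conjR : ∀ {u : Fin n → F}, u ≠ 0 → hermForm n F q u u = 0 → ∀ g : SU n F q, ∀ r ∈ R u,
    fj n F q j g * r * (fj n F q j g)⁻¹ ∈ R (act g u)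
  /-- `W u` normalises `R v` for `u ⟂ v` -/
  norm' : ∀ {u v : Fin n → F}, u ≠ 0 → hermForm n F q u u = 0 → v ≠ 0 → hermForm n F q v v = 0 →
    hermForm n F q u v = 0 → ∀ w ∈ W u, ∀ r ∈ R v, w * r * w⁻¹ ∈ R v
  /-- elements of `R v` above `S(v; x, 0)` -/
  lift : ∀ {v x : Fin n → F}, v ≠ 0 → hermForm n F q v v = 0 → hermForm n F q x x = 0 → hermForm n F q x v = 0 →
    (∀ c : F, x ≠ c • v) → ∃ e ∈ R v,
      e ∈ Subgroup.closure {w | ∃ a b : F, a • v + b • x ≠ 0 ∧ w ∈ W (a • v + b • x)} ∧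
      ∃ w ∈ W v, t * e * t = e * (fj n F q j (Sg hF v x 0) * w)

end Cfsg.Agent.OddHalf.D7.Uni.FaceR
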