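import Cfsg.Agent.OddHalf.D7.Uni.FaceComm
import Cfsg.Agent.OddHalf.D7.Uni.FaceR
import Cfsg.Agent.OddHalf.D7.Uni.Equiv
import Cfsg.Agent.OddHalf.D7Out.ConstU

/-!
# ODD D7, `K = PSU_n(q)`: an involution `g ∈ C(t)` normalising the points of a frame: `g` or `t g` centralises `W_v`

`cent_or_fld`: `g` acts as the semilinear isometry `x ↦ x ^ q` of the frame `v, v', u, u'` (`ConstU.cent_or`).
-/

set_option autoImplicit false
set_option linter.unusedSectionVars false

namespace Cfsg.Agent.OddHalf.D7.Uni.ConstInst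

open Cfsg Cfsg.Agent.LieClassical.HermBasic Cfsg.Agent.LieClassical.HermSiegel
  Cfsg.Agent.LieClassical.HermGen Cfsg.Agent.LieClassical.SUBasic Matrix
  Cfsg.Agent.ClassicalGeometry.PSUAutBasic Cfsg.Agent.ClassicalGeometry.PSUAutSylow
  Cfsg.Agent.ClassicalGeometry.PSUAutUnip Cfsg.Agent.ClassicalGeometry.PSUAutPhi
  Cfsg.Agent.KFacts.Unit Cfsg.Agent.OddHalf.D7.Uni.Face Cfsg.Agent.OddHalf.D7.Uni.Equiv
  Cfsg.Agent.OddHalf.D7.Uni.FaceR Cfsg.Agent.OddHalf.D7Out

open Cfsg.Agent.ClassicalGeometry.PSUAutCount (gm semiConj toAut act_semiConj)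

variable {F : Type*} [Field F] [Fintype F] {q n : ℕ} {G : Type*} [Group G] {t g : G} {j : PSU n F q →* G}

/-- Semilinear conjugation of a Siegel element. -/
theorem sc_Sg (hF : Fintype.card F = q ^ 2) {A : GU n F q} {ρ : F ≃+* F} (S : Semi t j g A ρ) {u w : Fin n → F} {μ : F}
    (h : IsSiegel q u w μ) :
    g * fj n F q j (Sg hF u w μ) * g⁻¹ = fj n F q j (Sg hF (sg A ρ u) (sg A ρ w) (ρ μ)) := by
  have h' : IsSiegel q (sg A ρ u) (sg A ρ w) (ρ μ) := Cfsg.Agent.ClassicalGeometry.PSUAutExt.isSiegel_semi A ρ h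
  rw [S.conj, Sg_eq hF h, Sg_eq hF h', Cfsg.Agent.ClassicalGeometry.PSUAutExt.semiConj_siegel]
  rfl

/-- `g` acts as the field automorphism of the frame. -/
structure Fld (t : G) (j : PSU n F q →* G) (g : G) (A : GU n F q) (ρ : F ≃+* F) (v v' u u' : Fin n → F) : Prop
    extends Semi t j g A ρ where
  gg : g * g = 1
  fr : ∀ x, ρ x = x ^ q
  fv : sg A ρ v = v
  fv' : sg A ρ v' = v'
  fu : sg A ρ u = u
  fu' : sg A ρ u' = u'

section one

variable [CharP F 2] {hF : Fintype.card F = q ^ 2} {v v' u u' : Fin n → F} (H : P2 q v v' u u')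
  {A : GU n F q} {ρ : F ≃+* F} (D : Fld t j g A ρ v v' u u')

include H D

theorem gNp {x : F} (hx : x ^ q = x) : g * fj n F q j (Np hF v x) * g⁻¹ = fj n F q j (Np hF v x) := by
  rw [Np, sc_Sg hF D.toSemi (isS_np H.pp hx), D.fv, sg_zero, D.fr, hx]

theorem gMm (μ : F) : g * fj n F q j (Mm hF v u μ) * g⁻¹ = fj n F q j (Mm hF v u (μ ^ q)) := by
  rw [Mm, sc_Sg hF D.toSemi (isS_vec hF H.pp H.rp H.rr _), D.fv, sg_smul, D.fu, D.fr, map_zero, Mm]

end one

theorem P2.kap (hF : Fintype.card F = q ^ 2) {v v' u u' : Fin n → F} (H : P2 q v v' u u') {z : F} (hz : z ≠ 0) :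
    P2 q v v' (z • u') ((z ^ q)⁻¹ • u) := by
  have e1 : z * ((z ^ q)⁻¹) ^ q = 1 := by
    rw [inv_pow, pow_q_pow_q hF, mul_inv_cancel₀ hz]
  have e2 : (z ^ q)⁻¹ * z ^ q = 1 := inv_mul_cancel₀ (pow_ne_zero _ hz)
  constructor <;>
    simp only [herm_smul_left, herm_smul_right, H.pp, H.p'p', H.pp', H.p'p, H.rr,
      H.r'r', H.rr', H.r'r, H.pr, H.rp, H.pr', H.r'p, H.p'r, H.rp', H.p'r', H.r'p', mul_zero, mul_one] <;>
    first
      | done
      | linear_combination e1
      | linear_combination e2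

theorem exists_kap (hF : Fintype.card F = q ^ 2) (hn : 5 ≤ n) {v v' u u' : Fin n → F} (H : P2 q v v' u u') {z : F}
    (hz : z ≠ 0) : ∃ k : SU n F q, act k v = v ∧ act k u = z • u' ∧ act k u' = (z ^ q)⁻¹ • u := by
  obtain ⟨k, h1, h2⟩ := exists_map_Frm hF hn H.frm (P2.kap hF H hz).frm
  exact ⟨k, h1 0, h1 1, h2 1⟩

section two

variable [CharP F 2] {hF : Fintype.card F = q ^ 2} {v v' u u' : Fin n → F} {W R : (Fin n → F) → Subgroup G}

/-- the subgroups on the line `⟨v, u⟩` -/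
def EL' (W : (Fin n → F) → Subgroup G) (v u : Fin n → F) : Subgroup G :=
  Subgroup.closure {w | ∃ a b : F, a • v + b • u ≠ 0 ∧ w ∈ W (a • v + b • u)}

omit [CharP F 2] in
theorem herm_line (hF : Fintype.card F = q ^ 2) (H : P2 q v v' u u') (a b : F) : hermForm n F q (a • v + b • u) (a • v + b • u) = 0 := by
  rw [herm_add_left, herm_add_right hF, herm_add_right hF, herm_smul_left, herm_smul_left, herm_smul_left,
    herm_smul_left, herm_smul_right, herm_smul_right, herm_smul_right, herm_smul_right, H.pp, H.pr, H.rp, H.rr]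
  ring

omit [CharP F 2] in
/-- the pointwise stabiliser of the line centralises `EL'` -/
theorem cent_EL' (Y : Dbl hF t j W) (H : P2 q v v' u u') {k : SU n F q} (h1 : act k v = v) (h2 : act k u = u) {x : G}
    (hx : x ∈ EL' W v u) : fj n F q j k * x = x * fj n F q j k := by
  refine Subgroup.closure_induction (p := fun x _ => fj n F q j k * x = x * fj n F q j k) ?_ ?_ ?_ ?_ hx
  · rintro w ⟨a, b, hne, hw⟩
    exact (Y.cent hne (herm_line hF H a b) w hw k (by rw [act_add, act_smul, act_smul, h1, h2])).symm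
  · rw [mul_one, one_mul]
  · intro x y _ _ hx hy
    have c1 : Commute (fj n F q j k) x := hx
    have c2 : Commute (fj n F q j k) y := hy
    exact (c1.mul_right c2).eq
  · intro x _ hx
    have c1 : Commute (fj n F q j k) x := hx
    exact c1.inv_right.eq

/-- `g` normalises `EL'` -/
theorem g_EL' (Y : Dbl hF t j W) (hn : 4 ≤ n) (H : P2 q v v' u u') {A : GU n F q} {ρ : F ≃+* F}
    (D : Fld t j g A ρ v v' u u') {x : G} (hx : x ∈ EL' W v u) : g * x * g⁻¹ ∈ EL' W v u := by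
  refine conj_closure ?_ hx
  rintro w ⟨a, b, hne, hw⟩
  have e : sg A ρ (a • v + b • u) = ρ a • v + ρ b • u := by
    rw [sg_add, sg_smul, sg_smul, D.fv, D.fu]
  have hne' : ρ a • v + ρ b • u ≠ 0 := by
    intro h
    rw [← e] at h
    exact hne (sg_eq_zero A ρ h)
  have hu' := herm_line hF H (ρ a) (ρ b)
  have M : Mv hF t j g ρ (a • v + b • u) (ρ a • v + ρ b • u) (herm_line hF H a b) hu' := by
    have := D.toSemi.mv (hF := hF) (herm_line hF H a b) (by rw [e]; exact hu')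
    simpa only [e] using this
  exact Subgroup.subset_closure ⟨ρ a, ρ b, hne', M.conj_W Y hn hne hne' hw⟩

/-- `EL'` lies in the closure of the generators of `E_l` -/
theorem EL'_le (Y : Dbl hF t j W) (H : P2 q v v' u u') : EL' W v u ≤
    Subgroup.closure (LineGrp.gens (W v) (W u) (fun μ => fj n F q j (Mm hF v u μ))
      (fun l => fj n F q j (Mm hF v u' l))) := by
  rw [EL', Subgroup.closure_le]
  rintro w ⟨a, b, hne, hw⟩
  by_cases hb : b = 0
  · subst hb
    rw [zero_smul, add_zero] at hw hne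
    have ha : a ≠ 0 := by rintro rfl; exact hne (zero_smul _ _)
    rw [Y.smul H.p_ne H.pp ha] at hw
    exact Subgroup.subset_closure (Or.inl hw)
  · have e : a • v + b • u = b • (u + (b⁻¹ * a) • v) := by
      rw [smul_add, smul_smul, mul_inv_cancel_left₀ hb, add_comm]
    have e2 := Gg_r hF H (b⁻¹ * a)
    have e3 : act (Mm hF v u' (b⁻¹ * a))⁻¹ (u + (b⁻¹ * a) • v) = u := by rw [← e2, act_inv_act]
    have hne2 : u + (b⁻¹ * a) • v ≠ 0 := by
      intro h
      rw [h, act_zero] at e3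
      exact H.r_ne e3.symm
    have hi2 : hermForm n F q (u + (b⁻¹ * a) • v) (u + (b⁻¹ * a) • v) = 0 := by
      have := herm_line hF H (b⁻¹ * a) 1
      rwa [one_smul, add_comm] at this
    rw [e, Y.smul hne2 hi2 hb] at hw
    refine Subgroup.subset_closure (Or.inr (Or.inl ⟨b⁻¹ * a,
      (fj n F q j (Mm hF v u' (b⁻¹ * a)))⁻¹ * w * fj n F q j (Mm hF v u' (b⁻¹ * a)), ?_, by group⟩))
    have h1 := Y.conj hne2 hi2 (Mm hF v u' (b⁻¹ * a))⁻¹ w hw
    rwa [e3, map_inv, inv_inv] at h1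

omit [CharP F 2] in
theorem Mm_one (hF : Fintype.card F = q ^ 2) (v u : Fin n → F) : Mm hF v u 1 = Sg hF v u 0 := by
  rw [Mm, one_pow, one_smul]

theorem S_inj (S : Sit n F q t j) (hn : 3 ≤ n) (H : P2 q v v' u u') {μ ν : F}
    (h : fj n F q j (Mm hF v u μ) = fj n F q j (Mm hF v u ν)) : μ = ν := by
  have h1 := S.eq_of hF hn H.p_ne (by rw [Mm_p hF H, Mm_p hF H]) h
  have h2 := congrArg (fun k => act k u') h1
  simp only [act_Mm hF H.pp H.rr H.rp] at h2
  have h3 := congrArg (fun x => hermForm n F q x v') h2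
  simp only [herm_sub_left, herm_add_left, herm_smul_left, H.pp', H.rp', H.r'p', H.r'r, H.r'p, mul_zero, mul_one,
    add_zero, zero_sub] at h3
  exact neg_injective h3

omit [CharP F 2] in
theorem not_mul (H : P2 q v v' u u') (c : F) : u ≠ c • v := by
  intro h
  have h1 := H.rr'
  rw [h, herm_smul_left, H.pr', mul_zero] at h1
  exact zero_ne_one h1

/-- an element of `R v` above `m 1` on the line -/
theorem exists_a0 (Y : RF hF t j W R) (H : P2 q v v' u u') : ∃ a ∈ R v, a ∈ EL' W v u ∧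
    t * a * t = a * fj n F q j (Mm hF v u 1) := by
  have ti : t⁻¹ = t := inv_eq_of_mul_eq_one_left Y.tt
  obtain ⟨e, heR, heE, w, hw, he⟩ := Y.lift H.p_ne H.pp H.rr H.rp (not_mul H)
  rw [← Mm_one hF v u] at he
  set s := fj n F q j (Mm hF v u 1) with hs
  have ts : Commute t s := Y.tj _
  have sW : ∀ x ∈ W v, x * s = s * x := fun x hx => Y.cent H.p_ne H.pp x hx _ (Mm_p hF H 1)
  have s2 : s * s = 1 := by
    rw [hs, ← map_mul, ← Mm_add hF H, CharTwo.add_self_eq_zero]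
    have := Mm_add hF H (0 : F) 0
    rw [add_zero] at this
    rw [(mul_eq_left.1 this.symm), map_one]
  have hww : w * w = 1 := Y.Wsq H.p_ne H.pp w hw
  -- `t w t = w`
  have h1 : t * w * t = w := by
    have h2 : t * (t * e * t) * t = e := by
      calc t * (t * e * t) * t = (t * t) * e * (t * t) := by group
        _ = e := by rw [Y.tt]; group
    rw [he] at h2
    have h3 : t * (e * (s * w)) * t = e * ((s * w) * (s * (t * w * t))) := by
      calc t * (e * (s * w)) * t = t * e * 1 * s * w * t := by group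
        _ = t * e * (t * t) * s * w * t := by rw [Y.tt]
        _ = (t * e * t) * (t * s) * w * t := by group
        _ = e * (s * w) * (s * t) * w * t := by rw [he, ts.eq]
        _ = _ := by group
    rw [h3] at h2
    have h4 := mul_eq_left.1 h2
    have h5 : w * (t * w * t) = 1 := by
      calc w * (t * w * t) = (s * s) * w * (t * w * t) := by rw [s2, one_mul]
        _ = s * (s * w) * (t * w * t) := by group
        _ = s * (w * s) * (t * w * t) := by rw [sW w hw]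
        _ = (s * w) * (s * (t * w * t)) := by group
        _ = 1 := h4
    exact mul_left_cancel (h5.trans hww.symm)
  have h2 : t * w = w * t := by
    calc t * w = (t * w * t) * t := by rw [mul_assoc (t * w), Y.tt, mul_one]
      _ = w * t := by rw [h1]
  obtain ⟨x, hx, rfl⟩ := Y.fix H.p_ne H.pp w hw h2
  obtain ⟨w', hw', e'⟩ := Y.surj H.p_ne H.pp x hx
  refine ⟨e * w', mul_mem heR ((Y.pt H.p_ne H.pp).WR hw'), mul_mem heE (Subgroup.subset_closure ⟨1, 0, ?_, ?_⟩), ?_⟩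
  · rw [one_smul, zero_smul, add_zero]
    exact H.p_ne
  · rw [one_smul, zero_smul, add_zero]
    exact hw'
  · have c1 : Commute (j x) w' := by
      have h3 := (Y.pt H.p_ne H.pp).Wc _ hw w' ((Y.pt H.p_ne H.pp).WR hw')
      exact h3
    calc t * (e * w') * t = t * e * 1 * w' * t := by group
      _ = (t * e * t) * (t * w' * t) := by rw [← Y.tt]; group
      _ = e * (s * j x) * (w' * j x) := by rw [he, e']
      _ = e * s * (j x * w') * j x := by group
      _ = e * s * (w' * j x) * j x := by rw [c1.eq]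
      _ = e * (s * w') * (j x * j x) := by group
      _ = e * (w' * s) := by rw [← sW w' hw', hww, mul_one]
      _ = _ := by group

/-- the element `a` of `ConstU` -/
theorem exists_a (Y : RF hF t j W R) (hn : 6 ≤ n) (H : P2 q v v' u u') {A : GU n F q} {ρ : F ≃+* F}
    (D : Fld t j g A ρ v v' u u') : ∃ a ∈ R v, t * a * t = a * fj n F q j (Mm hF v u 1) ∧
      (∀ k : SU n F q, act k v = v → act k u = u → fj n F q j k * a = a * fj n F q j k) ∧
      ∃ x, x ^ q = x ∧ g * a * g⁻¹ = a * fj n F q j (Np hF v x) := by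
  have ti : t⁻¹ = t := inv_eq_of_mul_eq_one_left Y.tt
  have hpr := Y.toDbl.pr hn
  have L := Y.toDbl.el (by omega) hpr H
  set E := Subgroup.closure (LineGrp.gens (W v) (W u) (fun μ => fj n F q j (Mm hF v u μ))
      (fun l => fj n F q j (Mm hF v u' l))) with hE
  have P := Y.pt H.p_ne H.pp
  obtain ⟨a, haR, haE', ha⟩ := exists_a0 Y H
  have haE : a ∈ E := EL'_le Y.toDbl H haE'
  have hgE' : g * a * g⁻¹ ∈ EL' W v u := g_EL' Y.toDbl (by omega) H D haE'
  have hgE : g * a * g⁻¹ ∈ E := EL'_le Y.toDbl H hgE'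
  have M : Mv hF t j g ρ v v H.pp H.pp := by
    have := D.toSemi.mv (hF := hF) H.pp (by rw [D.fv]; exact H.pp)
    simpa only [D.fv] using this
  have M' := M.symm
  -- `a ∈ E_{v,l}`
  have haV : a ∈ Quad.Evl E (W v) ((QQ hF v H.pp).map j) :=
    L.mem_Evl.2 ⟨haE, fun y hy => P.com y (P.QR hy) a haR⟩
  have hgV : g * a * g⁻¹ ∈ Quad.Evl E (W v) ((QQ hF v H.pp).map j) := by
    refine L.mem_Evl.2 ⟨hgE, fun y hy => ?_⟩
    have h1 : g⁻¹ * y * g ∈ (QQ hF v H.pp).map j := by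
      have := M'.conj_Q hy
      rwa [inv_inv] at this
    have h2 := M.conj_W Y.toDbl (by omega) H.p_ne H.p_ne (P.com _ (P.QR h1) a haR)
    have e : g * (g⁻¹ * y * g * a * (g⁻¹ * y * g)⁻¹ * a⁻¹) * g⁻¹ = y * (g * a * g⁻¹) * y⁻¹ * (g * a * g⁻¹)⁻¹ := by group
    rwa [e] at h2
  have hdV : a⁻¹ * (g * a * g⁻¹) ∈ Quad.Evl E (W v) ((QQ hF v H.pp).map j) := mul_mem (inv_mem haV) hgV
  have gt : Commute g t := D.comm
  set s := fj n F q j (Mm hF v u 1) with hs
  have gs : g * s * g⁻¹ = s := by rw [hs, gMm H D, one_pow]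
  have tga : t * (g * a * g⁻¹) * t = g * a * g⁻¹ * s := by
    calc t * (g * a * g⁻¹) * t = (t * g) * a * (g⁻¹ * t) := by group
      _ = (g * t) * a * (t * g⁻¹) := by rw [gt.eq, gt.inv_left.eq]
      _ = g * (t * a * t) * g⁻¹ := by group
      _ = g * a * g⁻¹ * (g * s * g⁻¹) := by rw [ha]; group
      _ = _ := by rw [gs]
  have hsE : s ∈ E := L.m_E 1
  have hdt : t * (a⁻¹ * (g * a * g⁻¹)) = (a⁻¹ * (g * a * g⁻¹)) * t := by
    have h1 : t * (a⁻¹ * (g * a * g⁻¹)) * t = a⁻¹ * (g * a * g⁻¹) := by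
      calc t * (a⁻¹ * (g * a * g⁻¹)) * t = t * a⁻¹ * 1 * (g * a * g⁻¹) * t := by group
        _ = (t * a⁻¹ * t) * (t * (g * a * g⁻¹) * t) := by rw [← Y.tt]; group
        _ = (t * a * t)⁻¹ * (g * a * g⁻¹ * s) := by
            rw [tga]
            congr 1
            rw [_root_.mul_inv_rev, _root_.mul_inv_rev, ti]; group
        _ = s⁻¹ * (a⁻¹ * (g * a * g⁻¹) * s) := by rw [ha]; group
        _ = s⁻¹ * (s * (a⁻¹ * (g * a * g⁻¹))) := by rw [L.ab _ (mul_mem (inv_mem haE) hgE) s hsE]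
        _ = _ := by group
    calc t * (a⁻¹ * (g * a * g⁻¹)) = (t * (a⁻¹ * (g * a * g⁻¹)) * t) * t := by
          rw [mul_assoc (t * (a⁻¹ * (g * a * g⁻¹))), Y.tt, mul_one]
      _ = _ := by rw [h1]
  obtain ⟨x, e, hx, hde⟩ := L.cent_Evl hdV hdt
  have hx' : x ^ q = x := hx
  have hga : g * a * g⁻¹ = a * (fj n F q j (Np hF v x) * fj n F q j (Mm hF v u e)) := by
    rw [← hde]; group
  -- `e ^ q = e`
  have hmm : ∀ μ ν, fj n F q j (Mm hF v u (μ + ν)) = fj n F q j (Mm hF v u μ) * fj n F q j (Mm hF v u ν) :=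
    fun μ ν => by rw [Mm_add hF H, map_mul]
  have hnm : ∀ μ, Commute (fj n F q j (Np hF v x)) (fj n F q j (Mm hF v u μ)) := fun μ => by
    show fj n F q j (Np hF v x) * fj n F q j (Mm hF v u μ) = fj n F q j (Mm hF v u μ) * fj n F q j (Np hF v x)
    rw [← map_mul, ← map_mul, Np_Mm hF H hx']
  have hnn : fj n F q j (Np hF v x) * fj n F q j (Np hF v x) = 1 := by
    have h0 := Np_add hF H (zero_pow_q hF) (zero_pow_q hF)
    rw [add_zero] at h0
    rw [← map_mul, ← Np_add hF H hx' hx', CharTwo.add_self_eq_zero, mul_eq_left.1 h0.symm, map_one]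
  have he : e ^ q = e := by
    have h1 : g * (g * a * g⁻¹) * g⁻¹ = a := by
      calc g * (g * a * g⁻¹) * g⁻¹ = (g * g) * a * (g * g)⁻¹ := by group
        _ = a := by rw [D.gg]; group
    have h2 : g * (g * a * g⁻¹) * g⁻¹ = a * fj n F q j (Mm hF v u (e + e ^ q)) := by
      calc g * (g * a * g⁻¹) * g⁻¹ = (g * a * g⁻¹) * (g * fj n F q j (Np hF v x) * g⁻¹) *
            (g * fj n F q j (Mm hF v u e) * g⁻¹) := by
              conv_lhs => rw [hga]
              group
        _ = a * (fj n F q j (Np hF v x) * fj n F q j (Mm hF v u e)) * fj n F q j (Np hF v x) *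
            fj n F q j (Mm hF v u (e ^ q)) := by rw [hga, gNp H D hx', gMm H D]
        _ = a * (fj n F q j (Np hF v x) * (fj n F q j (Mm hF v u e) * fj n F q j (Np hF v x))) *
            fj n F q j (Mm hF v u (e ^ q)) := by group
        _ = a * ((fj n F q j (Np hF v x) * fj n F q j (Np hF v x)) * fj n F q j (Mm hF v u e)) *
            fj n F q j (Mm hF v u (e ^ q)) := by rw [← (hnm e).eq]; group
        _ = _ := by rw [hnn, one_mul, hmm, mul_assoc]
    rw [h1] at h2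
    have h3 : fj n F q j (Mm hF v u (e + e ^ q)) = 1 := mul_eq_left.1 h2.symm
    have h4 : fj n F q j (Mm hF v u (e + e ^ q)) = fj n F q j (Mm hF v u 0) := by
      rw [h3]
      have h0 := hmm 0 0
      rw [add_zero] at h0
      exact (mul_eq_left.1 h0.symm).symm
    have h5 := S_inj Y.toDbl.toSit (by omega) H h4
    rw [CharTwo.add_eq_zero] at h5
    exact h5.symm
  obtain ⟨y, hy⟩ := exists_trace_eq hF he
  refine ⟨a * fj n F q j (Mm hF v u y), mul_mem haR (P.QR (L.mQ y)), ?_, ?_, x, hx', ?_⟩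
  · have h1 : Commute s (fj n F q j (Mm hF v u y)) := by
      show s * fj n F q j (Mm hF v u y) = fj n F q j (Mm hF v u y) * s
      rw [hs, ← hmm, ← hmm, add_comm]
    have h2 : Commute t (fj n F q j (Mm hF v u y)) := Y.tj _
    calc t * (a * fj n F q j (Mm hF v u y)) * t = t * a * (fj n F q j (Mm hF v u y) * t) := by group
      _ = (t * a * t) * fj n F q j (Mm hF v u y) := by rw [← h2.eq]; group
      _ = a * (s * fj n F q j (Mm hF v u y)) := by rw [ha]; group
      _ = _ := by rw [h1.eq]; group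
  · intro k hk1 hk2
    have c1 : Commute (fj n F q j k) a := cent_EL' Y.toDbl H hk1 hk2 haE'
    have c2 : Commute (fj n F q j k) (fj n F q j (Mm hF v u y)) := by
      have h1 : k * Mm hF v u y * k⁻¹ = Mm hF v u y := by
        rw [Mm, conj_Sg hF (isS_vec hF H.pp H.rp H.rr _), hk1, act_smul, hk2]
      have h2 : k * Mm hF v u y = Mm hF v u y * k := mul_inv_eq_iff_eq_mul.1 h1
      show fj n F q j k * fj n F q j (Mm hF v u y) = fj n F q j (Mm hF v u y) * fj n F q j k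
      rw [← map_mul, h2, map_mul]
    exact (c1.mul_right c2).eq
  · have hyq : y ^ q = y + e := by
      rw [← hy, ← add_assoc, CharTwo.add_self_eq_zero, zero_add]
    calc g * (a * fj n F q j (Mm hF v u y)) * g⁻¹ = (g * a * g⁻¹) * (g * fj n F q j (Mm hF v u y) * g⁻¹) := by group
      _ = a * (fj n F q j (Np hF v x) * fj n F q j (Mm hF v u e)) * fj n F q j (Mm hF v u (y ^ q)) := by
          rw [hga, gMm H D]
      _ = a * (fj n F q j (Np hF v x) * (fj n F q j (Mm hF v u e) * fj n F q j (Mm hF v u (y ^ q)))) := by group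
      _ = a * (fj n F q j (Np hF v x) * fj n F q j (Mm hF v u y)) := by
          rw [← hmm, hyq, add_comm, add_assoc, CharTwo.add_self_eq_zero, add_zero]
      _ = _ := by rw [(hnm y).eq]; group

theorem mem_X' {x : G} (hv : hermForm n F q v v = 0) : x ∈ (RR hF v hv).map j ↔
    ∃ a, a ^ q = a ∧ x = fj n F q j (Np hF v a) := by
  constructor
  · rintro ⟨y, hy, rfl⟩
    obtain ⟨μ, hμ, rfl⟩ := mem_RR.1 hy
    rw [CharTwo.add_eq_zero] at hμ
    refine ⟨μ, hμ.symm, ?_⟩
    rw [Np, Sg_eq hF (isS_np hv hμ.symm)]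
    rfl
  · rintro ⟨a, ha, rfl⟩
    have hμ : a + a ^ q = 0 := by rw [ha, CharTwo.add_self_eq_zero]
    refine ⟨_, mem_RR.2 ⟨a, hμ, rfl⟩, ?_⟩
    rw [Np, Sg_eq hF (isS_np hv ha)]
    rfl

theorem wt (Y : RF hF t j W R) (hn : 6 ≤ n) (H : P2 q v v' u u') {A : GU n F q} {ρ : F ≃+* F}
    (D : Fld t j g A ρ v v' u u') : ConstU.Wt t g ((RR hF v H.pp).map j) (W v) where
  tt := Y.tt
  gt := D.comm
  XW := Y.X_le H.p_ne H.pp
  Wab a ha b hb := Y.toDbl.ab (by omega) (Y.toDbl.pr hn) H.p_ne H.pp ha hb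
  Wsq := Y.Wsq H.p_ne H.pp
  brk w hw := by
    obtain ⟨x, hx, e⟩ := Y.brk H.p_ne H.pp w hw
    exact ⟨j x, ⟨x, hx, rfl⟩, e⟩
  cent w hw h := by
    apply Y.fix H.p_ne H.pp w hw
    calc t * w = (t * w * t) * t := by rw [mul_assoc (t * w), Y.tt, mul_one]
      _ = w * t := by rw [h]
  Xt := by
    rintro _ ⟨x, -, rfl⟩
    rw [Y.tj, mul_assoc, Y.tt, mul_one]
  gX := by
    intro x hx
    obtain ⟨a, ha, rfl⟩ := (mem_X' H.pp).1 hx
    exact gNp H D ha

omit [CharP F 2] in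
theorem semi_act {A : GU n F q} {ρ : F ≃+* F} {x y : Fin n → F} {c : F} (hx : sg A ρ x = x) (hy : sg A ρ y = y)
    {k : SU n F q} (h : act k x = c • y) : act (semiConj A ρ k) x = ρ c • y := by
  conv_lhs => rw [← hx]
  rw [act_sg, h, sg_smul, hy]

/-- the torus -/
def torS (q : ℕ) (v : Fin n → F) : Subgroup (SU n F q) where
  carrier := {k | ∃ b : F, b ≠ 0 ∧ b ^ q = b ∧ act k v = b • v}
  one_mem' := ⟨1, one_ne_zero, one_pow q, by rw [act_one, one_smul]⟩
  mul_mem' := by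
    rintro k l ⟨b, hb0, hbq, hb⟩ ⟨c, hc0, hcq, hc⟩
    exact ⟨c * b, mul_ne_zero hc0 hb0, by rw [mul_pow, hcq, hbq], by rw [act_mul, hc, act_smul, hb, smul_smul]⟩
  inv_mem' := by
    rintro k ⟨b, hb0, hbq, hb⟩
    refine ⟨b⁻¹, inv_ne_zero hb0, by rw [inv_pow, hbq], ?_⟩
    have h1 : act k⁻¹ (act k v) = v := act_inv_act k v
    rw [hb, act_smul] at h1
    rw [← h1, smul_smul, h1, inv_mul_cancel₀ hb0, one_smul]

theorem tor (Y : RF hF t j W R) (hn : 6 ≤ n) (H : P2 q v v' u u') {A : GU n F q} {ρ : F ≃+* F}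
    (D : Fld t j g A ρ v v' u u') :
    ConstU.Tor t g ((RR hF v H.pp).map j) (W v) ((torS q v).map (fj n F q j)) where
  ht := by
    rintro _ ⟨k, -, rfl⟩
    exact (Y.tj _).symm
  hX := by
    rintro _ ⟨k, ⟨b, hb0, hbq, hb⟩, rfl⟩ x hx
    obtain ⟨a, ha, rfl⟩ := (mem_X' H.pp).1 hx
    refine (mem_X' H.pp).2 ⟨b * b ^ q * a, ?_, ?_⟩
    · rw [mul_pow, norm_pow_q hF, ha]
    · rw [← map_mul, ← map_inv, ← map_mul, conj_Np hF H.pp ha hb]
  hW := by
    rintro _ ⟨k, ⟨b, hb0, hbq, hb⟩, rfl⟩ w hw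
    have := Y.conj H.p_ne H.pp k w hw
    rwa [hb, Y.smul H.p_ne H.pp hb0] at this
  comm := by
    rintro _ ⟨k, ⟨b, hb0, hbq, hb⟩, rfl⟩ w hw
    have M : Mv hF t j g ρ v v H.pp H.pp := by
      have := D.toSemi.mv (hF := hF) H.pp (by rw [D.fv]; exact H.pp)
      simpa only [D.fv] using this
    have hgw : g * w * g⁻¹ ∈ W v := M.conj_W Y.toDbl (by omega) H.p_ne H.p_ne hw
    have h1 : act (semiConj A ρ k) v = b • v := by
      rw [semi_act D.fv D.fv hb, D.fr, hbq]
    have h2 : act (k⁻¹ * semiConj A ρ k) v = v := by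
      rw [act_mul, h1, ← hb, act_inv_act]
    have h3 := Y.cent H.p_ne H.pp _ hgw _ h2
    rw [map_mul, map_inv, ← D.conj] at h3
    set K := fj n F q j k with hK
    calc g * (K * w * K⁻¹) * g⁻¹ = (g * K * g⁻¹) * (g * w * g⁻¹) * (g * K * g⁻¹)⁻¹ := by group
      _ = K * ((K⁻¹ * (g * K * g⁻¹)) * (g * w * g⁻¹)) * (g * K * g⁻¹)⁻¹ := by group
      _ = K * ((g * w * g⁻¹) * (K⁻¹ * (g * K * g⁻¹))) * (g * K * g⁻¹)⁻¹ := by rw [h3]
      _ = _ := by group
  tr := by
    intro x hx y hy hx1 hy1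
    obtain ⟨a, ha, rfl⟩ := (mem_X' H.pp).1 hx
    obtain ⟨c, hc, rfl⟩ := (mem_X' H.pp).1 hy
    have h0 : fj n F q j (Np hF v 0) = 1 := by
      have h0 := Np_add hF H (zero_pow_q hF) (zero_pow_q hF)
      rw [add_zero] at h0
      rw [mul_eq_left.1 h0.symm, map_one]
    have ha0 : a ≠ 0 := by rintro rfl; exact hx1 h0
    have hc0 : c ≠ 0 := by rintro rfl; exact hy1 h0
    obtain ⟨b, hb, hbq⟩ := exists_sqrt_fix (q := q) (ν := c / a) (by rw [div_pow, hc, ha])
    have hb0 : b ≠ 0 := by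
      rintro rfl
      rw [mul_zero] at hb
      exact (div_ne_zero hc0 ha0) hb.symm
    have h1 : (b * 1) ^ q = b * 1 := by rw [mul_one, hbq]
    have ge := H.lf.dS_e hF hb0 one_ne_zero h1
    refine ⟨_, ⟨H.lf.dS hF b 1 hb0 one_ne_zero h1, ⟨b, hb0, hbq, ge⟩, rfl⟩, ?_⟩
    rw [← map_mul, ← map_inv, ← map_mul, conj_Np hF H.pp ha ge, hbq, hb, div_mul_cancel₀ _ ha0]

/-- **Field involutions**: `g` or `t g` centralises `W v`. -/
theorem cent_or_fld (Y : RF hF t j W R) (hn : 6 ≤ n) (H : P2 q v v' u u') {A : GU n F q} {ρ : F ≃+* F}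
    (D : Fld t j g A ρ v v' u u') : (∀ w ∈ W v, g * w = w * g) ∨ (∀ w ∈ W v, (t * g) * w = w * (t * g)) := by
  have P := Y.pt H.p_ne H.pp
  obtain ⟨a, haR, ha, hka, x, hx, hga⟩ := exists_a Y hn H D
  obtain ⟨z, hz⟩ := exists_trace_ne hF
  have hz0 : z ≠ 0 := by
    rintro rfl
    rw [zero_pow_q hF, add_zero] at hz
    exact hz rfl
  obtain ⟨k, hkv, hku, hku'⟩ := exists_kap hF (by omega) H hz0
  have hkv' : act k⁻¹ v = v := by conv_lhs => rw [← hkv, act_inv_act]
  set κ := fj n F q j k with hκ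
  set a0 := fj n F q j (Mm hF v u 1) with ha0
  have ha0R : a0 ∈ R v := P.QR ((Y.toDbl.el (by omega) (Y.toDbl.pr hn) H).mQ 1)
  have κR : ∀ r ∈ R v, κ * r * κ⁻¹ ∈ R v := fun r hr => by
    have := Y.conjR H.p_ne H.pp k r hr
    rwa [hkv] at this
  have κR' : ∀ r ∈ R v, κ⁻¹ * r * κ ∈ R v := fun r hr => by
    have := Y.conjR H.p_ne H.pp k⁻¹ r hr
    rwa [hkv', map_inv, inv_inv] at this
  have κW : ∀ w ∈ W v, κ * w = w * κ := fun w hw => (Y.cent H.p_ne H.pp w hw k hkv).symm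
  have cmW : ∀ r ∈ R v, ∀ s ∈ R v, ConstU.cm r s ∈ W v := by
    intro r hr s hs
    have h1 := P.com _ (inv_mem hr) _ (inv_mem hs)
    rwa [inv_inv, inv_inv] at h1
  have hxW : fj n F q j (Np hF v x) ∈ W v := Y.X_le H.p_ne H.pp ((mem_X' H.pp).2 ⟨x, hx, rfl⟩)
  -- the commutator of `a0` and `κ a0 κ⁻¹`
  have hb0 : κ * a0 * κ⁻¹ = fj n F q j (Mm hF v u' (z ^ q)) := by
    have h1 : k * Mm hF v u 1 * k⁻¹ = Mm hF v u' (z ^ q) := by
      rw [Mm, conj_Sg hF (isS_vec hF H.pp H.rp H.rr _), hkv, act_smul, hku, Mm, pow_q_pow_q hF, one_pow, one_smul]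
    rw [hκ, ha0, ← h1, map_mul, map_mul, map_inv]
  have hcm : ConstU.cm a0 (κ * a0 * κ⁻¹) = fj n F q j (Np hF v (z + z ^ q)) := by
    have C := coord Y.toSit hF (by omega) H
    have h1 := C.g_m (z ^ q) 1
    have h2 := Quad.Coord.g_sq C (z ^ q)
    rw [hb0]
    set b0 := fj n F q j (Mm hF v u' (z ^ q)) with hb0
    have h3 : b0⁻¹ = b0 := inv_eq_of_mul_eq_one_left h2
    have h4 : b0 * a0 * b0⁻¹ = a0 * fj n F q j (Np hF v (z + z ^ q)) := by
      rw [h1, map_one, mul_one, mul_one]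
      congr 3
      show z ^ q + (z ^ q) ^ q = z + z ^ q
      rw [pow_q_pow_q hF, add_comm]
    have h5 : ConstU.cm a0 b0 = a0⁻¹ * (b0⁻¹ * a0 * b0) := by unfold ConstU.cm; group
    rw [h5]
    conv_lhs => rw [h3]
    conv_lhs => rw [show b0 * a0 * b0 = b0 * a0 * b0⁻¹ by rw [h3]]
    rw [h4, inv_mul_cancel_left]
  have hzq : (z + z ^ q) ^ q = z + z ^ q := trace_pow_q hF z
  have E : ConstU.El t g ((RR hF v H.pp).map j) (W v) a a0 κ :=
    { aW := fun w hw => (P.Wc w hw a haR).symm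
      a0W := fun w hw => (P.Wc w hw a0 ha0R).symm
      κW := κW
      κt := (Y.tj _).symm
      ta := ha
      ta0 := by
        have h1 : t * a0 = a0 * t := Y.tj _
        rw [h1, mul_assoc, Y.tt, mul_one]
      ab := cmW _ haR _ (κR a haR)
      a0b := cmW _ ha0R _ (κR a haR)
      a0b' := cmW _ ha0R _ (κR' a haR)
      x0 := (mem_X' H.pp).2 ⟨_, hzq, hcm⟩
      ga := ⟨_, hxW, hga⟩
      ga0 := ⟨1, one_mem _, by rw [mul_one, ha0, gMm H D, one_pow]⟩
      gκ := by
        refine ⟨_, hxW, ?_⟩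
        -- `g κ g⁻¹`
        have h1 : act (k * semiConj A ρ k) v = v := by
          rw [act_mul, semi_act D.fv D.fv (c := 1) (by rw [hkv, one_smul]), map_one, one_smul, hkv]
        have h2 : act (k * semiConj A ρ k) u = u := by
          rw [act_mul, semi_act D.fu D.fu' hku, act_smul, hku', D.fr, smul_smul,
            mul_inv_cancel₀ (pow_ne_zero _ hz0), one_smul]
        have h3 := hka _ h1 h2
        rw [map_mul, ← D.conj, ← hκ] at h3
        have h4 : (g * κ * g⁻¹) * fj n F q j (Np hF v x) = fj n F q j (Np hF v x) * (g * κ * g⁻¹) := by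
          have h5 := Y.cent H.p_ne H.pp _ hxW (semiConj A ρ k) (by
            rw [semi_act D.fv D.fv (c := 1) (by rw [hkv, one_smul]), map_one, one_smul])
          rw [← D.conj] at h5
          exact h5.symm
        set κ' := g * κ * g⁻¹ with hκ'
        set c := fj n F q j (Np hF v x) with hc
        have h6 : κ' * a * κ'⁻¹ = κ⁻¹ * a * κ := by
          calc κ' * a * κ'⁻¹ = κ⁻¹ * ((κ * κ') * a) * κ'⁻¹ := by group
            _ = κ⁻¹ * (a * (κ * κ')) * κ'⁻¹ := by rw [h3]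
            _ = _ := by group
        calc g * (κ * a * κ⁻¹) * g⁻¹ = κ' * (g * a * g⁻¹) * κ'⁻¹ := by rw [hκ']; group
          _ = κ' * a * (c * κ'⁻¹) := by rw [hga]; group
          _ = κ' * a * (κ'⁻¹ * (κ' * c) * κ'⁻¹) := by group
          _ = κ' * a * (κ'⁻¹ * (c * κ') * κ'⁻¹) := by rw [h4]
          _ = (κ' * a * κ'⁻¹) * c := by group
          _ = _ := by rw [h6] }
  refine ConstU.cent_or (wt Y hn H D) E (tor Y hn H D) ?_
  rw [hcm]
  intro h1
  have h2 : fj n F q j (Np hF v (z + z ^ q)) * fj n F q j (Mm hF v u 0) * fj n F q j (Np hF u 0) = 1 := by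
    have C := coord Y.toSit hF (by omega) H
    have h3 := Quad.Coord.m_zero C
    have h4 := Quad.Coord.nr_zero C
    rw [h1, h3, h4, mul_one, mul_one]
  exact hz ((coord Y.toSit hF (by omega) H).inj _ _ _ hzq (map_zero _) h2).1

end two

end Cfsg.Agent.OddHalf.D7.Uni.ConstInst
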