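import Mathlib

/-!
# The module of a totally isotropic line (helper54, text: bb ODD 9100 (3))

`M = ⟨W s : s ∈ E⟩` written additively, when all `W s` commute. `main`: the groups `W s` are elementary abelian and
`u + γ l u + γ k u + γ (l + k) u ∈ W p` for `u ∈ W r`.
-/

set_option autoImplicit false
set_option linter.unusedSectionVars false

namespace Cfsg.Agent.OddHalf.D7.Uni.LineMod

/-- The module `M`. -/
structure LMod {M F : Type*} [AddCommGroup M] [Field F] (σ : F →+* F) (τ : M →+ M) (γ : F → M →+ M)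
    (np nr m : F → M) (P R : AddSubgroup M) : Prop where
  two : ∀ x : F, x + x = 0
  σσ : ∀ x, σ (σ x) = x
  nt : ∃ x, σ x ≠ x
  np_add : ∀ x y, σ x = x → σ y = y → np (x + y) = np x + np y
  nr_add : ∀ x y, σ x = x → σ y = y → nr (x + y) = nr x + nr y
  m_add : ∀ x y, m (x + y) = m x + m y
  inj : ∀ x μ y, σ x = x → σ y = y → np x + m μ + nr y = 0 → x = 0 ∧ μ = 0 ∧ y = 0
  t_np : ∀ x, σ x = x → τ (np x) = np x
  t_nr : ∀ x, σ x = x → τ (nr x) = nr x
  t_m : ∀ x, τ (m x) = m x
  γ_zero : ∀ w, γ 0 w = w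
  γ_add : ∀ l k w, γ (l + k) w = γ l (γ k w)
  γ_t : ∀ l w, τ (γ l w) = γ l (τ w)
  γ_P : ∀ l, ∀ w ∈ P, γ l w = w
  γ_m : ∀ l μ, γ l (m μ) = m μ + np (l * σ μ + σ l * μ)
  γ_nr : ∀ l y, σ y = y → γ l (nr y) = nr y + m (l * y) + np (l * σ l * y)
  np_P : ∀ x, σ x = x → np x ∈ P
  surj : ∀ x, σ x = x → ∃ w ∈ P, τ w = w + np x
  brkP : ∀ w ∈ P, ∃ x, σ x = x ∧ τ w = w + np x
  cent : ∀ w ∈ P, τ w = w → ∃ x, σ x = x ∧ w = np x
  brk : ∀ u ∈ R, ∃ y, σ y = y ∧ τ u = u + nr y
  sq : ∀ u ∈ R, ∃ y, σ y = y ∧ u + u = nr y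
  K2 : ∀ c, τ c = c → ∃ x μ y, σ x = x ∧ σ y = y ∧ c = np x + m μ + nr y

variable {M F : Type*} [AddCommGroup M] [Field F] {σ : F →+* F} {τ : M →+ M} {γ : F → M →+ M}
  {np nr m : F → M} {P R : AddSubgroup M} (L : LMod σ τ γ np nr m P R)

include L

theorem eq_of_add {x y : F} (h : x + y = 0) : x = y := by
  have := L.two y
  have h2 : x + y = y + y := by rw [h, this]
  exact add_right_cancel h2

theorem np_zero : np 0 = 0 := by
  have := L.np_add 0 0 (map_zero _) (map_zero _)
  simpa using this

theorem nr_zero : nr 0 = 0 := by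
  have := L.nr_add 0 0 (map_zero _) (map_zero _)
  simpa using this

theorem m_zero : m 0 = 0 := by
  have := L.m_add 0 0
  simpa using this

theorem np_two {x : F} (hx : σ x = x) : np x + np x = 0 := by
  rw [← L.np_add x x hx hx, L.two, np_zero L]

theorem nr_two {x : F} (hx : σ x = x) : nr x + nr x = 0 := by
  rw [← L.nr_add x x hx hx, L.two, nr_zero L]

theorem m_two (x : F) : m x + m x = 0 := by
  rw [← L.m_add x x, L.two, m_zero L]

theorem fix_add {x y : F} (hx : σ x = x) (hy : σ y = y) : σ (x + y) = x + y := by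
  rw [map_add, hx, hy]

theorem fix_tr (x y : F) : σ (x * σ y + σ x * y) = x * σ y + σ x * y := by
  rw [map_add, map_mul, map_mul, L.σσ, L.σσ, add_comm]

theorem fix_norm {y : F} (l : F) (hy : σ y = y) : σ (l * σ l * y) = l * σ l * y := by
  rw [map_mul, map_mul, L.σσ, hy, mul_comm (σ l) l]

theorem A_inj {x y x' y' μ μ' : F} (hx : σ x = x) (hy : σ y = y) (hx' : σ x' = x') (hy' : σ y' = y')
    (h : np x + m μ + nr y = np x' + m μ' + nr y') : x = x' ∧ μ = μ' ∧ y = y' := by
  have h1 : np (x + x') + m (μ + μ') + nr (y + y') = 0 := by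
    rw [L.np_add _ _ hx hx', L.nr_add _ _ hy hy', L.m_add]
    have : np x + np x' + (m μ + m μ') + (nr y + nr y') = (np x + m μ + nr y) + (np x' + m μ' + nr y') := by
      abel
    rw [this, h]
    have : (np x' + m μ' + nr y') + (np x' + m μ' + nr y') = (np x' + np x') + (m μ' + m μ') + (nr y' + nr y') := by
      abel
    rw [this, np_two L hx', m_two L, nr_two L hy']
    simp
  obtain ⟨e1, e2, e3⟩ := L.inj _ _ _ (fix_add L hx hx') (fix_add L hy hy') h1
  exact ⟨eq_of_add L e1, eq_of_add L e2, eq_of_add L e3⟩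

/-- the sum over four. -/
def S (γ : F → M →+ M) (u : M) (l k : F) : M := u + γ l u + γ k u + γ (l + k) u

omit L in
theorem S_def (u : M) (l k : F) : S γ u l k = u + γ l u + γ k u + γ (l + k) u := rfl

theorem S_form {u : M} (hu : u ∈ R) (l k : F) : ∃ w ∈ P, ∃ ν b, σ b = b ∧ S γ u l k = w + m ν + nr b := by
  obtain ⟨y, hy, huy⟩ := L.brk u hu
  have hs : σ (y * (l * σ k + σ l * k)) = y * (l * σ k + σ l * k) := by
    rw [map_mul, hy, fix_tr L]
  obtain ⟨w, hw, hwt⟩ := L.surj _ hs
  have h1 : ∀ j, τ (γ j u) = γ j u + (nr y + m (j * y) + np (j * σ j * y)) := by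
    intro j
    rw [L.γ_t, huy, map_add, L.γ_nr _ _ hy]
  have h2 : τ (S γ u l k) = S γ u l k + np (y * (l * σ k + σ l * k)) := by
    rw [S_def, map_add, map_add, map_add, h1, h1, h1, huy]
    have e1 : u + nr y + (γ l u + (nr y + m (l * y) + np (l * σ l * y))) +
        (γ k u + (nr y + m (k * y) + np (k * σ k * y))) +
        (γ (l + k) u + (nr y + m ((l + k) * y) + np ((l + k) * σ (l + k) * y))) =
        (u + γ l u + γ k u + γ (l + k) u) + ((nr y + nr y) + (nr y + nr y)) +
          (m (l * y) + m (k * y) + m ((l + k) * y)) +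
          (np (l * σ l * y) + np (k * σ k * y) + np ((l + k) * σ (l + k) * y)) := by abel
    rw [e1, nr_two L hy, ← L.m_add, ← L.m_add, ← add_mul, L.two, m_zero L,
      ← L.np_add _ _ (fix_norm L _ hy) (fix_norm L _ hy),
      ← L.np_add _ _ (fix_add L (fix_norm L _ hy) (fix_norm L _ hy)) (fix_norm L _ hy)]
    have e2 : l * σ l * y + k * σ k * y + (l + k) * σ (l + k) * y = y * (l * σ k + σ l * k) := by
      rw [map_add]
      have h1 := L.two (l * σ l * y)
      have h2 := L.two (k * σ k * y)
      linear_combination h1 + h2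
    rw [e2]
    simp
  have h3 : τ (S γ u l k - w) = S γ u l k - w := by
    rw [map_sub, h2, hwt]
    abel
  obtain ⟨x, ν, b, hx, hb, h4⟩ := L.K2 _ h3
  refine ⟨w + np x, P.add_mem hw (L.np_P x hx), ν, b, hb, ?_⟩
  calc S γ u l k = w + (S γ u l k - w) := by abel
    _ = _ := by rw [h4]; abel

theorem E_form {u w : M} (hw : w ∈ P) {l k ν b : F} (hb : σ b = b) (h : S γ u l k = w + m ν + nr b) :
    ∃ ρ, σ ρ = ρ ∧ w + w = np ρ ∧ ∀ j, γ j (S γ u l k) + S γ u l k =
      np (ρ + (j * σ ν + σ j * ν) + j * σ j * b) + m (j * b) + nr 0 := by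
  obtain ⟨x, hx, hwx⟩ := L.brkP w hw
  have h1 : τ (w + w) = w + w := by
    rw [map_add, hwx]
    have : w + np x + (w + np x) = w + w + (np x + np x) := by abel
    rw [this, np_two L hx, add_zero]
  obtain ⟨ρ, hρ, h2⟩ := L.cent _ (P.add_mem hw hw) h1
  refine ⟨ρ, hρ, h2, fun j => ?_⟩
  rw [h, map_add, map_add, L.γ_P j w hw, L.γ_m, L.γ_nr _ _ hb]
  rw [L.np_add _ _ (fix_add L hρ (fix_tr L j ν)) (fix_norm L j hb), L.np_add _ _ hρ (fix_tr L j ν), ← h2,
    nr_zero L]
  have e : w + (m ν + np (j * σ ν + σ j * ν)) + (nr b + m (j * b) + np (j * σ j * b)) + (w + m ν + nr b) =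
      (m ν + m ν) + (nr b + nr b) + (w + w + np (j * σ ν + σ j * ν) + np (j * σ j * b) + m (j * b)) := by abel
  rw [e, m_two L, nr_two L hb]
  abel

theorem E_symm (u : M) (l k j : F) : γ j (S γ u l k) + S γ u l k = γ l (S γ u j k) + S γ u j k := by
  rw [S_def, S_def]
  simp only [map_add, ← L.γ_add]
  rw [show j + l = l + j from add_comm _ _, show l + (j + k) = j + (l + k) by ring]
  abel

theorem S_symm (u : M) (l k : F) : S γ u l k = S γ u k l := by
  rw [S_def, S_def, add_comm l k]
  abel

theorem tr_ne {e : F} (he : σ e ≠ e) : e + σ e ≠ 0 := fun h => he (eq_of_add L h).symm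

/-- uniqueness of the coordinate. -/
theorem uniq {w w' : M} (hw : w ∈ P) (hw' : w' ∈ P) {ν ν' : F} (h : w + m ν = w' + m ν') : ν = ν' := by
  have h1 : w - w' = m ν' - m ν := by
    have : w = w' + m ν' - m ν := by rw [← h]; abel
    rw [this]
    abel
  have h2 : τ (w - w') = w - w' := by
    rw [h1, map_sub, L.t_m, L.t_m]
  obtain ⟨x, hx, h3⟩ := L.cent _ (P.sub_mem hw hw') h2
  have h4 : np x + m ν + nr 0 = np 0 + m ν' + nr 0 := by
    rw [← h3, h1, np_zero L]
    abel
  exact (A_inj L hx (map_zero _) (map_zero _) (map_zero _) h4).2.1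

/-- An `F_q`-trilinear alternating symmetric form on a plane vanishes. -/
theorem N_zero {N : F → F → F} (hsym : ∀ l k j, j * σ (N l k) + σ j * N l k = l * σ (N j k) + σ l * N j k)
    (hsym' : ∀ l k, N l k = N k l) (halt : ∀ l, N l l = 0) (l k : F) : N l k = 0 := by
  have hne : ∀ x : F, (∀ j, j * σ x + σ j * x = 0) → x = 0 := by
    intro x hx
    obtain ⟨e, he⟩ := L.nt
    by_contra hx0
    have h1 := hx (e * x)
    have h2 : (e + σ e) * (x * σ x) = 0 := by rw [← h1, map_mul]; ring
    rcases mul_eq_zero.1 h2 with h3 | h3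
    · exact tr_ne L he h3
    · rcases mul_eq_zero.1 h3 with h4 | h4
      · exact hx0 h4
      · exact hx0 ((map_eq_zero σ).1 h4)
  -- additivity in the first variable
  have hadd : ∀ a b k, N (a + b) k = N a k + N b k := by
    intro a b k
    have : N (a + b) k + (N a k + N b k) = 0 := by
      apply hne
      intro j
      have h1 := hsym (a + b) k j
      have h2 := hsym a k j
      have h3 := hsym b k j
      have h4 := L.two (a * σ (N j k) + σ a * N j k)
      have h5 := L.two (b * σ (N j k) + σ b * N j k)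
      simp only [map_add] at h1 ⊢
      linear_combination h1 + h2 + h3 + h4 + h5
    exact eq_of_add L this
  have hlin : ∀ a x k, σ a = a → N (a * x) k = a * N x k := by
    intro a x k ha
    have : N (a * x) k + a * N x k = 0 := by
      apply hne
      intro j
      have h1 := hsym (a * x) k j
      have h2 := hsym x k j
      have h3 := L.two (a * (x * σ (N j k) + σ x * N j k))
      simp only [map_add, map_mul, ha] at h1 ⊢
      linear_combination h1 + a * h2 + h3
    exact eq_of_add L this
  -- basis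
  have hN : ∀ l k, k ≠ 0 → N l k = 0 := by
    intro l k hk
    apply hne
    intro j
    obtain ⟨e, he⟩ := L.nt
    have hE := tr_ne L he
    by_cases hjk : σ (j / k) = j / k
    · -- `j` is a multiple of `k`
      have hj : j = (j / k) * k := by field_simp
      rw [hj, hsym, hj]
      have h1 : N (j / k * k) k = 0 := by rw [hlin _ _ _ hjk, halt, mul_zero]
      have h2 : N (j / k * k / k * k) k = 0 := by
        have : j / k * k / k * k = j / k * k := by field_simp
        rw [this, h1]
      rw [h2, map_zero]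
      ring
    · -- `j, k` is a basis, `l = a j + b k`
      set d := j / k with hd
      have hd' := tr_ne L hjk
      set x := l / k with hx
      have hσ : σ (d + σ d) = d + σ d := by rw [map_add, L.σσ, add_comm]
      have ha : σ ((x + σ x) / (d + σ d)) = (x + σ x) / (d + σ d) := by
        rw [map_div₀, hσ, map_add, L.σσ, add_comm (σ x)]
      set a := (x + σ x) / (d + σ d) with hadef
      have hxa : x + σ x = a * (d + σ d) := by rw [hadef]; field_simp
      have hb : σ (x + a * d) = x + a * d := by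
        rw [map_add, map_mul, ha]
        have h1 := L.two x
        have h2 := L.two (a * σ d)
        linear_combination hxa - h1 + h2
      have hl : l = a * j + (x + a * d) * k := by
        have h1 : l = x * k := by rw [hx]; field_simp
        have h2 : j = d * k := by rw [hd]; field_simp
        have h3 := L.two (a * d * k)
        rw [h2]
        linear_combination h1 - h3
      rw [hl, hadd, hlin _ _ _ ha, hlin _ _ _ hb, halt, mul_zero, add_zero]
      have h1 : j * σ (N j k) + σ j * N j k = 0 := by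
        rw [hsym' j k, hsym k j j, halt, map_zero]
        ring
      rw [map_mul, ha]
      linear_combination a * h1
  by_cases hk : k = 0
  · rw [hsym' l k]
    by_cases hl : l = 0
    · rw [hk, hl, halt]
    · exact hN k l hl
  · exact hN l k hk

/-- `W s` is elementary abelian, and the sum over four lies in `W p`. -/
theorem main {u : M} (hu : u ∈ R) (hel : (∃ k, σ k = k ∧ k ≠ 0 ∧ k ≠ 1) ∨ u + u = 0) :
    u + u = 0 ∧ ∀ l k, S γ u l k ∈ P := by
  obtain ⟨e, he⟩ := L.nt
  have hE := tr_ne L he
  obtain ⟨y', hy', hsq⟩ := L.sq u hu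
  have h0 := S_form L hu
  choose w hw ν b hb hS using h0
  have h1 := fun l k => E_form L (hw l k) (hb l k) (hS l k)
  choose ρ hρ hww hρE using h1
  -- symmetry
  have hsy : ∀ l k j, ρ l k + (j * σ (ν l k) + σ j * ν l k) + j * σ j * b l k =
      ρ j k + (l * σ (ν j k) + σ l * ν j k) + l * σ l * b j k ∧ j * b l k = l * b j k := by
    intro l k j
    have h2 := E_symm L u l k j
    rw [hρE, hρE] at h2
    obtain ⟨h3, h4, -⟩ := A_inj L (fix_add L (fix_add L (hρ l k) (fix_tr L _ _)) (fix_norm L j (hb l k)))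
      (map_zero _) (fix_add L (fix_add L (hρ j k) (fix_tr L _ _)) (fix_norm L l (hb j k))) (map_zero _) h2
    exact ⟨h3, h4⟩
  -- `b = 0`
  have hb0 : ∀ l k, b l k = 0 := by
    have h2 : ∀ k, b 1 k = 0 := by
      intro k
      have h3 := (hsy e k 1).2
      rw [one_mul] at h3
      by_contra h4
      apply he
      have h5 : e = b e k / b 1 k := by rw [h3]; field_simp
      rw [h5, map_div₀, hb, hb]
    intro l k
    have h3 := (hsy l k 1).2
    rw [one_mul, h2, mul_zero] at h3
    exact h3
  have hSw : ∀ l k, S γ u l k = w l k + m (ν l k) := by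
    intro l k
    rw [hS, hb0, nr_zero L, add_zero]
  have hνs : ∀ l k, ν l k = ν k l := by
    intro l k
    refine uniq L (hw l k) (hw k l) ?_
    rw [← hSw, ← hSw, S_symm L]
  have h3 : ∀ l k j, ρ l k + (j * σ (ν l k) + σ j * ν l k) = ρ j k + (l * σ (ν j k) + σ l * ν j k) := by
    intro l k j
    have := (hsy l k j).1
    rw [hb0, hb0] at this
    simpa using this
  -- values at `0`
  have hγu : ∀ l, γ l (u + u) = nr y' + m (l * y') + np (l * σ l * y') := by
    intro l
    rw [hsq, L.γ_nr _ _ hy']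
  have hν0 : ∀ l, ν l 0 = l * y' ∧ ρ l 0 = 0 := by
    intro l
    have h4 : S γ u l 0 = np (l * σ l * y') + m (l * y') := by
      rw [S_def, add_zero, L.γ_zero]
      have : u + γ l u + u + γ l u = (u + u) + γ l (u + u) := by rw [map_add]; abel
      rw [this, hγu, hsq]
      have : nr y' + (nr y' + m (l * y') + np (l * σ l * y')) =
        (nr y' + nr y') + (np (l * σ l * y') + m (l * y')) := by abel
      rw [this, nr_two L hy', zero_add]
    have h5 := hSw l 0
    rw [h4] at h5
    have h6 := uniq L (L.np_P _ (fix_norm L l hy')) (hw l 0) h5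
    refine ⟨h6.symm, ?_⟩
    rw [← h6] at h5
    have h7 : np (l * σ l * y') = w l 0 := add_right_cancel h5
    have h8 := hww l 0
    rw [← h7, np_two L (fix_norm L l hy')] at h8
    have h9 : np (ρ l 0) + m 0 + nr 0 = np 0 + m 0 + nr 0 := by rw [← h8, np_zero L]
    exact (A_inj L (hρ _ _) (map_zero _) (map_zero _) (map_zero _) h9).1
  have hρ1 : ∀ l k, ρ l k = y' * (l * σ k + σ l * k) := by
    intro l k
    -- `T'(l, k, 0) = ρ l k = T'(0, k, l)`; `T'(l, 0, j) = j σ(l y') + ..`
    have h4 := h3 0 k l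
    have h5 : ν 0 k = k * y' := by rw [hνs, (hν0 k).1]
    have h6 : ρ 0 k = 0 := by
      have h7 := h3 k 0 0
      rw [(hν0 k).2, (hν0 0).2] at h7
      have h8 := h3 0 k 0
      have h9 : np (ρ 0 k) = w 0 k + w 0 k := (hww 0 k).symm
      have h10 : w 0 k + m (ν 0 k) = w k 0 + m (ν k 0) := by rw [← hSw, ← hSw, S_symm L]
      rw [hνs 0 k] at h10
      have h11 := add_right_cancel h10
      have h12 := hww k 0
      rw [(hν0 k).2] at h12
      rw [h11, h12] at h9
      have h13 : np (ρ 0 k) + m 0 + nr 0 = np 0 + m 0 + nr 0 := by rw [h9]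
      exact (A_inj L (hρ _ _) (map_zero _) (map_zero _) (map_zero _) h13).1
    rw [h5, h6] at h4
    simp only [map_zero, map_mul, hy', zero_mul, add_zero, zero_add] at h4
    rw [← h4]
    ring
  -- the symmetric trilinear form
  have hT : ∀ l k j, j * σ (ν l k + y' * l + y' * k) + σ j * (ν l k + y' * l + y' * k) =
      l * σ (ν j k + y' * j + y' * k) + σ l * (ν j k + y' * j + y' * k) := by
    intro l k j
    have h4 := h3 l k j
    rw [hρ1, hρ1] at h4
    simp only [map_add, map_mul, hy']
    have e1 := L.two (y' * (l * σ k + σ l * k))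
    have e2 := L.two (y' * (j * σ k + σ j * k))
    linear_combination h4 + e2 - e1
  have hνll : ∀ l, ν l l = l * y' := by
    intro l
    have h4 : S γ u l l = np (l * σ l * y') + m (l * y') := by
      rw [S_def, L.two l, L.γ_zero]
      have : u + γ l u + γ l u + u = (u + u) + γ l (u + u) := by rw [map_add]; abel
      rw [this, hγu, hsq]
      have : nr y' + (nr y' + m (l * y') + np (l * σ l * y')) =
        (nr y' + nr y') + (np (l * σ l * y') + m (l * y')) := by abel
      rw [this, nr_two L hy', zero_add]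
    have h5 := hSw l l
    rw [h4] at h5
    exact (uniq L (L.np_P _ (fix_norm L l hy')) (hw l l) h5).symm
  have hN : ∀ l, ν l l + y' * l + y' * l = l * y' := by
    intro l
    rw [hνll, add_assoc, L.two, add_zero]
  have hy0 : y' = 0 := by
    rcases hel with ⟨a, ha, ha0, ha1⟩ | hel
    · -- `T(a e, a e, 1) = a² T(e, e, 1)`
      have e1 := hT (a * e) (a * e) 1
      have e2 := hT e (a * e) (a * 1)
      have e3 := hT (a * e) 1 e
      have e4 := hT e e 1
      have e5 := hT (a * 1) e (a * e)
      have e6 := hT 1 e e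
      -- T(l,k,j) := j σ N(l,k) + σ j N(l,k)
      have l1 : ∀ l k j c, σ c = c → (c * j) * σ (ν l k + y' * l + y' * k) + σ (c * j) * (ν l k + y' * l + y' * k) =
          c * (j * σ (ν l k + y' * l + y' * k) + σ j * (ν l k + y' * l + y' * k)) := by
        intro l k j c hc
        rw [map_mul, hc]
        ring
      have l2 : ∀ l k j c, σ c = c → j * σ (ν (c * l) k + y' * (c * l) + y' * k) +
          σ j * (ν (c * l) k + y' * (c * l) + y' * k) =
          c * (j * σ (ν l k + y' * l + y' * k) + σ j * (ν l k + y' * l + y' * k)) := by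
        intro l k j c hc
        rw [hT, l1 _ _ _ _ hc, hT j k l]
      have l3 : ∀ l k j, j * σ (ν l k + y' * l + y' * k) + σ j * (ν l k + y' * l + y' * k) =
          j * σ (ν k l + y' * k + y' * l) + σ j * (ν k l + y' * k + y' * l) := by
        intro l k j
        rw [hνs l k, add_right_comm]
      have l4 := l2 e (a * e) 1 a ha
      rw [l3 e (a * e) 1, l2 e e 1 a ha, hN, hN] at l4
      simp only [map_mul, ha, hy', map_one, one_mul] at l4
      have l5 : (a * (a + 1)) * ((e + σ e) * y') = 0 := by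
        have := L.two (a * (e * y' + σ e * y'))
        linear_combination this - l4
      rcases mul_eq_zero.1 l5 with l6 | l6
      · rcases mul_eq_zero.1 l6 with l7 | l7
        · exact absurd l7 ha0
        · exact absurd (eq_of_add L l7) ha1
      · rcases mul_eq_zero.1 l6 with l7 | l7
        · exact absurd l7 hE
        · exact l7
    · rw [hsq] at hel
      have h13 : np 0 + m 0 + nr y' = np 0 + m 0 + nr 0 := by rw [hel, nr_zero L]
      exact (A_inj L (map_zero _) hy' (map_zero _) (map_zero _) h13).2.2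
  refine ⟨by rw [hsq, hy0, nr_zero L], fun l k => ?_⟩
  have hz : ν l k = 0 := by
    refine N_zero L (N := ν) ?_ hνs ?_ l k
    · intro l k j
      have := hT l k j
      rw [hy0] at this
      simpa using this
    · intro l
      rw [hνll, hy0, mul_zero]
  rw [hSw, hz, m_zero L, add_zero]
  exact hw l k

end Cfsg.Agent.OddHalf.D7.Uni.LineMod
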