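import Cfsg.Agent.OddHalf.D7.Uni.Line
import Cfsg.Agent.OddHalf.D7.Uni.LineMod

/-!
# `LineMod.main` in the group (helper54, text: bb ODD 9100 (3))

`line_main`: if all the groups `W s`, `s ∈ E`, commute (`Comm`), then `W r` is elementary abelian (`q = 2`: given)
and `u * U l * U k * U (l + k) ∈ W p` for `u ∈ W r`, `U l = g l * u * (g l)⁻¹`.
-/

set_option autoImplicit false
set_option linter.unusedSectionVars false

namespace Cfsg.Agent.OddHalf.D7.Uni.LineGrp

open Cfsg.Agent.OddHalf.D7.Uni.Defs Cfsg.Agent.OddHalf.D7.Uni.Line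

variable {G : Type*} [Group G] {F : Type*} [Field F] {σ : F →+* F} {t : G} {np nr m g : F → G}
  {OE Wp Wr : Subgroup G}

/-- All the groups `W s`, `s ∈ E`, commute. -/
structure Comm (Wp Wr : Subgroup G) (g : F → G) : Prop where
  pp : ∀ v ∈ Wp, ∀ u ∈ Wp, v * u = u * v
  pr : ∀ v ∈ Wp, ∀ u ∈ Wr, v * u = u * v
  rr : ∀ l, ∀ u ∈ Wr, ∀ v ∈ Wr, g l * u * (g l)⁻¹ * v = v * (g l * u * (g l)⁻¹)

/-- The generators of `⟨W s : s ∈ E⟩`. -/
def gens (Wp Wr : Subgroup G) (m g : F → G) : Set G :=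
  {x | x ∈ Wp ∨ (∃ l, ∃ u ∈ Wr, x = g l * u * (g l)⁻¹) ∨ ∃ μ, x = m μ}

variable (L : Line σ t OE Wp Wr np nr m g) (H : Comm Wp Wr g)

include L H

theorem gens_comm {x y : G} (hx : x ∈ gens Wp Wr m g) (hy : y ∈ gens Wp Wr m g) : x * y = y * x := by
  have C := L.toCoord
  have hm : ∀ x μ, x ∈ gens Wp Wr m g → x * m μ = m μ * x := by
    intro x μ hx
    rcases hx with hx | ⟨l, u, hu, rfl⟩ | ⟨ν, rfl⟩
    · exact L.p_m x hx μ
    · have := U_A L hu l μ (map_zero σ) (map_zero σ)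
      rw [np_zero C, nr_zero C, one_mul, mul_one] at this
      exact this
    · rw [← C.m_add, ← C.m_add, add_comm]
  have hpU : ∀ v ∈ Wp, ∀ l, ∀ u ∈ Wr, v * (g l * u * (g l)⁻¹) = g l * u * (g l)⁻¹ * v := by
    intro v hv l u hu
    have e1 : Commute v (g l) := (L.g_p l v hv).symm
    have e2 : Commute v u := H.pr v hv u hu
    exact (e1.mul_right e2).mul_right e1.inv_right
  have hUU : ∀ l, ∀ u ∈ Wr, ∀ k, ∀ v ∈ Wr, g l * u * (g l)⁻¹ * (g k * v * (g k)⁻¹) =
      g k * v * (g k)⁻¹ * (g l * u * (g l)⁻¹) := by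
    intro l u hu k v hv
    have e1 : g l = g k * g (k + l) := by
      rw [← C.g_add, ← add_assoc, C.two, zero_add]
    have e2 := H.rr (k + l) u hu v hv
    have e3 : g l * u * (g l)⁻¹ = g k * (g (k + l) * u * (g (k + l))⁻¹) * (g k)⁻¹ := by
      rw [e1]; group
    rw [e3]
    calc g k * (g (k + l) * u * (g (k + l))⁻¹) * (g k)⁻¹ * (g k * v * (g k)⁻¹) =
        g k * (g (k + l) * u * (g (k + l))⁻¹ * v) * (g k)⁻¹ := by group
      _ = g k * (v * (g (k + l) * u * (g (k + l))⁻¹)) * (g k)⁻¹ := by rw [e2]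
      _ = _ := by group
  rcases hy with hy' | ⟨k, v, hv, rfl⟩ | ⟨ν, rfl⟩
  · rcases hx with hx' | ⟨l, u, hu, rfl⟩ | ⟨μ, rfl⟩
    · exact H.pp x hx' y hy'
    · exact (hpU y hy' l u hu).symm
    · exact (hm y μ (Or.inl hy')).symm
  · rcases hx with hx' | ⟨l, u, hu, rfl⟩ | ⟨μ, rfl⟩
    · exact hpU x hx' k v hv
    · exact hUU l u hu k v hv
    · exact (hm _ μ (Or.inr (Or.inl ⟨k, v, hv, rfl⟩))).symm
  · exact hm x ν hx

theorem FE_comm {x y : G} (hx : x ∈ Subgroup.closure (gens Wp Wr m g))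
    (hy : y ∈ Subgroup.closure (gens Wp Wr m g)) : x * y = y * x := by
  have h1 : ∀ z ∈ gens Wp Wr m g, Subgroup.closure (gens Wp Wr m g) ≤ Subgroup.centralizer {z} := by
    intro z hz
    rw [Subgroup.closure_le]
    intro w hw
    rw [SetLike.mem_coe, Subgroup.mem_centralizer_singleton_iff]
    exact gens_comm L H hw hz
  have h2 : Subgroup.closure (gens Wp Wr m g) ≤ Subgroup.centralizer {y} := by
    rw [Subgroup.closure_le]
    intro w hw
    rw [SetLike.mem_coe, Subgroup.mem_centralizer_singleton_iff]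
    have := h1 w hw hy
    rw [Subgroup.mem_centralizer_singleton_iff] at this
    exact this.symm
  have := h2 hx
  rw [Subgroup.mem_centralizer_singleton_iff] at this
  exact this

omit H in
theorem O_FE {c x : G} (hc : c ∈ OE) (hx : x ∈ Subgroup.closure (gens Wp Wr m g))
    (hm : ∀ μ, c * m μ = m μ * c) : c * x = x * c := by
  have h2 : Subgroup.closure (gens Wp Wr m g) ≤ Subgroup.centralizer {c} := by
    rw [Subgroup.closure_le]
    intro w hw
    rw [SetLike.mem_coe, Subgroup.mem_centralizer_singleton_iff]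
    rcases hw with hw | ⟨l, u, hu, rfl⟩ | ⟨ν, rfl⟩
    · exact (L.O_p c hc w hw).symm
    · exact (O_U L hu l hc).symm
    · exact (hm ν).symm
  have := h2 hx
  rw [Subgroup.mem_centralizer_singleton_iff] at this
  exact this.symm

omit H in
theorem conj_mem {a : G} (ha : ∀ x ∈ gens Wp Wr m g, a * x * a⁻¹ ∈ Subgroup.closure (gens Wp Wr m g)) {x : G}
    (hx : x ∈ Subgroup.closure (gens Wp Wr m g)) : a * x * a⁻¹ ∈ Subgroup.closure (gens Wp Wr m g) := by
  have h2 : Subgroup.closure (gens Wp Wr m g) ≤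
      (Subgroup.closure (gens Wp Wr m g)).comap (MulAut.conj a).toMonoidHom := by
    rw [Subgroup.closure_le]
    intro w hw
    exact ha w hw
  exact h2 hx

omit H in
theorem t_FE {x : G} (hx : x ∈ Subgroup.closure (gens Wp Wr m g)) :
    t * x * t⁻¹ ∈ Subgroup.closure (gens Wp Wr m g) := by
  have C := L.toCoord
  refine conj_mem L ?_ hx
  have ht : t⁻¹ = t := inv_eq_of_mul_eq_one_left L.tt
  have hp : ∀ x, σ x = x → np x ∈ Subgroup.closure (gens Wp Wr m g) :=
    fun x hx => Subgroup.subset_closure (Or.inl (L.dp.mem x hx))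
  have hr : ∀ x, σ x = x → nr x ∈ Subgroup.closure (gens Wp Wr m g) := fun x hx =>
    Subgroup.subset_closure (Or.inr (Or.inl ⟨0, nr x, L.dr.mem x hx, by rw [U_zero L]⟩))
  have hm : ∀ x, m x ∈ Subgroup.closure (gens Wp Wr m g) := fun x =>
    Subgroup.subset_closure (Or.inr (Or.inr ⟨x, rfl⟩))
  rintro x (hx | ⟨l, u, hu, rfl⟩ | ⟨μ, rfl⟩)
  · obtain ⟨y, hy, h⟩ := L.dp.brk x hx
    rw [ht, h]
    exact mul_mem (Subgroup.subset_closure (Or.inl hx)) (hp y hy)
  · obtain ⟨y, hy, h⟩ := L.dr.brk u hu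
    rw [ht, tU L hy h]
    exact mul_mem (Subgroup.subset_closure (Or.inr (Or.inl ⟨l, u, hu, rfl⟩)))
      (mul_mem (mul_mem (hp _ (fix_norm C l hy)) (hm _)) (hr y hy))
  · rw [L.t_m, mul_assoc, mul_inv_cancel, mul_one]
    exact hm μ

omit H in
theorem g_FE (k : F) {x : G} (hx : x ∈ Subgroup.closure (gens Wp Wr m g)) :
    g k * x * (g k)⁻¹ ∈ Subgroup.closure (gens Wp Wr m g) := by
  have C := L.toCoord
  refine conj_mem L ?_ hx
  rintro x (hx | ⟨l, u, hu, rfl⟩ | ⟨μ, rfl⟩)
  · rw [L.g_p k x hx, mul_assoc, mul_inv_cancel, mul_one]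
    exact Subgroup.subset_closure (Or.inl hx)
  · refine Subgroup.subset_closure (Or.inr (Or.inl ⟨k + l, u, hu, ?_⟩))
    rw [C.g_add]
    group
  · rw [C.g_m]
    exact mul_mem (Subgroup.subset_closure (Or.inr (Or.inr ⟨μ, rfl⟩)))
      (Subgroup.subset_closure (Or.inl (L.dp.mem _ (fix_tr C k μ))))

/-- Conjugation on a subgroup. -/
noncomputable def cj (A : Subgroup G) (a : G) (ha : ∀ x ∈ A, a * x * a⁻¹ ∈ A) : A →* A :=
  ((MulAut.conj a).toMonoidHom.comp A.subtype).codRestrict A (fun x => ha x x.2)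

omit L H in
theorem cj_coe (A : Subgroup G) (a : G) (ha : ∀ x ∈ A, a * x * a⁻¹ ∈ A) (x : A) :
    ((cj A a ha x : A) : G) = a * x * a⁻¹ := rfl

theorem line_main {u : G} (hu : u ∈ Wr)
    (hel : (∃ k, σ k = k ∧ k ≠ 0 ∧ k ≠ 1) ∨ u * u = 1) :
    u * u = 1 ∧ ∀ l k, u * (g l * u * (g l)⁻¹) * (g k * u * (g k)⁻¹) * (g (l + k) * u * (g (l + k))⁻¹) ∈ Wp := by
  classical
  have C := L.toCoord
  set A := Subgroup.closure (gens Wp Wr m g) with hA
  have ht : t⁻¹ = t := inv_eq_of_mul_eq_one_left L.tt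
  let _ : CommGroup A := { (inferInstance : Group A) with
    mul_comm := fun a b => Subtype.ext (FE_comm L H a.2 b.2) }
  have hWp : ∀ x ∈ Wp, x ∈ A := fun x hx => Subgroup.subset_closure (Or.inl hx)
  have hWr : ∀ x ∈ Wr, x ∈ A := fun x hx =>
    Subgroup.subset_closure (Or.inr (Or.inl ⟨0, x, hx, by rw [U_zero L]⟩))
  have hnp : ∀ x, σ x = x → np x ∈ A := fun x hx => hWp _ (L.dp.mem x hx)
  have hnr : ∀ x, σ x = x → nr x ∈ A := fun x hx => hWr _ (L.dr.mem x hx)
  have hm : ∀ x, m x ∈ A := fun x => Subgroup.subset_closure (Or.inr (Or.inr ⟨x, rfl⟩))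
  let np' : F → Additive A := fun x => if h : np x ∈ A then Additive.ofMul ⟨np x, h⟩ else 0
  let nr' : F → Additive A := fun x => if h : nr x ∈ A then Additive.ofMul ⟨nr x, h⟩ else 0
  let m' : F → Additive A := fun x => Additive.ofMul ⟨m x, hm x⟩
  let c : Additive A → G := fun x => ((Additive.toMul x : A) : G)
  have cinj : ∀ x y, c x = c y → x = y := fun x y h => Additive.toMul.injective (Subtype.ext h)
  have cadd : ∀ x y, c (x + y) = c x * c y := fun x y => rfl
  have czero : c 0 = 1 := rfl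
  have cnp : ∀ x, σ x = x → c (np' x) = np x := by
    intro x hx
    show c (if h : np x ∈ A then Additive.ofMul ⟨np x, h⟩ else 0) = np x
    rw [dif_pos (hnp x hx)]
    rfl
  have cnr : ∀ x, σ x = x → c (nr' x) = nr x := by
    intro x hx
    show c (if h : nr x ∈ A then Additive.ofMul ⟨nr x, h⟩ else 0) = nr x
    rw [dif_pos (hnr x hx)]
    rfl
  have cm : ∀ x, c (m' x) = m x := fun x => rfl
  let τ : Additive A →+ Additive A := MonoidHom.toAdditive (cj A t (fun x hx => t_FE L hx))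
  let γ : F → Additive A →+ Additive A := fun l => MonoidHom.toAdditive (cj A (g l) (fun x hx => g_FE L l hx))
  have cτ : ∀ x, c (τ x) = t * c x * t⁻¹ := fun x => rfl
  have cγ : ∀ l x, c (γ l x) = g l * c x * (g l)⁻¹ := fun l x => rfl
  let P : AddSubgroup (Additive A) := Subgroup.toAddSubgroup (Wp.subgroupOf A)
  let R : AddSubgroup (Additive A) := Subgroup.toAddSubgroup (Wr.subgroupOf A)
  have hP : ∀ x, x ∈ P ↔ c x ∈ Wp := fun x => Iff.rfl
  have hR : ∀ x, x ∈ R ↔ c x ∈ Wr := fun x => Iff.rfl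
  have lift : ∀ x ∈ A, ∃ y, c y = x := fun x hx => ⟨Additive.ofMul ⟨x, hx⟩, rfl⟩
  have hnotin : t ∉ A := by
    intro h
    obtain ⟨w, hw, hwt⟩ := L.dp.surj 1 (map_one σ)
    have h1 := FE_comm L H h (hWp w hw)
    rw [h1, mul_assoc, L.tt] at hwt
    have h2 : np 1 = 1 := (mul_left_cancel hwt).symm
    exact one_ne_zero (np_inj L (map_one σ) h2)
  have LM : LineMod.LMod σ τ γ np' nr' m' P R :=
    { two := C.two
      σσ := C.σσ
      nt := C.nt
      np_add := fun x y hx hy => cinj _ _ (by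
        rw [cadd, cnp _ (fix_add C hx hy), cnp x hx, cnp y hy, C.np_add x y hx hy])
      nr_add := fun x y hx hy => cinj _ _ (by
        rw [cadd, cnr _ (fix_add C hx hy), cnr x hx, cnr y hy, C.nr_add x y hx hy])
      m_add := fun x y => cinj _ _ (by rw [cadd, cm, cm, cm, C.m_add])
      inj := fun x μ y hx hy h => C.inj x μ y hx hy (by
        have := congrArg c h
        rwa [cadd, cadd, cnp x hx, cnr y hy, cm, czero] at this)
      t_np := fun x hx => cinj _ _ (by rw [cτ, cnp x hx, C.t_np x hx]; group)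
      t_nr := fun x hx => cinj _ _ (by rw [cτ, cnr x hx, C.t_nr x hx]; group)
      t_m := fun x => cinj _ _ (by rw [cτ, cm, C.t_m x]; group)
      γ_zero := fun w => cinj _ _ (by rw [cγ, g_zero C]; simp)
      γ_add := fun l k w => cinj _ _ (by rw [cγ, cγ, cγ, C.g_add]; group)
      γ_t := fun l w => cinj _ _ (by
        rw [cτ, cγ, cγ, cτ]
        have e1 := C.t_g l
        calc t * (g l * c w * (g l)⁻¹) * t⁻¹ = (t * g l) * c w * (t * g l)⁻¹ := by group
          _ = _ := by rw [e1]; group)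
      γ_P := fun l w hw => cinj _ _ (by
        rw [cγ, L.g_p l _ ((hP w).1 hw)]; group)
      γ_m := fun l μ => cinj _ _ (by
        rw [cγ, cadd, cm, cnp _ (fix_tr C l μ), C.g_m])
      γ_nr := fun l y hy => cinj _ _ (by
        rw [cγ, cadd, cadd, cm, cnp _ (fix_norm C l hy), cnr y hy, C.g_nr l y hy])
      np_P := fun x hx => (hP _).2 (by rw [cnp x hx]; exact L.dp.mem x hx)
      surj := fun x hx => by
        obtain ⟨w, hw, h⟩ := L.dp.surj x hx
        obtain ⟨w', rfl⟩ := lift w (hWp w hw)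
        exact ⟨w', (hP _).2 hw, cinj _ _ (by rw [cτ, cadd, cnp x hx, ht, h])⟩
      brkP := fun w hw => by
        obtain ⟨x, hx, h⟩ := L.dp.brk _ ((hP w).1 hw)
        exact ⟨x, hx, cinj _ _ (by rw [cτ, cadd, cnp x hx, ht, h])⟩
      cent := fun w hw h => by
        have h1 := congrArg c h
        rw [cτ] at h1
        have h2 : t * c w = c w * t := by
          calc t * c w = (t * c w * t⁻¹) * t := by group
            _ = _ := by rw [h1]
        obtain ⟨x, hx, h3⟩ := L.dp.cent _ ((hP w).1 hw) h2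
        exact ⟨x, hx, cinj _ _ (by rw [cnp x hx, h3])⟩
      brk := fun w hw => by
        obtain ⟨x, hx, h⟩ := L.dr.brk _ ((hR w).1 hw)
        exact ⟨x, hx, cinj _ _ (by rw [cτ, cadd, cnr x hx, ht, h])⟩
      sq := fun w hw => by
        obtain ⟨x, hx, h⟩ := rsq L ((hR w).1 hw)
        exact ⟨x, hx, cinj _ _ (by rw [cadd, cnr x hx, h])⟩
      K2 := fun x h => by
        have h1 := congrArg c h
        rw [cτ] at h1
        have h2 : c x * t = t * c x := by
          calc c x * t = (t * c x * t⁻¹) * t := by rw [h1]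
            _ = _ := by group
        have hxA : c x ∈ A := (Additive.toMul x : A).2
        obtain ⟨a, μ, b, ha, hb, h3 | h3⟩ := L.K2 (c x) h2 (fun o ho => (O_FE L ho hxA (L.O_m o ho)).symm)
        · exact ⟨a, μ, b, ha, hb, cinj _ _ (by rw [cadd, cadd, cnp a ha, cnr b hb, cm, h3])⟩
        · exfalso
          apply hnotin
          have h4 : np a * m μ * nr b ∈ A := mul_mem (mul_mem (hnp a ha) (hm μ)) (hnr b hb)
          rw [h3] at hxA
          exact (Subgroup.mul_mem_cancel_right A h4).1 hxA }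
  obtain ⟨u', rfl⟩ := lift u (hWr u hu)
  have h1 := LineMod.main LM (u := u') ((hR _).2 hu) (by
    rcases hel with h | h
    · exact Or.inl h
    · exact Or.inr (cinj _ _ (by rw [cadd, h, czero])))
  refine ⟨?_, fun l k => ?_⟩
  · have := congrArg c h1.1
    rwa [cadd, czero] at this
  · have := (hP _).1 (h1.2 l k)
    rwa [LineMod.S_def, cadd, cadd, cadd, cγ, cγ, cγ] at this

omit L H

/-- `q > 2`: `[W p, W r] = 1`. -/
theorem comm_of_large {m' g' : F → G} (L : Line σ t OE Wp Wr np nr m g) (L' : Line σ t OE Wr Wp nr np m' g')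
    {h h' : G} (T : Tor σ t Wp Wr np nr m h) (T' : Tor σ t Wr Wp nr np m' h')
    (S : Scale σ t Wp Wr np nr) (S' : Scale σ t Wr Wp nr np)
    (hq : ∃ k, σ k = k ∧ k ≠ 0 ∧ k ≠ 1) {v u : G} (hv : v ∈ Wp) (hu : u ∈ Wr) : v * u = u * v := by
  have C := L.toCoord
  obtain ⟨a, b, ha, hb, h1⟩ := comm_form L T hv hu
  obtain ⟨a', b', ha', hb', h2⟩ := comm_form L' T' hu hv
  have hb0 := b_zero L S hq hv hu ha hb h1
  have hb0' := b_zero L' S' hq hu hv ha' hb' h2
  rw [hb0, nr_zero C, mul_one] at h1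
  rw [hb0', np_zero C, mul_one] at h2
  have h3 : u * v * (nr a' * np a) = u * v := by
    rw [h1] at h2
    calc u * v * (nr a' * np a) = u * v * (np a * nr a') := by rw [C.np_nr a a' ha ha']
      _ = u * v * np a * nr a' := by simp only [mul_assoc]
      _ = u * v := h2.symm
  have h4 : np a * m 0 * nr a' = np 0 * m 0 * nr 0 := by
    have h5 : nr a' * np a = 1 := mul_left_cancel (h3.trans (mul_one _).symm)
    rw [m_zero C, np_zero C, nr_zero C, mul_one, mul_one, mul_one, C.np_nr a a' ha ha', h5]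
  have h6 := (A_inj C ha ha' (map_zero σ) (map_zero σ) h4).1
  rw [h1, h6, np_zero C, mul_one]

/-- `q = 2`: `[v, u] = 1` or `[v, u] = np 1 * nr 1`. -/
theorem comm_of_two {h s : G} (L : Line σ t OE Wp Wr np nr m g) (T : Tor σ t Wp Wr np nr m h)
    (hq : ∀ k, σ k = k → k = 0 ∨ k = 1) (st : s * t = t * s)
    (sp : ∀ w ∈ Wp, s * w * s⁻¹ ∈ Wr) (sr : ∀ w ∈ Wr, s * w * s⁻¹ ∈ Wp)
    (snp : ∀ x, σ x = x → s * np x * s⁻¹ = nr x) (snr : ∀ x, σ x = x → s * nr x * s⁻¹ = np x)
    {v u : G} (hv : v ∈ Wp) (hu : u ∈ Wr) :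
    v * u = u * v ∨ (t * v * t = v * np 1 ∧ t * u * t = u * nr 1 ∧ v * u = u * v * (np 1 * nr 1)) := by
  have C := L.toCoord
  have ht : t⁻¹ = t := inv_eq_of_mul_eq_one_left L.tt
  obtain ⟨a, b, ha, hb, h1⟩ := comm_form L T hv hu
  obtain ⟨x, hx, hvx⟩ := L.dp.brk v hv
  obtain ⟨y, hy, huy⟩ := L.dr.brk u hu
  -- trivial cases
  have hv0 : x = 0 → v * u = u * v := by
    intro h0
    rw [h0, np_zero C, mul_one] at hvx
    have e4 : t * v = v * t := by
      calc t * v = t * v * (t * t) := by rw [L.tt, mul_one]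
        _ = (t * v * t) * t := by simp only [mul_assoc]
        _ = v * t := by rw [hvx]
    obtain ⟨s, hs, hvs⟩ := L.dp.cent v hv e4
    rw [hvs]
    exact (L.r_np u hu s hs).symm
  have hu0 : y = 0 → v * u = u * v := by
    intro h0
    rw [h0, nr_zero C, mul_one] at huy
    have e4 : t * u = u * t := by
      calc t * u = t * u * (t * t) := by rw [L.tt, mul_one]
        _ = (t * u * t) * t := by simp only [mul_assoc]
        _ = u * t := by rw [huy]
    obtain ⟨s, hs, hus⟩ := L.dr.cent u hu e4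
    rw [hus]
    exact L.p_nr v hv s hs
  rcases hq x hx with h2 | h2
  · exact Or.inl (hv0 h2)
  rcases hq y hy with h3 | h3
  · exact Or.inl (hu0 h3)
  subst h2 h3
  -- the swap
  have e1 : t * s = s * t := st.symm
  have hsv : t * (s * v * s⁻¹) * t = s * v * s⁻¹ * nr 1 := by
    rw [← snp 1 (map_one σ)]
    calc t * (s * v * s⁻¹) * t = (t * s) * v * (t⁻¹ * s)⁻¹ := by group
      _ = (s * t) * v * (s * t⁻¹)⁻¹ := by rw [ht, e1]
      _ = s * (t * v * t) * s⁻¹ := by group
      _ = _ := by rw [hvx]; group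
  have hsu : t * (s * u * s⁻¹) * t = s * u * s⁻¹ * np 1 := by
    rw [← snr 1 (map_one σ)]
    calc t * (s * u * s⁻¹) * t = (t * s) * u * (t⁻¹ * s)⁻¹ := by group
      _ = (s * t) * u * (s * t⁻¹)⁻¹ := by rw [ht, e1]
      _ = s * (t * u * t) * s⁻¹ := by group
      _ = _ := by rw [huy]; group
  obtain ⟨z1, hz1, hv1⟩ := same L L.dp (sr u hu) hv (map_one σ) hsu hvx
  obtain ⟨z2, hz2, hu1⟩ := same L L.dr (sp v hv) hu (map_one σ) hsv huy
  -- conjugate `h1` by `s`
  have h4 : s * v * s⁻¹ * (s * u * s⁻¹) = s * u * s⁻¹ * (s * v * s⁻¹) * (nr a * np b) := by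
    rw [← snp a ha, ← snr b hb]
    calc s * v * s⁻¹ * (s * u * s⁻¹) = s * (v * u) * s⁻¹ := by group
      _ = s * (u * v * (np a * nr b)) * s⁻¹ := by rw [h1]
      _ = _ := by group
  set v' := s * u * s⁻¹ with hv'
  set u' := s * v * s⁻¹ with hu'
  have hv'm : v' ∈ Wp := sr u hu
  have hu'm : u' ∈ Wr := sp v hv
  -- `v * u = v' * u'` up to centre
  have h5 : v' * u' = u' * v' * (np a * nr b) := by
    have c1 : Commute (np z1) u' := (L.r_np u' hu'm z1 hz1).symm
    have c2 : Commute (nr z2) v' := (L.p_nr v' hv'm z2 hz2).symm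
    have c3 : Commute (np z1) (nr z2) := C.np_nr z1 z2 hz1 hz2
    have c4 : Commute (np z1) v' := (L.dp.cn _ hv'm z1 hz1).symm
    have c5 : Commute (nr z2) u' := (L.dr.cn _ hu'm z2 hz2).symm
    have h6 : v * u = v' * u' * (np z1 * nr z2) := by
      rw [hv1, hu1]
      calc v' * np z1 * (u' * nr z2) = v' * (np z1 * u') * nr z2 := by simp only [mul_assoc]
        _ = _ := by rw [c1.eq]; simp only [mul_assoc]
    have h7 : u * v = u' * v' * (np z1 * nr z2) := by
      rw [hv1, hu1]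
      calc u' * nr z2 * (v' * np z1) = u' * (nr z2 * v') * np z1 := by simp only [mul_assoc]
        _ = u' * v' * (nr z2 * np z1) := by rw [c2.eq]; simp only [mul_assoc]
        _ = _ := by rw [← c3.eq]
    rw [h6, h7] at h1
    have h8 : np z1 * nr z2 * (np a * nr b) = np a * nr b * (np z1 * nr z2) := by
      have := A_comm C 0 0 hz1 hz2 ha hb
      simpa only [m_zero C, mul_one] using this
    have h9 : v' * u' * (np z1 * nr z2) = u' * v' * (np a * nr b) * (np z1 * nr z2) := by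
      rw [h1]
      calc u' * v' * (np z1 * nr z2) * (np a * nr b) = u' * v' * (np z1 * nr z2 * (np a * nr b)) := by
            simp only [mul_assoc]
        _ = _ := by rw [h8]; simp only [mul_assoc]
    exact mul_right_cancel h9
  -- `u' v' = v' u' (nr a np b)`
  have h6 : u' * v' * (np a * nr b * (nr a * np b)) = u' * v' * 1 := by
    rw [mul_one]
    calc u' * v' * (np a * nr b * (nr a * np b)) = u' * v' * (np a * nr b) * (nr a * np b) := by
          simp only [mul_assoc]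
      _ = v' * u' * (nr a * np b) := by rw [← h5]
      _ = u' * v' := h4.symm
  have h7 : np a * nr b * (nr a * np b) = 1 := mul_left_cancel h6
  have h8 : np (a + b) * m 0 * nr (b + a) = np 0 * m 0 * nr 0 := by
    have e1 : nr a * np b = np b * m 0 * nr a := by
      rw [m_zero C, mul_one, C.np_nr b a hb ha]
    have e2 : np a * nr b = np a * m 0 * nr b := by rw [m_zero C, mul_one]
    rw [e1, e2, A_mul C 0 0 ha hb hb ha] at h7
    rw [add_zero] at h7
    rw [h7, m_zero C, np_zero C, nr_zero C]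
    simp
  have hab : a = b := eq_of_add C (A_inj C (fix_add C ha hb) (fix_add C hb ha) (map_zero σ) (map_zero σ) h8).1
  subst hab
  rcases hq a ha with h9 | h9
  · left
    rw [h1, h9, np_zero C, nr_zero C]
    simp
  · right
    refine ⟨hvx, huy, ?_⟩
    rw [h1, h9]

/-- `q = 2`: `W p` is abelian. -/
theorem ab_of_two (L : Line σ t OE Wp Wr np nr m g) (hq : ∀ k, σ k = k → k = 0 ∨ k = 1) {v u : G} (hv : v ∈ Wp)
    (hu : u ∈ Wp) : v * u = u * v := by
  have C := L.toCoord
  have h0 : ∀ w ∈ Wp, t * w * t = w * np 0 → ∃ x, σ x = x ∧ w = np x := by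
    intro w hw h
    rw [np_zero C, mul_one] at h
    refine L.dp.cent w hw ?_
    calc t * w = t * w * (t * t) := by rw [L.tt, mul_one]
      _ = (t * w * t) * t := by simp only [mul_assoc]
      _ = w * t := by rw [h]
  obtain ⟨x, hx, hvx⟩ := L.dp.brk v hv
  obtain ⟨y, hy, huy⟩ := L.dp.brk u hu
  rcases hq x hx with h1 | h1
  · obtain ⟨s, hs, rfl⟩ := h0 v hv (by rw [hvx, h1])
    exact (L.dp.cn u hu s hs).symm
  rcases hq y hy with h2 | h2
  · obtain ⟨s, hs, rfl⟩ := h0 u hu (by rw [huy, h2])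
    exact L.dp.cn v hv s hs
  subst h1 h2
  exact same_comm L L.dp hv hu (map_one σ) hvx huy

end Cfsg.Agent.OddHalf.D7.Uni.LineGrp
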