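import Cfsg.Agent.OddHalf.D7.Uni.Evl
import Cfsg.Agent.OddHalf.D7.Uni.LineGrp

/-!
# `EL` from `Line` (helper371): `E_l = ⟨W_s : s ∈ l⟩ = closure (gens Wp Wr m g)`
-/

set_option autoImplicit false

namespace Cfsg.Agent.OddHalf.D7.Uni.Quad

open Defs Cfsg.Agent.OddHalf.D7.Uni.Line

variable {G : Type*} [Group G] {F : Type*} [Field F] {σ : F →+* F} {t : G}
  {OE Wp Wr Q : Subgroup G} {np nr m g : F → G}

theorem EL.of_line (L : Line σ t OE Wp Wr np nr m g) (H : LineGrp.Comm Wp Wr g)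
    (hp : ∀ w ∈ Wp, w * w = 1) (hr : ∀ w ∈ Wr, w * w = 1)
    (gQ : ∀ l, g l ∈ Q) (npQ : ∀ x, σ x = x → np x ∈ Q) (mQ : ∀ x, m x ∈ Q)
    (hQ : ∀ q ∈ Q, ∃ l, ∃ c ∈ OE, q = g l * c) :
    EL σ t (Subgroup.closure (LineGrp.gens Wp Wr m g)) Wp Q np nr m g := by
  have C := L.toCoord
  set E := Subgroup.closure (LineGrp.gens Wp Wr m g) with hE
  have ht : t⁻¹ = t := inv_eq_of_mul_eq_one_left L.tt
  have ab : ∀ a ∈ E, ∀ b ∈ E, a * b = b * a := fun a ha b hb => LineGrp.FE_comm L H ha hb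
  have WE : Wp ≤ E := fun w hw => Subgroup.subset_closure (Or.inl hw)
  have WrE : Wr ≤ E := fun w hw => Subgroup.subset_closure
    (Or.inr (Or.inl ⟨0, w, hw, by rw [Coord.g_zero C]; group⟩))
  have np_E : ∀ x, σ x = x → np x ∈ E := fun x hx => WE (L.dp.mem x hx)
  have nr_E : ∀ x, σ x = x → nr x ∈ E := fun x hx => WrE (L.dr.mem x hx)
  have m_E : ∀ x, m x ∈ E := fun x => Subgroup.subset_closure (Or.inr (Or.inr ⟨x, rfl⟩))
  have t_mul : ∀ a b : G, t * (a * b) * t = (t * a * t) * (t * b * t) := by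
    intro a b
    calc t * (a * b) * t = t * a * 1 * b * t := by group
      _ = _ := by rw [← L.tt]; group
  have g_E : ∀ l, ∀ e ∈ E, g l * e * (g l)⁻¹ ∈ E := fun l e he => LineGrp.g_FE L l he
  have all_E : ∀ x μ y, σ x = x → σ y = y → np x * m μ * nr y ∈ E := fun x μ y hx hy =>
    E.mul_mem (E.mul_mem (np_E x hx) (m_E μ)) (nr_E y hy)
  have hnp1 : np 1 ≠ 1 := fun h => by
    have := (L.inj 1 0 0 (map_one σ) (map_zero σ) (by
      rw [h, Coord.m_zero C, Coord.nr_zero C]; simp)).1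
    exact one_ne_zero this
  have tE : t ∉ E := by
    intro h
    obtain ⟨w, hw, e⟩ := L.dp.surj 1 (map_one σ)
    rw [ab t h w (WE hw), mul_assoc, L.tt, mul_one] at e
    exact hnp1 (mul_eq_left.mp e.symm)
  have brk : ∀ e ∈ E, ∃ x μ y, σ x = x ∧ σ y = y ∧ t * e * t = e * (np x * m μ * nr y) := by
    intro e he
    refine Subgroup.closure_induction
      (p := fun e _ => ∃ x μ y, σ x = x ∧ σ y = y ∧ t * e * t = e * (np x * m μ * nr y)) ?_ ?_ ?_ ?_ he
    · rintro x (hx | ⟨l, u, hu, rfl⟩ | ⟨μ, rfl⟩)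
      · obtain ⟨a, ha, e⟩ := L.dp.brk x hx
        exact ⟨a, 0, 0, ha, map_zero σ, by rw [e, Coord.m_zero C, Coord.nr_zero C, mul_one, mul_one]⟩
      · obtain ⟨y, hy, e⟩ := L.dr.brk u hu
        exact ⟨_, _, _, fix_norm C l hy, hy, tU L hy e l⟩
      · refine ⟨0, 0, 0, map_zero σ, map_zero σ, ?_⟩
        rw [L.t_m, mul_assoc, L.tt, Coord.np_zero C, Coord.m_zero C, Coord.nr_zero C]
        simp
    · refine ⟨0, 0, 0, map_zero σ, map_zero σ, ?_⟩
      rw [mul_one, L.tt, Coord.np_zero C, Coord.m_zero C, Coord.nr_zero C]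
      simp
    · rintro a b ha hb ⟨x, μ, y, hx, hy, e⟩ ⟨x', μ', y', hx', hy', e'⟩
      refine ⟨x + x', μ + μ', y + y', fix_add C hx hx', fix_add C hy hy', ?_⟩
      rw [t_mul, e, e', ← A_mul C μ μ' hx hy hx' hy']
      have h := ab _ (all_E x μ y hx hy) b hb
      calc a * (np x * m μ * nr y) * (b * (np x' * m μ' * nr y')) =
          a * ((np x * m μ * nr y) * b) * (np x' * m μ' * nr y') := by group
        _ = _ := by rw [h]; group
    · rintro a ha ⟨x, μ, y, hx, hy, e⟩
      refine ⟨x, μ, y, hx, hy, ?_⟩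
      have h1 : t * a⁻¹ * t = (t * a * t)⁻¹ := by rw [mul_inv_rev, mul_inv_rev, ht, mul_assoc]
      rw [h1, e, mul_inv_rev, A_inv C μ hx hy]
      exact ab _ (all_E x μ y hx hy) _ (E.inv_mem ha)
  -- the brackets form a group
  have surj : ∀ x μ y, σ x = x → σ y = y → ∃ e ∈ E, t * e * t = e * (np x * m μ * nr y) := by
    have mulS : ∀ a b u v : G, a ∈ E → b ∈ E → u ∈ E → v ∈ E → t * a * t = a * u → t * b * t = b * v →
        t * (a * b) * t = a * b * (u * v) := by
      intro a b u v ha hb hu hv e e'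
      rw [t_mul, e, e']
      have h := ab u hu b hb
      calc a * u * (b * v) = a * (u * b) * v := by group
        _ = _ := by rw [h]; group
    intro x μ y hx hy
    obtain ⟨u, hu, eu⟩ := L.dr.surj 1 (map_one σ)
    obtain ⟨u', hu', eu'⟩ := L.dr.surj (y + 1) (fix_add C hy (map_one σ))
    obtain ⟨w, hw, ew⟩ := L.dp.surj (x + μ * σ μ * 1) (fix_add C hx (fix_norm C μ (map_one σ)))
    have h1 := tU L (map_one σ) eu μ
    have hU : g μ * u * (g μ)⁻¹ ∈ E := g_E μ u (WrE hu)
    have e1 := all_E (μ * σ μ * 1) (μ * 1) 1 (fix_norm C μ (map_one σ)) (map_one σ)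
    have e2 := nr_E (y + 1) (fix_add C hy (map_one σ))
    have e3 := np_E (x + μ * σ μ * 1) (fix_add C hx (fix_norm C μ (map_one σ)))
    have h2 := mulS _ _ _ _ hU (WrE hu') e1 e2 h1 eu'
    have h3 := mulS _ _ _ _ (E.mul_mem hU (WrE hu')) (WE hw) (E.mul_mem e1 e2) e3 h2 ew
    refine ⟨_, E.mul_mem (E.mul_mem hU (WrE hu')) (WE hw), ?_⟩
    rw [h3]
    congr 1
    have a1 : nr (y + 1) = np 0 * m 0 * nr (y + 1) := by
      rw [Coord.np_zero C, Coord.m_zero C, one_mul, one_mul]
    have a2 : np (x + μ * σ μ * 1) = np (x + μ * σ μ * 1) * m 0 * nr 0 := by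
      rw [Coord.m_zero C, Coord.nr_zero C]
      simp
    rw [a1, a2, A_mul C _ _ (fix_norm C μ (map_one σ)) (map_one σ) (map_zero σ)
      (fix_add C hy (map_one σ)), A_mul C _ _ (fix_add C (fix_norm C μ (map_one σ)) (map_zero σ))
      (fix_add C (map_one σ) (fix_add C hy (map_one σ)))
      (fix_add C hx (fix_norm C μ (map_one σ))) (map_zero σ)]
    have b1 : μ * σ μ * 1 + 0 + (x + μ * σ μ * 1) = x := by
      have := L.two (μ * σ μ * 1)
      linear_combination this
    have b2 : μ * 1 + 0 + 0 = μ := by ring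
    have b3 : 1 + (y + 1) + 0 = y := by
      have := L.two 1
      linear_combination this
    rw [b1, b2, b3]
  have cent : ∀ e ∈ E, t * e = e * t → ∃ x μ y, σ x = x ∧ σ y = y ∧ e = np x * m μ * nr y := by
    intro e he hc
    obtain ⟨x, μ, y, hx, hy, h | h⟩ := L.K2 e hc.symm fun o ho =>
      (LineGrp.O_FE L ho he (L.O_m o ho)).symm
    · exact ⟨x, μ, y, hx, hy, h⟩
    · exfalso
      apply tE
      have : t = e * (np x * m μ * nr y)⁻¹ := by rw [h]; group
      rw [this]
      exact E.mul_mem he (E.inv_mem (all_E x μ y hx hy))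
  exact
    { toCoord := C
      ab := ab
      sq := by
        intro a ha
        refine Subgroup.closure_induction (p := fun a _ => a * a = 1) ?_ ?_ ?_ ?_ ha
        · rintro x (hx | ⟨l, u, hu, rfl⟩ | ⟨μ, rfl⟩)
          · exact hp x hx
          · calc g l * u * (g l)⁻¹ * (g l * u * (g l)⁻¹) = g l * (u * u) * (g l)⁻¹ := by group
              _ = 1 := by rw [hr u hu]; group
          · exact m_sq C μ
        · exact mul_one 1
        · intro a b ha hb h1 h2
          calc a * b * (a * b) = a * (b * a) * b := by group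
            _ = (a * a) * (b * b) := by rw [ab b hb a ha]; group
            _ = 1 := by rw [h1, h2, mul_one]
        · intro a _ h1
          rw [← mul_inv_rev, h1, inv_one]
      WE := WE
      np_E := np_E
      m_E := m_E
      nr_E := nr_E
      brk := brk
      surj := surj
      cent := cent
      dW := L.dp
      g_E := g_E
      g_W := L.g_p
      gQ := gQ
      npQ := npQ
      mQ := mQ
      Q_E := by
        intro q hq
        obtain ⟨l, c, hc, rfl⟩ := hQ q hq
        refine ⟨l, fun e he => ?_⟩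
        have h := LineGrp.O_FE L hc he (L.O_m c hc)
        calc g l * c * e * (g l * c)⁻¹ = g l * (c * e) * c⁻¹ * (g l)⁻¹ := by group
          _ = _ := by rw [h]; group }

end Cfsg.Agent.OddHalf.D7.Uni.Quad
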