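import Cfsg.Agent.OddHalf.D7.Uni.HeisSetup
import Cfsg.Agent.OddHalf.D7.Uni.Face
import Cfsg.Agent.OddHalf.D7Ex.Norm

/-!
# The double of one transvection group gives the doubles of all (helper575)

* `Base` : a double `W0` of `RR u0`, normalised by the stabiliser of the point `F u0`;
* `exists_dbl_of_base` : then there is a family `Face.Dbl`.
-/

set_option autoImplicit false
set_option linter.unusedSectionVars false

namespace Cfsg.Agent.OddHalf.D7.Uni.Ex

open Subgroup
open Cfsg Cfsg.Agent.LieClassical.HermBasic Cfsg.Agent.LieClassical.HermSiegel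
  Cfsg.Agent.LieClassical.HermGen Cfsg.Agent.LieClassical.SUBasic Matrix
  Cfsg.Agent.ClassicalGeometry.PSUAutBasic Cfsg.Agent.ClassicalGeometry.PSUAutSylow
  Cfsg.Agent.ClassicalGeometry.PSUAutUnip Cfsg.Agent.KFacts.Unit
  Cfsg.Agent.OddHalf.D7.Uni.Face

variable {F : Type*} [Field F] [Fintype F] {q n : ℕ} {G : Type*} [Group G]

/-- A double of the transvection group of `u0`. -/
structure Base (hF : Fintype.card F = q ^ 2) (t : G) (j : PSU n F q →* G) (u0 : Fin n → F)
    (hu0 : hermForm n F q u0 u0 = 0) (W0 : Subgroup G) : Prop where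
  X_le : (RR hF u0 hu0).map j ≤ W0
  cent : ∀ w ∈ W0, ∀ g : SU n F q, act g u0 = u0 → w * fj n F q j g = fj n F q j g * w
  brk : ∀ w ∈ W0, ∃ x ∈ RR hF u0 hu0, t * w * t = w * j x
  surj : ∀ x ∈ RR hF u0 hu0, ∃ w ∈ W0, t * w * t = w * j x
  fix : ∀ w ∈ W0, t * w = w * t → w ∈ (RR hF u0 hu0).map j
  norm : ∀ g : SU n F q, ∀ c : F, c ≠ 0 → act g u0 = c • u0 → ∀ w ∈ W0, fj n F q j g * w * (fj n F q j g)⁻¹ ∈ W0
  sq : q = 2 → ∀ w ∈ W0, w * w = 1

theorem RR_conj_mem (hF : Fintype.card F = q ^ 2) {u u' : Fin n → F} (hu : hermForm n F q u u = 0)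
    (hu' : hermForm n F q u' u' = 0) {g : SU n F q} {c : F} (hc : c ≠ 0) (hg : act g u = c • u') {x : PSU n F q}
    (hx : x ∈ RR hF u hu) : pr n F q g * x * (pr n F q g)⁻¹ ∈ RR hF u' hu' := by
  have hgu : hermForm n F q (act g u) (act g u) = 0 := by rw [herm_act]; exact hu
  have h1 : pr n F q g * x * (pr n F q g)⁻¹ ∈ RR hF (act g u) hgu := by
    rw [RR_conj hF hu g hgu]
    have e : (pr n F q g)⁻¹ * (pr n F q g * x * (pr n F q g)⁻¹) * pr n F q g = x := by group
    rw [e]; exact hx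
  have h2 : hermForm n F q (c • u') (c • u') = 0 := by
    rw [herm_smul_left, herm_smul_right, hu', mul_zero, mul_zero]
  rw [RR_congr hF hgu h2 hg, RR_le hF hu' hc h2] at h1
  exact h1

theorem exists_map (hF : Fintype.card F = q ^ 2) (hn : 3 ≤ n) {u u' : Fin n → F} (h0 : u ≠ 0) (h0' : u' ≠ 0)
    (hu : hermForm n F q u u = 0) (hu' : hermForm n F q u' u' = 0) : ∃ g : SU n F q, act g u = u' := by
  obtain ⟨g, -, hg⟩ := exists_map_iso hF hn le_rfl (mem_coordSub_top u) (mem_coordSub_top u') h0 h0' hu hu'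
  exact ⟨g, hg⟩

open Classical in
/-- the family of doubles -/
noncomputable def fam (j : PSU n F q →* G) (u0 : Fin n → F) (W0 : Subgroup G) (u : Fin n → F) : Subgroup G :=
  if h : ∃ g : SU n F q, act g u0 = u then W0.map (MulAut.conj (fj n F q j h.choose)).toMonoidHom else ⊥

variable {hF : Fintype.card F = q ^ 2} {t : G} {j : PSU n F q →* G} {u0 : Fin n → F}
  {hu0 : hermForm n F q u0 u0 = 0} {W0 : Subgroup G}

/-- `W u = g W0 g⁻¹` for every `g` with `g u0 ∈ F u` -/
theorem Base.mem_fam (B : Base hF t j u0 hu0 W0) (hn : 3 ≤ n) (h0 : u0 ≠ 0) {u : Fin n → F} (hne : u ≠ 0)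
    (hu : hermForm n F q u u = 0) {g : SU n F q} {c : F} (hc : c ≠ 0) (hg : act g u0 = c • u) {w : G} :
    w ∈ fam j u0 W0 u ↔ (fj n F q j g)⁻¹ * w * fj n F q j g ∈ W0 := by
  have hex : ∃ g : SU n F q, act g u0 = u := exists_map hF hn h0 hne hu0 hu
  rw [fam, dif_pos hex]
  set a := hex.choose with ha
  have hau : act a u0 = u := hex.choose_spec
  have h1 : act (g⁻¹ * a) u0 = c⁻¹ • u0 := by
    rw [act_mul, hau, eq_comm, ← act_eq_iff, act_smul, hg, smul_smul, inv_mul_cancel₀ hc, one_smul]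
  have h2 : act (a⁻¹ * g) u0 = c • u0 := by
    rw [act_mul, hg, act_smul, ← hau, act_inv_act]
  constructor
  · rintro ⟨v, hv, rfl⟩
    have h3 := B.norm _ _ (inv_ne_zero hc) h1 v hv
    rw [map_mul, map_inv] at h3
    have e : (fj n F q j g)⁻¹ * (MulAut.conj (fj n F q j a)).toMonoidHom v * fj n F q j g =
        (fj n F q j g)⁻¹ * fj n F q j a * v * ((fj n F q j g)⁻¹ * fj n F q j a)⁻¹ := by
      show (fj n F q j g)⁻¹ * (fj n F q j a * v * (fj n F q j a)⁻¹) * fj n F q j g = _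
      group
    rw [e]; exact h3
  · intro h
    have h3 := B.norm _ _ hc h2 _ h
    rw [map_mul, map_inv] at h3
    refine ⟨_, h3, ?_⟩
    show fj n F q j a * ((fj n F q j a)⁻¹ * fj n F q j g * ((fj n F q j g)⁻¹ * w * fj n F q j g) *
      ((fj n F q j a)⁻¹ * fj n F q j g)⁻¹) * (fj n F q j a)⁻¹ = w
    group

/-- **The family.** -/
theorem Base.dbl (B : Base hF t j u0 hu0 W0) (S : Sit n F q t j) (hn : 3 ≤ n) (h0 : u0 ≠ 0) :
    Dbl hF t j (fam j u0 W0) := by
  have hex : ∀ {u : Fin n → F}, u ≠ 0 → hermForm n F q u u = 0 → ∃ g : SU n F q, act g u0 = (1 : F) • u := by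
    intro u hne hu
    obtain ⟨g, hg⟩ := exists_map hF hn h0 hne hu0 hu
    exact ⟨g, by rw [hg, one_smul]⟩
  have hinv : ∀ {u u' : Fin n → F} {g : SU n F q} {c : F}, c ≠ 0 → act g u = c • u' → act g⁻¹ u' = c⁻¹ • u := by
    intro u u' g c hc hg
    rw [eq_comm, ← act_eq_iff, act_smul, hg, smul_smul, inv_mul_cancel₀ hc, one_smul]
  have htf : ∀ g : SU n F q, t * fj n F q j g = fj n F q j g * t := fun g => S.tj _
  have htfi : ∀ g : SU n F q, (fj n F q j g)⁻¹ * t * fj n F q j g = t := fun g => by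
    rw [mul_assoc, htf, inv_mul_cancel_left]
  refine ⟨S, ?_, ?_, ?_, ?_, ?_, ?_, ?_, ?_⟩
  · intro u c hne hu hc
    obtain ⟨g, hg⟩ := hex hne hu
    have hcu : hermForm n F q (c • u) (c • u) = 0 := by rw [herm_smul_left, herm_smul_right, hu, mul_zero, mul_zero]
    ext w
    rw [B.mem_fam hn h0 hne hu one_ne_zero hg,
      B.mem_fam hn h0 (smul_ne_zero hc hne) hcu (inv_ne_zero hc) (g := g) (by
        rw [hg, one_smul, smul_smul, inv_mul_cancel₀ hc, one_smul])]
  · rintro u hne hu _ ⟨x, hx, rfl⟩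
    obtain ⟨g, hg⟩ := hex hne hu
    rw [B.mem_fam hn h0 hne hu one_ne_zero hg]
    apply B.X_le
    have h1 := RR_conj_mem hF hu hu0 (inv_ne_zero one_ne_zero) (hinv one_ne_zero hg) hx
    refine ⟨_, h1, ?_⟩
    rw [map_inv, inv_inv, map_mul, map_mul, map_inv]
    rfl
  · intro u hne hu w hw a ha
    obtain ⟨g, hg⟩ := hex hne hu
    rw [B.mem_fam hn h0 hne hu one_ne_zero hg] at hw
    have h1 := B.cent _ hw (g⁻¹ * a * g) (by
      rw [act_mul, act_mul, hg, one_smul, ha]
      have := hinv one_ne_zero hg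
      rw [this, inv_one, one_smul])
    rw [map_mul, map_mul, map_inv] at h1
    calc w * fj n F q j a = fj n F q j g * ((fj n F q j g)⁻¹ * w * fj n F q j g *
          ((fj n F q j g)⁻¹ * fj n F q j a * fj n F q j g)) * (fj n F q j g)⁻¹ := by group
      _ = fj n F q j a * w := by rw [h1]; group
  · intro u hne hu w hw
    obtain ⟨g, hg⟩ := hex hne hu
    rw [B.mem_fam hn h0 hne hu one_ne_zero hg] at hw
    obtain ⟨x, hx, e⟩ := B.brk _ hw
    refine ⟨_, RR_conj_mem hF hu0 hu one_ne_zero hg hx, ?_⟩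
    have e1 : t * w * t = fj n F q j g * (t * ((fj n F q j g)⁻¹ * w * fj n F q j g) * t) * (fj n F q j g)⁻¹ := by
      have h1 : t = fj n F q j g * t * (fj n F q j g)⁻¹ := by rw [← htf]; group
      conv_lhs => rw [h1]
      group
    rw [e1, e, map_mul, map_mul, map_inv]
    show fj n F q j g * ((fj n F q j g)⁻¹ * w * fj n F q j g * j x) * (fj n F q j g)⁻¹ =
      w * (fj n F q j g * j x * (fj n F q j g)⁻¹)
    group
  · intro u hne hu x hx
    obtain ⟨g, hg⟩ := hex hne hu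
    have h1 := RR_conj_mem hF hu hu0 (inv_ne_zero one_ne_zero) (hinv one_ne_zero hg) hx
    obtain ⟨w, hw, e⟩ := B.surj _ h1
    refine ⟨fj n F q j g * w * (fj n F q j g)⁻¹, ?_, ?_⟩
    · rw [B.mem_fam hn h0 hne hu one_ne_zero hg]
      have e2 : (fj n F q j g)⁻¹ * (fj n F q j g * w * (fj n F q j g)⁻¹) * fj n F q j g = w := by group
      rw [e2]; exact hw
    · have e1 : t * (fj n F q j g * w * (fj n F q j g)⁻¹) * t =
          fj n F q j g * (t * w * t) * (fj n F q j g)⁻¹ := by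
        have h2 : (fj n F q j g)⁻¹ * t = t * (fj n F q j g)⁻¹ := by
          rw [inv_mul_eq_iff_eq_mul, ← mul_assoc, ← htf, mul_inv_cancel_right]
        calc t * (fj n F q j g * w * (fj n F q j g)⁻¹) * t = (t * fj n F q j g) * w * ((fj n F q j g)⁻¹ * t) := by
              group
          _ = _ := by rw [htf, h2]; group
      rw [e1, e, map_inv, inv_inv, map_mul, map_mul, map_inv]
      show fj n F q j g * (w * ((fj n F q j g)⁻¹ * j x * fj n F q j g)) * (fj n F q j g)⁻¹ =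
        fj n F q j g * w * (fj n F q j g)⁻¹ * j x
      group
  · intro u hne hu w hw hc
    obtain ⟨g, hg⟩ := hex hne hu
    rw [B.mem_fam hn h0 hne hu one_ne_zero hg] at hw
    have h1 : t * ((fj n F q j g)⁻¹ * w * fj n F q j g) = (fj n F q j g)⁻¹ * w * fj n F q j g * t := by
      have h2 : (fj n F q j g)⁻¹ * t = t * (fj n F q j g)⁻¹ := by
        rw [inv_mul_eq_iff_eq_mul, ← mul_assoc, ← htf, mul_inv_cancel_right]
      calc t * ((fj n F q j g)⁻¹ * w * fj n F q j g) = (t * (fj n F q j g)⁻¹) * w * fj n F q j g := by group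
        _ = (fj n F q j g)⁻¹ * (t * w) * fj n F q j g := by rw [← h2]; group
        _ = (fj n F q j g)⁻¹ * w * (t * fj n F q j g) := by rw [hc]; group
        _ = _ := by rw [htf]; group
    obtain ⟨x, hx, e⟩ := B.fix _ hw h1
    refine ⟨_, RR_conj_mem hF hu0 hu one_ne_zero hg hx, ?_⟩
    rw [map_mul, map_mul, map_inv]
    show fj n F q j g * j x * (fj n F q j g)⁻¹ = w
    rw [e]; group
  · intro u hne hu g w hw
    obtain ⟨a, ha⟩ := hex hne hu
    rw [B.mem_fam hn h0 hne hu one_ne_zero ha] at hw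
    have h1 : act g u ≠ 0 := fun h => hne ((act_eq_zero g).1 h)
    have h2 : hermForm n F q (act g u) (act g u) = 0 := by rw [herm_act]; exact hu
    rw [B.mem_fam hn h0 h1 h2 one_ne_zero (g := g * a) (by rw [act_mul, ha, one_smul, one_smul]), map_mul]
    have e : (fj n F q j g * fj n F q j a)⁻¹ * (fj n F q j g * w * (fj n F q j g)⁻¹) * (fj n F q j g * fj n F q j a) =
        (fj n F q j a)⁻¹ * w * fj n F q j a := by group
    rw [e]; exact hw
  · intro hq u hne hu w hw
    obtain ⟨g, hg⟩ := hex hne hu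
    rw [B.mem_fam hn h0 hne hu one_ne_zero hg] at hw
    have h1 := B.sq hq _ hw
    calc w * w = fj n F q j g * ((fj n F q j g)⁻¹ * w * fj n F q j g * ((fj n F q j g)⁻¹ * w * fj n F q j g)) *
          (fj n F q j g)⁻¹ := by group
      _ = 1 := by rw [h1]; group

end Cfsg.Agent.OddHalf.D7.Uni.Ex
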