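import Cfsg.Agent.OddHalf.D7.Uni.ExBase

/-!
# Existence of the doubled transvection groups of the unitary group (helper575)

* `exists_dbl_big` : `q > 2`: if some `y` normalising `X = RR u0`, `t X` moves `t`, there is a family `Face.Dbl`;
* `exists_dbl_two` : `q = 2`: the same, if some `y` with `y t y⁻¹ = t z` acts on `PP u0` as an inner automorphism.
-/

set_option autoImplicit false
set_option linter.unusedSectionVars false

namespace Cfsg.Agent.OddHalf.D7.Uni.Ex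

open Subgroup
open Cfsg Cfsg.Agent.LieClassical.HermBasic Cfsg.Agent.LieClassical.HermSiegel
  Cfsg.Agent.LieClassical.HermGen Cfsg.Agent.LieClassical.SUBasic Matrix
  Cfsg.Agent.ClassicalGeometry.PSUAutBasic Cfsg.Agent.ClassicalGeometry.PSUAutSylow
  Cfsg.Agent.ClassicalGeometry.PSUAutUnip Cfsg.Agent.KFacts.Unit
  Cfsg.Agent.OddHalf.D7.Uni.Face Cfsg.Agent.OddHalf.D7Ex

variable {F : Type*} [Field F] [Fintype F] {q n : ℕ} {G : Type*} [Group G] [CharP F 2]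
variable {hF : Fintype.card F = q ^ 2} {t : G} {j : PSU n F q →* G}

/-- the Setup of a point -/
theorem setup_point [Finite G] (hF : Fintype.card F = q ^ 2) (hn : 6 ≤ n) (S : Sit n F q t j)
    (perf : ∀ L : Subgroup G, ⁅L, L⁆ = L → (∀ x ∈ L, t * x = x * t) → L ≤ j.range) {e f : Fin n → F}
    (H : Hyp q e f) :
    Setup t ((RR hF e H.ee).map j) ((QQ hF e H.ee).map j) ((PP q e).map j) ((HH hF H).map j) ∧
      Lin ((RR hF e H.ee).map j) ((QQ hF e H.ee).map j) ((PP q e).map j) := by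
  classical
  have Hs := heis hF (by omega) H S.inj
  obtain ⟨s, b, hfin, hne, g⟩ := exists_geo hF hn H
  have := Fintype.ofFinite s
  have hnt : Nontrivial (NN q e f) := ⟨⟨b (Classical.choice hne), 0, b.ne_zero _⟩⟩
  refine ⟨Hs.setup (hasTr hF H j) (lin' hF H j) (pairs hF hn H) g (cen hF (by omega) H S.inj) S.tt ?_ ?_ ?_ ?_ ?_
    ?_ ?_ ?_ ?_, ?_⟩
  · rintro ⟨x, -, hx⟩
    exact S.tK x hx
  · exact map_mono (QQ_le_PP hF H.ee)
  · rintro _ ⟨x, -, rfl⟩
    exact S.tj x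
  · rintro _ ⟨x, hx, rfl⟩ _ ⟨p, hp, rfl⟩
    rw [← map_mul, ← map_mul, PP_comm_RR hF H.ee hp hx]
  · rintro _ ⟨p, hp, rfl⟩ _ ⟨x, hx, rfl⟩
    rw [← map_inv, ← map_mul, ← map_mul]
    exact mem_map_of_mem _ (PP_conj_QQ hF H.ee hp hx)
  · rintro _ ⟨x, -, rfl⟩
    exact S.tj x
  · rintro _ ⟨h, hh, rfl⟩ _ ⟨x, hx, rfl⟩
    rw [← map_inv, ← map_mul, ← map_mul]
    exact mem_map_of_mem _ (HH_conj_RR hF H hh hx)
  · rw [← map_commutator, PP_perfect hF hn H.ne_zero H.ee]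
  · intro L hL htL hLX
    have h1 := perf L hL htL
    set L0 := L.comap j with hL0
    have h2 : L0.map j = L := map_comap_eq_self h1
    have h3 : ⁅L0, L0⁆ = L0 := by
      apply Subgroup.map_injective S.inj
      rw [map_commutator, h2, hL]
    rw [← h2]
    apply map_mono
    conv_lhs => rw [← h3]
    rw [commutator_le]
    have h4 : ∀ x ∈ L0, ∀ z ∈ RR hF e H.ee, x * z = z * x := by
      intro x hx z hz
      apply S.inj
      rw [map_mul, map_mul]
      exact hLX _ hx _ (mem_map_of_mem _ hz)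
    intro x hx y hy
    rw [commutatorElement_def]
    exact commutator_mem_PP hF (by omega) H (h4 x hx) (h4 y hy)
  · exact fun n hn hnQ hnX hnP => Hs.lin (hasTr hF H j) g hn hnQ hnX hnP

/-- the group `BG` of a point -/
theorem cent_point (hF : Fintype.card F = q ^ 2) (hn : 6 ≤ n) (S : Sit n F q t j) {u0 : Fin n → F} (h0 : u0 ≠ 0)
    (hu0 : hermForm n F q u0 u0 = 0)
    (ex : ∀ x ∈ (RR hF u0 hu0).map j, ∃ b : G, (∀ p ∈ (PP q u0).map j, b * p = p * b) ∧ b * t * b⁻¹ = t * x) :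
    Cent t ((RR hF u0 hu0).map j) ((PP q u0).map j) where
  tt := S.tt
  tX := by
    rintro ⟨x, -, hx⟩
    exact S.tK x hx
  X2 := by
    obtain ⟨f, H⟩ := exists_hyp hF h0 hu0
    exact fun x hx => (heis hF (by omega) H S.inj).X2 hx
  XP := map_mono ((RR_le_QQ hF hu0).trans (QQ_le_PP hF hu0))
  tP := by
    rintro _ ⟨x, -, rfl⟩
    exact S.tj x
  Xc := by
    rintro _ ⟨x, hx, rfl⟩ _ ⟨p, hp, rfl⟩
    rw [← map_mul, ← map_mul, PP_comm_RR hF hu0 hp hx]
  cP := by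
    intro c hc hcP
    obtain ⟨α, hα⟩ := S.exists_aut hc.symm
    obtain ⟨x, hx, rfl⟩ := autCent_point hF (by omega) h0 hu0 α (fun x hx => by
      apply S.inj
      rw [← hα, hcP _ (mem_map_of_mem _ (QQ_le_PP hF hu0 hx)), mul_inv_cancel_right])
    obtain ⟨μ, hμ, rfl⟩ := mem_RR.1 hx
    rcases S.eq_or hc.symm hα with h | h
    · left
      exact ⟨_, hx, h.symm⟩
    · right
      refine ⟨_, hx, ?_⟩
      rw [h, ← mul_assoc, S.tt, one_mul]
      rfl
  ex := ex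

/-- stabilisers of the point are nice -/
theorem nice_point (hF : Fintype.card F = q ^ 2) (S : Sit n F q t j) {u0 : Fin n → F}
    (hu0 : hermForm n F q u0 u0 = 0) {h0 g : SU n F q} {c b : F} (hc : c ≠ 0) (hg : act g u0 = c • u0)
    (hb : b ≠ 0) (hh : act h0 u0 = b • u0) :
    Nice t ((RR hF u0 hu0).map j) ((PP q u0).map j) (fj n F q j h0) (fj n F q j g) := by
  have hgi : act g⁻¹ u0 = c⁻¹ • u0 := by
    rw [eq_comm, ← act_eq_iff, act_smul, hg, smul_smul, inv_mul_cancel₀ hc, one_smul]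
  have hhi : act h0⁻¹ u0 = b⁻¹ • u0 := by
    rw [eq_comm, ← act_eq_iff, act_smul, hh, smul_smul, inv_mul_cancel₀ hb, one_smul]
  have hX : ∀ {g : SU n F q} {c : F}, c ≠ 0 → act g u0 = c • u0 → ∀ x ∈ (RR hF u0 hu0).map j,
      fj n F q j g * x * (fj n F q j g)⁻¹ ∈ (RR hF u0 hu0).map j := by
    rintro g c hc hg _ ⟨x, hx, rfl⟩
    refine ⟨_, RR_conj_mem hF hu0 hu0 hc hg hx, ?_⟩
    rw [map_mul, map_mul, map_inv]; rfl
  have hP : ∀ {g : SU n F q} {c : F}, c ≠ 0 → act g u0 = c • u0 → ∀ x ∈ (PP q u0).map j,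
      fj n F q j g * x * (fj n F q j g)⁻¹ ∈ (PP q u0).map j := by
    rintro g c hc hg _ ⟨x, hx, rfl⟩
    have h1 := PP_conj g hx
    rw [hg, PP_smul hc] at h1
    refine ⟨_, h1, ?_⟩
    rw [map_mul, map_mul, map_inv]; rfl
  refine ⟨(S.tj _).symm, fun x => ⟨hX hc hg x, fun h => ?_⟩, fun x => ⟨hP hc hg x, fun h => ?_⟩, ?_⟩
  · have h1 := hX (inv_ne_zero hc) hgi _ h
    rw [map_inv] at h1
    have e : (fj n F q j g)⁻¹ * (fj n F q j g * x * (fj n F q j g)⁻¹) * (fj n F q j g)⁻¹⁻¹ = x := by group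
    rwa [e] at h1
  · have h1 := hP (inv_ne_zero hc) hgi _ h
    rw [map_inv] at h1
    have e : (fj n F q j g)⁻¹ * (fj n F q j g * x * (fj n F q j g)⁻¹) * (fj n F q j g)⁻¹⁻¹ = x := by group
    rwa [e] at h1
  · refine ⟨pr n F q (g * h0 * g⁻¹ * h0⁻¹), mem_PP.2 ⟨_, ?_, rfl⟩, ?_⟩
    · rw [act_mul, act_mul, act_mul, hhi, act_smul, hgi, smul_smul, act_smul, hh, smul_smul, act_smul, hg, smul_smul]
      have : b⁻¹ * c⁻¹ * b * c = 1 := by field_simp
      rw [this, one_smul]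
    · rw [map_mul, map_mul, map_mul, map_inv, map_inv, map_mul, map_mul, map_mul, map_inv, map_inv]
      rfl

/-- A double in the sense of `D7Ex` is a base. -/
theorem base_of {u0 : Fin n → F} (hu0 : hermForm n F q u0 u0 = 0) {W0 : Subgroup G}
    (h : IsDbl t ((RR hF u0 hu0).map j) ((PP q u0).map j) W0)
    (norm : ∀ g : SU n F q, ∀ c : F, c ≠ 0 → act g u0 = c • u0 → ∀ w ∈ W0,
      fj n F q j g * w * (fj n F q j g)⁻¹ ∈ W0) (sq : q = 2 → ∀ w ∈ W0, w * w = 1) :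
    Base hF t j u0 hu0 W0 where
  X_le := h.XW
  cent := fun w hw g hg => h.WP w hw _ ⟨pr n F q g, mem_PP.2 ⟨g, hg, rfl⟩, rfl⟩
  brk := by
    intro w hw
    obtain ⟨x, hx, e⟩ := h.brk w hw
    exact ⟨x, hx, by rw [e]; group⟩
  surj := by
    intro x hx
    obtain ⟨w, hw, e⟩ := h.surj _ (mem_map_of_mem j hx)
    exact ⟨w, hw, by rw [← e]; group⟩
  fix := h.cent
  norm := norm
  sq := sq

theorem q_even (hF : Fintype.card F = q ^ 2) : Even q := by
  have h1 : 2 ∣ Fintype.card F := by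
    have h2 : ((Fintype.card F : ℕ) : F) = 0 := Nat.cast_card_eq_zero F
    exact (CharP.cast_eq_zero_iff F 2 _).1 h2
  rw [hF] at h1
  exact even_iff_two_dvd.2 (Nat.prime_two.dvd_of_dvd_pow h1)

/-- **Existence, `q > 2`.** -/
theorem exists_dbl_big [Finite G] (hF : Fintype.card F = q ^ 2) (hn : 6 ≤ n) (hq : q ≠ 2) (S : Sit n F q t j)
    (perf : ∀ L : Subgroup G, ⁅L, L⁆ = L → (∀ x ∈ L, t * x = x * t) → L ≤ j.range) {u0 : Fin n → F} (h0 : u0 ≠ 0)
    (hu0 : hermForm n F q u0 u0 = 0) {y : G} (hyX : ∀ x ∈ (RR hF u0 hu0).map j, y * x * y⁻¹ ∈ (RR hF u0 hu0).map j)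
    (hyt : t * (y * t * y⁻¹) ∈ (RR hF u0 hu0).map j) (hne : y * t * y⁻¹ ≠ t) : ∃ W, Dbl hF t j W := by
  obtain ⟨f, H⟩ := exists_hyp hF h0 hu0
  obtain ⟨St, hlin⟩ := setup_point hF hn S perf H
  obtain ⟨h, hh, hfree⟩ := exists_HH_free hF (by omega) hq H
  have hyN : y ∈ St.N := ⟨hyX, fun x hx => conj_inv_mem hyX hx, hyt⟩
  have Htr : ∀ x ∈ (RR hF u0 hu0).map j, ∀ y ∈ (RR hF u0 hu0).map j, x ≠ 1 → y ≠ 1 →
      ∃ h ∈ (HH hF H).map j, h * x * h⁻¹ = y := by
    rintro _ ⟨x, hx, rfl⟩ _ ⟨z, hz, rfl⟩ hx1 hz1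
    obtain ⟨a, ha, e⟩ := HH_trans hF H hx hz (fun h => hx1 (by rw [h, map_one])) (fun h => hz1 (by rw [h, map_one]))
    exact ⟨j a, mem_map_of_mem _ ha, by rw [← e, map_mul, map_mul, map_inv]⟩
  -- a nontrivial element of `X`
  have hx1 : ∃ x ∈ RR hF u0 hu0, x ≠ 1 := by
    obtain ⟨x, hx, e⟩ := hyt
    refine ⟨x, hx, ?_⟩
    rintro rfl
    apply hne
    rw [map_one] at e
    calc y * t * y⁻¹ = (t * t) * (y * t * y⁻¹) := by rw [S.tt, one_mul]
      _ = t * (t * (y * t * y⁻¹)) := by group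
      _ = t := by rw [← e, mul_one]
  have ex : ∀ x ∈ (RR hF u0 hu0).map j, ∃ b : G, (∀ p ∈ (PP q u0).map j, b * p = p * b) ∧ b * t * b⁻¹ = t * x := by
    intro x hx
    refine St.exists_cent_of_big hlin Htr ⟨j h, mem_map_of_mem _ hh, ?_, ?_⟩ hyN hne hx
    · rintro _ ⟨p, hp, rfl⟩
      rw [← map_inv, ← map_inv, ← map_mul, ← map_mul, ← map_mul]
      exact mem_map_of_mem _ (HH_conj_PP hF H hh hp)
    · obtain ⟨x, hx, hx1⟩ := hx1
      refine ⟨j x, mem_map_of_mem _ hx, fun he => hx1 (hfree x hx ?_)⟩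
      apply S.inj
      rw [map_mul, map_mul, map_inv]
      exact he
  have C := cent_point hF hn S h0 hu0 ex
  obtain ⟨b, hb, hbq, rfl⟩ := hh
  have hact : act (hyp hF H b hb hbq) u0 = b • u0 := act_hyp_e hF H hb hbq
  have hnice : ∀ g : SU n F q, ∀ c : F, c ≠ 0 → act g u0 = c • u0 →
      Nice t ((RR hF u0 hu0).map j) ((PP q u0).map j) (fj n F q j (hyp hF H b hb hbq)) (fj n F q j g) :=
    fun g c hc hg => nice_point hF S hu0 hc hg hb hact
  have hh := hnice _ b hb hact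
  have h2 := two_le hF
  have hpow : (fj n F q j (hyp hF H b hb hbq)) ^ (q - 1) = 1 := by
    rw [← map_pow]
    have h3 : ∀ k : ℕ, ∃ (hb' : b ^ k ≠ 0) (hbq' : (b ^ k) ^ q = b ^ k),
        hyp hF H b hb hbq ^ k = hyp hF H (b ^ k) hb' hbq' := by
      intro k
      induction k with
      | zero => exact ⟨by simp, by simp, by
          rw [pow_zero]
          have := hyp_one hF H one_ne_zero (one_pow q)
          rw [← this]
          congr 1; rw [pow_zero]⟩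
      | succ k ih =>
        obtain ⟨h1, h2, e⟩ := ih
        refine ⟨pow_ne_zero _ hb, by rw [← pow_mul, mul_comm, pow_mul, hbq], ?_⟩
        rw [pow_succ, e, hyp_mul]
        congr 1
        rw [pow_succ]
    obtain ⟨h4, h5, e⟩ := h3 (q - 1)
    have hb1 : b ^ (q - 1) = 1 := by
      have h6 : b ^ (q - 1) * b = 1 * b := by
        rw [← pow_succ, Nat.sub_add_cancel (by omega), hbq, one_mul]
      exact mul_right_cancel₀ hb h6
    rw [e]
    have h7 : hyp hF H (b ^ (q - 1)) h4 h5 = 1 := by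
      rw [← hyp_one hF H one_ne_zero (one_pow q)]
      congr 1
    rw [h7, map_one]
  have hodd : Odd (q - 1) := by
    have := q_even hF
    obtain ⟨k, hk⟩ := this
    exact ⟨k - 1, by omega⟩
  have hfr : ∀ x ∈ (RR hF u0 hu0).map j, fj n F q j (hyp hF H b hb hbq) * x * (fj n F q j (hyp hF H b hb hbq))⁻¹ = x →
      x = 1 := by
    rintro _ ⟨x, hx, rfl⟩ he
    rw [hfree x hx (by
      apply S.inj
      rw [map_mul, map_mul, map_inv]
      exact he), map_one]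
  have hD := C.isDbl_big hh hpow hodd hfr
  exact ⟨_, (base_of hu0 hD (fun g c hc hg w hw => C.nice_big hh _ (hnice g c hc hg) hw)
    (fun h => absurd h hq)).dbl S (by omega) h0⟩

/-- **Existence, `q = 2`.** -/
theorem exists_dbl_two (hF : Fintype.card F = q ^ 2) (hn : 6 ≤ n) (S : Sit n F q t j) {u0 : Fin n → F}
    (h0 : u0 ≠ 0) (hu0 : hermForm n F q u0 u0 = 0) {y : G} {z : PSU n F q} (hz : z ∈ RR hF u0 hu0)
    (hzz : ∀ x ∈ RR hF u0 hu0, x = 1 ∨ x = z) (hy : y * t * y⁻¹ = t * j z) {p0 : PSU n F q} (hp0 : p0 ∈ PP q u0)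
    (hyp : ∀ p ∈ PP q u0, y * j p * y⁻¹ = j (p0 * p * p0⁻¹)) : ∃ W, Dbl hF t j W := by
  have ex : ∀ x ∈ (RR hF u0 hu0).map j, ∃ b : G, (∀ p ∈ (PP q u0).map j, b * p = p * b) ∧ b * t * b⁻¹ = t * x := by
    rintro _ ⟨x, hx, rfl⟩
    rcases hzz x hx with rfl | rfl
    · exact ⟨1, fun p _ => by rw [one_mul, mul_one], by rw [map_one]; group⟩
    · refine ⟨(j p0)⁻¹ * y, ?_, ?_⟩
      · rintro _ ⟨p, hp, rfl⟩
        have h1 := hyp p hp
        rw [map_mul, map_mul, map_inv] at h1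
        calc (j p0)⁻¹ * y * j p = (j p0)⁻¹ * (y * j p * y⁻¹) * y := by group
          _ = j p * ((j p0)⁻¹ * y) := by rw [h1]; group
      · have h1 : j p0 * (t * j x) = t * j x * j p0 := by
          rw [← mul_assoc, ← S.tj, mul_assoc, mul_assoc, ← map_mul, ← map_mul, PP_comm_RR hF hu0 hp0 hx]
        calc (j p0)⁻¹ * y * t * ((j p0)⁻¹ * y)⁻¹ = (j p0)⁻¹ * ((y * t * y⁻¹) * j p0) := by group
          _ = (j p0)⁻¹ * (j p0 * (t * j x)) := by rw [hy, h1]
          _ = t * j x := by group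
  have C := cent_point hF hn S h0 hu0 ex
  have hz' : ∀ x ∈ (RR hF u0 hu0).map j, x = 1 ∨ x = j z := by
    rintro _ ⟨x, hx, rfl⟩
    rcases hzz x hx with rfl | rfl
    · left; exact map_one j
    · right; rfl
  have hnice : ∀ g : SU n F q, ∀ c : F, c ≠ 0 → act g u0 = c • u0 →
      Nice t ((RR hF u0 hu0).map j) ((PP q u0).map j) (fj n F q j 1) (fj n F q j g) :=
    fun g c hc hg => nice_point hF S hu0 hc hg one_ne_zero (by rw [act_one, one_smul])
  exact ⟨_, (base_of hu0 (C.isDbl_two hz') (fun g c hc hg w hw => C.nice_two hz' (hnice g c hc hg) hw)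
    (fun _ w hw => hw.2.1)).dbl S (by omega) h0⟩

end Cfsg.Agent.OddHalf.D7.Uni.Ex
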