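import Cfsg.Agent.OddHalf.D7.Uni.LineGrp
import Cfsg.Agent.OddHalf.D7.Uni.Evl

/-!
# `E_l = ⟨W s : s ∈ l⟩` satisfies `Quad.EL` (helper54)
-/

set_option autoImplicit false
set_option linter.unusedSectionVars false

namespace Cfsg.Agent.OddHalf.D7.Uni.LineEL

open Cfsg.Agent.OddHalf.D7.Uni.Defs Cfsg.Agent.OddHalf.D7.Uni.Line Cfsg.Agent.OddHalf.D7.Uni.LineGrp

variable {G : Type*} [Group G] {F : Type*} [Field F] {σ : F →+* F} {t : G} {np nr m g : F → G}
  {OE Wp Wr Q : Subgroup G}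

/-- `E_l` -/
def EE (Wp Wr : Subgroup G) (m g : F → G) : Subgroup G := Subgroup.closure (gens Wp Wr m g)

variable (L : Line σ t OE Wp Wr np nr m g)

include L

theorem p_le : Wp ≤ EE Wp Wr m g := fun _ hx => Subgroup.subset_closure (Or.inl hx)

theorem r_le : Wr ≤ EE Wp Wr m g := fun x hx =>
  Subgroup.subset_closure (Or.inr (Or.inl ⟨0, x, hx, by rw [U_zero L]⟩))

theorem m_mem (x : F) : m x ∈ EE Wp Wr m g := Subgroup.subset_closure (Or.inr (Or.inr ⟨x, rfl⟩))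

theorem np_mem {x : F} (hx : σ x = x) : np x ∈ EE Wp Wr m g := p_le L (L.dp.mem x hx)

theorem nr_mem {x : F} (hx : σ x = x) : nr x ∈ EE Wp Wr m g := r_le L (L.dr.mem x hx)

theorem A_mem {x y : F} (μ : F) (hx : σ x = x) (hy : σ y = y) : np x * m μ * nr y ∈ EE Wp Wr m g :=
  mul_mem (mul_mem (np_mem L hx) (m_mem L μ)) (nr_mem L hy)

variable (H : Comm Wp Wr g)

include H

theorem not_mem : t ∉ EE Wp Wr m g := by
  intro h
  obtain ⟨w, hw, hwt⟩ := L.dp.surj 1 (map_one σ)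
  have h1 := FE_comm L H h (p_le L hw)
  rw [h1, mul_assoc, L.tt] at hwt
  have h2 : np 1 = 1 := (mul_left_cancel hwt).symm
  exact one_ne_zero (np_inj L (map_one σ) h2)

theorem sq (hp : ∀ w ∈ Wp, w * w = 1) (hr : ∀ w ∈ Wr, w * w = 1) {x : G} (hx : x ∈ EE Wp Wr m g) : x * x = 1 := by
  have hx' : x ∈ Subgroup.closure (gens Wp Wr m g) := hx
  clear hx
  induction hx' using Subgroup.closure_induction with
  | mem x hx =>
    rcases hx with hx | ⟨l, u, hu, rfl⟩ | ⟨ν, rfl⟩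
    · exact hp x hx
    · calc g l * u * (g l)⁻¹ * (g l * u * (g l)⁻¹) = g l * (u * u) * (g l)⁻¹ := by group
        _ = 1 := by rw [hr u hu]; group
    · exact m_sq L.toCoord ν
  | one => rw [mul_one]
  | mul x y hx hy ihx ihy =>
    have e := FE_comm L H hx hy
    calc x * y * (x * y) = x * (y * x) * y := by group
      _ = (x * x) * (y * y) := by rw [← e]; group
      _ = 1 := by rw [ihx, ihy, mul_one]
  | inv x hx ih =>
    calc x⁻¹ * x⁻¹ = (x * x)⁻¹ := by group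
      _ = 1 := by rw [ih, inv_one]

theorem brk {x : G} (hx : x ∈ EE Wp Wr m g) :
    ∃ a μ b, σ a = a ∧ σ b = b ∧ t * x * t = x * (np a * m μ * nr b) := by
  have C := L.toCoord
  have hx' : x ∈ Subgroup.closure (gens Wp Wr m g) := hx
  clear hx
  induction hx' using Subgroup.closure_induction with
  | mem x hx =>
    rcases hx with hx | ⟨l, u, hu, rfl⟩ | ⟨ν, rfl⟩
    · obtain ⟨a, ha, h⟩ := L.dp.brk x hx
      exact ⟨a, 0, 0, ha, map_zero σ, by rw [h, m_zero C, nr_zero C, mul_one, mul_one]⟩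
    · obtain ⟨b, hb, h⟩ := L.dr.brk u hu
      exact ⟨_, _, b, fix_norm C l hb, hb, tU L hb h l⟩
    · refine ⟨0, 0, 0, map_zero σ, map_zero σ, ?_⟩
      rw [L.t_m, mul_assoc, L.tt, np_zero C, m_zero C, nr_zero C, mul_one, mul_one, mul_one, mul_one]
  | one =>
    refine ⟨0, 0, 0, map_zero σ, map_zero σ, ?_⟩
    rw [mul_one, L.tt, np_zero C, m_zero C, nr_zero C, mul_one, mul_one, mul_one]
  | mul x y hx hy ihx ihy =>
    obtain ⟨a, μ, b, ha, hb, h1⟩ := ihx
    obtain ⟨a', μ', b', ha', hb', h2⟩ := ihy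
    refine ⟨a + a', μ + μ', b + b', fix_add C ha ha', fix_add C hb hb', ?_⟩
    have e := FE_comm L H hy (A_mem L μ ha hb)
    rw [← A_mul C μ μ' ha hb ha' hb']
    calc t * (x * y) * t = t * x * 1 * y * t := by group
      _ = t * x * (t * t) * y * t := by rw [L.tt]
      _ = (t * x * t) * (t * y * t) := by group
      _ = x * (np a * m μ * nr b) * (y * (np a' * m μ' * nr b')) := by rw [h1, h2]
      _ = x * ((np a * m μ * nr b) * y) * (np a' * m μ' * nr b') := by group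
      _ = _ := by rw [← e]; group
  | inv x hx ih =>
    obtain ⟨a, μ, b, ha, hb, h1⟩ := ih
    refine ⟨a, μ, b, ha, hb, ?_⟩
    have e := FE_comm L H (inv_mem hx) (A_mem L μ ha hb)
    have ht : t⁻¹ = t := inv_eq_of_mul_eq_one_left L.tt
    calc t * x⁻¹ * t = (t⁻¹ * x * t⁻¹)⁻¹ := by group
      _ = (x * (np a * m μ * nr b))⁻¹ := by rw [ht, h1]
      _ = (np a * m μ * nr b)⁻¹ * x⁻¹ := by rw [mul_inv_rev]
      _ = (np a * m μ * nr b) * x⁻¹ := by rw [A_inv C μ ha hb]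
      _ = _ := e.symm

theorem surj {x y : F} (μ : F) (hx : σ x = x) (hy : σ y = y) :
    ∃ e ∈ EE Wp Wr m g, t * e * t = e * (np x * m μ * nr y) := by
  have C := L.toCoord
  have ht : t⁻¹ = t := inv_eq_of_mul_eq_one_left L.tt
  obtain ⟨u, hu, hut⟩ := L.dr.surj 1 (map_one σ)
  have hN : σ (μ * σ μ) = μ * σ μ := by
    have := fix_norm C μ (map_one σ)
    rwa [mul_one] at this
  have hf : σ (x + μ * σ μ) = x + μ * σ μ := fix_add C hx hN
  obtain ⟨v, hv, hvt⟩ := L.dp.surj _ hf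
  obtain ⟨w, hw, hwt⟩ := L.dr.surj y hy
  have tm : ∀ a b : G, t * (a * b) * t = (t * a * t) * (t * b * t) := by
    intro a b
    calc t * (a * b) * t = t * a * 1 * b * t := by group
      _ = t * a * (t * t) * b * t := by rw [L.tt]
      _ = _ := by group
  have hU := tU L (map_one σ) hut μ
  rw [mul_one, mul_one] at hU
  set U := g μ * u * (g μ)⁻¹ with hUdef
  have hUm : U ∈ EE Wp Wr m g := Subgroup.subset_closure (Or.inr (Or.inl ⟨μ, u, hu, rfl⟩))
  refine ⟨v * (u * U) * w, mul_mem (mul_mem (p_le L hv) (mul_mem (r_le L hu) hUm)) (r_le L hw), ?_⟩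
  have h1 : np (x + μ * σ μ) ∈ EE Wp Wr m g := np_mem L hf
  have h2 : nr 1 ∈ EE Wp Wr m g := nr_mem L (map_one σ)
  have h3 : np (μ * σ μ) * m μ * nr 1 ∈ EE Wp Wr m g := A_mem L _ hN (map_one σ)
  have c1 : Commute (np (x + μ * σ μ)) (u * U) := FE_comm L H h1 (mul_mem (r_le L hu) hUm)
  have c2 : Commute (nr 1) U := FE_comm L H h2 hUm
  have c3 : Commute (np (x + μ * σ μ)) w := FE_comm L H h1 (r_le L hw)
  have c4 : Commute (nr 1 * (np (μ * σ μ) * m μ * nr 1)) w := FE_comm L H (mul_mem h2 h3) (r_le L hw)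
  rw [tm, tm, tm, hvt, hut, hU, hwt]
  have e1 : np (x + μ * σ μ) * (nr 1 * (np (μ * σ μ) * m μ * nr 1)) * nr y = np x * m μ * nr y := by
    have f4 := A_mul C 0 μ (map_zero σ) (map_one σ) hN (map_one σ)
    rw [np_zero C, m_zero C, one_mul, one_mul, zero_add, zero_add, C.two 1, nr_zero C, mul_one] at f4
    have f5 := A_mul C 0 μ hf (map_zero σ) hN (map_zero σ)
    rw [m_zero C, zero_add, zero_add, nr_zero C, mul_one, mul_one, mul_one, mul_one] at f5
    rw [f4, f5, add_assoc, C.two, add_zero]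
  rw [← e1]
  calc v * np (x + μ * σ μ) * (u * nr 1 * (U * (np (μ * σ μ) * m μ * nr 1))) * (w * nr y) =
      v * np (x + μ * σ μ) * (u * (nr 1 * U) * (np (μ * σ μ) * m μ * nr 1)) * (w * nr y) := by
        group
    _ = v * (np (x + μ * σ μ) * (u * U)) * (nr 1 * (np (μ * σ μ) * m μ * nr 1) * w) * nr y := by
        rw [c2.eq]; group
    _ = v * (u * U) * (np (x + μ * σ μ) * w) * (nr 1 * (np (μ * σ μ) * m μ * nr 1)) * nr y := by
        rw [c1.eq, c4.eq]; group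
    _ = _ := by rw [c3.eq]; group

theorem cent {x : G} (hx : x ∈ EE Wp Wr m g) (h : t * x = x * t) :
    ∃ a μ b, σ a = a ∧ σ b = b ∧ x = np a * m μ * nr b := by
  obtain ⟨a, μ, b, ha, hb, h3 | h3⟩ := L.K2 x h.symm (fun o ho => (O_FE L ho hx (L.O_m o ho)).symm)
  · exact ⟨a, μ, b, ha, hb, h3⟩
  · exfalso
    apply not_mem L H
    rw [h3] at hx
    exact (Subgroup.mul_mem_cancel_right _ (A_mem L μ ha hb)).1 hx

/-- `E_l` in the form of `Quad.EL`. -/
theorem el (hp : ∀ w ∈ Wp, w * w = 1) (hr : ∀ w ∈ Wr, w * w = 1) (gQ : ∀ l, g l ∈ Q)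
    (npQ : ∀ x, σ x = x → np x ∈ Q) (mQ : ∀ x, m x ∈ Q)
    (Q_E : ∀ q ∈ Q, ∃ l, ∀ e ∈ EE Wp Wr m g, q * e * q⁻¹ = g l * e * (g l)⁻¹) :
    Quad.EL σ t (EE Wp Wr m g) Wp Q np nr m g where
  toCoord := L.toCoord
  ab := fun _ ha _ hb => FE_comm L H ha hb
  sq := fun _ ha => sq L H hp hr ha
  WE := p_le L
  np_E := fun _ hx => np_mem L hx
  m_E := m_mem L
  nr_E := fun _ hx => nr_mem L hx
  brk := fun _ he => brk L H he
  surj := fun _ μ _ hx hy => surj L H μ hx hy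
  cent := fun _ he h => cent L H he h
  dW := L.dp
  g_E := fun k _ he => g_FE L k he
  g_W := L.g_p
  gQ := gQ
  npQ := npQ
  mQ := mQ
  Q_E := Q_E

end Cfsg.Agent.OddHalf.D7.Uni.LineEL
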