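import Cfsg.Agent.OddHalf.D7.Uni.PlaneCore

/-!
# No `ℤ/4` phantom over a totally isotropic plane, group form (K = U_n(2), n ≥ 6; helper850, bb ODD 9603 (B))

`y v = w_⟨v⟩ t` of order 4 for the points `⟨v⟩` of a totally isotropic plane, `a H` (`H` a hermitian `3 × 3`
matrix) the elements of `A_Π`, `y v ^ 2 = a (v v*)`. If the `y v` commute: contradiction.
-/

set_option autoImplicit false

namespace Cfsg.Agent.OddHalf.D7.Uni.Plane

open Matrix Cfsg.Agent.OddHalf.D7.Uni.PlaneCore

variable {G : Type*} [Group G] {F : Type*} [Field F] [Fintype F] [DecidableEq F] {σ : F →+* F}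

theorem no_phantom (h4 : Fintype.card F = 4) (h2 : ∀ x : F, x + x = 0)
    (hσσ : ∀ x, σ (σ x) = x) (w : F) (hw : σ w ≠ w)
    (t : G) (tt : t * t = 1) (y : (Fin 3 → F) → G) (a : Matrix (Fin 3) (Fin 3) F → G)
    (hys : ∀ (c : F) v, c ≠ 0 → y (c • v) = y v)
    (a_add : ∀ H H', Herm σ H → Herm σ H' → a (H + H') = a H * a H')
    (a_ker : ∀ H, Herm σ H → a H = 1 → H = 0)
    (y_sq : ∀ v, v ≠ 0 → y v * y v = a (rk σ v))
    (y_t : ∀ v, v ≠ 0 → t * y v * t = (y v)⁻¹)
    (a_t : ∀ H, Herm σ H → t * a H = a H * t)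
    (y_y : ∀ v, v ≠ 0 → ∀ v', v' ≠ 0 → y v * y v' = y v' * y v)
    (y_a : ∀ v, v ≠ 0 → ∀ H, Herm σ H → y v * a H = a H * y v)
    (hK : ∀ M : Matrix (Fin 3) (Fin 3) F, M.det = 1 → ∃ k : G,
      (∀ v, v ≠ 0 → k * y v * k⁻¹ = y (M.mulVec v)) ∧
        ∀ H, Herm σ H → k * a H * k⁻¹ = a (M * H * st σ M))
    (O : Set G) (O_y : ∀ o ∈ O, ∀ v, v ≠ 0 → o * y v = y v * o)
    (O_a : ∀ o ∈ O, ∀ H, Herm σ H → o * a H = a H * o)
    (K2 : ∀ c, c * t = t * c → (∀ o ∈ O, c * o = o * c) →
      ∃ H, Herm σ H ∧ (c = a H ∨ c = t * a H)) : False := by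
  classical
  set X : Set G := {g | (∃ v, v ≠ 0 ∧ g = y v) ∨ ∃ H, Herm σ H ∧ g = a H} with hX
  have hXc : ∀ g ∈ X, ∀ g' ∈ X, g * g' = g' * g := by
    rintro g (⟨v, hv, rfl⟩ | ⟨H, hH, rfl⟩) g' (⟨v', hv', rfl⟩ | ⟨H', hH', rfl⟩)
    · exact y_y v hv v' hv'
    · exact y_a v hv H' hH'
    · exact (y_a v' hv' H hH).symm
    · rw [← a_add _ _ hH hH', add_comm, a_add _ _ hH' hH]
  let _ : CommGroup (Subgroup.closure X) := Subgroup.closureCommGroupOfComm hXc
  have a_zero : a 0 = 1 := by
    have := a_add 0 0 herm_zero herm_zero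
    rw [add_zero] at this
    exact left_eq_mul.mp this
  have a_sq : ∀ H, Herm σ H → a H * a H = 1 := by
    intro H hH
    rw [← a_add _ _ hH hH]
    have : H + H = 0 := by ext i j; exact h2 _
    rw [this, a_zero]
  have a_inv : ∀ H, Herm σ H → (a H)⁻¹ = a H := fun H hH => inv_eq_of_mul_eq_one_left (a_sq H hH)
  -- `t` inverts `⟨X⟩`, `O` centralises it
  have hYc : ∀ g ∈ Subgroup.closure X, ∀ g' ∈ Subgroup.closure X, g * g' = g' * g := by
    intro g hg g' hg'
    exact congrArg Subtype.val (mul_comm (⟨g, hg⟩ : Subgroup.closure X) ⟨g', hg'⟩)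
  have tinv : t⁻¹ = t := inv_eq_of_mul_eq_one_left tt
  have hYt : ∀ g ∈ Subgroup.closure X, t * g * t = g⁻¹ := by
    intro g hg
    induction hg using Subgroup.closure_induction with
    | mem g hg =>
      rcases hg with ⟨v, hv, rfl⟩ | ⟨H, hH, rfl⟩
      · exact y_t v hv
      · rw [a_t H hH, mul_assoc, tt, mul_one, a_inv H hH]
    | one => rw [mul_one, tt, inv_one]
    | mul g g' hg hg' ih ih' =>
      have e : t * (g * g') * t = (t * g * t) * (t * g' * t) := by
        calc t * (g * g') * t = t * g * 1 * g' * t := by group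
          _ = (t * g * t) * (t * g' * t) := by rw [← tt]; group
      rw [e, ih, ih', _root_.mul_inv_rev]
      exact hYc _ (inv_mem hg) _ (inv_mem hg')
    | inv g hg ih =>
      have e : t * g⁻¹ * t = (t * g * t)⁻¹ := by
        rw [_root_.mul_inv_rev, _root_.mul_inv_rev, tinv]; group
      rw [e, ih]
  have hYO : ∀ o ∈ O, ∀ g ∈ Subgroup.closure X, o * g = g * o := by
    intro o ho g hg
    induction hg using Subgroup.closure_induction with
    | mem g hg =>
      rcases hg with ⟨v, hv, rfl⟩ | ⟨H, hH, rfl⟩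
      · exact O_y o ho v hv
      · exact O_a o ho H hH
    | one => simp
    | mul g g' _ _ ih ih' => rw [← mul_assoc, ih, mul_assoc, ih', mul_assoc]
    | inv g _ ih => exact ((show Commute o g from ih).inv_right).eq
  have ymem : ∀ v, v ≠ 0 → y v ∈ Subgroup.closure X := fun v hv =>
    Subgroup.subset_closure (Or.inl ⟨v, hv, rfl⟩)
  have amem : ∀ H, Herm σ H → a H ∈ Subgroup.closure X := fun H hH =>
    Subgroup.subset_closure (Or.inr ⟨H, hH, rfl⟩)
  -- `t ∉ ⟨X⟩`
  have v₀ : (![1, 0, 0] : Fin 3 → F) ≠ 0 := fun e => one_ne_zero (congrFun e 0)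
  have tnot : t ∉ Subgroup.closure X := by
    intro ht
    have h1 := hYc _ ht _ (ymem _ v₀)
    have h3 : a (rk σ ![1, 0, 0]) = 1 := by
      rw [← y_sq _ v₀]
      have h5 := y_t _ v₀
      rw [h1, mul_assoc, tt, mul_one] at h5
      exact eq_inv_iff_mul_eq_one.mp h5
    have h5 := a_ker _ (herm_rk hσσ _) h3
    have := congrFun (congrFun h5 0) 0
    simp [rk] at this
  -- the additive picture
  let yA : (Fin 3 → F) → Additive (Subgroup.closure X) := fun v =>
    if h : v ≠ 0 then Additive.ofMul ⟨y v, ymem v h⟩ else 0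
  let αA : Matrix (Fin 3) (Fin 3) F → Additive (Subgroup.closure X) := fun H =>
    if h : Herm σ H then Additive.ofMul ⟨a H, amem H h⟩ else 0
  have yA_pos : ∀ v (h : v ≠ 0), yA v = Additive.ofMul ⟨y v, ymem v h⟩ := fun v h => dif_pos h
  have αA_pos : ∀ H (h : Herm σ H), αA H = Additive.ofMul ⟨a H, amem H h⟩ := fun H h => dif_pos h
  have ext' : ∀ x x' : Additive (Subgroup.closure X),
      ((x.toMul : Subgroup.closure X) : G) = ((x'.toMul : Subgroup.closure X) : G) → x = x' := by
    intro x x' h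
    exact Additive.toMul.injective (Subtype.ext h)
  refine core (A := Additive (Subgroup.closure X)) h4 h2 hσσ w hw yA αA ?_ ?_ ?_ ?_ ?_ ?_
  · intro c v hc
    by_cases hv : v = 0
    · rw [hv, smul_zero]
    · have hcv : c • v ≠ 0 := smul_ne_zero hc hv
      rw [yA_pos _ hcv, yA_pos _ hv]
      apply ext'
      exact hys c v hc
  · intro H H' hH hH'
    rw [αA_pos _ hH, αA_pos _ hH', αA_pos _ (herm_add hH hH')]
    apply ext'
    exact a_add H H' hH hH'
  · intro H hH h
    rw [αA_pos _ hH] at h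
    have : (⟨a H, amem H hH⟩ : Subgroup.closure X) = 1 := congrArg Additive.toMul h
    exact a_ker H hH (congrArg Subtype.val this)
  · intro v hv
    rw [yA_pos _ hv, αA_pos _ (herm_rk hσσ _)]
    apply ext'
    exact y_sq v hv
  · intro M hM
    obtain ⟨k, hky, hka⟩ := hK M hM
    have hMinj : ∀ v, v ≠ 0 → M.mulVec v ≠ 0 := by
      intro v hv e
      apply hv
      have hu : IsUnit M.det := by rw [hM]; exact isUnit_one
      exact (Matrix.mulVec_injective_of_isUnit ((Matrix.isUnit_iff_isUnit_det M).mpr hu))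
        (by rw [e, Matrix.mulVec_zero])
    have hk : ∀ g ∈ Subgroup.closure X, k * g * k⁻¹ ∈ Subgroup.closure X := by
      intro g hg
      induction hg using Subgroup.closure_induction with
      | mem g hg =>
        rcases hg with ⟨v, hv, rfl⟩ | ⟨H, hH, rfl⟩
        · rw [hky v hv]; exact ymem _ (hMinj v hv)
        · rw [hka H hH]; exact amem _ (herm_conj hσσ M hH)
      | one => simp
      | mul g g' _ _ ih ih' =>
        have : k * (g * g') * k⁻¹ = (k * g * k⁻¹) * (k * g' * k⁻¹) := by group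
        rw [this]; exact mul_mem ih ih'
      | inv g _ ih =>
        have : k * g⁻¹ * k⁻¹ = (k * g * k⁻¹)⁻¹ := by group
        rw [this]; exact inv_mem ih
    let κ : Subgroup.closure X →* Subgroup.closure X :=
      { toFun := fun g => ⟨k * (g : G) * k⁻¹, hk _ g.2⟩
        map_one' := Subtype.ext (by simp)
        map_mul' := fun g g' => Subtype.ext (by
          show k * ((g : G) * (g' : G)) * k⁻¹ = (k * (g : G) * k⁻¹) * (k * (g' : G) * k⁻¹)
          group) }
    refine ⟨MonoidHom.toAdditive κ, fun v hv => ?_, fun H hH => ?_⟩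
    · rw [yA_pos _ hv, yA_pos _ (hMinj v hv)]
      apply ext'
      exact hky v hv
    · rw [αA_pos _ hH, αA_pos _ (herm_conj hσσ M hH)]
      apply ext'
      exact hka H hH
  · intro x hx
    obtain ⟨g, hg⟩ : ∃ g : Subgroup.closure X, g = x.toMul := ⟨_, rfl⟩
    have hgg : (g : G) * (g : G) = 1 := by
      have : g * g = 1 := by rw [hg]; exact congrArg Additive.toMul hx
      exact congrArg Subtype.val this
    have hgt : (g : G) * t = t * (g : G) := by
      have h1 := hYt _ g.2
      rw [inv_eq_of_mul_eq_one_left hgg] at h1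
      calc (g : G) * t = (t * (g : G) * t) * t := by rw [h1]
        _ = t * (g : G) := by rw [mul_assoc, tt, mul_one]
    obtain ⟨H, hH, e | e⟩ := K2 _ hgt (fun o ho => (hYO o ho _ g.2).symm)
    · refine ⟨H, hH, ?_⟩
      rw [αA_pos _ hH]
      apply ext'
      rw [← hg]
      exact e
    · exfalso
      apply tnot
      have : t = (g : G) * (a H)⁻¹ := by rw [e]; group
      rw [this]
      exact mul_mem g.2 (inv_mem (amem H hH))

end Cfsg.Agent.OddHalf.D7.Uni.Plane
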