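import Cfsg.Agent.OddHalf.D7.Uni.FaceLine
import Cfsg.Agent.OddHalf.D7.Uni.Plane
import Cfsg.Agent.KFacts.Unit.GLAct

/-!
# ODD D7, `K = PSU_n(2)`, `n ≥ 6`: two orthogonal doubles commute (helper850)

`Y u` = the `K`-equivariant choice of an element of `W u` outside `X u`; `two_absurd`: the phantom
`[w_p, w_r] = z_p z_r` of `LineGrp.comm_of_two` is impossible (`Plane.no_phantom` in the totally isotropic plane
`⟨p, r, x⟩`).
-/

set_option autoImplicit false

namespace Cfsg.Agent.OddHalf.D7.Uni.PlaneGlue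

open Cfsg Cfsg.Agent.LieClassical.HermBasic Cfsg.Agent.LieClassical.HermSiegel
  Cfsg.Agent.LieClassical.HermGen Cfsg.Agent.LieClassical.SUBasic Matrix
  Cfsg.Agent.ClassicalGeometry.PSUAutBasic Cfsg.Agent.ClassicalGeometry.PSUAutSylow
  Cfsg.Agent.ClassicalGeometry.PSUAutUnip Cfsg.Agent.ClassicalGeometry.PSUAutPhi
  Cfsg.Agent.KFacts.Unit Cfsg.Agent.OddHalf.D7.Uni.Face Cfsg.Agent.OddHalf.D7.Uni.PlaneCore

variable {F : Type*} [Field F] [Fintype F] {q n : ℕ}

omit [Fintype F] in
/-- two independent columns extend to a matrix of determinant one -/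
theorem exists_det_one (v v' : Fin 3 → F) (hv : v ≠ 0) (h : ∀ c : F, v' ≠ c • v) :
    ∃ M : Matrix (Fin 3) (Fin 3) F, M.det = 1 ∧ (∀ i, M i 0 = v i) ∧ ∀ i, M i 1 = v' i := by
  have key : ∀ x : Fin 3 → F, x 0 * (v 1 * v' 2 - v 2 * v' 1) + x 1 * (v 2 * v' 0 - v 0 * v' 2) +
      x 2 * (v 0 * v' 1 - v 1 * v' 0) = 1 →
      ∃ M : Matrix (Fin 3) (Fin 3) F, M.det = 1 ∧ (∀ i, M i 0 = v i) ∧ ∀ i, M i 1 = v' i := by
    intro x hx
    refine ⟨Matrix.of fun i k => ![v i, v' i, x i] k, ?_, fun i => rfl, fun i => rfl⟩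
    rw [Matrix.det_fin_three]
    simp only [Matrix.of_apply, Matrix.cons_val_zero, Matrix.cons_val_one, Matrix.cons_val]
    linear_combination hx
  by_cases h0 : v 1 * v' 2 - v 2 * v' 1 = 0
  · by_cases h1 : v 2 * v' 0 - v 0 * v' 2 = 0
    · by_cases h2 : v 0 * v' 1 - v 1 * v' 0 = 0
      · exfalso
        obtain ⟨k, hk⟩ := Function.ne_iff.1 hv
        have hk' : v k ≠ 0 := hk
        refine h (v' k / v k) (funext fun i => ?_)
        rw [Pi.smul_apply, smul_eq_mul, div_mul_eq_mul_div, eq_div_iff hk']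
        fin_cases k <;> fin_cases i <;> simp only [Fin.mk_zero, Fin.mk_one, Fin.reduceFinMk] <;>
          first
          | ring1
          | linear_combination h0
          | linear_combination -h0
          | linear_combination h1
          | linear_combination -h1
          | linear_combination h2
          | linear_combination -h2
      · exact key ![0, 0, (v 0 * v' 1 - v 1 * v' 0)⁻¹] (by simp [inv_mul_cancel₀ h2])
    · exact key ![0, (v 2 * v' 0 - v 0 * v' 2)⁻¹, 0] (by simp [inv_mul_cancel₀ h1])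
  · exact key ![(v 1 * v' 2 - v 2 * v' 1)⁻¹, 0, 0] (by simp [inv_mul_cancel₀ h0])

section

variable {G : Type*} [Group G] {t : G} {j : PSU n F q →* G} {W : (Fin n → F) → Subgroup G}
  {hF : Fintype.card F = q ^ 2}

/-- the transvection of the point `⟨u⟩` -/
noncomputable def Z (hF : Fintype.card F = q ^ 2) (j : PSU n F q →* G) (u : Fin n → F) : G :=
  fj n F q j (Np hF u 1)

theorem cube (hF : Fintype.card F = q ^ 2) (hq : q = 2) {c : F} (hc : c ≠ 0) : c ^ 3 = 1 := by
  have := FiniteField.pow_card_sub_one_eq_one c hc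
  rwa [hF, hq] at this

theorem Z_conj [CharP F 2] {u : Fin n → F} (hu : hermForm n F q u u = 0) (g : SU n F q) :
    fj n F q j g * Z hF j u * (fj n F q j g)⁻¹ = Z hF j (act g u) := by
  rw [Z, Z, ← map_inv, ← map_mul, ← map_mul, Np, conj_Sg hF (isS_np hu (one_pow q)), act_zero, Np]

theorem Z_smul [CharP F 2] (hq : q = 2) {u : Fin n → F} (hu : hermForm n F q u u = 0) {c : F} (hc : c ≠ 0) :
    Z hF j (c • u) = Z hF j u := by
  rw [Z, Z]
  congr 1
  have hu' : hermForm n F q (c • u) (c • u) = 0 := by rw [herm_smul_left, herm_smul_right, hu, mul_zero, mul_zero]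
  apply ext_act
  intro v
  rw [act_Np hF hu' (one_pow q), act_Np hF hu (one_pow q), herm_smul_right]
  have h3 := cube hF hq hc
  funext i
  simp only [Pi.add_apply, Pi.smul_apply, smul_eq_mul]
  have : c ^ q * c = 1 := by rw [hq]; linear_combination h3
  linear_combination hermForm n F q v u * u i * this

/-- the elements of `RR u` for `q = 2` -/
theorem mem_RR_two [CharP F 2] (hq : q = 2) {u : Fin n → F} (hu : hermForm n F q u u = 0) {x : PSU n F q}
    (hx : x ∈ RR hF u hu) : j x = 1 ∨ j x = Z hF j u := by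
  obtain ⟨μ, hμ, rfl⟩ := mem_RR.1 hx
  have hμ2 : μ * (1 + μ) = 0 := by
    rw [hq] at hμ
    linear_combination hμ
  rcases mul_eq_zero.1 hμ2 with h | h
  · left
    subst h
    rw [transv_zero, map_one, map_one]
  · right
    have h1 : μ = 1 := by
      have : μ + 1 = 0 := by rw [add_comm]; exact h
      rw [CharTwo.add_eq_zero] at this
      exact this
    subst h1
    rw [Z, fj_apply, Np, Sg_eq hF (isS_np hu (one_pow q))]
    rfl

theorem Z_mem [CharP F 2] {u : Fin n → F} (hu : hermForm n F q u u = 0) :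
    ∃ x ∈ RR hF u hu, j x = Z hF j u := by
  have h1 : (1 : F) + 1 ^ q = 0 := by rw [one_pow]; exact CharTwo.add_self_eq_zero 1
  refine ⟨pr n F q (transv hF u hu 1 h1), mem_RR.2 ⟨1, h1, rfl⟩, ?_⟩
  rw [Z, fj_apply, Np, Sg_eq hF (isS_np hu (one_pow q))]
  rfl

theorem Z_sq [CharP F 2] {u : Fin n → F} (hu : hermForm n F q u u = 0) : Z hF j u * Z hF j u = 1 := by
  rw [Z, ← map_mul]
  have : Np hF u 1 * Np hF u 1 = 1 := by
    apply ext_act
    intro v
    rw [act_mul, act_Np hF hu (one_pow q), act_Np hF hu (one_pow q), act_one, herm_add_left, herm_smul_left, hu,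
      mul_zero, add_zero, add_assoc, ← add_smul, CharTwo.add_self_eq_zero, zero_smul, add_zero]
  rw [this, map_one]

variable (D : Dbl hF t j W)

include D

theorem Z_ne [CharP F 2] (hn : 3 ≤ n) {u : Fin n → F} (hu0 : u ≠ 0) (hu : hermForm n F q u u = 0) :
    Z hF j u ≠ 1 := by
  intro h
  have h1 : Np hF u 1 = 1 := D.toSit.eq_one hF hn hu0
    (by rw [act_Np hF hu (one_pow q), hu, mul_zero, zero_smul, add_zero]) h
  obtain ⟨f, -, -, hfu⟩ := exists_partner hF hu0 hu
  have h2 := congrArg (fun g => act g f) h1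
  simp only [act_one] at h2
  rw [act_Np hF hu (one_pow q), hfu, mul_one, one_smul, add_eq_left] at h2
  exact hu0 h2

/-- `Z u` commutes with `W u` -/
theorem Z_comm [CharP F 2] {u : Fin n → F} (hu0 : u ≠ 0) (hu : hermForm n F q u u = 0) {w : G} (hw : w ∈ W u) :
    w * Z hF j u = Z hF j u * w :=
  D.cent hu0 hu w hw _ (by rw [act_Np hF hu (one_pow q), hu, mul_zero, zero_smul, add_zero])

/-- `Z r` commutes with `W u` for `r ⟂ u` -/
theorem Z_comm' [CharP F 2] {u r : Fin n → F} (hu0 : u ≠ 0) (hu : hermForm n F q u u = 0)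
    (hr : hermForm n F q r r = 0) (hur : hermForm n F q u r = 0) {w : G} (hw : w ∈ W u) :
    w * Z hF j r = Z hF j r * w :=
  D.cent hu0 hu w hw _ (by rw [act_Np hF hr (one_pow q), hur, mul_zero, zero_smul, add_zero])

/-- the two elements of `W u` outside `X u` -/
theorem eq_or_of_brk [CharP F 2] (hq : q = 2) {u : Fin n → F} (hu0 : u ≠ 0) (hu : hermForm n F q u u = 0) {w w' : G}
    (hw : w ∈ W u) (hw' : w' ∈ W u) (h : t * w * t = w * Z hF j u) (h' : t * w' * t = w' * Z hF j u) :
    w' = w ∨ w' = w * Z hF j u := by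
  have hz := Z_comm D hu0 hu hw
  have hz' := Z_comm D hu0 hu hw'
  have h1 : t * (w⁻¹ * w') = (w⁻¹ * w') * t := by
    have e1 : t * w⁻¹ * t = w⁻¹ * (Z hF j u)⁻¹ := by
      have ht : t⁻¹ = t := inv_eq_of_mul_eq_one_left D.tt
      calc t * w⁻¹ * t = (t⁻¹ * w * t⁻¹)⁻¹ := by group
        _ = (w * Z hF j u)⁻¹ := by rw [ht, h]
        _ = w⁻¹ * (Z hF j u)⁻¹ := by rw [hz]; group
    calc t * (w⁻¹ * w') = t * w⁻¹ * (t * t) * w' * (t * t) := by rw [D.tt]; group
      _ = (t * w⁻¹ * t) * (t * w' * t) * t := by group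
      _ = w⁻¹ * (Z hF j u)⁻¹ * (w' * Z hF j u) * t := by rw [e1, h']
      _ = w⁻¹ * w' * t := by rw [hz']; group
  have h0 : w⁻¹ * w' ∈ (RR hF u hu).map j := D.fix hu0 hu _ ((W u).mul_mem ((W u).inv_mem hw) hw') h1
  obtain ⟨x, hx, e⟩ := h0
  rcases mem_RR_two (j := j) hq hu hx with h2 | h2
  · left
    have h3 : w⁻¹ * w' = 1 := by rw [← h2]; exact e.symm
    exact (inv_mul_eq_one.1 h3).symm
  · right
    have h3 : w⁻¹ * w' = Z hF j u := by rw [← h2]; exact e.symm
    rw [← h3]; group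

/-- `K_⟨u⟩` centralises `W u` -/
theorem conj_fix [CharP F 2] (hq : q = 2) {u : Fin n → F} (hu0 : u ≠ 0) (hu : hermForm n F q u u = 0) {w : G}
    (hw : w ∈ W u) (h : t * w * t = w * Z hF j u) (hZ1 : Z hF j u ≠ 1) {g : SU n F q} {c : F} (hc : c ≠ 0)
    (hg : act g u = c • u) : fj n F q j g * w * (fj n F q j g)⁻¹ = w := by
  obtain ⟨k, hk⟩ : ∃ k, k = fj n F q j g := ⟨_, rfl⟩
  have hkt : t * k = k * t := by rw [hk]; exact D.tj _
  have hmem : k * w * k⁻¹ ∈ W u := by
    have h1 := D.conj hu0 hu g w hw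
    rw [hg, D.smul hu0 hu hc] at h1
    rw [hk]; exact h1
  have hkZ : k * Z hF j u * k⁻¹ = Z hF j u := by
    rw [hk, Z_conj hu, hg, Z_smul hq hu hc]
  have hbrk : t * (k * w * k⁻¹) * t = (k * w * k⁻¹) * Z hF j u := by
    have hkt' : k⁻¹ * t = t * k⁻¹ := by
      calc k⁻¹ * t = k⁻¹ * (t * k) * k⁻¹ := by group
        _ = t * k⁻¹ := by rw [hkt]; group
    calc t * (k * w * k⁻¹) * t = (t * k) * w * (k⁻¹ * t) := by group
      _ = k * (t * w * t) * k⁻¹ := by rw [hkt, hkt']; group
      _ = (k * w * k⁻¹) * (k * Z hF j u * k⁻¹) := by rw [h]; group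
      _ = _ := by rw [hkZ]
  rw [← hk]
  rcases eq_or_of_brk D hq hu0 hu hw hmem h hbrk with h1 | h1
  · exact h1
  · exfalso
    -- `g³` fixes `u`
    have hg3 : act (g * g * g) u = u := by
      rw [act_mul, act_mul, hg, act_smul, hg, act_smul, act_smul, hg, smul_smul, smul_smul]
      have : c * c * c = 1 := by rw [← cube hF hq hc]; ring
      rw [this, one_smul]
    have h3 := D.cent hu0 hu w hw _ hg3
    rw [map_mul, map_mul, ← hk] at h3
    have h4 : k * w = w * Z hF j u * k := by rw [← h1]; group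
    have hkZ' : k * Z hF j u = Z hF j u * k := by
      calc k * Z hF j u = (k * Z hF j u * k⁻¹) * k := by group
        _ = _ := by rw [hkZ]
    have hzz := Z_sq (hF := hF) (j := j) hu
    obtain ⟨z, hz⟩ : ∃ z, z = Z hF j u := ⟨_, rfl⟩
    rw [← hz] at h4 hkZ' hzz
    have h5 : k * (k * w) = w * (k * k) := by
      rw [h4]
      calc k * (w * z * k) = (k * w) * z * k := by group
        _ = w * z * (k * z) * k := by rw [h4]; group
        _ = w * (z * z) * (k * k) := by rw [hkZ']; group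
        _ = w * (k * k) := by rw [hzz, mul_one]
    have h6 : k * k * k * w = w * z * (k * k * k) := by
      calc k * k * k * w = k * (k * (k * w)) := by group
        _ = (k * w) * (k * k) := by rw [h5]; group
        _ = w * z * (k * k * k) := by rw [h4]; group
    rw [h6] at h3
    have h7 : w = w * z := mul_right_cancel h3
    have h8 : z = 1 := by
      have := h7.symm
      rwa [mul_eq_left] at this
    exact absurd (hz.symm.trans h8) hZ1

/-- the equivariant choice -/
theorem exists_Y [CharP F 2] (hq : q = 2) (hn : 3 ≤ n) {p : Fin n → F} (hp0 : p ≠ 0)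
    (hpp : hermForm n F q p p = 0) {v : G} (hv : v ∈ W p) (h1 : t * v * t = v * Z hF j p) :
    ∃ Y : (Fin n → F) → G, Y p = v ∧
      (∀ u, u ≠ 0 → hermForm n F q u u = 0 → Y u ∈ W u ∧ t * Y u * t = Y u * Z hF j u) ∧
      (∀ u, u ≠ 0 → hermForm n F q u u = 0 → ∀ (g : SU n F q) (c : F) (u' : Fin n → F), c ≠ 0 → act g u = c • u' →
        fj n F q j g * Y u * (fj n F q j g)⁻¹ = Y u') := by
  classical
  have hex : ∀ u : Fin n → F, u ≠ 0 → hermForm n F q u u = 0 → ∃ g : SU n F q, act g p = u := by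
    intro u hu0 hu
    obtain ⟨g, -, hg⟩ := exists_map_iso hF hn le_rfl (mem_coordSub_top p) (mem_coordSub_top u) hp0 hu0 hpp hu
    exact ⟨g, hg⟩
  have hZp := Z_ne D hn hp0 hpp
  -- the value
  have hval : ∀ (g g' : SU n F q) (c : F), c ≠ 0 → act g p = c • act g' p →
      fj n F q j g * v * (fj n F q j g)⁻¹ = fj n F q j g' * v * (fj n F q j g')⁻¹ := by
    intro g g' c hc h
    have h4 : act (g'⁻¹ * g) p = c • p := by rw [act_mul, h, act_smul, act_inv_act]
    have h5 := conj_fix D hq hp0 hpp hv h1 hZp hc h4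
    rw [map_mul, map_inv] at h5
    calc fj n F q j g * v * (fj n F q j g)⁻¹
        = fj n F q j g' * (((fj n F q j g')⁻¹ * fj n F q j g) * v * ((fj n F q j g')⁻¹ * fj n F q j g)⁻¹) *
          (fj n F q j g')⁻¹ := by group
      _ = _ := by rw [h5]
  let Y : (Fin n → F) → G := fun u =>
    if h : ∃ g : SU n F q, act g p = u then fj n F q j h.choose * v * (fj n F q j h.choose)⁻¹ else 1
  have hY : ∀ (g : SU n F q) (c : F) (u : Fin n → F), c ≠ 0 → act g p = c • u →
      Y u = fj n F q j g * v * (fj n F q j g)⁻¹ := by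
    intro g c u hc h
    have hu : u = c⁻¹ • act g p := by rw [h, smul_smul, inv_mul_cancel₀ hc, one_smul]
    have hu0 : u ≠ 0 := by
      rw [hu]
      exact smul_ne_zero (inv_ne_zero hc) (fun h0 => hp0 ((act_eq_zero g).1 h0))
    have huu : hermForm n F q u u = 0 := by
      rw [hu, herm_smul_left, herm_smul_right, herm_act, hpp, mul_zero, mul_zero]
    have hexu := hex u hu0 huu
    have e1 : Y u = fj n F q j hexu.choose * v * (fj n F q j hexu.choose)⁻¹ := dif_pos hexu
    rw [e1]
    exact (hval g hexu.choose c hc (by rw [h, hexu.choose_spec])).symm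
  refine ⟨Y, ?_, ?_, ?_⟩
  · have := hY 1 1 p one_ne_zero (by rw [act_one, one_smul])
    rw [this, map_one, one_mul, inv_one, mul_one]
  · intro u hu0 hu
    obtain ⟨g, hg⟩ := hex u hu0 hu
    have e1 := hY g 1 u one_ne_zero (by rw [hg, one_smul])
    obtain ⟨k, hk⟩ : ∃ k, k = fj n F q j g := ⟨_, rfl⟩
    have hkt : t * k = k * t := by rw [hk]; exact D.tj _
    have hkt' : k⁻¹ * t = t * k⁻¹ := by
      calc k⁻¹ * t = k⁻¹ * (t * k) * k⁻¹ := by group
        _ = t * k⁻¹ := by rw [hkt]; group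
    refine ⟨?_, ?_⟩
    · rw [e1]
      have := D.conj hp0 hpp g v hv
      rwa [hg] at this
    · rw [e1, ← hk]
      have hZ : k * Z hF j p * k⁻¹ = Z hF j u := by rw [hk, Z_conj hpp, hg]
      calc t * (k * v * k⁻¹) * t = (t * k) * v * (k⁻¹ * t) := by group
        _ = k * (t * v * t) * k⁻¹ := by rw [hkt, hkt']; group
        _ = (k * v * k⁻¹) * (k * Z hF j p * k⁻¹) := by rw [h1]; group
        _ = _ := by rw [hZ]
  · intro u hu0 hu g c u' hc h
    obtain ⟨g₀, hg₀⟩ := hex u hu0 hu
    rw [hY g₀ 1 u one_ne_zero (by rw [hg₀, one_smul]), hY (g * g₀) c u' hc (by rw [act_mul, hg₀, h]), map_mul]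
    group

/-- **The phantom is impossible.** -/
theorem two_absurd [CharP F 2] (hq : q = 2) (hn : 6 ≤ n) {p r : Fin n → F} (hp0 : p ≠ 0)
    (hpp : hermForm n F q p p = 0) (hrr : hermForm n F q r r = 0) (hpr : hermForm n F q p r = 0)
    (hind : LinearIndependent F ![p, r]) {v u : G} (hv : v ∈ W p) (hu : u ∈ W r)
    (h1 : t * v * t = v * Z hF j p) (h2 : t * u * t = u * Z hF j r)
    (h3 : v * u = u * v * (Z hF j p * Z hF j r)) : False := by
  classical
  have hrp : hermForm n F q r p = 0 := herm_eq_zero_swap hF hpr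
  have hr0 : r ≠ 0 := by
    intro h
    exact hind.ne_zero 1 h
  have ht : t⁻¹ = t := inv_eq_of_mul_eq_one_left D.tt
  obtain ⟨Y, hYp, hYW, hYc⟩ := exists_Y D hq (by omega) hp0 hpp hv h1
  -- the base pair
  have hbase : Y p * Y r = Y r * Y p * (Z hF j p * Z hF j r) := by
    have hrW := hYW r hr0 hrr
    rw [hYp]
    rcases eq_or_of_brk D hq hr0 hrr hu hrW.1 h2 hrW.2 with e | e
    · rw [e]; exact h3
    · have c1 : v * Z hF j r = Z hF j r * v := Z_comm' D hp0 hpp hrr hpr hv
      rw [e]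
      calc v * (u * Z hF j r) = (v * u) * Z hF j r := by group
        _ = u * v * (Z hF j p * Z hF j r) * Z hF j r := by rw [h3]
        _ = u * (v * Z hF j r) * (Z hF j p * Z hF j r) := by
          have c2 : Z hF j p * Z hF j r = Z hF j r * Z hF j p := by
            obtain ⟨x, hx, ex⟩ := Z_mem (hF := hF) (j := j) hpp
            exact Z_comm' D hp0 hpp hrr hpr (by rw [← ex]; exact D.X_le hp0 hpp ⟨x, hx, rfl⟩)
          calc u * v * (Z hF j p * Z hF j r) * Z hF j r = u * v * (Z hF j r * Z hF j p) * Z hF j r := by rw [c2]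
            _ = _ := by group
        _ = u * Z hF j r * v * (Z hF j p * Z hF j r) := by rw [c1]; group
  -- the frame of the plane
  obtain ⟨f₂, E₂⟩ := exists_Frm hF hind (fun i j => by fin_cases i <;> fin_cases j <;> assumption)
  obtain ⟨x, x', hxx, hx1, hx2, hx3, hx4⟩ := exists_third hF hn E₂
  have E := Frm.snoc hF E₂ hxx hx1 hx2 hx3 hx4
  obtain ⟨e, he⟩ : ∃ e, e = (Fin.snoc (α := fun _ => Fin n → F) ![p, r] x : Fin 3 → (Fin n → F)) := ⟨_, rfl⟩
  obtain ⟨f, hf⟩ : ∃ f, f = (Fin.snoc (α := fun _ => Fin n → F) f₂ x' : Fin 3 → (Fin n → F)) := ⟨_, rfl⟩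
  rw [← he, ← hf] at E
  have he0 : e 0 = p := by rw [he]; rfl
  have he1 : e 1 = r := by rw [he]; rfl
  -- vectors of the plane
  obtain ⟨vec, hvec⟩ : ∃ vec : (Fin 3 → F) → (Fin n → F), vec = fun v => ∑ i, v i • e i := ⟨_, rfl⟩
  have vdef : ∀ v, vec v = ∑ i, v i • e i := fun v => by rw [hvec]
  have viso : ∀ v v', hermForm n F q (vec v) (vec v') = 0 := by
    intro v v'
    rw [vdef, vdef, herm_sum_right hF]
    exact Finset.sum_eq_zero fun k _ => by rw [herm_smul_right, E.herm_sum_e, mul_zero]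
  have vsmul : ∀ (c : F) v, vec (c • v) = c • vec v := by
    intro c v
    rw [vdef, vdef, Finset.smul_sum]
    exact Finset.sum_congr rfl fun k _ => by rw [Pi.smul_apply, smul_eq_mul, mul_smul]
  have vne : ∀ v, v ≠ 0 → vec v ≠ 0 := by
    intro v hv0 h
    apply hv0
    apply E.indep
    rw [← vdef, h]
    simp
  have vfix : ∀ g : SU n F q, (∀ k, act g (e k) = e k) → ∀ v, act g (vec v) = vec v := by
    intro g hg v
    rw [vdef, act_sum]
    exact Finset.sum_congr rfl fun k _ => by rw [act_smul, hg]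
  have vmap : ∀ (g : SU n F q) (M : Matrix (Fin 3) (Fin 3) F), (∀ k, act g (e k) = ∑ i, M i k • e i) →
      ∀ v, act g (vec v) = vec (M.mulVec v) := by
    intro g M hg v
    rw [vdef, vdef, act_sum]
    simp only [act_smul, hg, Finset.smul_sum, smul_smul]
    rw [Finset.sum_comm]
    refine Finset.sum_congr rfl fun i _ => ?_
    rw [← Finset.sum_smul]
    congr 1
    rw [Matrix.mulVec, dotProduct]
    exact Finset.sum_congr rfl fun k _ => mul_comm _ _
  have hskew : ∀ H, Herm (sig hF) H ↔ IsSkew q H := by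
    intro H
    constructor
    · intro h i k
      have := h k i
      rw [sig_apply] at this
      rw [this]
      exact CharTwo.add_self_eq_zero _
    · intro h i k
      have := h k i
      rw [sig_apply]
      exact (CharTwo.add_eq_zero.1 this).symm
  have hne1 : e 0 ≠ 0 := by rw [he0]; exact hp0
  have afix : ∀ (H : Matrix (Fin 3) (Fin 3) F) (hH : IsSkew q H) k, act (aEl hF E H hH) (e k) = e k := by
    intro H hH k
    rw [act_aEl]
    have : ∑ i, (∑ l, H i l * hermForm n F q (e k) (e l)) • e i = 0 :=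
      Finset.sum_eq_zero fun i _ => by
        rw [Finset.sum_eq_zero fun l _ => by rw [E.ee, mul_zero], zero_smul]
    rw [this, add_zero]
  obtain ⟨w₀, hw₀⟩ := exists_not_fixed hF
  let y : (Fin 3 → F) → G := fun v => if v = 0 then 1 else Y (vec v) * t
  have ypos : ∀ v, v ≠ 0 → y v = Y (vec v) * t := fun v hv0 => if_neg hv0
  let a : Matrix (Fin 3) (Fin 3) F → G := fun H => if h : IsSkew q H then fj n F q j (aEl hF E H h) else 1
  have apos : ∀ H (h : IsSkew q H), a H = fj n F q j (aEl hF E H h) := fun H h => dif_pos h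
  have YW : ∀ v, v ≠ 0 → Y (vec v) ∈ W (vec v) := fun v hv0 => (hYW _ (vne v hv0) (viso v v)).1
  have Yb : ∀ v, v ≠ 0 → t * Y (vec v) * t = Y (vec v) * Z hF j (vec v) :=
    fun v hv0 => (hYW _ (vne v hv0) (viso v v)).2
  have Ysq : ∀ v, v ≠ 0 → Y (vec v) * Y (vec v) = 1 := fun v hv0 => D.sq hq (vne v hv0) (viso v v) _ (YW v hv0)
  have Ysm : ∀ (c : F) v, c ≠ 0 → v ≠ 0 → Y (c • vec v) = Y (vec v) := by
    intro c v hc hv0
    have := hYc (c • vec v) (smul_ne_zero hc (vne v hv0)) (by rw [← vsmul]; exact viso _ _) 1 c (vec v) hc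
      (by rw [act_one])
    rw [← this, map_one, one_mul, inv_one, mul_one]
  refine Plane.no_phantom (σ := sig hF) (by rw [hF, hq]; norm_num) CharTwo.add_self_eq_zero (pow_q_pow_q hF) w₀ hw₀ t D.tt y a
    ?_ ?_ ?_ ?_ ?_ ?_ ?_ ?_ ?_ {o | ∃ g : SU n F q, (∀ k, act g (e k) = e k) ∧ o = fj n F q j g} ?_ ?_ ?_
  · -- hys
    intro c v hc
    by_cases hv0 : v = 0
    · rw [hv0, smul_zero]
    · rw [ypos _ (smul_ne_zero hc hv0), ypos _ hv0, vsmul, Ysm c v hc hv0]
  · -- a_add
    intro H H' hH hH'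
    rw [hskew] at hH hH'
    rw [apos _ hH, apos _ hH', apos _ (hH.add hF hH'), ← map_mul, aEl_mul]
  · -- a_ker
    intro H hH h
    rw [hskew] at hH
    rw [apos _ hH] at h
    have h5 := D.toSit.eq_one hF (by omega) hne1 (afix H hH 0) h
    have h6 : aEl hF E (0 : Matrix (Fin 3) (Fin 3) F) (IsSkew.zero (by omega)) = 1 := by
      apply ext_act
      intro v
      rw [act_aEl, act_one]
      simp
    exact aEl_inj hF E (h5.trans h6.symm)
  · -- y_sq
    intro v hv0
    have hs := (hskew _).1 (herm_rk (σ := sig hF) (pow_q_pow_q hF) v)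
    rw [ypos v hv0, apos _ hs]
    have e1 : Y (vec v) * t * (Y (vec v) * t) = Z hF j (vec v) := by
      calc Y (vec v) * t * (Y (vec v) * t) = Y (vec v) * (t * Y (vec v) * t) := by group
        _ = (Y (vec v) * Y (vec v)) * Z hF j (vec v) := by rw [Yb v hv0]; group
        _ = _ := by rw [Ysq v hv0, one_mul]
    rw [e1, Z]
    congr 1
    apply ext_act
    intro x
    rw [act_Np hF (viso v v) (one_pow q), act_aEl, one_mul, vdef, herm_sum_right hF, Finset.smul_sum]
    congr 1
    refine Finset.sum_congr rfl fun i _ => ?_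
    rw [smul_smul]
    congr 1
    rw [Finset.sum_mul]
    refine Finset.sum_congr rfl fun k _ => ?_
    rw [herm_smul_right]
    show v k ^ q * hermForm n F q x (e k) * v i = v i * (v k) ^ q * hermForm n F q x (e k)
    ring
  · -- y_t
    intro v hv0
    rw [ypos v hv0]
    calc t * (Y (vec v) * t) * t = t * Y (vec v) * (t * t) := by group
      _ = t⁻¹ * (Y (vec v) * Y (vec v)) * (Y (vec v))⁻¹ * (Y (vec v) * Y (vec v)) := by
        rw [D.tt, Ysq v hv0, ht, mul_one, mul_one, mul_one]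
        congr 1
        exact eq_inv_of_mul_eq_one_left (Ysq v hv0)
      _ = (Y (vec v) * t)⁻¹ := by
        rw [Ysq v hv0, _root_.mul_inv_rev]; group
  · -- a_t
    intro H hH
    rw [hskew] at hH
    rw [apos _ hH]
    exact D.tj _
  · -- y_y
    intro v hv0 v' hv0'
    rw [ypos v hv0, ypos v' hv0']
    by_cases hdep : ∃ c : F, v' = c • v
    · obtain ⟨c, rfl⟩ := hdep
      have hc : c ≠ 0 := by
        rintro rfl
        exact hv0' (zero_smul _ _)
      rw [vsmul, Ysm c v hc hv0]
    · push Not at hdep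
      obtain ⟨M, hM, hM0, hM1⟩ := exists_det_one v v' hv0 hdep
      obtain ⟨g, hg, -⟩ := exists_SL hF E hM
      have hgp : act g p = vec v := by
        rw [← he0, hg, vdef]
        exact Finset.sum_congr rfl fun i _ => by rw [hM0]
      have hgr : act g r = vec v' := by
        rw [← he1, hg, vdef]
        exact Finset.sum_congr rfl fun i _ => by rw [hM1]
      obtain ⟨k, hk⟩ : ∃ k, k = fj n F q j g := ⟨_, rfl⟩
      have k1 : k * Y p * k⁻¹ = Y (vec v) := by
        rw [hk]; exact hYc p hp0 hpp g 1 _ one_ne_zero (by rw [hgp, one_smul])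
      have k2 : k * Y r * k⁻¹ = Y (vec v') := by
        rw [hk]; exact hYc r hr0 hrr g 1 _ one_ne_zero (by rw [hgr, one_smul])
      have k3 : k * Z hF j p * k⁻¹ = Z hF j (vec v) := by rw [hk, Z_conj hpp, hgp]
      have k4 : k * Z hF j r * k⁻¹ = Z hF j (vec v') := by rw [hk, Z_conj hrr, hgr]
      have hpair : Y (vec v) * Y (vec v') = Y (vec v') * Y (vec v) * (Z hF j (vec v) * Z hF j (vec v')) := by
        calc Y (vec v) * Y (vec v') = (k * Y p * k⁻¹) * (k * Y r * k⁻¹) := by rw [k1, k2]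
          _ = k * (Y p * Y r) * k⁻¹ := by group
          _ = (k * Y r * k⁻¹) * (k * Y p * k⁻¹) * ((k * Z hF j p * k⁻¹) * (k * Z hF j r * k⁻¹)) := by
            rw [hbase]; group
          _ = _ := by rw [k1, k2, k3, k4]
      have zz := Z_sq (hF := hF) (j := j) (viso v' v')
      calc Y (vec v) * t * (Y (vec v') * t) = Y (vec v) * (t * Y (vec v') * t) := by group
        _ = (Y (vec v) * Y (vec v')) * Z hF j (vec v') := by rw [Yb v' hv0']; group
        _ = Y (vec v') * Y (vec v) * Z hF j (vec v) * (Z hF j (vec v') * Z hF j (vec v')) := by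
          rw [hpair]; group
        _ = Y (vec v') * (t * Y (vec v) * t) := by rw [zz, Yb v hv0]; group
        _ = _ := by group
  · -- y_a
    intro v hv0 H hH
    rw [hskew] at hH
    rw [ypos v hv0, apos _ hH]
    have c1 := D.cent (vne v hv0) (viso v v) _ (YW v hv0) (aEl hF E H hH) (vfix _ (afix H hH) v)
    have c2 : t * fj n F q j (aEl hF E H hH) = fj n F q j (aEl hF E H hH) * t := D.tj _
    rw [mul_assoc, c2, ← mul_assoc, c1, mul_assoc]
  · -- hK
    intro M hM
    obtain ⟨g, hg, -⟩ := exists_SL hF E hM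
    refine ⟨fj n F q j g, fun v hv0 => ?_, fun H hH => ?_⟩
    · have hMv : M.mulVec v ≠ 0 := by
        intro h
        apply hv0
        have hu : IsUnit M.det := by rw [hM]; exact isUnit_one
        exact (Matrix.mulVec_injective_of_isUnit ((Matrix.isUnit_iff_isUnit_det M).mpr hu))
          (by rw [h, Matrix.mulVec_zero])
      rw [ypos v hv0, ypos _ hMv]
      have c1 := hYc (vec v) (vne v hv0) (viso v v) g 1 (vec (M.mulVec v)) one_ne_zero
        (by rw [vmap g M hg, one_smul])
      have c2 : t * fj n F q j g = fj n F q j g * t := D.tj _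
      rw [← c1]
      calc fj n F q j g * (Y (vec v) * t) * (fj n F q j g)⁻¹
          = fj n F q j g * Y (vec v) * (fj n F q j g)⁻¹ * (fj n F q j g * t) * (fj n F q j g)⁻¹ := by group
        _ = _ := by rw [← c2]; group
    · have hH' := herm_conj (σ := sig hF) (pow_q_pow_q hF) M hH
      rw [hskew] at hH hH'
      rw [apos _ hH, apos _ hH', ← map_inv, ← map_mul, ← map_mul, conj_aEl hF E hH hg]
      rfl
  · -- O_y
    rintro _ ⟨g, hg, rfl⟩ v hv0
    rw [ypos v hv0]
    have c1 := D.cent (vne v hv0) (viso v v) _ (YW v hv0) g (vfix g hg v)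
    have c2 : t * fj n F q j g = fj n F q j g * t := D.tj _
    rw [mul_assoc, c2, ← mul_assoc, ← c1, mul_assoc]
  · -- O_a
    rintro _ ⟨g, hg, rfl⟩ H hH
    rw [hskew] at hH
    rw [apos _ hH, ← map_mul, ← map_mul]
    congr 1
    have h5 : ∀ k, act g (e k) = ∑ i, (1 : Matrix (Fin 3) (Fin 3) F) i k • e i := by
      intro k
      rw [hg, Finset.sum_eq_single k]
      · rw [Matrix.one_apply_eq, one_smul]
      · intro i _ hik
        rw [Matrix.one_apply_ne hik, zero_smul]
      · intro h; exact absurd (Finset.mem_univ k) h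
    have h6 := conj_aEl hF E hH h5
    have h7 : (1 : Matrix (Fin 3) (Fin 3) F) * H * (1 : Matrix (Fin 3) (Fin 3) F)ᵀ.map (· ^ q) = H := by
      have : (1 : Matrix (Fin 3) (Fin 3) F)ᵀ.map (· ^ q) = 1 := by
        rw [Matrix.transpose_one]
        exact Matrix.map_one _ (zero_pow (by omega)) (one_pow q)
      rw [this, Matrix.one_mul, Matrix.mul_one]
    rw [aEl_congr hF E _ hH h7, mul_inv_eq_iff_eq_mul] at h6
    exact h6
  · -- K2
    intro c hc hO
    obtain ⟨α, hα⟩ := D.toSit.exists_aut hc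
    have h5 : ∀ g : SU n F q, (∀ k, act g (e k) = e k) → α (pr n F q g) = pr n F q g := by
      intro g hg
      apply D.inj
      rw [← hα]
      have := hO _ ⟨g, hg, rfl⟩
      rw [fj_apply] at this
      rw [this, mul_inv_cancel_right]
    obtain ⟨H, hH, hH'⟩ := autCent_frame hF (by omega) E (by norm_num) α h5
    refine ⟨H, (hskew H).2 hH, ?_⟩
    rw [apos _ hH]
    exact D.toSit.eq_or hc (fun x => by rw [hα, hH'])

omit D in
theorem indep_of_P2 {p p' r r' : Fin n → F} (H : P2 q p p' r r') : LinearIndependent F ![p, r] := by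
  rw [LinearIndependent.pair_iff]
  intro a b h
  have h1 := congrArg (fun x => hermForm n F q x p') h
  have h2 := congrArg (fun x => hermForm n F q x r') h
  simp only [herm_add_left, herm_smul_left, H.pp', H.rp', H.pr', H.rr', herm_zero_left, mul_one, mul_zero, add_zero,
    zero_add] at h1 h2
  exact ⟨h1, h2⟩

/-- **The alternative of `LineGrp.comm_of_two` is resolved**: `[W p, W r] = 1`. -/
theorem comm [CharP F 2] (hq : q = 2) (hn : 6 ≤ n) {p p' r r' : Fin n → F} (H : P2 q p p' r r') {v u : G}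
    (hv : v ∈ W p) (hu : u ∈ W r)
    (h : v * u = u * v ∨ (t * v * t = v * fj n F q j (Np hF p 1) ∧ t * u * t = u * fj n F q j (Np hF r 1) ∧
      v * u = u * v * (fj n F q j (Np hF p 1) * fj n F q j (Np hF r 1)))) : v * u = u * v := by
  rcases h with h | ⟨h1, h2, h3⟩
  · exact h
  · exact absurd (two_absurd D hq hn H.p_ne H.pp H.rr H.pr (indep_of_P2 H) hv hu h1 h2 h3) not_false

end

end Cfsg.Agent.OddHalf.D7.Uni.PlaneGlue
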