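import Cfsg.Agent.OddHalf.D7.Uni.FaceInst
import Cfsg.Agent.OddHalf.D7.Uni.LineEL
import Cfsg.Agent.KFacts.UniTwo.Torus
import Cfsg.Agent.KFacts.UniTwo.Exist
import Cfsg.Agent.OddHalf.D7.Uni.EvlLine
import Cfsg.Agent.OddHalf.D7.Uni.PlaneGlue

/-!
# `Tor`, `Scale`, the swap; all `W s`, `s ∈ l`, commute for a totally isotropic line `l` (ODD D7, `K = PSU_n(q)`)
-/

set_option autoImplicit false
set_option linter.unusedSimpArgs false
set_option linter.unusedSectionVars false

namespace Cfsg.Agent.OddHalf.D7.Uni.Face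

open Cfsg Cfsg.Agent.LieClassical.HermBasic Cfsg.Agent.LieClassical.HermSiegel
  Cfsg.Agent.LieClassical.HermGen Cfsg.Agent.LieClassical.SUBasic Matrix
  Cfsg.Agent.ClassicalGeometry.PSUAutBasic Cfsg.Agent.ClassicalGeometry.PSUAutSylow
  Cfsg.Agent.ClassicalGeometry.PSUAutUnip Cfsg.Agent.ClassicalGeometry.PSUAutPhi
  Cfsg.Agent.KFacts.Unit

variable {F : Type*} [Field F] [Fintype F] {q n : ℕ} {G : Type*} [Group G] {t : G} {j : PSU n F q →* G}
  {W : (Fin n → F) → Subgroup G}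

omit [Fintype F] in
theorem P2.lf {p p' r r' : Fin n → F} (H : P2 q p p' r r') : KFacts.UniTwo.LF q p r p' r' where
  ee := H.pp
  ff := H.rr
  ef := H.pr
  e'e' := H.p'p'
  f'f' := H.r'r'
  e'f' := H.p'r'
  ee' := H.pp'
  ff' := H.rr'
  ef' := H.pr'
  fe' := H.rp'

theorem conj_Np (hF : Fintype.card F = q ^ 2) [CharP F 2] {u : Fin n → F} (hu : hermForm n F q u u = 0) {x c : F}
    (hx : x ^ q = x) {g : SU n F q} (hg : act g u = c • u) : g * Np hF u x * g⁻¹ = Np hF u (c * c ^ q * x) := by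
  have hcu : hermForm n F q (c • u) (c • u) = 0 := by rw [herm_smul_left, herm_smul_right, hu]; ring
  have hx' : (c * c ^ q * x) ^ q = c * c ^ q * x := by rw [mul_pow, norm_pow_q hF, hx]
  rw [Np, conj_Sg hF (isS_np hu hx), act_zero, hg]
  apply ext_act
  intro v
  rw [act_Sg hF (isS_np hcu hx), act_Np hF hu hx', herm_zero_right hF, smul_zero, add_zero, sub_zero,
    herm_smul_right, smul_smul]
  congr 2
  ring

theorem conj_Mm (hF : Fintype.card F = q ^ 2) {p r : Fin n → F} (hp : hermForm n F q p p = 0)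
    (hr : hermForm n F q r r = 0) (hrp : hermForm n F q r p = 0) (μ : F) {a b : F} {g : SU n F q}
    (hg : act g p = a • p) (hg' : act g r = b • r) : g * Mm hF p r μ * g⁻¹ = Mm hF p r (a * b ^ q * μ) := by
  have h1 : IsSiegel q (a • p) (μ ^ q • b • r) 0 := by
    refine isS_vec hF ?_ ?_ ?_ _
    · rw [herm_smul_left, herm_smul_right, hp]; ring
    · rw [herm_smul_left, herm_smul_right, hrp]; ring
    · rw [herm_smul_left, herm_smul_right, hr]; ring
  rw [Mm, conj_Sg hF (isS_vec hF hp hrp hr _), act_smul, hg, hg']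
  apply ext_act
  intro v
  rw [act_Sg hF h1, act_Mm hF hp hr hrp]
  simp only [herm_smul_right, mul_pow, pow_q_pow_q hF]
  module

/-- `Defs.Tor` -/
theorem Dbl.tor {hF : Fintype.card F = q ^ 2} [CharP F 2] (D : Dbl hF t j W) (hn : 4 ≤ n) {p p' r r' : Fin n → F}
    (H : P2 q p p' r r') : ∃ h : G, Defs.Tor (sig hF) t (W p) (W r) (fun x => fj n F q j (Np hF p x))
      (fun y => fj n F q j (Np hF r y)) (fun μ => fj n F q j (Mm hF p r μ)) h := by
  obtain ⟨s, hs, hs1⟩ := KFacts.UniTwo.exists_norm_one_ne hF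
  obtain ⟨h0, h0', h1⟩ := KFacts.UniTwo.LF.tor_aux hF hs
  have hodd := KFacts.UniTwo.LF.q_add_one_odd hF CharTwo.add_self_eq_zero
  have hsq : s ^ (q + 1) = 1 := by rw [pow_succ, mul_comm]; exact hs
  have hsq' : s⁻¹ ^ (q + 1) = 1 := by rw [inv_pow, hsq, inv_one]
  have hpow := H.lf.dS_pow hF h0 h0' h1 hsq hsq'
  have hs' : s⁻¹ * s⁻¹ ^ q = 1 := by rw [inv_pow, ← mul_inv, hs, inv_one]
  have ge := H.lf.dS_e hF h0 h0' h1
  have gf := H.lf.dS_f hF h0 h0' h1
  set d := H.lf.dS hF s s⁻¹ h0 h0' h1 with hd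
  have C := coord D.toSit hF (by omega) H
  refine ⟨fj n F q j d, (D.tj _).symm, fun w hw => (D.cent_odd H.p_ne H.pp hs ge hodd hpow hw).symm,
    fun w hw => (D.cent_odd H.r_ne H.rr hs' gf hodd hpow hw).symm, ?_⟩
  intro x μ y hx hy h2
  have h3 : d * Np hF p x * d⁻¹ = Np hF p x := by
    rw [conj_Np hF H.pp hx ge, hs, one_mul]
  have h4 : d * Np hF r y * d⁻¹ = Np hF r y := by
    rw [conj_Np hF H.rr hy gf, hs', one_mul]
  have hsqi : s⁻¹ ^ q = s := by
    rw [inv_pow, inv_eq_iff_eq_inv]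
    exact (eq_inv_of_mul_eq_one_right hs)
  have h5 : d * Mm hF p r μ * d⁻¹ = Mm hF p r (s * s * μ) := by
    rw [conj_Mm hF H.pp H.rr H.rp μ ge gf, hsqi]
  have h6 : fj n F q j (Np hF p x) * fj n F q j (Mm hF p r (s * s * μ)) * fj n F q j (Np hF r y) =
      fj n F q j (Np hF p x) * fj n F q j (Mm hF p r μ) * fj n F q j (Np hF r y) := by
    have e1 : d * (Np hF p x * Mm hF p r μ * Np hF r y) * d⁻¹ = Np hF p x * Mm hF p r (s * s * μ) * Np hF r y := by
      rw [← h5]
      calc d * (Np hF p x * Mm hF p r μ * Np hF r y) * d⁻¹ = (d * Np hF p x * d⁻¹) * (d * Mm hF p r μ * d⁻¹) *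
            (d * Np hF r y * d⁻¹) := by group
        _ = _ := by rw [h3, h4]
    have e2 := congrArg (fj n F q j) e1
    simp only [map_mul, map_inv] at e2
    rw [← e2, h2, mul_inv_cancel_right]
  have h7 := (Line.A_inj C hx hy hx hy h6).2.1
  by_contra hμ
  have h8 : s * s = 1 := by
    have h9 : s * s * μ = 1 * μ := by rw [one_mul]; exact h7
    exact mul_right_cancel₀ hμ h9
  apply hs1
  have h9 : (s + 1) * (s + 1) = 0 := by
    have h10 := CharTwo.add_self_eq_zero s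
    have h11 := CharTwo.add_self_eq_zero (1 : F)
    linear_combination h8 + h10 + h11
  have h10 := mul_self_eq_zero.1 h9
  have h11 := eq_neg_of_add_eq_zero_left h10
  rwa [CharTwo.neg_eq] at h11

/-- square roots of fixed elements -/
theorem exists_sqrt_fix [CharP F 2] {ν : F} (hν : ν ^ q = ν) :
    ∃ b : F, b * b = ν ∧ b ^ q = b := by
  obtain ⟨b, hb⟩ := FiniteField.isSquare_of_char_two (ringChar.eq F 2) ν
  have hb' : b ^ q * b ^ q = b * b := by rw [← mul_pow, ← hb, hν]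
  refine ⟨b, hb.symm, ?_⟩
  have h9 : (b ^ q + b) * (b ^ q + b) = 0 := by
    have h10 := CharTwo.add_self_eq_zero (b ^ q * b)
    have h11 := CharTwo.add_self_eq_zero (b * b)
    linear_combination hb' + h10 + h11
  have h10 := mul_self_eq_zero.1 h9
  have h11 := eq_neg_of_add_eq_zero_left h10
  rwa [CharTwo.neg_eq] at h11

/-- `Defs.Scale` -/
theorem Dbl.scale {hF : Fintype.card F = q ^ 2} [CharP F 2] (D : Dbl hF t j W) {p p' r r' : Fin n → F}
    (H : P2 q p p' r r') : Defs.Scale (sig hF) t (W p) (W r) (fun x => fj n F q j (Np hF p x))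
      (fun y => fj n F q j (Np hF r y)) := by
  intro ν hν hν0
  obtain ⟨b, hb, hbq⟩ := exists_sqrt_fix hν
  have hb0 : b ≠ 0 := by
    rintro rfl
    rw [mul_zero] at hb
    exact hν0 hb.symm
  have h1 : (b * 1) ^ q = b * 1 := by rw [mul_one, hbq]
  have ge := H.lf.dS_e hF hb0 one_ne_zero h1
  have gf := H.lf.dS_f hF hb0 one_ne_zero h1
  set d := H.lf.dS hF b 1 hb0 one_ne_zero h1 with hd
  refine ⟨fj n F q j d, (D.tj _).symm, ?_, ?_, ?_, ?_⟩
  · intro w hw
    have := D.conj H.p_ne H.pp d w hw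
    rwa [ge, D.smul H.p_ne H.pp hb0] at this
  · intro w hw
    have := D.conj H.r_ne H.rr d w hw
    rwa [gf, one_smul] at this
  · intro x hx
    show fj n F q j d * fj n F q j (Np hF p x) * (fj n F q j d)⁻¹ = fj n F q j (Np hF p (ν * x))
    rw [← map_mul, ← map_inv, ← map_mul, conj_Np hF H.pp hx ge, hbq, hb]
  · intro y hy
    show fj n F q j d * fj n F q j (Np hF r y) * (fj n F q j d)⁻¹ = fj n F q j (Np hF r y)
    rw [← map_mul, ← map_inv, ← map_mul, conj_Np hF H.rr hy gf, one_pow, mul_one, one_mul]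

/-- `q > 2`: a fixed element different from `0`, `1`. -/
theorem exists_fixed (hF : Fintype.card F = q ^ 2) (hq : 2 < q) : ∃ k : F, sig hF k = k ∧ k ≠ 0 ∧ k ≠ 1 := by
  classical
  by_contra hcon
  push Not at hcon
  have h1 := card_fixed hF
  have h2 : Nat.card {x : F // x ^ q = x} ≤ Nat.card (({0, 1} : Finset F) : Set F) := by
    refine Nat.card_le_card_of_injective (fun x => ⟨x.1, ?_⟩) (fun x y h => ?_)
    · by_cases h0 : x.1 = 0
      · simp [h0]
      · have := hcon x.1 x.2 h0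
        simp [this]
    · exact Subtype.ext (Subtype.mk.inj h)
  have h3 : Nat.card (({0, 1} : Finset F) : Set F) ≤ 2 := by
    rw [Nat.card_coe_set_eq, Set.ncard_coe_finset]
    exact Finset.card_le_two
  omega

/-- `q = 2`: the fixed elements are `0` and `1`. -/
theorem fixed_two (hF : Fintype.card F = q ^ 2) (hq : q = 2) : ∀ k : F, sig hF k = k → k = 0 ∨ k = 1 := by
  subst hq
  intro k hk
  have h1 : k ^ 2 = k := hk
  have h2 : k * (k - 1) = 0 := by linear_combination h1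
  rcases mul_eq_zero.1 h2 with h3 | h3
  · exact Or.inl h3
  · exact Or.inr (sub_eq_zero.1 h3)

theorem OE_swap (p r : Fin n → F) : OE n F q j r p = OE n F q j p r := by
  rw [OE, OE, inf_comm]

theorem Dbl.line' {hF : Fintype.card F = q ^ 2} [CharP F 2] (D : Dbl hF t j W) (hn : 4 ≤ n) {p p' r r' : Fin n → F}
    (H : P2 q p p' r r') :
    Defs.Line (sig hF) t (OE n F q j p r) (W r) (W p) (fun x => fj n F q j (Np hF r x)) (fun y => fj n F q j (Np hF p y))
      (fun μ => fj n F q j (Mm hF r p μ)) (fun l => fj n F q j (Mm hF r p' l)) := by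
  rw [← OE_swap]
  exact D.line hn H.swap

theorem Dbl.pr_large {hF : Fintype.card F = q ^ 2} [CharP F 2] (D : Dbl hF t j W) (hn : 4 ≤ n) (hq : 2 < q)
    {p p' r r' : Fin n → F} (H : P2 q p p' r r') : ∀ v ∈ W p, ∀ u ∈ W r, v * u = u * v := by
  intro v hv u hu
  obtain ⟨h, T⟩ := D.tor hn H
  obtain ⟨h', T'⟩ := D.tor hn H.swap
  exact LineGrp.comm_of_large (D.line hn H) (D.line' hn H) T T' (D.scale H) (D.scale H.swap)
    (exists_fixed hF hq) hv hu

section P2

variable {p p' r r' : Fin n → F}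

theorem P2.of_lf (hF : Fintype.card F = q ^ 2) (H : KFacts.UniTwo.LF q p r p' r') : P2 q p p' r r' where
  pp := H.ee
  p'p' := H.e'e'
  pp' := H.ee'
  p'p := H.e'e hF
  rr := H.ff
  r'r' := H.f'f'
  rr' := H.ff'
  r'r := H.f'f hF
  pr := H.ef
  rp := H.fe hF
  pr' := H.ef'
  r'p := H.f'e hF
  p'r := H.e'f hF
  rp' := H.fe'
  p'r' := H.e'f'
  r'p' := H.f'e' hF

theorem exists_P2 (hF : Fintype.card F = q ^ 2) (hn : 4 ≤ n) (hp0 : p ≠ 0) (hp : hermForm n F q p p = 0) :
    ∃ p' r r', P2 q p p' r r' := by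
  obtain ⟨f, e', f', H⟩ := KFacts.UniTwo.exists_LF hF hn hp0 hp
  exact ⟨e', f, f', P2.of_lf hF H⟩

theorem exists_P2_of (hF : Fintype.card F = q ^ 2) (hp : hermForm n F q p p = 0) (hr : hermForm n F q r r = 0)
    (hpr : hermForm n F q p r = 0) (hind : ∀ a b : F, a • p + b • r = 0 → a = 0 ∧ b = 0) :
    ∃ p' r', P2 q p p' r r' := by
  obtain ⟨e', f', H⟩ := KFacts.UniTwo.exists_LF_of hF hp hr hpr hind
  exact ⟨e', f', P2.of_lf hF H⟩

/-- the pair `(r + l p, r)` of the line `⟨p, r⟩` -/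
theorem P2.shift [CharP F 2] (hF : Fintype.card F = q ^ 2) (H : P2 q p p' r r') {l : F} (hl : l ≠ 0) :
    P2 q (r + l • p) ((l⁻¹) ^ q • p') r (r' + (l⁻¹) ^ q • p') := by
  have e1 : l * l⁻¹ = 1 := mul_inv_cancel₀ hl
  have e2 : l ^ q * l⁻¹ ^ q = 1 := by rw [← mul_pow, e1, one_pow]
  have e3 : (l⁻¹ ^ q) ^ q = l⁻¹ := pow_q_pow_q hF _
  have h2 : (2 : F) = 0 := CharTwo.two_eq_zero
  constructor <;>
    simp only [herm_add_left, herm_smul_left, herm_add_right hF, herm_smul_right, H.pp, H.p'p', H.pp', H.p'p, H.rr,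
      H.r'r', H.rr', H.r'r, H.pr, H.rp, H.pr', H.r'p, H.p'r, H.rp', H.p'r', H.r'p', e3, mul_zero, add_zero,
      zero_add, mul_one, e1, e2] <;>
    first
      | done
      | linear_combination e1
      | linear_combination e2
      | linear_combination h2
      | linear_combination e1 + h2


end P2

/-- all `W p`, `W r` with `p ⊥ r` commute -/
def PR (q : ℕ) (W : (Fin n → F) → Subgroup G) : Prop :=
  ∀ p p' r r', P2 q p p' r r' → ∀ v ∈ W p, ∀ u ∈ W r, v * u = u * v

theorem q_cases (hF : Fintype.card F = q ^ 2) : 2 < q ∨ q = 2 := by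
  have := two_le hF
  omega

/-- `q = 2`: `[W p, W r] = 1`. -/
theorem Dbl.pr_two {hF : Fintype.card F = q ^ 2} [CharP F 2] (D : Dbl hF t j W) (hn : 6 ≤ n) (hq : q = 2) :
    PR q W := by
  intro p p' r r' H v hv u hu
  obtain ⟨g, hg1, hg2⟩ := exists_map_Frm hF (by omega) H.frm H.swap.frm
  have gp : act g p = r := by simpa using hg1 0
  have gr : act g r = p := by simpa using hg1 1
  obtain ⟨h, T⟩ := D.tor (by omega) H
  refine PlaneGlue.comm D hq hn H hv hu ?_
  refine LineGrp.comm_of_two (s := fj n F q j g) (D.line (by omega) H) T (fixed_two hF hq) (D.tj _).symm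
    ?_ ?_ ?_ ?_ hv hu
  · intro w hw
    have := D.conj H.p_ne H.pp g w hw
    rwa [gp] at this
  · intro w hw
    have := D.conj H.r_ne H.rr g w hw
    rwa [gr] at this
  · intro x hx
    have e1 : g * Np hF p x * g⁻¹ = Np hF r x := by
      rw [Np, conj_Sg hF (isS_np H.pp hx), act_zero, gp, Np]
    show fj n F q j g * fj n F q j (Np hF p x) * (fj n F q j g)⁻¹ = fj n F q j (Np hF r x)
    rw [← e1, map_mul, map_mul, map_inv]
  · intro x hx
    have e1 : g * Np hF r x * g⁻¹ = Np hF p x := by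
      rw [Np, conj_Sg hF (isS_np H.rr hx), act_zero, gr, Np]
    show fj n F q j g * fj n F q j (Np hF r x) * (fj n F q j g)⁻¹ = fj n F q j (Np hF p x)
    rw [← e1, map_mul, map_mul, map_inv]

/-- `[W p, W r] = 1` -/
theorem Dbl.pr {hF : Fintype.card F = q ^ 2} [CharP F 2] (D : Dbl hF t j W) (hn : 6 ≤ n) : PR q W := by
  rcases q_cases hF with hq | hq
  · intro p p' r r' H
    exact D.pr_large (by omega) hq H
  · exact D.pr_two hn hq

section Comm

variable {hF : Fintype.card F = q ^ 2} [CharP F 2] (D : Dbl hF t j W) (hn : 4 ≤ n) (hpr : PR q W)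

include D hn hpr

/-- `W p` is abelian. -/
theorem Dbl.ab {p : Fin n → F} (hp0 : p ≠ 0) (hp : hermForm n F q p p = 0) {v w : G} (hv : v ∈ W p) (hw : w ∈ W p) :
    v * w = w * v := by
  obtain ⟨p', r, r', H⟩ := exists_P2 hF hn hp0 hp
  exact Line.ab_of_comm (D.line hn H) (hpr _ _ _ _ H) hv hw

theorem Dbl.comm {p p' r r' : Fin n → F} (H : P2 q p p' r r') :
    LineGrp.Comm (W p) (W r) (fun l => fj n F q j (Mm hF p r' l)) where
  pp v hv u hu := D.ab hn hpr H.p_ne H.pp hv hu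
  pr v hv u hu := hpr _ _ _ _ H v hv u hu
  rr l u hu v hv := by
    have h1 : fj n F q j (Mm hF p r' l) * u * (fj n F q j (Mm hF p r' l))⁻¹ ∈ W (r + l • p) := by
      have := D.conj H.r_ne H.rr (Mm hF p r' l) u hu
      rwa [Gg_r hF H] at this
    by_cases hl : l = 0
    · rw [hl, zero_smul, add_zero] at h1
      rw [hl]
      exact D.ab hn hpr H.r_ne H.rr h1 hv
    · exact hpr _ _ _ _ (H.shift hF hl) _ h1 v hv

/-- `W p` is elementary abelian. -/
theorem Dbl.elem {p : Fin n → F} (hp0 : p ≠ 0) (hp : hermForm n F q p p = 0) {w : G}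
    (hw : w ∈ W p) : w * w = 1 := by
  rcases q_cases hF with hq | hq
  · obtain ⟨p', r, r', H⟩ := exists_P2 hF hn hp0 hp
    exact (LineGrp.line_main (D.line hn H.swap) (D.comm hn hpr H.swap) hw (Or.inl (exists_fixed hF hq))).1
  · exact D.sq hq hp0 hp w hw

/-- `EL` for every totally isotropic line -/
theorem Dbl.el {p p' r r' : Fin n → F} (H : P2 q p p' r r') :
    Quad.EL (sig hF) t (Subgroup.closure (LineGrp.gens (W p) (W r) (fun μ => fj n F q j (Mm hF p r μ))
      (fun l => fj n F q j (Mm hF p r' l)))) (W p) ((QQ hF p H.pp).map j) (fun x => fj n F q j (Np hF p x))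
      (fun y => fj n F q j (Np hF r y)) (fun μ => fj n F q j (Mm hF p r μ)) (fun l => fj n F q j (Mm hF p r' l)) := by
  refine Quad.EL.of_line (D.line hn H) (D.comm hn hpr H) (fun w hw => D.elem hn hpr H.p_ne H.pp hw)
    (fun w hw => D.elem hn hpr H.r_ne H.rr hw) ?_ ?_ ?_ ?_
  · intro l
    exact Subgroup.mem_map_of_mem j (mem_QQ.2 ⟨_, _, isS_vec hF H.pp H.r'p H.r'r' _, by rw [Mm, Sg_eq]⟩)
  · intro x hx
    exact Subgroup.mem_map_of_mem j (mem_QQ.2 ⟨_, _, isS_np H.pp hx, by rw [Np, Sg_eq]⟩)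
  · intro μ
    exact Subgroup.mem_map_of_mem j (mem_QQ.2 ⟨_, _, isS_vec hF H.pp H.rp H.rr _, by rw [Mm, Sg_eq]⟩)
  · rintro _ ⟨x, hx, rfl⟩
    obtain ⟨w, μ, h, rfl⟩ := mem_QQ.1 hx
    have h1 : act (siegel hF p w μ h) r = r + hermForm n F q r w • p := by
      rw [act_siegel, H.rp, zero_smul, add_zero, mul_zero, zero_sub, CharTwo.neg_eq]
    have h2 : act (siegel hF p w μ h) p = p := by
      rw [act_siegel, H.pp, zero_smul, add_zero, mul_zero, zero_sub, herm_eq_zero_swap hF h.orth, neg_zero, zero_smul,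
        add_zero]
    refine ⟨hermForm n F q r w, fj n F q j ((Mm hF p r' (hermForm n F q r w))⁻¹ * siegel hF p w μ h),
      mem_OE.2 ⟨_, ?_, ?_, rfl⟩, ?_⟩
    · rw [act_mul, h2]
      exact ((act_eq_iff _).1 (Gg_p hF H _)).symm
    · rw [act_mul, h1]
      exact ((act_eq_iff _).1 (Gg_r hF H _)).symm
    · rw [map_mul, map_inv, mul_inv_cancel_left, fj_apply]

end Comm

end Cfsg.Agent.OddHalf.D7.Uni.Face
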