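import Cfsg.Agent.OddHalf.D7.Uni.Chain

/-!
# One layer, fixed points of elements of order three, and the homomorphism onto `{±1}`

`Layer t X Q W T`: `W` is the elementary abelian double of `X`, `T / W` the elementary abelian double of `Q / X`
(for `U_n`: `X_v ≤ Q_v`, `W_v ≤ R_v`). `Layer.fix`: if `ρ` has order 3, commutes with `t` and with `W`, and normalises `Q` and
`T`, then `C_T(ρ)` is again a layer. `Layers.exists_hom`: `⟨t⟩ U` of odd index in `C(t)` gives `G → {±1}`, `t ↦ -1`.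
-/

set_option autoImplicit false

namespace Cfsg.Agent.OddHalf.D7.Uni.Lay

open Cfsg.Agent.OddHalf.D7.Uni.Chain

variable {G : Type*} [Group G]

/-- One layer. -/
structure Layer (t : G) (X Q W T : Subgroup G) : Prop where
  tt : t * t = 1
  Qt : ∀ x ∈ Q, t * x * t = x
  XQ : X ≤ Q
  XW : X ≤ W
  WT : W ≤ T
  QT : Q ≤ T
  Wsq : ∀ w ∈ W, w * w = 1
  Tsq : ∀ x ∈ T, x * x ∈ W
  Wbrk : ∀ w ∈ W, w⁻¹ * (t * w * t) ∈ X
  Wonto : ∀ x ∈ X, ∃ w ∈ W, w⁻¹ * (t * w * t) = x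
  Wcent : ∀ w ∈ W, t * w * t = w → w ∈ X
  Tbrk : ∀ r ∈ T, ∃ q ∈ Q, q⁻¹ * (r⁻¹ * (t * r * t)) ∈ W
  Tonto : ∀ q ∈ Q, ∃ r ∈ T, q⁻¹ * (r⁻¹ * (t * r * t)) ∈ W
  Tker : ∀ r ∈ T, r⁻¹ * (t * r * t) ∈ W → ∃ q ∈ Q, q⁻¹ * r ∈ W
  normW : ∀ g ∈ T, ∀ x ∈ W, g * x * g⁻¹ ∈ W

theorem layers_of_lay {t : G} {m : ℕ} {X Q W T : ℕ → Subgroup G} (tt : t * t = 1)
    (h : ∀ j < m, Layer t (X j) (Q j) (W j) (T j))
    (normT : ∀ i j, i < j → j < m → ∀ g ∈ T j, ∀ x ∈ T i, g * x * g⁻¹ ∈ T i)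
    (dir : ∀ j < m, ∀ q ∈ Q j, q ∈ pr Q j → q = 1) : Layers t m X Q W T where
  tt := tt
  Qt j hj := (h j hj).Qt
  XQ j hj := (h j hj).XQ
  XW j hj := (h j hj).XW
  WT j hj := (h j hj).WT
  QT j hj := (h j hj).QT
  Wsq j hj := (h j hj).Wsq
  Tsq j hj := (h j hj).Tsq
  Wbrk j hj := (h j hj).Wbrk
  Wonto j hj := (h j hj).Wonto
  Wcent j hj := (h j hj).Wcent
  Tbrk j hj := (h j hj).Tbrk
  Tonto j hj := (h j hj).Tonto
  Tker j hj := (h j hj).Tker
  normT := normT
  normW j hj := (h j hj).normW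
  dir := dir

namespace Layer

variable {t : G} {X Q W T : Subgroup G}

theorem tmul (h : Layer t X Q W T) (a b : G) : t * (a * b) * t = (t * a * t) * (t * b * t) := by
  calc t * (a * b) * t = t * a * 1 * b * t := by group
    _ = _ := by rw [← h.tt]; group

theorem normW' (h : Layer t X Q W T) {g x : G} (hg : g ∈ T) (hx : x ∈ W) : g⁻¹ * x * g ∈ W := by
  have := h.normW g⁻¹ (inv_mem hg) x hx
  rwa [inv_inv] at this

theorem inv_mem_sq (h : Layer t X Q W T) {a : G} (ha : a ∈ T) : a * a ∈ W := h.Tsq a ha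

/-- `T / W` is abelian -/
theorem comm (h : Layer t X Q W T) {a b : G} (ha : a ∈ T) (hb : b ∈ T) : (b * a)⁻¹ * (a * b) ∈ W := by
  have e : (b * a)⁻¹ * (a * b) = (a * a)⁻¹ * ((a * b⁻¹) * (a * b⁻¹)) * (b * b) := by group
  rw [e]
  exact mul_mem (mul_mem (inv_mem (h.Tsq a ha)) (h.Tsq _ (mul_mem ha (inv_mem hb)))) (h.Tsq b hb)

theorem normal (h : Layer t X Q W T) : (W.subgroupOf T).Normal := by
  constructor
  rintro ⟨n, hn⟩ hn' ⟨g, hg⟩
  exact h.normW g hg n hn'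

theorem aux {A : Type*} [CommGroup A] (q a b c : A) (hq : q * q = 1) :
    q⁻¹ * ((a * b * c)⁻¹ * ((a * q) * (b * q) * (c * q))) = 1 := by
  have h1 : (a * q) * (b * q) * (c * q) = (a * b * c) * (q * (q * q)) := by ac_rfl
  rw [h1, hq]
  group

/-- **Fixed points of an element of order three.** -/
theorem fix (h : Layer t X Q W T) {ρ : G} (h3 : ρ * ρ * ρ = 1) (hρt : ρ * t = t * ρ) (hρW : ∀ w ∈ W, ρ * w = w * ρ)
    (hρT : ∀ x ∈ T, ρ * x * ρ⁻¹ ∈ T) :
    Layer t X (Q ⊓ Subgroup.centralizer {ρ}) W (T ⊓ Subgroup.centralizer {ρ}) := by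
  have hc : ∀ x, x ∈ Subgroup.centralizer {ρ} ↔ ρ * x = x * ρ := fun x => by
    rw [Subgroup.mem_centralizer_singleton_iff]
    exact eq_comm
  have hW : W ≤ Subgroup.centralizer {ρ} := fun w hw => (hc w).2 (hρW w hw)
  have ht : t ∈ Subgroup.centralizer {ρ} := (hc t).2 hρt
  refine
    { tt := h.tt
      Qt := fun x hx => h.Qt x hx.1
      XQ := le_inf h.XQ (h.XW.trans hW)
      XW := h.XW
      WT := le_inf h.WT hW
      QT := inf_le_inf h.QT le_rfl
      Wsq := h.Wsq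
      Tsq := fun x hx => h.Tsq x hx.1
      Wbrk := h.Wbrk
      Wonto := h.Wonto
      Wcent := h.Wcent
      Tbrk := fun r hr => ?_
      Tonto := fun q hq => ?_
      Tker := fun r hr hr' => ?_
      normW := fun g hg => h.normW g hg.1 }
  · obtain ⟨q, hq, hw⟩ := h.Tbrk r hr.1
    refine ⟨q, ⟨hq, ?_⟩, hw⟩
    have h1 : r⁻¹ * (t * r * t) ∈ Subgroup.centralizer {ρ} :=
      mul_mem (inv_mem hr.2) (mul_mem (mul_mem ht hr.2) ht)
    have h2 := mul_mem h1 (inv_mem (hW hw))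
    have h3 : r⁻¹ * (t * r * t) * (q⁻¹ * (r⁻¹ * (t * r * t)))⁻¹ = q := by group
    rwa [h3] at h2
  · obtain ⟨r, hr, hw⟩ := h.Tonto q hq.1
    set w := q⁻¹ * (r⁻¹ * (t * r * t)) with hwdef
    have hrt : t * r * t = r * q * w := by rw [hwdef]; group
    have hqρ := (hc q).1 hq.2
    set r1 := ρ * r * ρ⁻¹ with hr1
    set r2 := ρ * r1 * ρ⁻¹ with hr2
    have hr1T : r1 ∈ T := hρT r hr
    have hr2T : r2 ∈ T := hρT r1 hr1T
    have hr3 : ρ * r2 * ρ⁻¹ = r := by
      have e : ρ * r2 * ρ⁻¹ = (ρ * ρ * ρ) * r * (ρ * ρ * ρ)⁻¹ := by rw [hr2, hr1]; group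
      rw [e, h3]
      group
    have hcj : ∀ x, t * x * t = x * q * w → t * (ρ * x * ρ⁻¹) * t = (ρ * x * ρ⁻¹) * q * w := by
      intro x hx
      have e1 : t * (ρ * x * ρ⁻¹) * t = ρ * (t * x * t) * ρ⁻¹ := by
        have e2 : ρ⁻¹ * t = t * ρ⁻¹ := by
          rw [inv_mul_eq_iff_eq_mul, ← mul_assoc, hρt, mul_inv_cancel_right]
        calc t * (ρ * x * ρ⁻¹) * t = (t * ρ) * x * (ρ⁻¹ * t) := by group
          _ = (ρ * t) * x * (t * ρ⁻¹) := by rw [hρt, e2]
          _ = _ := by group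
      have e3 : q * w * ρ⁻¹ = ρ⁻¹ * (q * w) := by
        rw [eq_inv_mul_iff_mul_eq, ← mul_assoc, ← mul_assoc, hqρ, mul_assoc q, hρW w hw]
        group
      rw [e1, hx]
      calc ρ * (x * q * w) * ρ⁻¹ = ρ * x * (q * w * ρ⁻¹) := by group
        _ = _ := by rw [e3]; group
    have ht1 := hcj r hrt
    have ht2 := hcj r1 ht1
    set s := r * r1 * r2 with hs
    have hsT : s ∈ T := mul_mem (mul_mem hr hr1T) hr2T
    -- `s` is fixed by `ρ`
    have hsρ : ρ * s * ρ⁻¹ = r1 * r2 * r := by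
      have e : ρ * s * ρ⁻¹ = (ρ * r * ρ⁻¹) * (ρ * r1 * ρ⁻¹) * (ρ * r2 * ρ⁻¹) := by rw [hs]; group
      rw [e, hr3]
    set d := s⁻¹ * (ρ * s * ρ⁻¹) with hd
    have hdW : d ∈ W := by
      rw [hd, hsρ, hs]
      have := h.comm (mul_mem hr1T hr2T) hr
      have e : (r * r1 * r2)⁻¹ * (r1 * r2 * r) = (r * (r1 * r2))⁻¹ * (r1 * r2 * r) := by group
      rw [e]
      exact this
    have hdρ := hρW d hdW
    have hd3 : d * d * d = 1 := by
      have e1 : ρ * s * ρ⁻¹ = s * d := by rw [hd]; group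
      have e2 : ρ * (s * d) * ρ⁻¹ = s * d * d := by
        calc ρ * (s * d) * ρ⁻¹ = (ρ * s * ρ⁻¹) * (ρ * d * ρ⁻¹) := by group
          _ = _ := by rw [e1, hdρ, mul_inv_cancel_right]
      have e3 : ρ * (s * d * d) * ρ⁻¹ = s * d * d * d := by
        calc ρ * (s * d * d) * ρ⁻¹ = (ρ * (s * d) * ρ⁻¹) * (ρ * d * ρ⁻¹) := by group
          _ = _ := by rw [e2, hdρ, mul_inv_cancel_right]
      have e4 : (ρ * ρ * ρ) * s * (ρ * ρ * ρ)⁻¹ = s * d * d * d := by
        calc (ρ * ρ * ρ) * s * (ρ * ρ * ρ)⁻¹ = ρ * (ρ * (ρ * s * ρ⁻¹) * ρ⁻¹) * ρ⁻¹ := by group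
          _ = _ := by rw [e1, e2, e3]
      rw [h3, one_mul, inv_one, mul_one] at e4
      have e5 : s * (d * d * d) = s * 1 := by
        rw [mul_one]
        exact (by group : s * (d * d * d) = s * d * d * d).trans e4.symm
      exact mul_left_cancel e5
    have hd1 : d = 1 := by
      rw [mul_assoc, h.Wsq d hdW, mul_one] at hd3
      exact hd3
    have hsc : s ∈ Subgroup.centralizer {ρ} := by
      rw [hc]
      have e1 : ρ * s * ρ⁻¹ = s * d := by rw [hd]; group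
      rw [hd1, mul_one] at e1
      exact mul_inv_eq_iff_eq_mul.1 e1
    refine ⟨s, ⟨hsT, hsc⟩, ?_⟩
    have hst : t * s * t = (r * q * w) * (r1 * q * w) * (r2 * q * w) := by
      rw [hs, h.tmul, h.tmul, hrt, ht1, ht2]
    rw [hst]
    have := h.normal
    have hqT := h.QT hq.1
    have hwT := h.WT hw
    let A := T ⧸ W.subgroupOf T
    have hone : ∀ x : T, ((x : A) = 1) ↔ (x : G) ∈ W := fun x => by
      rw [QuotientGroup.eq_one_iff]
      rfl
    let _ : CommGroup A :=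
      { (inferInstance : Group A) with
        mul_comm := by
          intro a b
          obtain ⟨a, rfl⟩ := QuotientGroup.mk_surjective a
          obtain ⟨b, rfl⟩ := QuotientGroup.mk_surjective b
          rw [← QuotientGroup.mk_mul, ← QuotientGroup.mk_mul, eq_comm, QuotientGroup.eq]
          exact h.comm a.2 b.2 }
    have hmem : ∀ x : T, (x : G) ∈ W ↔ (x : A) = 1 := fun x => (hone x).symm
    have hgoal := aux (A := A) ((⟨q, hqT⟩ : T) : A) ((⟨r, hr⟩ : T) : A) ((⟨r1, hr1T⟩ : T) : A) ((⟨r2, hr2T⟩ : T) : A)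
      (by
        rw [← QuotientGroup.mk_mul, hone]
        exact h.Tsq q hqT)
    have hw1 : ((⟨w, hwT⟩ : T) : A) = 1 := (hone _).2 hw
    have key : ((⟨q⁻¹ * (s⁻¹ * ((r * q * w) * (r1 * q * w) * (r2 * q * w))), mul_mem (inv_mem hqT) (mul_mem (inv_mem hsT)
        (mul_mem (mul_mem (mul_mem (mul_mem hr hqT) hwT) (mul_mem (mul_mem hr1T hqT) hwT))
          (mul_mem (mul_mem hr2T hqT) hwT)))⟩ : T) : A) = 1 := by
      refine Eq.trans ?_ hgoal
      have e : (⟨q⁻¹ * (s⁻¹ * ((r * q * w) * (r1 * q * w) * (r2 * q * w))), mul_mem (inv_mem hqT) (mul_mem (inv_mem hsT)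
        (mul_mem (mul_mem (mul_mem (mul_mem hr hqT) hwT) (mul_mem (mul_mem hr1T hqT) hwT))
          (mul_mem (mul_mem hr2T hqT) hwT)))⟩ : T) = (⟨q, hqT⟩ : T)⁻¹ * (((⟨r, hr⟩ : T) * ⟨r1, hr1T⟩ * ⟨r2, hr2T⟩)⁻¹ *
          ((⟨r, hr⟩ * ⟨q, hqT⟩ * ⟨w, hwT⟩) * (⟨r1, hr1T⟩ * ⟨q, hqT⟩ * ⟨w, hwT⟩) * (⟨r2, hr2T⟩ * ⟨q, hqT⟩ * ⟨w, hwT⟩))) :=
        Subtype.ext rfl
      rw [e]
      simp only [QuotientGroup.mk_mul, QuotientGroup.mk_inv, hw1, mul_one]
    exact (hone _).1 key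
  · obtain ⟨q, hq, hw⟩ := h.Tker r hr.1 hr'
    refine ⟨q, ⟨hq, ?_⟩, hw⟩
    have h2 := mul_mem (Subgroup.mem_inf.1 hr).2 (inv_mem (hW hw))
    have h3 : r * (q⁻¹ * r)⁻¹ = q := by group
    rwa [h3] at h2

/-- the centraliser of `ρ 0, …, ρ (k - 1)` -/
def cen (ρ : ℕ → G) (k : ℕ) : Subgroup G := Subgroup.centralizer (ρ '' Set.Iio k)

theorem mem_cen {ρ : ℕ → G} {k : ℕ} {x : G} : x ∈ cen ρ k ↔ ∀ i < k, ρ i * x = x * ρ i := by
  unfold cen
  rw [Subgroup.mem_centralizer_iff]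
  constructor
  · exact fun h i hi => h _ ⟨i, hi, rfl⟩
  · rintro h _ ⟨i, hi, rfl⟩
    exact h i hi

theorem cen_succ (ρ : ℕ → G) (k : ℕ) : cen ρ (k + 1) = cen ρ k ⊓ Subgroup.centralizer {ρ k} := by
  ext x
  rw [Subgroup.mem_inf, mem_cen, mem_cen, Subgroup.mem_centralizer_singleton_iff]
  constructor
  · exact fun h => ⟨fun i hi => h i (by omega), (h k (by omega)).symm⟩
  · rintro ⟨h1, h2⟩ i hi
    rcases Nat.lt_succ_iff_lt_or_eq.1 hi with h | rfl
    · exact h1 i h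
    · exact h2.symm

/-- Fixed points of commuting elements of order three. -/
theorem fixAll (h : Layer t X Q W T) {ρ : ℕ → G} {k : ℕ} (h3 : ∀ i < k, ρ i * ρ i * ρ i = 1)
    (hc : ∀ i j, i < k → j < k → ρ i * ρ j = ρ j * ρ i) (hρt : ∀ i < k, ρ i * t = t * ρ i)
    (hρW : ∀ i < k, ∀ w ∈ W, ρ i * w = w * ρ i) (hρT : ∀ i < k, ∀ x ∈ T, ρ i * x * (ρ i)⁻¹ ∈ T) :
    Layer t X (Q ⊓ cen ρ k) W (T ⊓ cen ρ k) := by
  induction k with
  | zero =>
    have e : cen ρ 0 = ⊤ := by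
      rw [eq_top_iff]
      intro x _
      rw [mem_cen]
      intro i hi
      omega
    rw [e, inf_top_eq, inf_top_eq]
    exact h
  | succ k ih =>
    have IH := ih (fun i hi => h3 i (by omega)) (fun i j hi hj => hc i j (by omega) (by omega))
      (fun i hi => hρt i (by omega)) (fun i hi => hρW i (by omega)) (fun i hi => hρT i (by omega))
    rw [cen_succ, ← inf_assoc, ← inf_assoc]
    refine IH.fix (h3 k (by omega)) (hρt k (by omega)) (hρW k (by omega)) fun x hx => ?_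
    rw [Subgroup.mem_inf] at hx ⊢
    refine ⟨hρT k (by omega) x hx.1, ?_⟩
    have h4 : ρ k ∈ cen ρ k := mem_cen.2 fun i hi => hc i k (by omega) (by omega)
    exact mul_mem (mul_mem h4 hx.2) (inv_mem h4)

end Layer

/-! ### The homomorphism onto `{±1}` -/

section Free

variable {t : G} {F U : Subgroup G}

/-- The group `F ⟨t⟩`. -/
def ext (t : G) (F : Subgroup G) (tt : t * t = 1) (tF : ∀ w ∈ F, t * w * t ∈ F) : Subgroup G where
  carrier := {g | g ∈ F ∨ t * g ∈ F}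
  one_mem' := Or.inl (one_mem _)
  mul_mem' := by
    rintro a b (ha | ha) (hb | hb)
    · exact Or.inl (mul_mem ha hb)
    · right
      have h1 := mul_mem (tF a ha) hb
      have h2 : t * a * t * (t * b) = t * (a * b) := by
        calc t * a * t * (t * b) = t * a * (t * t) * b := by group
          _ = t * (a * b) := by rw [tt]; group
      rwa [h2] at h1
    · right
      have h1 := mul_mem ha hb
      rwa [mul_assoc] at h1
    · left
      have h1 := mul_mem (tF _ ha) hb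
      have h2 : t * (t * a) * t * (t * b) = a * b := by
        calc t * (t * a) * t * (t * b) = (t * t) * a * (t * t) * b := by group
          _ = a * b := by rw [tt]; group
      rwa [h2] at h1
  inv_mem' := by
    have ti : t⁻¹ = t := inv_eq_of_mul_eq_one_left tt
    rintro a (ha | ha)
    · exact Or.inl (inv_mem ha)
    · right
      have h1 := tF _ (inv_mem ha)
      rw [mul_inv_rev, ti] at h1
      have h2 : t * (a⁻¹ * t) * t = t * a⁻¹ := by
        calc t * (a⁻¹ * t) * t = t * a⁻¹ * (t * t) := by group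
          _ = t * a⁻¹ := by rw [tt, mul_one]
      rwa [h2] at h1

theorem t_mem_ext (tt : t * t = 1) (tF : ∀ w ∈ F, t * w * t ∈ F) : t ∈ ext t F tt tF :=
  Or.inr (by rw [tt]; exact one_mem _)

open Classical in
/-- The sign with kernel `F`. -/
noncomputable def sign (tt : t * t = 1) (tF : ∀ w ∈ F, t * w * t ∈ F) (_ht : t ∉ F) : ext t F tt tF →* ℤˣ where
  toFun g := if (g : G) ∈ F then 1 else -1
  map_one' := if_pos (one_mem _)
  map_mul' := by
    rintro ⟨a, ha⟩ ⟨b, hb⟩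
    have key : ∀ g ∈ ext t F tt tF, g ∉ F → t * g ∈ F := fun g hg hn => hg.resolve_left hn
    simp only [MulMemClass.mk_mul_mk]
    by_cases h1 : a ∈ F <;> by_cases h2 : b ∈ F
    · rw [if_pos h1, if_pos h2, if_pos (mul_mem h1 h2), one_mul]
    · have h3 : a * b ∉ F := fun hn => h2 (by
        have := mul_mem (inv_mem h1) hn
        rwa [inv_mul_cancel_left] at this)
      rw [if_pos h1, if_neg h2, if_neg h3, one_mul]
    · have h3 : a * b ∉ F := fun hn => h1 (by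
        have := mul_mem hn (inv_mem h2)
        rwa [mul_inv_cancel_right] at this)
      rw [if_neg h1, if_pos h2, if_neg h3, mul_one]
    · have h4 := key a ha h1
      have h5 := key b hb h2
      have h6 := mul_mem (tF _ h4) h5
      have h7 : t * (t * a) * t * (t * b) = a * b := by
        calc t * (t * a) * t * (t * b) = (t * t) * a * (t * t) * b := by group
          _ = a * b := by rw [tt]; group
      rw [h7] at h6
      rw [if_neg h1, if_neg h2, if_pos h6]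
      rfl

theorem sign_apply (tt : t * t = 1) (tF : ∀ w ∈ F, t * w * t ∈ F) (ht : t ∉ F) (g : ext t F tt tF) :
    sign tt tF ht g = -1 ↔ (g : G) ∉ F := by
  classical
  change (if (g : G) ∈ F then (1 : ℤˣ) else -1) = -1 ↔ _
  by_cases h1 : (g : G) ∈ F
  · rw [if_pos h1]
    exact ⟨fun h => absurd h (by decide), fun h => absurd h1 h⟩
  · rw [if_neg h1]
    exact ⟨fun _ => h1, fun _ => rfl⟩

/-- If `t` acts freely on `F`, with fixed points `U`, and `⟨t⟩ U` has odd index in the centraliser of `t`, then `t` lies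
outside a subgroup of index 2. -/
theorem exists_hom_of_free [Finite G] (tt : t * t = 1) (tF : ∀ w ∈ F, t * w * t ∈ F) (ht : t ∉ F)
    (hU : ∀ w, w ∈ U ↔ w ∈ F ∧ t * w * t = w)
    (hconj : ∀ w ∈ F, (t * w) * (t * w) = 1 → ∃ c ∈ F, t * w = c * t * c⁻¹)
    (hodd : Odd ((U ⊔ Subgroup.zpowers t).relIndex (Subgroup.centralizer ({t} : Set G)))) :
    ∃ m : G →* ℤˣ, m t = -1 := by
  refine Cfsg.Agent.StdSpSix.TR.exists_hom_of_class (sign tt tF ht) tt (t_mem_ext tt tF)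
    ((sign_apply tt tF ht _).2 ht) ?_ ?_
  · intro g hg hs
    rw [sign_apply] at hs
    have h1 : t * (g⁻¹ * t * g) ∈ F := hg.resolve_left hs
    have h2 : t * (t * (g⁻¹ * t * g)) = g⁻¹ * t * g := by rw [← mul_assoc, tt, one_mul]
    have h3 : (g⁻¹ * t * g) * (g⁻¹ * t * g) = 1 := by
      calc (g⁻¹ * t * g) * (g⁻¹ * t * g) = g⁻¹ * (t * t) * g := by group
        _ = 1 := by rw [tt]; group
    obtain ⟨c, hc, hcc⟩ := hconj _ h1 (by rw [h2]; exact h3)
    rw [h2] at hcc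
    exact ⟨c, Or.inl hc, hcc⟩
  · have h1 : (ext t F tt tF).relIndex (Subgroup.centralizer ({t} : Set G)) =
        (U ⊔ Subgroup.zpowers t).relIndex (Subgroup.centralizer ({t} : Set G)) := by
      rw [← Subgroup.inf_relIndex_right, ← Subgroup.inf_relIndex_right (U ⊔ Subgroup.zpowers t)]
      congr 1
      apply le_antisymm
      · rintro g ⟨hg, hc⟩
        refine ⟨?_, hc⟩
        have hc' := Subgroup.mem_centralizer_singleton_iff.1 hc
        rcases hg with hg | hg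
        · refine Subgroup.mem_sup_left ((hU g).2 ⟨hg, ?_⟩)
          rw [mul_assoc, hc', ← mul_assoc, tt, one_mul]
        · have h4 : t * g ∈ U := (hU _).2 ⟨hg, by
            rw [mul_assoc, mul_assoc, hc', ← mul_assoc, ← mul_assoc, tt, one_mul]⟩
          have h5 : g = t⁻¹ * (t * g) := by group
          rw [h5]
          exact mul_mem (Subgroup.mem_sup_right (inv_mem (Subgroup.mem_zpowers t))) (Subgroup.mem_sup_left h4)
      · refine le_inf ?_ inf_le_right
        refine inf_le_left.trans (sup_le ?_ ?_)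
        · exact fun g hg => Or.inl ((hU g).1 hg).1
        · rw [Subgroup.zpowers_le]
          exact t_mem_ext tt tF
    rw [h1]
    exact hodd

end Free

/-- **Layers kill `t`.** -/
theorem exists_hom [Finite G] {t : G} {m : ℕ} {X Q W T : ℕ → Subgroup G} (h : Layers t m X Q W T) (t1 : t ≠ 1)
    (hodd : Odd ((pr Q m ⊔ Subgroup.zpowers t).relIndex (Subgroup.centralizer ({t} : Set G)))) :
    ∃ μ : G →* ℤˣ, μ t = -1 :=
  exists_hom_of_free h.tt (fun _ hw => h.tpr le_rfl hw) (h.not_mem t1) (fun _ => h.mem_iff)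
    (fun _ hw => h.exists_conj hw) hodd

end Cfsg.Agent.OddHalf.D7.Uni.Lay
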