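import Cfsg.Agent.OddHalf.D7.Uni.FaceR
import Cfsg.Agent.OddHalf.D7.Uni.FrameLayers
import Cfsg.Agent.OddHalf.D7.Uni.Lay
import Cfsg.Agent.KFacts.Unit.FlagMap

/-!
# ODD D7, `K = PSU_n(q)`, `q` even: the layers of a Witt frame

`frame`: `FaceR.RF` (the doubled groups `R u`, `u` isotropic) and a Witt frame `Fr` give `FrameLayers.Frame`. `layers`: `Chain.Layers`. `commL`: the elements of the layer `T_j` commute with `SU(⟨e i, f i⟩)`, `i < j`.
-/

set_option autoImplicit false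

namespace Cfsg.Agent.OddHalf.D7.Uni.FaceFrame

open Cfsg Cfsg.Agent.LieClassical.HermBasic Cfsg.Agent.LieClassical.HermSiegel
  Cfsg.Agent.LieClassical.HermGen Cfsg.Agent.LieClassical.SUBasic
  Cfsg.Agent.ClassicalGeometry.PSUAutBasic Cfsg.Agent.ClassicalGeometry.PSUAutSylow
  Cfsg.Agent.ClassicalGeometry.PSUAutUnip Cfsg.Agent.ClassicalGeometry.PSUAutPhi
  Cfsg.Agent.KFacts.Unit Cfsg.Agent.KFacts.Unit.Flag Cfsg.Agent.KFacts.Unit.FlagMap
  Cfsg.Agent.OddHalf.D7.Uni.Face Cfsg.Agent.OddHalf.D7.Uni.Norm Cfsg.Agent.OddHalf.D7.Uni.Layers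
  Cfsg.Agent.OddHalf.D7.Uni.FrameLayers Cfsg.Agent.OddHalf.D7.Uni.FaceR

variable {F : Type*} [Field F] [Fintype F] {q n : ℕ} {G : Type*} [Group G]

/-! ### Subgroups of `Q` which are reached by `[·, t]` -/

/-- The elements of `R` of the form `[r, t]` modulo `W` with `r ∈ R'`. -/
def reach {t : G} {X W Q R : Subgroup G} (P : Pt t X W Q R) {R' : Subgroup G} (hR' : R' ≤ R) : Subgroup G where
  carrier := {c | c ∈ R ∧ ∃ r ∈ R', ∃ w ∈ W, t * r * t = r * (c * w)}
  one_mem' := ⟨one_mem _, 1, one_mem _, 1, one_mem _, by rw [mul_one, P.tt]; simp⟩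
  mul_mem' := by
    rintro a b ⟨haR, r, hr, w, hw, h1⟩ ⟨hbR, s, hs, v, hv, h2⟩
    refine ⟨mul_mem haR hbR, r * s, mul_mem hr hs, (b⁻¹ * (a⁻¹ * s⁻¹ * a * s) * b) * w * v, ?_, ?_⟩
    · have h3 : a⁻¹ * s⁻¹ * a * s ∈ W := by
        have := P.com a⁻¹ (inv_mem haR) s⁻¹ (inv_mem (hR' hs))
        simpa using this
      have h4 : b⁻¹ * (a⁻¹ * s⁻¹ * a * s) * b = a⁻¹ * s⁻¹ * a * s := by
        rw [mul_assoc, P.Wc _ h3 b hbR, inv_mul_cancel_left]
      rw [h4]
      exact mul_mem (mul_mem h3 hw) hv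
    · have hws : w * s = s * w := P.Wc w hw s (hR' hs)
      have hwb : w * b = b * w := P.Wc w hw b hbR
      calc t * (r * s) * t = (t * r * t) * (t * s * t) := P.t_mul r s
        _ = r * (a * w) * (s * (b * v)) := by rw [h1, h2]
        _ = r * a * (w * s) * b * v := by group
        _ = r * a * (s * w) * b * v := by rw [hws]
        _ = r * a * s * (w * b) * v := by group
        _ = r * a * s * (b * w) * v := by rw [hwb]
        _ = r * s * (a * b * (b⁻¹ * (a⁻¹ * s⁻¹ * a * s) * b * w * v)) := by group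
  inv_mem' := by
    rintro a ⟨haR, r, hr, w, hw, h1⟩
    have h3 : a * r * a⁻¹ * r⁻¹ ∈ W := P.com a haR r (hR' hr)
    refine ⟨inv_mem haR, r⁻¹, inv_mem hr, (a * r * a⁻¹ * r⁻¹) * w⁻¹, mul_mem h3 (inv_mem hw), ?_⟩
    have hw1 : w⁻¹ * (a⁻¹ * r⁻¹) = a⁻¹ * r⁻¹ * w⁻¹ :=
      P.Wc _ (inv_mem hw) _ (mul_mem (inv_mem haR) (inv_mem (hR' hr)))
    calc t * r⁻¹ * t = (r * (a * w))⁻¹ := by rw [P.t_inv, h1]
      _ = w⁻¹ * (a⁻¹ * r⁻¹) := by group
      _ = a⁻¹ * r⁻¹ * w⁻¹ := hw1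
      _ = r⁻¹ * (a⁻¹ * (a * r * a⁻¹ * r⁻¹ * w⁻¹)) := by group

theorem mem_reach {t : G} {X W Q R : Subgroup G} (P : Pt t X W Q R) {R' : Subgroup G} (hR' : R' ≤ R) {c : G} :
    c ∈ reach P hR' ↔ c ∈ R ∧ ∃ r ∈ R', ∃ w ∈ W, t * r * t = r * (c * w) := Iff.rfl

/-! ### The geometry of the frame -/

section geometry

variable {m : ℕ} {e f : ℕ → Fin n → F} {ρ : ℕ → SU n F q}

omit [Fintype F] in
/-- an element of `QA (e j)` commuting with `ρ i` fixes `e i`, `f i` -/
theorem fix_of_comm (h : Fr q m e f) (R : Rho q m e f ρ) {i j : ℕ} (hi : i < m) (hj : j < m) (hij : i ≠ j)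
    {g : SU n F q} (h1 : g ∈ QA q (e j)) (h2 : ρ i * g = g * ρ i) : act g (e i) = e i ∧ act g (f i) = f i := by
  obtain ⟨c, hc⟩ := h1.2 (e i) (h.ee i hi j hj)
  obtain ⟨d, hd⟩ := h1.2 (f i) (by rw [h.fe i hi j hj, if_neg hij])
  have hge : act g (e i) = e i + c • e j := by rw [← hc]; abel
  have hgf : act g (f i) = f i + d • e j := by rw [← hd]; abel
  have hρj := (R.fix_e h (i := i) (j := j) hi hj hij).1
  have e1 : act (ρ i) (act g (f i)) = act g (act (ρ i) (f i)) := by rw [← act_mul, ← act_mul, h2]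
  rw [R.rf i hi, hge, hgf, act_add, R.rf i hi, act_smul, hρj, add_right_inj] at e1
  have e2 : act (ρ i) (act g (e i)) = act g (act (ρ i) (e i)) := by rw [← act_mul, ← act_mul, h2]
  rw [R.re i hi, hge, act_add, R.re i hi, act_add, hge, hgf, act_smul, hρj] at e2
  have e3 : d • e j = 0 := by
    have e4 : e i + f i + c • e j = e i + f i + c • e j + d • e j := e2.trans (by abel)
    rw [left_eq_add] at e4
    exact e4
  rw [hge, hgf, ← e1, e3, add_zero, add_zero]
  exact ⟨rfl, rfl⟩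

theorem Sg_mul (hF : Fintype.card F = q ^ 2) {v a b : Fin n → F} {μ μ' : F} (h : IsSiegel q v a μ)
    (h' : IsSiegel q v b μ') : Sg hF v a μ * Sg hF v b μ' = Sg hF v (a + b) (μ + μ' - hermForm n F q b a) := by
  rw [Sg_eq hF h, Sg_eq hF h', Sg_eq hF (h.mul hF h'), siegel_mul]

/-- `w` is reached by `S` -/
def Pr (hF : Fintype.card F = q ^ 2) (S : Subgroup (SU n F q)) (v w : Fin n → F) : Prop :=
  ∃ μ, IsSiegel q v w μ ∧ Sg hF v w μ ∈ S

theorem Pr.add {hF : Fintype.card F = q ^ 2} {S : Subgroup (SU n F q)} {v a b : Fin n → F}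
    (ha : Pr hF S v a) (hb : Pr hF S v b) : Pr hF S v (a + b) := by
  obtain ⟨μ, h1, h2⟩ := ha
  obtain ⟨μ', h1', h2'⟩ := hb
  exact ⟨_, h1.mul hF h1', by rw [← Sg_mul hF h1 h1']; exact mul_mem h2 h2'⟩

theorem Pr.mem {hF : Fintype.card F = q ^ 2} {S : Subgroup (SU n F q)} {v w : Fin n → F} (h : Pr hF S v w)
    (hX : ∀ μ, IsSiegel q v 0 μ → Sg hF v 0 μ ∈ S) {μ : F} (hs : IsSiegel q v w μ) : Sg hF v w μ ∈ S := by
  obtain ⟨ν, h1, h2⟩ := h
  have h3 : IsSiegel q v 0 (μ - ν) := ⟨h1.iso, herm_zero_left v, by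
    rw [herm_zero_left, sub_pow_q hF]
    linear_combination hs.tr - h1.tr⟩
  have h4 := mul_mem h2 (hX _ h3)
  rw [Sg_mul hF h1 h3, herm_zero_left] at h4
  have e1 : w + 0 = w := add_zero w
  have e2 : ν + (μ - ν) - 0 = μ := by ring
  rwa [e1, e2] at h4

/-- **Generation** of the part of `Q_{e j}` fixing `e i`, `f i`. -/
theorem gen_mem (hF : Fintype.card F = q ^ 2) (h : Fr q m e f) (hm : 3 ≤ m) {i j : ℕ} (hi : i < m) (hj : j < m)
    {S : Subgroup (SU n F q)} (hX : ∀ μ, IsSiegel q (e j) 0 μ → Sg hF (e j) 0 μ ∈ S)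
    (hx : ∀ x, hermForm n F q x x = 0 → hermForm n F q x (e j) = 0 → hermForm n F q x (e i) = 0 →
      hermForm n F q x (f i) = 0 → (∀ c : F, x ≠ c • e j) → Sg hF (e j) x 0 ∈ S)
    {w : Fin n → F} {μ : F} (hs : IsSiegel q (e j) w μ) (hwe : hermForm n F q w (e i) = 0)
    (hwf : hermForm n F q w (f i) = 0) : Sg hF (e j) w μ ∈ S := by
  obtain ⟨k, hk, hki, hkj⟩ : ∃ k, k < m ∧ k ≠ i ∧ k ≠ j := by
    by_contra hcon
    push Not at hcon
    have h0 := hcon 0 (by omega)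
    have h1 := hcon 1 (by omega)
    have h2 := hcon 2 (by omega)
    omega
  have hs0 : ∀ x, hermForm n F q x x = 0 → hermForm n F q x (e j) = 0 → IsSiegel q (e j) x 0 := fun x h1 h2 =>
    ⟨hs.iso, h2, by rw [zero_pow_q hF, h1]; ring⟩
  have hg : ∀ x, hermForm n F q x x = 0 → hermForm n F q x (e j) = 0 → hermForm n F q x (e i) = 0 →
      hermForm n F q x (f i) = 0 → (∀ c : F, x ≠ c • e j) → Pr hF S (e j) x := fun x h1 h2 h3 h4 h5 =>
    ⟨0, hs0 x h1 h2, hx x h1 h2 h3 h4 h5⟩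
  have hkk := h.ee k hk k hk
  have hkk' := h.ff k hk k hk
  have hef : hermForm n F q (e k) (f k) = 1 := by rw [h.ef k hk k hk, if_pos rfl]
  have hfe : hermForm n F q (f k) (e k) = 1 := by rw [h.fe k hk k hk, if_pos rfl]
  have hjk : hermForm n F q (e j) (e k) = 0 := h.ee j hj k hk
  have hjk' : hermForm n F q (e j) (f k) = 0 := by rw [h.ef j hj k hk, if_neg (Ne.symm hkj)]
  have h0 : Pr hF S (e j) 0 := ⟨0, IsSiegel.zero hF hs.iso, hX 0 (IsSiegel.zero hF hs.iso)⟩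
  -- multiples of `e k` and `f k`
  have he : ∀ c : F, Pr hF S (e j) (c • e k) := by
    intro c
    rcases eq_or_ne c 0 with rfl | hc
    · rwa [zero_smul]
    · refine hg _ ?_ ?_ ?_ ?_ fun b hb => ?_
      · rw [herm_smul_left, herm_smul_right, hkk]; ring
      · rw [herm_smul_left, h.ee k hk j hj, mul_zero]
      · rw [herm_smul_left, h.ee k hk i hi, mul_zero]
      · rw [herm_smul_left, h.ef k hk i hi, if_neg hki, mul_zero]
      · have h1 : hermForm n F q (c • e k) (f k) = hermForm n F q (b • e j) (f k) := by rw [hb]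
        rw [herm_smul_left, herm_smul_left, hef, hjk', mul_one, mul_zero] at h1
        exact hc h1
  have hf : ∀ c : F, Pr hF S (e j) (c • f k) := by
    intro c
    rcases eq_or_ne c 0 with rfl | hc
    · rwa [zero_smul]
    · refine hg _ ?_ ?_ ?_ ?_ fun b hb => ?_
      · rw [herm_smul_left, herm_smul_right, hkk']; ring
      · rw [herm_smul_left, h.fe k hk j hj, if_neg hkj, mul_zero]
      · rw [herm_smul_left, h.fe k hk i hi, if_neg hki, mul_zero]
      · rw [herm_smul_left, h.ff k hk i hi, mul_zero]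
      · have h1 : hermForm n F q (c • f k) (e k) = hermForm n F q (b • e j) (e k) := by rw [hb]
        rw [herm_smul_left, herm_smul_left, hfe, hjk, mul_one, mul_zero] at h1
        exact hc h1
  set α := hermForm n F q w (f k) with hα
  set β := hermForm n F q w (e k) with hβ
  set w' := w - α • e k - β • f k with hw'
  have hw'e : hermForm n F q w' (e k) = 0 := by
    rw [hw', herm_sub_left, herm_sub_left, herm_smul_left, herm_smul_left, hkk, hfe, hβ]; ring
  have hw'f : hermForm n F q w' (f k) = 0 := by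
    rw [hw', herm_sub_left, herm_sub_left, herm_smul_left, herm_smul_left, hkk', hef, hα]; ring
  have hw'j : hermForm n F q w' (e j) = 0 := by
    rw [hw', herm_sub_left, herm_sub_left, herm_smul_left, herm_smul_left, h.ee k hk j hj, h.fe k hk j hj, if_neg hkj,
      hs.orth]; ring
  have hw'i : hermForm n F q w' (e i) = 0 := by
    rw [hw', herm_sub_left, herm_sub_left, herm_smul_left, herm_smul_left, h.ee k hk i hi, h.fe k hk i hi, if_neg hki,
      hwe]; ring
  have hw'i' : hermForm n F q w' (f i) = 0 := by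
    rw [hw', herm_sub_left, herm_sub_left, herm_smul_left, herm_smul_left, h.ff k hk i hi, h.ef k hk i hi, if_neg hki,
      hwf]; ring
  obtain ⟨γ, hγ⟩ := exists_trace_eq hF (c := -hermForm n F q w' w') (by
    rw [neg_pow_q hF, herm_self_pow hF])
  have hew' : hermForm n F q (e k) w' = 0 := by rw [herm_swap hF w' (e k), hw'e, zero_pow_q hF]
  have hfw' : hermForm n F q (f k) w' = 0 := by rw [herm_swap hF w' (f k), hw'f, zero_pow_q hF]
  have hxx : Pr hF S (e j) (w' + γ • e k + f k) := by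
    refine hg _ ?_ ?_ ?_ ?_ fun b hb => ?_
    · rw [herm_add_left, herm_add_left, herm_add_right hF, herm_add_right hF, herm_add_right hF, herm_add_right hF,
        herm_add_right hF, herm_add_right hF, herm_smul_left, herm_smul_left, herm_smul_left, herm_smul_right,
        herm_smul_right, herm_smul_right, hkk, hkk', hef, hfe, hew', hfw', hw'e, hw'f]
      linear_combination hγ
    · rw [herm_add_left, herm_add_left, herm_smul_left, hw'j, h.ee k hk j hj, h.fe k hk j hj, if_neg hkj]; ring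
    · rw [herm_add_left, herm_add_left, herm_smul_left, hw'i, h.ee k hk i hi, h.fe k hk i hi, if_neg hki]; ring
    · rw [herm_add_left, herm_add_left, herm_smul_left, hw'i', h.ff k hk i hi, h.ef k hk i hi, if_neg hki]; ring
    · have h1 : hermForm n F q (w' + γ • e k + f k) (e k) = hermForm n F q (b • e j) (e k) := by rw [hb]
      rw [herm_add_left, herm_add_left, herm_smul_left, herm_smul_left, hw'e, hkk, hfe, hjk] at h1
      have h2 : (1 : F) = 0 := by linear_combination h1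
      exact one_ne_zero h2
  have hw : w = (((α • e k + β • f k) + (w' + γ • e k + f k)) + (-γ) • e k) + (-1 : F) • f k := by
    rw [hw', neg_smul, neg_smul, one_smul]
    abel
  refine Pr.mem ?_ hX hs
  rw [hw]
  exact (((((he α).add (hf β)).add hxx).add (he (-γ))).add (hf (-1)))

/-- The elements of `SU n F q` acting trivially on `⟨u, v⟩^⊥`. -/
def LL (q : ℕ) (u v : Fin n → F) : Subgroup (SU n F q) where
  carrier := {g | ∀ w, hermForm n F q w u = 0 → hermForm n F q w v = 0 → act g w = w}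
  one_mem' := fun w _ _ => act_one w
  mul_mem' := by
    intro a b ha hb w h1 h2
    rw [act_mul, hb w h1 h2, ha w h1 h2]
  inv_mem' := by
    intro a ha w h1 h2
    exact ((act_eq_iff a).1 (ha w h1 h2)).symm

omit [Fintype F] in
theorem mem_LL {u v : Fin n → F} {g : SU n F q} :
    g ∈ LL q u v ↔ ∀ w, hermForm n F q w u = 0 → hermForm n F q w v = 0 → act g w = w := Iff.rfl

omit [Fintype F] in
theorem Rho.mem_LL (R : Rho q m e f ρ) {i : ℕ} (hi : i < m) : ρ i ∈ LL q (e i) (f i) := R.rw i hi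

theorem plane (hF : Fintype.card F = q ^ 2) {u v : Fin n → F} (huu : hermForm n F q u u = 0)
    (hvv : hermForm n F q v v = 0) (huv : hermForm n F q u v = 1) (hvu : hermForm n F q v u = 1) {l : SU n F q}
    (hl : l ∈ LL q u v) : act l u = hermForm n F q (act l u) v • u + hermForm n F q (act l u) u • v := by
  rw [← sub_eq_zero]
  apply herm_nondeg hF
  intro x
  have h0 : ∀ a b, hermForm n F q a b = 0 → hermForm n F q b a = 0 := fun a b hab => by
    rw [herm_swap hF a b, hab, zero_pow_q hF]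
  set α := hermForm n F q (act l u) v with hα
  set β := hermForm n F q (act l u) u with hβ
  set y := act l u - (α • u + β • v) with hy
  have hyu : hermForm n F q y u = 0 := by
    rw [hy, herm_sub_left, herm_add_left, herm_smul_left, herm_smul_left, huu, hvu, ← hβ]; ring
  have hyv : hermForm n F q y v = 0 := by
    rw [hy, herm_sub_left, herm_add_left, herm_smul_left, herm_smul_left, hvv, huv, ← hα]; ring
  set x' := x - hermForm n F q x v • u - hermForm n F q x u • v with hx'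
  have hxu : hermForm n F q x' u = 0 := by
    rw [hx', herm_sub_left, herm_sub_left, herm_smul_left, herm_smul_left, huu, hvu]; ring
  have hxv : hermForm n F q x' v = 0 := by
    rw [hx', herm_sub_left, herm_sub_left, herm_smul_left, herm_smul_left, hvv, huv]; ring
  have hyx' : hermForm n F q y x' = 0 := by
    have h1 : hermForm n F q (act l u) x' = 0 := by
      have h2 : act l x' = x' := hl x' hxu hxv
      rw [← h2, herm_act]
      exact h0 _ _ hxu
    rw [hy, herm_sub_left, herm_add_left, herm_smul_left, herm_smul_left, h1, h0 _ _ hxu, h0 _ _ hxv]; ring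
  have hx : x = x' + hermForm n F q x v • u + hermForm n F q x u • v := by rw [hx']; abel
  rw [hx, herm_add_right hF, herm_add_right hF, herm_smul_right, herm_smul_right, hyx', hyu, hyv]
  ring

omit [Fintype F] in
theorem LL_swap {u v : Fin n → F} {l : SU n F q} (hl : l ∈ LL q u v) : l ∈ LL q v u :=
  fun w h1 h2 => hl w h2 h1

/-- an element fixing `e i`, `f i` commutes with `LL (e i) (f i)` -/
theorem LL_comm (hF : Fintype.card F = q ^ 2) (h : Fr q m e f) {i : ℕ} (hi : i < m) {g l : SU n F q}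
    (h1 : act g (e i) = e i) (h2 : act g (f i) = f i) (hl : l ∈ LL q (e i) (f i)) : l * g = g * l := by
  have hef : hermForm n F q (e i) (f i) = 1 := by rw [h.ef i hi i hi, if_pos rfl]
  have hfe : hermForm n F q (f i) (e i) = 1 := by rw [h.fe i hi i hi, if_pos rfl]
  have hee := h.ee i hi i hi
  have hff := h.ff i hi i hi
  refine ext_pair hee hff hef hfe ?_ ?_ fun w hw hw' => ?_
  · rw [act_mul, act_mul, h1, plane hF hee hff hef hfe hl, act_add, act_smul, act_smul, h1, h2]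
  · rw [act_mul, act_mul, h2, plane hF hff hee hfe hef (LL_swap hl), act_add, act_smul, act_smul, h1, h2]
  · rw [act_mul, act_mul, hl w hw hw']
    apply hl
    · rw [← h1, herm_act, hw]
    · rw [← h2, herm_act, hw']

end geometry

/-! ### In `G` -/

section main

variable {hF : Fintype.card F = q ^ 2} {t : G} {j : PSU n F q →* G} {W R : (Fin n → F) → Subgroup G}

open Classical in
/-- `X_u` as a total function -/
noncomputable def Xd (hF : Fintype.card F = q ^ 2) (j : PSU n F q →* G) (u : Fin n → F) : Subgroup G :=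
  if h : hermForm n F q u u = 0 then (RR hF u h).map j else ⊥

theorem Xd_eq {u : Fin n → F} (hu : hermForm n F q u u = 0) : Xd hF j u = (RR hF u hu).map j := dif_pos hu

theorem Q_eq {m : ℕ} {e f : ℕ → Fin n → F} (h : Fr q m e f) {i : ℕ} (hi : i < m) :
    (QQ hF (e i) (h.ee i hi i hi)).map j = Qg (fj n F q j) e i := by
  rw [Qg, QA_eq hF (h.ee i hi i hi) (h.ff i hi i hi) (by rw [h.ef i hi i hi, if_pos rfl]), QQ, Subgroup.map_map]
  rfl

section frame

variable {m : ℕ} {e f : ℕ → Fin n → F} {ρ : ℕ → SU n F q}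

/-- normaliser from one-sided conjugation -/
theorem mem_norm {H K : Subgroup G} (h : ∀ w ∈ H, ∀ r ∈ K, w * r * w⁻¹ ∈ K) : H ≤ Subgroup.normalizer (K : Set G) := by
  intro w hw
  rw [Subgroup.mem_normalizer_iff]
  intro r
  refine ⟨h w hw r, fun h1 => ?_⟩
  have h2 := h w⁻¹ (inv_mem hw) _ h1
  have e1 : w⁻¹ * (w * r * w⁻¹) * w⁻¹⁻¹ = r := by group
  rwa [e1] at h2

/-- `Q'` = the part of `Q_{e k}` fixing `e i`, `f i`. -/
def Qp (q : ℕ) (j : PSU n F q →* G) (e f : ℕ → Fin n → F) (i k : ℕ) : Subgroup G :=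
  (QA q (e k) ⊓ (stb q (e i) ⊓ stb q (f i))).map (fj n F q j)

omit [Fintype F] in
theorem mem_Qp {i k : ℕ} {x : G} : x ∈ Qp q j e f i k ↔
    ∃ g : SU n F q, (g ∈ QA q (e k) ∧ act g (e i) = e i ∧ act g (f i) = f i) ∧ fj n F q j g = x := Iff.rfl

/-- The subgroup `C` contains `W u` for `u ⟂ e i, f i` and the images of the elements fixing `e i`, `f i`. -/
structure Per (q : ℕ) (j : PSU n F q →* G) (W : (Fin n → F) → Subgroup G) (u v : Fin n → F) (C : Subgroup G) : Prop where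
  W_le : ∀ {x : Fin n → F}, x ≠ 0 → hermForm n F q x x = 0 → hermForm n F q x u = 0 → hermForm n F q x v = 0 →
    W x ≤ C
  fix : ∀ {g : SU n F q}, act g u = u → act g v = v → fj n F q j g ∈ C

omit [Fintype F] in
theorem Per.inf {u v : Fin n → F} {C C' : Subgroup G} (h : Per q j W u v C) (h' : Per q j W u v C') :
    Per q j W u v (C ⊓ C') :=
  ⟨fun h1 h2 h3 h4 => le_inf (h.W_le h1 h2 h3 h4) (h'.W_le h1 h2 h3 h4), fun h1 h2 => ⟨h.fix h1 h2, h'.fix h1 h2⟩⟩

/-- the normaliser of `R (e i)` -/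
theorem per_norm (D : RF hF t j W R) (h : Fr q m e f) {i : ℕ} (hi : i < m) :
    Per q j W (e i) (f i) (Subgroup.normalizer (R (e i) : Set G)) where
  W_le := fun h1 h2 h3 _ => mem_norm (D.norm' h1 h2 (h.ne_zero hi) (h.ee i hi i hi) h3)
  fix := fun {g} h1 h2 => by
    refine mem_norm (H := ((stb q (e i)).map (fj n F q j))) ?_ ⟨g, h1, rfl⟩
    rintro _ ⟨a, ha, rfl⟩ r hr
    have h1 := D.conjR (h.ne_zero hi) (h.ee i hi i hi) a r hr
    rwa [show act a (e i) = e i from ha] at h1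

/-- the centraliser of `SU(⟨e i, f i⟩)` -/
theorem per_cent (D : RF hF t j W R) (h : Fr q m e f) {i : ℕ} (hi : i < m) :
    Per q j W (e i) (f i) (Subgroup.centralizer (((LL q (e i) (f i)).map (fj n F q j) : Subgroup G) : Set G)) where
  W_le := by
    rintro x h1 h2 h3 h4 w hw _ ⟨l, hl, rfl⟩
    exact (D.cent h1 h2 w hw l (hl x h3 h4)).symm
  fix := by
    rintro g h1 h2 _ ⟨l, hl, rfl⟩
    rw [← map_mul, LL_comm hF h hi h1 h2 hl, map_mul]

theorem per_rho (D : RF hF t j W R) (h : Fr q m e f) (Rh : Rho q m e f ρ) {i : ℕ} (hi : i < m) :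
    Per q j W (e i) (f i) (Subgroup.centralizer {fj n F q j (ρ i)}) where
  W_le := fun h1 h2 h3 h4 w hw => Subgroup.mem_centralizer_singleton_iff.2 (D.cent h1 h2 w hw _ (Rh.rw i hi _ h3 h4))
  fix := fun h1 h2 => by
    rw [Subgroup.mem_centralizer_singleton_iff, ← map_mul, ← LL_comm hF h hi h1 h2 (Rho.mem_LL Rh hi), map_mul]

/-- the centraliser of `W (e i)` -/
theorem per_W (D : RF hF t j W R) (h : Fr q m e f) {i : ℕ} (hi : i < m)
    (hW : ∀ x, x ≠ 0 → hermForm n F q x x = 0 → hermForm n F q x (e i) = 0 → ∀ w ∈ W (e i), ∀ v ∈ W x, w * v = v * w) :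
    Per q j W (e i) (f i) (Subgroup.centralizer (W (e i) : Set G)) where
  W_le := fun h1 h2 h3 _ v hv w hw => hW _ h1 h2 h3 w hw v hv
  fix := fun h1 _ w hw => D.cent (h.ne_zero hi) (h.ee i hi i hi) w hw _ h1

/-- **`Cen`** -/
theorem cen (D : RF hF t j W R) [CharP F 2] (hn : 3 ≤ n) (h : Fr q m e f) (Rh : Rho q m e f ρ) (hm : 3 ≤ m) {i k : ℕ}
    (hi : i < m) (hk : k < m) (hik : i ≠ k) {C : Subgroup G} (hC : Per q j W (e i) (f i) C)
    (hCρ : C ≤ Subgroup.centralizer {fj n F q j (ρ i)}) :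
    Cen t (W (e k)) (Qg (fj n F q j) e k) (R (e k)) (Qp q j e f i k) (R (e k) ⊓ C) (fj n F q j (ρ i)) := by
  have hek0 := h.ne_zero hk
  have hek := h.ee k hk k hk
  have heki := h.ee k hk i hi
  have hekf : hermForm n F q (e k) (f i) = 0 := by rw [h.ef k hk i hi, if_neg (Ne.symm hik)]
  have P := D.pt hek0 hek
  have hWR : W (e k) ≤ R (e k) ⊓ C := le_inf P.WR (hC.W_le hek0 hek heki hekf)
  have hQR : Qp q j e f i k ≤ R (e k) ⊓ C := by
    rintro _ ⟨g, ⟨hg1, hg2, hg3⟩, rfl⟩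
    refine ⟨P.QR ?_, hC.fix hg2 hg3⟩
    rw [Q_eq h hk]
    exact ⟨g, hg1, rfl⟩
  refine ⟨(D.tj _).symm, fun w hw => ?_, fun r hr => ?_, fun r hr => hr.1, hQR, hWR, ?_, ?_⟩
  · exact (Subgroup.mem_centralizer_singleton_iff.1 (hCρ (hWR hw).2)).symm
  · exact (Subgroup.mem_centralizer_singleton_iff.1 (hCρ hr.2)).symm
  · -- onto
    have hle : R (e k) ⊓ C ≤ R (e k) := inf_le_left
    set S : Subgroup (SU n F q) := (reach P hle).comap (fj n F q j) with hS
    have hmem : ∀ g : SU n F q, g ∈ S ↔ fj n F q j g ∈ R (e k) ∧ ∃ r ∈ R (e k) ⊓ C, ∃ w ∈ W (e k),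
        t * r * t = r * (fj n F q j g * w) := fun g => Iff.rfl
    have hX : ∀ μ, IsSiegel q (e k) 0 μ → Sg hF (e k) 0 μ ∈ S := by
      intro μ hμ
      have hx : fj n F q j (Sg hF (e k) 0 μ) ∈ (RR hF (e k) hek).map j := by
        refine ⟨_, mem_RR.2 ⟨μ, ?_, rfl⟩, ?_⟩
        · have := hμ.tr
          rwa [herm_zero_left, add_zero] at this
        · rw [fj_apply, Sg_eq hF hμ]; rfl
      obtain ⟨x, hx1, hx2⟩ := hx
      obtain ⟨w, hw, hwt⟩ := D.surj hek0 hek x hx1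
      rw [hmem, ← hx2]
      exact ⟨P.WR (D.X_le hek0 hek ⟨x, hx1, rfl⟩), w, hWR hw, 1, one_mem _, by rw [mul_one]; exact hwt⟩
    have hx : ∀ x, hermForm n F q x x = 0 → hermForm n F q x (e k) = 0 → hermForm n F q x (e i) = 0 →
      hermForm n F q x (f i) = 0 → (∀ c : F, x ≠ c • e k) → Sg hF (e k) x 0 ∈ S := by
      intro x hxx hxk hxi hxf hxc
      obtain ⟨r, hr, hrc, w, hw, hrt⟩ := D.lift hek0 hek hxx hxk hxc
      rw [hmem]
      have hkx : hermForm n F q (e k) x = 0 := by rw [herm_swap hF x (e k), hxk, zero_pow_q hF]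
      have hsg : IsSiegel q (e k) x 0 := ⟨hek, hxk, by rw [zero_pow_q hF, hxx]; ring⟩
      refine ⟨P.QR ?_, r, ⟨hr, ?_⟩, w, hw, hrt⟩
      · rw [fj_apply, Sg_eq hF hsg]
        exact ⟨_, mem_QQ.2 ⟨x, 0, hsg, rfl⟩, rfl⟩
      · have h1 : Subgroup.closure {w | ∃ a b : F, a • e k + b • x ≠ 0 ∧ w ∈ W (a • e k + b • x)} ≤ C := by
          rw [Subgroup.closure_le]
          rintro w ⟨a, b, hne, hw⟩
          refine hC.W_le hne ?_ ?_ ?_ hw
          · simp only [herm_add_left, herm_smul_left, herm_add_right hF, herm_smul_right, hek, hkx, hxk, hxx]; ring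
          · rw [herm_add_left, herm_smul_left, herm_smul_left, heki, hxi]; ring
          · rw [herm_add_left, herm_smul_left, herm_smul_left, hekf, hxf]; ring
        exact h1 hrc
    rintro _ ⟨g, ⟨hg1, hg2, hg3⟩, rfl⟩
    rw [QA_eq hF hek (h.ff k hk k hk) (by rw [h.ef k hk k hk, if_pos rfl])] at hg1
    obtain ⟨w, μ, hs, rfl⟩ := hg1
    have hsw : ∀ u u', hermForm n F q u u' = 0 → hermForm n F q u' u = 0 := fun u u' hu => by
      rw [herm_swap hF u u', hu, zero_pow_q hF]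
    change act _ _ = _ at hg2 hg3
    have h1 : Sg hF (e k) w μ ∈ S := by
      refine gen_mem hF h hm hi hk hX hx hs (hsw _ _ ?_) (hsw _ _ ?_)
      · rw [act_siegel, h.ee i hi k hk, zero_smul, add_zero, mul_zero, zero_sub, add_eq_left] at hg2
        exact neg_eq_zero.1 ((smul_eq_zero.1 hg2).resolve_right hek0)
      · rw [act_siegel, h.fe i hi k hk, if_neg hik, zero_smul, add_zero, mul_zero, zero_sub, add_eq_left] at hg3
        exact neg_eq_zero.1 ((smul_eq_zero.1 hg3).resolve_right hek0)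
    rw [hmem, Sg_eq hF hs] at h1
    exact h1.2
  · -- fixQ
    rintro _ ⟨g, hg, rfl⟩ hρ
    have hc : ρ i * g = g * ρ i := by
      have h0 := (Rh.fix_e h hi hk hik).1
      refine D.toDbl.toSit.eq_of hF hn hek0 ?_ ?_
      · rw [act_mul, act_mul, hg.1, h0, hg.1]
      · rw [map_mul, map_mul]; exact hρ
    exact ⟨g, ⟨hg, fix_of_comm h Rh hi hk hik hg hc⟩, rfl⟩

/-- **`C_{R_{e k}}(ρ i) ≤ C`** for every `C` with `Per`. -/
theorem mem_of_comm (D : RF hF t j W R) [CharP F 2] (hn : 3 ≤ n) (h : Fr q m e f) (Rh : Rho q m e f ρ) (hm : 3 ≤ m)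
    {i k : ℕ} (hi : i < m) (hk : k < m) (hik : i ≠ k) {C : Subgroup G} (hC : Per q j W (e i) (f i) C) {b : G}
    (hb : b ∈ R (e k)) (hρ : fj n F q j (ρ i) * b = b * fj n F q j (ρ i)) : b ∈ C := by
  have P := D.pt (h.ne_zero hk) (h.ee k hk k hk)
  rw [Q_eq h hk] at P
  exact ((cen D hn h Rh hm hi hk hik (hC.inf (per_rho D h Rh hi)) inf_le_right).mem P hb hρ).2.1

/-- **The frame.** -/
theorem frame (D : RF hF t j W R) [CharP F 2] (hn : 3 ≤ n) (h : Fr q m e f) (Rh : Rho q m e f ρ) (hm : 3 ≤ m) :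
    Frame t m (fun i => Xd hF j (e i)) (fun i => W (e i)) (Qg (fj n F q j) e) (fun i => R (e i))
      (rg (fj n F q j) ρ) where
  tt := D.tt
  pt i hi := by
    have P := D.pt (h.ne_zero hi) (h.ee i hi i hi)
    rw [Q_eq h hi, ← Xd_eq] at P
    exact P
  XQ i hi := by
    rw [Xd_eq (h.ee i hi i hi), ← Q_eq (hF := hF) (j := j) h hi]
    exact Subgroup.map_mono (RR_le_QQ hF _)
  XW i hi := by
    rw [Xd_eq (h.ee i hi i hi)]
    exact D.X_le (h.ne_zero hi) _
  Wsq i hi := D.Wsq (h.ne_zero hi) (h.ee i hi i hi)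
  Wbrk i hi w hw := by
    obtain ⟨x, hx, e1⟩ := D.brk (h.ne_zero hi) (h.ee i hi i hi) w hw
    rw [Xd_eq (h.ee i hi i hi), e1, inv_mul_cancel_left]
    exact ⟨x, hx, rfl⟩
  Wonto i hi x hx := by
    change _ ∈ Xd hF j (e i) at hx
    rw [Xd_eq (h.ee i hi i hi)] at hx
    obtain ⟨y, hy, rfl⟩ := hx
    obtain ⟨w, hw, e1⟩ := D.surj (h.ne_zero hi) (h.ee i hi i hi) y hy
    exact ⟨w, hw, by rw [e1, inv_mul_cancel_left]⟩
  rot i k hik hk := by
    have h0 := (Rh.fix_e h (i := i) (j := k) (by omega) hk (by omega)).1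
    refine ⟨(D.tj _).symm, ?_, fun w hw => (D.cent (h.ne_zero hk) (h.ee k hk k hk) w hw _ h0).symm, fun r hr => ?_⟩
    · change fj n F q j _ * fj n F q j _ * fj n F q j _ = 1
      rw [← map_mul, ← map_mul, Rh.cube h (by omega), map_one]
    · have h1 := D.conjR (h.ne_zero hk) (h.ee k hk k hk) (ρ i) r hr
      rwa [h0] at h1
  ρρ i k hi hk := by
    change fj n F q j _ * fj n F q j _ = fj n F q j _ * fj n F q j _
    rw [← map_mul, Rh.comm h hi hk, map_mul]
  nR i k hik hk b hb hρ x hx := by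
    have h1 := mem_of_comm D hn h Rh hm (i := i) (k := k) (by omega) hk (by omega) (per_norm D h (by omega)) hb hρ
    exact (Subgroup.mem_normalizer_iff.1 h1 x).1 hx

/-- the kernel of `f = j ∘ pr` is central -/
theorem ker_le (D : RF hF t j W R) : (fj n F q j).ker ≤ Subgroup.center (SU n F q) := by
  intro g hg
  have h1 : pr n F q g = 1 := D.inj (by rw [map_one]; exact hg)
  exact pr_eq_one_iff.1 h1

/-- **The layers.** -/
theorem layers (D : RF hF t j W R) [CharP F 2] (hn : 3 ≤ n) (h : Fr q m e f) (Rh : Rho q m e f ρ) (hm : 3 ≤ m) :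
    Chain.Layers t m (fun i => Xd hF j (e i)) (Frame.Qj (Qg (fj n F q j) e) (rg (fj n F q j) ρ)) (fun i => W (e i))
      (Frame.Tj (fun i => R (e i)) (rg (fj n F q j) ρ)) :=
  (frame D hn h Rh hm).layers (dir_map hF hn h Rh (fj n F q j) (ker_le D))

/-- the layer `T_k` is the centraliser in `R_{e k}` of the groups `SU(⟨e i, f i⟩)`, `i < k` -/
theorem mem_Tj_iff (D : RF hF t j W R) [CharP F 2] (hn : 3 ≤ n) (h : Fr q m e f) (Rh : Rho q m e f ρ) (hm : 3 ≤ m)
    {k : ℕ} (hk : k < m) {x : G} : x ∈ Frame.Tj (fun i => R (e i)) (rg (fj n F q j) ρ) k ↔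
      x ∈ R (e k) ∧ ∀ i < k, ∀ l ∈ LL q (e i) (f i), fj n F q j l * x = x * fj n F q j l := by
  rw [Frame.mem_Tj]
  refine and_congr_right fun hx => ⟨fun h1 i hi => ?_, fun h1 i hi => h1 i hi _ (Rho.mem_LL Rh (by omega))⟩
  have h2 := mem_of_comm D hn h Rh hm (i := i) (k := k) (by omega) hk (by omega) (per_cent D h (by omega)) hx (h1 i hi)
  exact fun l hl => h2 _ ⟨l, hl, rfl⟩

/-- elements of `X_u` -/
theorem mem_Xd {u : Fin n → F} (hu : hermForm n F q u u = 0) {x : G} :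
    x ∈ Xd hF j u ↔ ∃ (μ : F) (hμ : μ + μ ^ q = 0), x = fj n F q j (transv hF u hu μ hμ) := by
  rw [Xd_eq hu]
  constructor
  · rintro ⟨y, hy, rfl⟩
    obtain ⟨μ, hμ, rfl⟩ := mem_RR.1 hy
    exact ⟨μ, hμ, rfl⟩
  · rintro ⟨μ, hμ, rfl⟩
    exact ⟨_, mem_RR.2 ⟨μ, hμ, rfl⟩, rfl⟩

/-- `ρ i` is the product of two transvections -/
theorem rho_eq [CharP F 2] (h : Fr q m e f) (Rh : Rho q m e f ρ) {i : ℕ} (hi : i < m) (h1 : (1 : F) + 1 ^ q = 0) :
    transv hF (f i) (h.ff i hi i hi) 1 h1 * transv hF (e i) (h.ee i hi i hi) 1 h1 = ρ i := by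
  have hef : hermForm n F q (e i) (f i) = 1 := by rw [h.ef i hi i hi, if_pos rfl]
  have hfe : hermForm n F q (f i) (e i) = 1 := by rw [h.fe i hi i hi, if_pos rfl]
  have hee := h.ee i hi i hi
  have hff := h.ff i hi i hi
  refine Rh.unique h hi ?_ ?_ fun w hwe hwf => ?_
  · rw [act_mul, act_transv hF hee, hee, mul_zero, zero_smul, add_zero, act_transv hF hff, hef, one_mul, one_smul]
  · rw [act_mul, act_transv hF hee, hfe, one_mul, one_smul, act_transv hF hff, herm_add_left, hff, hef, zero_add,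
      one_mul, one_smul]
    have h2 : f i + f i = 0 := by
      funext k
      exact CharTwo.add_self_eq_zero _
    calc f i + e i + f i = e i + (f i + f i) := by abel
      _ = e i := by rw [h2, add_zero]
  · rw [act_mul, act_transv hF hee, hwe, mul_zero, zero_smul, add_zero, act_transv hF hff, hwf, mul_zero, zero_smul,
      add_zero]

/-- **The layer `T_k` is the centraliser in `R_{e k}` of the groups `X_{e i}`, `X_{f i}`, `i < k`.** -/
theorem mem_Tj_iff_X (D : RF hF t j W R) [CharP F 2] (hn : 3 ≤ n) (h : Fr q m e f) (Rh : Rho q m e f ρ) (hm : 3 ≤ m)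
    {k : ℕ} (hk : k < m) {x : G} : x ∈ Frame.Tj (fun i => R (e i)) (rg (fj n F q j) ρ) k ↔
      x ∈ R (e k) ∧ ∀ i < k, (∀ y ∈ Xd hF j (e i), y * x = x * y) ∧ ∀ y ∈ Xd hF j (f i), y * x = x * y := by
  constructor
  · rw [mem_Tj_iff D hn h Rh hm hk]
    rintro ⟨hx, h1⟩
    refine ⟨hx, fun i hi => ⟨fun y hy => ?_, fun y hy => ?_⟩⟩
    · obtain ⟨μ, hμ, rfl⟩ := (mem_Xd (h.ee i (by omega) i (by omega))).1 hy
      refine h1 i hi _ fun w hwe hwf => ?_
      rw [act_transv, hwe, mul_zero, zero_smul, add_zero]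
    · obtain ⟨μ, hμ, rfl⟩ := (mem_Xd (h.ff i (by omega) i (by omega))).1 hy
      refine h1 i hi _ fun w hwe hwf => ?_
      rw [act_transv, hwf, mul_zero, zero_smul, add_zero]
  · rw [Frame.mem_Tj]
    rintro ⟨hx, h1⟩
    refine ⟨hx, fun i hi => ?_⟩
    have h2 : (1 : F) + 1 ^ q = 0 := by rw [one_pow]; exact CharTwo.add_self_eq_zero 1
    change fj n F q j (ρ i) * x = x * fj n F q j (ρ i)
    rw [← rho_eq (hF := hF) h Rh (i := i) (by omega) h2, map_mul]
    have c1 : Commute (fj n F q j (transv hF (f i) (h.ff i (by omega) i (by omega)) 1 h2)) x :=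
      (h1 i hi).2 _ ((mem_Xd (h.ff i (by omega) i (by omega))).2 ⟨1, h2, rfl⟩)
    have c2 : Commute (fj n F q j (transv hF (e i) (h.ee i (by omega) i (by omega)) 1 h2)) x :=
      (h1 i hi).1 _ ((mem_Xd (h.ee i (by omega) i (by omega))).2 ⟨1, h2, rfl⟩)
    exact (c1.mul_left c2).eq

/-- the earlier `W (e i)` centralise the later layers -/
theorem comm_W_Tj (D : RF hF t j W R) [CharP F 2] (hn : 3 ≤ n) (h : Fr q m e f) (Rh : Rho q m e f ρ) (hm : 3 ≤ m)
    {i k : ℕ} (hik : i < k) (hk : k < m)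
    (hW : ∀ x, x ≠ 0 → hermForm n F q x x = 0 → hermForm n F q x (e i) = 0 → ∀ w ∈ W (e i), ∀ v ∈ W x, w * v = v * w)
    {w x : G} (hw : w ∈ W (e i)) (hx : x ∈ Frame.Tj (fun i => R (e i)) (rg (fj n F q j) ρ) k) : w * x = x * w := by
  rw [Frame.mem_Tj] at hx
  exact mem_of_comm D hn h Rh hm (i := i) (k := k) (by omega) hk (by omega) (per_W D h (by omega) hW) hx.1
    (hx.2 i hik) w hw

/-- `U*` -/
def US (R : (Fin n → F) → Subgroup G) (j : PSU n F q →* G) (m : ℕ) (e : ℕ → Fin n → F) (ρ : ℕ → SU n F q) :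
    Subgroup G := Chain.pr (Frame.Tj (fun i => R (e i)) (rg (fj n F q j) ρ)) m

/-- **Every element of `G` which normalises the groups `R_{e k}`, `X_{e i}`, `X_{f i}` normalises the layers.** -/
theorem conj_Tj (D : RF hF t j W R) [CharP F 2] (hn : 3 ≤ n) (h : Fr q m e f) (Rh : Rho q m e f ρ) (hm : 3 ≤ m)
    {c : G} (hR : ∀ k < m, ∀ r ∈ R (e k), c * r * c⁻¹ ∈ R (e k))
    (hX : ∀ i < m, (∀ y ∈ Xd hF j (e i), c⁻¹ * y * c ∈ Xd hF j (e i)) ∧ ∀ y ∈ Xd hF j (f i), c⁻¹ * y * c ∈ Xd hF j (f i))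
    {k : ℕ} (hk : k < m) {x : G} (hx : x ∈ Frame.Tj (fun i => R (e i)) (rg (fj n F q j) ρ) k) :
    c * x * c⁻¹ ∈ Frame.Tj (fun i => R (e i)) (rg (fj n F q j) ρ) k := by
  rw [mem_Tj_iff_X D hn h Rh hm hk] at hx ⊢
  have key : ∀ y : G, (c⁻¹ * y * c) * x = x * (c⁻¹ * y * c) → y * (c * x * c⁻¹) = c * x * c⁻¹ * y := by
    intro y hy
    calc y * (c * x * c⁻¹) = c * ((c⁻¹ * y * c) * x) * c⁻¹ := by group
      _ = c * (x * (c⁻¹ * y * c)) * c⁻¹ := by rw [hy]
      _ = c * x * c⁻¹ * y := by group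
  refine ⟨hR k hk x hx.1, fun i hi => ⟨fun y hy => ?_, fun y hy => ?_⟩⟩
  · exact key y ((hx.2 i hi).1 _ ((hX i (by omega)).1 y hy))
  · exact key y ((hx.2 i hi).2 _ ((hX i (by omega)).2 y hy))

/-- **... and `U*`.** -/
theorem conj_US (D : RF hF t j W R) [CharP F 2] (hn : 3 ≤ n) (h : Fr q m e f) (Rh : Rho q m e f ρ) (hm : 3 ≤ m)
    {c : G} (hR : ∀ k < m, ∀ r ∈ R (e k), c * r * c⁻¹ ∈ R (e k))
    (hX : ∀ i < m, (∀ y ∈ Xd hF j (e i), c⁻¹ * y * c ∈ Xd hF j (e i)) ∧ ∀ y ∈ Xd hF j (f i), c⁻¹ * y * c ∈ Xd hF j (f i))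
    {x : G} (hx : x ∈ US R j m e ρ) : c * x * c⁻¹ ∈ US R j m e ρ :=
  Chain.conj_pr (fun _ hi _ hx => conj_Tj D hn h Rh hm hR hX hi hx) hx

/-- `U = C_{U*}(t)` -/
theorem mem_U_iff (D : RF hF t j W R) [CharP F 2] (hn : 3 ≤ n) (h : Fr q m e f) (Rh : Rho q m e f ρ) (hm : 3 ≤ m)
    {x : G} : x ∈ (Chain.pr (QS q e f) m).map (fj n F q j) ↔ x ∈ US R j m e ρ ∧ t * x * t = x := by
  rw [← pr_Qj_eq hF hn h Rh (fj n F q j) (ker_le D) le_rfl]
  exact (layers D hn h Rh hm).mem_iff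

theorem isPGroup_US (D : RF hF t j W R) [CharP F 2] (hn : 3 ≤ n) (h : Fr q m e f) (Rh : Rho q m e f ρ) (hm : 3 ≤ m) :
    IsPGroup 2 (US R j m e ρ) := (layers D hn h Rh hm).isPGroup

theorem t_not_mem_US (D : RF hF t j W R) [CharP F 2] (hn : 3 ≤ n) (h : Fr q m e f) (Rh : Rho q m e f ρ) (hm : 3 ≤ m) :
    t ∉ US R j m e ρ := (layers D hn h Rh hm).not_mem (by
      rintro rfl
      exact D.tK 1 (map_one j))

/-- every involution of `t U*` is conjugate to `t` under `U*` -/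
theorem exists_conj_US (D : RF hF t j W R) [CharP F 2] (hn : 3 ≤ n) (h : Fr q m e f) (Rh : Rho q m e f ρ) (hm : 3 ≤ m)
    {x : G} (hx : x ∈ US R j m e ρ) (hinv : (t * x) * (t * x) = 1) : ∃ g ∈ US R j m e ρ, t * x = g * t * g⁻¹ :=
  (layers D hn h Rh hm).exists_conj hx hinv

/-- **`W (e 0)` is central in `U*`.** -/
theorem comm_W_US (D : RF hF t j W R) [CharP F 2] (hn : 3 ≤ n) (h : Fr q m e f) (Rh : Rho q m e f ρ) (hm : 3 ≤ m)
    (hW : ∀ x, x ≠ 0 → hermForm n F q x x = 0 → hermForm n F q x (e 0) = 0 → ∀ w ∈ W (e 0), ∀ v ∈ W x, w * v = v * w)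
    {w x : G} (hw : w ∈ W (e 0)) (hx : x ∈ US R j m e ρ) : w * x = x * w := by
  have h1 : US R j m e ρ ≤ Subgroup.centralizer (W (e 0) : Set G) := Chain.pr_le fun i hi y hy w hw => by
    rcases Nat.eq_zero_or_pos i with rfl | h0
    · exact (D.pt (h.ne_zero hi) (h.ee 0 hi 0 hi)).Wc w hw y (Frame.mem_Tj.1 hy).1
    · exact comm_W_Tj D hn h Rh hm h0 hi hW hw hy
  exact h1 hx w hw

/-- `W (e 0) ≤ U*` -/
theorem W_le_US (D : RF hF t j W R) [CharP F 2] (hn : 3 ≤ n) (h : Fr q m e f) (Rh : Rho q m e f ρ) (hm : 3 ≤ m) {i : ℕ}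
    (hi : i < m) : W (e i) ≤ US R j m e ρ :=
  ((layers D hn h Rh hm).WT i hi).trans (Chain.le_pr _ hi)

end frame

end main

end Cfsg.Agent.OddHalf.D7.Uni.FaceFrame
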