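import Cfsg.Agent.OddHalf.D7.Uni.FaceLine
import Cfsg.Agent.KFacts.Unit.GLAct

/-!
# `Defs.Line`, `Defs.Tor`, `Defs.Scale` for the totally isotropic line `⟨p, r⟩` (ODD D7, `K = PSU_n(q)`, `q` even)
-/

set_option autoImplicit false
set_option linter.unusedSimpArgs false
set_option linter.unusedSectionVars false

namespace Cfsg.Agent.OddHalf.D7.Uni.Face

open Cfsg Cfsg.Agent.LieClassical.HermBasic Cfsg.Agent.LieClassical.HermSiegel
  Cfsg.Agent.LieClassical.HermGen Cfsg.Agent.LieClassical.SUBasic Matrix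
  Cfsg.Agent.ClassicalGeometry.PSUAutBasic Cfsg.Agent.ClassicalGeometry.PSUAutSylow
  Cfsg.Agent.ClassicalGeometry.PSUAutUnip Cfsg.Agent.ClassicalGeometry.PSUAutPhi
  Cfsg.Agent.KFacts.Unit

variable {F : Type*} [Field F] [Fintype F] {q n : ℕ} {G : Type*} [Group G] {t : G} {j : PSU n F q →* G}
  {W : (Fin n → F) → Subgroup G}

omit [Fintype F] in
theorem P2.frm {p p' r r' : Fin n → F} (H : P2 q p p' r r') : Frm q ![p, r] ![p', r'] where
  ee i k := by fin_cases i <;> fin_cases k <;> simp [H.pp, H.rr, H.pr, H.rp]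
  ff i k := by fin_cases i <;> fin_cases k <;> simp [H.p'p', H.r'r', H.p'r', H.r'p']
  ef i k := by fin_cases i <;> fin_cases k <;> simp [H.pp', H.rr', H.pr', H.rp']

/-- Elements of `RR u` in `G`. -/
theorem mem_X (hF : Fintype.card F = q ^ 2) [CharP F 2] {u : Fin n → F} (hu : hermForm n F q u u = 0) {x : PSU n F q} :
    x ∈ RR hF u hu ↔ ∃ y : F, y ^ q = y ∧ x = pr n F q (Np hF u y) := by
  rw [mem_RR]
  constructor
  · rintro ⟨μ, hμ, rfl⟩
    exact ⟨μ, fixed_of_tr hμ, by rw [Np, Sg_eq hF (isSiegel_zero hu hμ)]; rfl⟩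
  · rintro ⟨y, hy, rfl⟩
    exact ⟨y, add_self_pow y hy, by rw [Np, Sg_eq hF (isS_np hu hy)]; rfl⟩

theorem X_sq (hF : Fintype.card F = q ^ 2) [CharP F 2] {u : Fin n → F} (hu : hermForm n F q u u = 0) {x : PSU n F q}
    (hx : x ∈ RR hF u hu) : x * x = 1 := by
  obtain ⟨y, hy, rfl⟩ := (mem_X hF hu).1 hx
  have h1 : Np hF u y * Np hF u y = 1 := by
    apply ext_act
    intro v
    rw [act_mul, act_Np hF hu hy, act_Np hF hu hy, act_one, herm_add_left, herm_smul_left, hu, mul_zero, add_zero,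
      add_assoc, ← add_smul, CharTwo.add_self_eq_zero, zero_smul, add_zero]
  rw [← map_mul, h1, map_one]

theorem X_fix (hF : Fintype.card F = q ^ 2) [CharP F 2] {u : Fin n → F} (hu : hermForm n F q u u = 0) {x : PSU n F q}
    (hx : x ∈ RR hF u hu) : ∃ g : SU n F q, act g u = u ∧ x = pr n F q g := by
  obtain ⟨y, hy, rfl⟩ := (mem_X hF hu).1 hx
  exact ⟨_, by rw [act_Np hF hu hy, hu, mul_zero, zero_smul, add_zero], rfl⟩

/-- `Double` -/
theorem Dbl.double {hF : Fintype.card F = q ^ 2} [CharP F 2] (D : Dbl hF t j W) {u : Fin n → F} (hu0 : u ≠ 0)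
    (hu : hermForm n F q u u = 0) : Defs.Double (sig hF) t (fun x => fj n F q j (Np hF u x)) (W u) where
  cn w hw x hx := D.cent hu0 hu w hw _ (by rw [act_Np hF hu hx, hu, mul_zero, zero_smul, add_zero])
  mem x hx := D.X_le hu0 hu ⟨_, (mem_X hF hu).2 ⟨x, hx, rfl⟩, rfl⟩
  brk w hw := by
    obtain ⟨x, hx, h⟩ := D.brk hu0 hu w hw
    obtain ⟨y, hy, rfl⟩ := (mem_X hF hu).1 hx
    exact ⟨y, hy, h⟩
  surj x hx := D.surj hu0 hu _ ((mem_X hF hu).2 ⟨x, hx, rfl⟩)
  cent w hw h := by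
    obtain ⟨x, hx, rfl⟩ := D.fix hu0 hu w hw h
    obtain ⟨y, hy, rfl⟩ := (mem_X hF hu).1 hx
    exact ⟨y, hy, rfl⟩

/-- Elements of odd order acting on `u` as a scalar of norm 1 centralise `W u`. -/
theorem Dbl.cent_odd {hF : Fintype.card F = q ^ 2} [CharP F 2] (D : Dbl hF t j W) {u : Fin n → F} (hu0 : u ≠ 0)
    (hu : hermForm n F q u u = 0) {g : SU n F q} {s : F} (hs : s * s ^ q = 1) (hg : act g u = s • u) {m : ℕ}
    (hm : Odd m) (hgm : g ^ m = 1) {w : G} (hw : w ∈ W u) : w * fj n F q j g = fj n F q j g * w := by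
  have hs0 : s ≠ 0 := by
    rintro rfl
    rw [zero_mul] at hs
    exact zero_ne_one hs
  set c := fj n F q j g with hc
  have hcw : c * w * c⁻¹ ∈ W u := by
    have := D.conj hu0 hu g w hw
    rwa [hg, D.smul hu0 hu hs0] at this
  obtain ⟨x, hx, hwx⟩ := D.brk hu0 hu w hw
  -- `c` centralises `X`
  have hcX : ∀ x ∈ RR hF u hu, c * j x = j x * c := by
    intro x hx
    obtain ⟨y, hy, rfl⟩ := (mem_X hF hu).1 hx
    have h1 : g * Np hF u y * g⁻¹ = Np hF u y := by
      rw [Np, conj_Sg hF (isS_np hu hy), act_zero, hg]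
      have hsu : hermForm n F q (s • u) (s • u) = 0 := by rw [herm_smul_left, herm_smul_right, hu]; ring
      apply ext_act
      intro v
      rw [act_Sg hF (isS_np hsu hy), act_Sg hF (isS_np hu hy), herm_zero_right hF, smul_zero, add_zero, sub_zero,
        smul_zero, add_zero, sub_zero, herm_smul_right, smul_smul]
      congr 2
      linear_combination (y * hermForm n F q v u) * hs
    have h2 : g * Np hF u y = Np hF u y * g := mul_inv_eq_iff_eq_mul.1 h1
    show c * fj n F q j (Np hF u y) = fj n F q j (Np hF u y) * c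
    rw [hc, ← map_mul, ← map_mul, h2]
  have hct : t * c = c * t := D.tj _
  have hXw : ∀ x ∈ RR hF u hu, ∀ w ∈ W u, j x * w = w * j x := by
    intro x hx w hw
    obtain ⟨g', hg', rfl⟩ := X_fix hF hu hx
    exact (D.cent hu0 hu w hw g' hg').symm
  have tt := D.tt
  have h1 : t * (c * w * c⁻¹) * t = c * w * c⁻¹ * j x := by
    have e1 : c⁻¹ * t = t * c⁻¹ := by
      have : Commute t c := hct
      exact this.inv_right.eq.symm
    calc t * (c * w * c⁻¹) * t = (t * c) * w * (c⁻¹ * t) := by group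
      _ = c * (t * w * t) * c⁻¹ := by rw [hct, e1]; group
      _ = c * w * (j x * c⁻¹) := by rw [hwx]; group
      _ = c * w * (c⁻¹ * j x) := by
        have : Commute c (j x) := hcX x hx
        rw [this.inv_left.eq.symm]
      _ = _ := by group
  set z := w⁻¹ * (c * w * c⁻¹) with hz
  have hzW : z ∈ W u := mul_mem (inv_mem hw) hcw
  have hzt : t * z = z * t := by
    have e1 : t * z * t = z := by
      have e2 : t * w⁻¹ * t = (t * w * t)⁻¹ := by
        have : t⁻¹ = t := inv_eq_of_mul_eq_one_left tt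
        rw [_root_.mul_inv_rev, _root_.mul_inv_rev, this]; group
      calc t * z * t = (t * w⁻¹ * t) * (t * (c * w * c⁻¹) * t) := by
            rw [hz]
            calc t * (w⁻¹ * (c * w * c⁻¹)) * t = t * w⁻¹ * 1 * (c * w * c⁻¹) * t := by group
              _ = t * w⁻¹ * (t * t) * (c * w * c⁻¹) * t := by rw [tt]
              _ = _ := by group
        _ = (w * j x)⁻¹ * (c * w * c⁻¹ * j x) := by rw [e2, hwx, h1]
        _ = (j x)⁻¹ * (z * j x) := by rw [hz]; group
        _ = (j x)⁻¹ * (j x * z) := by rw [hXw x hx z hzW]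
        _ = z := by group
    calc t * z = t * z * (t * t) := by rw [tt, mul_one]
      _ = t * z * t * t := by group
      _ = z * t := by rw [e1]
  obtain ⟨y, hy, hyz⟩ := D.fix hu0 hu z hzW hzt
  have hcz : c * w * c⁻¹ = w * z := by rw [hz]; group
  have hczz : c * z * c⁻¹ = z := by
    rw [← hyz, hcX y hy]; group
  have hpow : ∀ k : ℕ, c ^ k * w * (c ^ k)⁻¹ = w * z ^ k := by
    intro k
    induction k with
    | zero => simp
    | succ k ih =>
      have e1 : c * z ^ k * c⁻¹ = z ^ k := by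
        have : Commute c z := by
          show c * z = z * c
          calc c * z = c * z * c⁻¹ * c := by group
            _ = z * c := by rw [hczz]
        rw [(this.pow_right k).eq]; group
      calc c ^ (k + 1) * w * (c ^ (k + 1))⁻¹ = c * (c ^ k * w * (c ^ k)⁻¹) * c⁻¹ := by
            rw [pow_succ']; group
        _ = (c * w * c⁻¹) * (c * z ^ k * c⁻¹) := by rw [ih]; group
        _ = w * z ^ (k + 1) := by rw [hcz, e1, pow_succ']; group
  have hcm : c ^ m = 1 := by rw [hc, ← map_pow, hgm, map_one]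
  have hzm : z ^ m = 1 := by
    have := hpow m
    rw [hcm, one_mul, inv_one, mul_one] at this
    have h2 := this.symm
    rwa [mul_eq_left] at h2
  have hz2 : z ^ 2 = 1 := by
    rw [pow_two, ← hyz, ← map_mul, X_sq hF hu hy, map_one]
  have hz1 : z = 1 := by
    have h3 : z ^ (Nat.gcd m 2) = 1 := by
      rw [pow_gcd_eq_one]
      exact ⟨hzm, hz2⟩
    rwa [hm.coprime_two_right, pow_one] at h3
  rw [hz1, mul_one] at hcz
  calc w * c = c * w * c⁻¹ * c := by rw [hcz]
    _ = c * w := by group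

/-- The pointwise stabiliser of the line, in `G`. -/
def OE (n : ℕ) (F : Type*) [Field F] (q : ℕ) (j : PSU n F q →* G) (p r : Fin n → F) : Subgroup G :=
  (stabV q p ⊓ stabV q r).map (fj n F q j)

theorem mem_OE {p r : Fin n → F} {c : G} :
    c ∈ OE n F q j p r ↔ ∃ g : SU n F q, act g p = p ∧ act g r = r ∧ fj n F q j g = c := by
  constructor
  · rintro ⟨g, ⟨h1, h2⟩, rfl⟩
    exact ⟨g, h1, h2, rfl⟩
  · rintro ⟨g, h1, h2, rfl⟩
    exact ⟨g, ⟨h1, h2⟩, rfl⟩

/-- (k1) for a totally isotropic line. -/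
theorem K2 (S : Sit n F q t j) (hF : Fintype.card F = q ^ 2) [CharP F 2] (hn : 4 ≤ n) {p p' r r' : Fin n → F}
    (H : P2 q p p' r r') (c : G) (hc : c * t = t * c) (h : ∀ o ∈ OE n F q j p r, c * o = o * c) :
    ∃ x μ y, sig hF x = x ∧ sig hF y = y ∧
      (c = fj n F q j (Np hF p x) * fj n F q j (Mm hF p r μ) * fj n F q j (Np hF r y) ∨
        c = t * (fj n F q j (Np hF p x) * fj n F q j (Mm hF p r μ) * fj n F q j (Np hF r y))) := by
  obtain ⟨α, hα⟩ := S.exists_aut hc
  obtain ⟨A, hA, hαA⟩ := autCent_frame hF hn H.frm le_rfl α (fun g hg => by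
    have h0 := hg 0
    have h1 := hg 1
    simp only [Matrix.cons_val_zero, Matrix.cons_val_one] at h0 h1
    apply S.inj
    rw [← hα]
    have := h (fj n F q j g) (mem_OE.2 ⟨g, h0, h1, rfl⟩)
    rw [fj_apply] at this
    rw [this]; group)
  have h00 := hA 0 0
  have h01 := hA 0 1
  have h11 := hA 1 1
  have h10 := hA 1 0
  have e1 : (A 0 0) ^ q = A 0 0 := fixed_of_tr h00
  have e2 : (A 1 1) ^ q = A 1 1 := fixed_of_tr h11
  have e3 : A 1 0 = (A 0 1) ^ q := by
    have h2 : (2 : F) = 0 := CharTwo.two_eq_zero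
    linear_combination h10 - (A 0 1) ^ q * h2
  have key : aEl hF H.frm A hA = Np hF p (A 0 0) * Mm hF p r (A 0 1) * Np hF r (A 1 1) := by
    apply ext_act
    intro v
    rw [act_aEl, act_mul, act_mul, act_Np hF H.rr e2, act_Mm hF H.pp H.rr H.rp, act_Np hF H.pp e1]
    simp only [Fin.sum_univ_two, Matrix.cons_val_zero, Matrix.cons_val_one, e3]
    simp only [herm_add_left, herm_sub_left, herm_smul_left, H.pp, H.rr, H.rp, H.pr]
    funext i
    simp only [Pi.add_apply, Pi.sub_apply, Pi.smul_apply, smul_eq_mul, CharTwo.sub_eq_add]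
    ring
  refine ⟨A 0 0, A 0 1, A 1 1, e1, e2, ?_⟩
  rw [← map_mul, ← map_mul, ← key]
  refine S.eq_or hc (fun x => ?_)
  rw [hα, hαA]

/-- `Defs.Line` -/
theorem Dbl.line {hF : Fintype.card F = q ^ 2} [CharP F 2] (D : Dbl hF t j W) (hn : 4 ≤ n) {p p' r r' : Fin n → F}
    (H : P2 q p p' r r') :
    Defs.Line (sig hF) t (OE n F q j p r) (W p) (W r) (fun x => fj n F q j (Np hF p x)) (fun y => fj n F q j (Np hF r y))
      (fun μ => fj n F q j (Mm hF p r μ)) (fun l => fj n F q j (Mm hF p r' l)) where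
  toCoord := coord D.toSit hF (by omega) H
  dp := D.double H.p_ne H.pp
  dr := D.double H.r_ne H.rr
  p_m w hw x := D.cent H.p_ne H.pp w hw _ (Mm_p hF H x)
  p_nr w hw x hx := D.cent H.p_ne H.pp w hw _ (Np_r hF H hx)
  r_m w hw x := D.cent H.r_ne H.rr w hw _ (Mm_r hF H x)
  r_np w hw x hx := D.cent H.r_ne H.rr w hw _ (Np_r hF H.swap hx)
  g_p l w hw := (D.cent H.p_ne H.pp w hw _ (Gg_p hF H l)).symm
  O_p c hc w hw := by
    obtain ⟨g, h1, h2, rfl⟩ := mem_OE.1 hc
    exact (D.cent H.p_ne H.pp w hw _ h1).symm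
  O_r c hc w hw := by
    obtain ⟨g, h1, h2, rfl⟩ := mem_OE.1 hc
    exact (D.cent H.r_ne H.rr w hw _ h2).symm
  O_m c hc μ := by
    obtain ⟨g, h1, h2, rfl⟩ := mem_OE.1 hc
    have h3 : g * Mm hF p r μ * g⁻¹ = Mm hF p r μ := by
      rw [Mm, conj_Sg hF (isS_vec hF H.pp H.rp H.rr _), h1, act_smul, h2]
    rw [← map_mul, ← map_mul, mul_inv_eq_iff_eq_mul.1 h3]
  g_O l c hc := by
    obtain ⟨g, h1, h2, rfl⟩ := mem_OE.1 hc
    refine mem_OE.2 ⟨(Mm hF p r' l)⁻¹ * g * Mm hF p r' l, ?_, ?_, by rw [map_mul, map_mul, map_inv]⟩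
    · rw [act_mul, act_mul, Gg_p hF H, h1]
      exact ((act_eq_iff _).1 (Gg_p hF H l)).symm
    · rw [act_mul, act_mul, Gg_r hF H, act_add, act_smul, h1, h2]
      exact ((act_eq_iff _).1 (Gg_r hF H l)).symm
  K2 := K2 D.toSit hF hn H

end Cfsg.Agent.OddHalf.D7.Uni.Face
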