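import Cfsg.Agent.OddHalf.D7.Uni.FacePt
import Cfsg.Agent.OddHalf.D7.Uni.FaceR

/-!
# `FaceR.RF` from `Face.Dbl` (helper371)

`Rt hF j W u = R_u` for every isotropic `u`. `rf : FaceR.RF hF t j W (Rt hF j W)`.
-/

set_option autoImplicit false
set_option linter.unusedSectionVars false

namespace Cfsg.Agent.OddHalf.D7.Uni.Face

open Cfsg Cfsg.Agent.LieClassical.HermBasic Cfsg.Agent.LieClassical.HermSiegel
  Cfsg.Agent.LieClassical.HermGen Cfsg.Agent.LieClassical.SUBasic Matrix
  Cfsg.Agent.ClassicalGeometry.PSUAutBasic Cfsg.Agent.ClassicalGeometry.PSUAutSylow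
  Cfsg.Agent.ClassicalGeometry.PSUAutUnip Cfsg.Agent.ClassicalGeometry.PSUAutPhi
  Cfsg.Agent.KFacts.Unit

variable {F : Type*} [Field F] [Fintype F] {q n : ℕ} {G : Type*} [Group G]

open Classical in
/-- `R_u` as a total function -/
noncomputable def Rt (hF : Fintype.card F = q ^ 2) (j : PSU n F q →* G) (W : (Fin n → F) → Subgroup G)
    (u : Fin n → F) : Subgroup G :=
  if h : hermForm n F q u u = 0 then RP hF j W u h else ⊥

theorem Rt_eq (hF : Fintype.card F = q ^ 2) (j : PSU n F q →* G) (W : (Fin n → F) → Subgroup G)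
    {u : Fin n → F} (h : hermForm n F q u u = 0) : Rt hF j W u = RP hF j W u h := dif_pos h

variable {t : G} {j : PSU n F q →* G} {W : (Fin n → F) → Subgroup G} {hF : Fintype.card F = q ^ 2}

theorem Np_W [CharP F 2] (D : Dbl hF t j W) {p : Fin n → F} (hp0 : p ≠ 0) (hp : hermForm n F q p p = 0) {x : F}
    (hx : x ^ q = x) : fj n F q j (Np hF p x) ∈ W p :=
  D.X_le hp0 hp (mem_XP.2 ⟨x, hx, rfl⟩)

/-- `E_l ≤ ⟨W s : s ∈ l⟩` -/
theorem EP_le [CharP F 2] (D : Dbl hF t j W) (hn : 6 ≤ n) {p p' r r' : Fin n → F} (H : P2 q p p' r r') :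
    EP hF j W p r r' ≤ Subgroup.closure {w | ∃ a b : F, a • p + b • r ≠ 0 ∧ w ∈ W (a • p + b • r)} := by
  have L := el D (D.cm hn) (by omega) H
  set B := Subgroup.closure {w | ∃ a b : F, a • p + b • r ≠ 0 ∧ w ∈ W (a • p + b • r)} with hB
  have hp : W p ≤ B := fun w hw => by
    refine Subgroup.subset_closure ⟨1, 0, ?_, ?_⟩
    · rw [one_smul, zero_smul, add_zero]; exact H.p_ne
    · rw [one_smul, zero_smul, add_zero]; exact hw
  have hr : ∀ l, ∀ u ∈ W r, fj n F q j (Mm hF p r' l) * u * (fj n F q j (Mm hF p r' l))⁻¹ ∈ B := by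
    intro l u hu
    have h1 := D.conj H.r_ne H.rr (Mm hF p r' l) u hu
    rw [Gg_r hF H] at h1
    refine Subgroup.subset_closure ⟨l, 1, ?_, ?_⟩
    · intro h
      have h2 := congrArg (fun v => hermForm n F q v r') h
      simp only [herm_add_left, herm_smul_left, H.pr', H.rr', herm_zero_left, one_smul, mul_zero, zero_add] at h2
      exact one_ne_zero h2
    · rw [one_smul, add_comm]; exact h1
  rw [EP, Subgroup.closure_le]
  rintro x (hx | ⟨l, u, hu, rfl⟩ | ⟨μ, rfl⟩)
  · exact hp hx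
  · exact hr l u hu
  · -- `m μ` is a product of elements of `W p`, `W (r + μ p)`, `W r`
    have h1 : (1 : F) ^ q = 1 := one_pow q
    have e := L.g_nr μ 1 h1
    have hX : fj n F q j (Np hF r 1) ∈ W r := Np_W D H.r_ne H.rr h1
    have h2 := hr μ _ hX
    have h3 := hr 0 _ hX
    have h0 : fj n F q j (Mm hF p r' 0) = 1 := Quad.Coord.g_zero L.toCoord
    rw [h0, one_mul, inv_one, mul_one] at h3
    have h4 : fj n F q j (Np hF p (μ * sig hF μ * 1)) ∈ B := by
      refine hp (Np_W D H.p_ne H.pp ?_)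
      rw [sig_apply, mul_one, mul_pow, pow_q_pow_q hF, mul_comm]
    rw [mul_one] at e
    have e2 : fj n F q j (Mm hF p r μ) = (fj n F q j (Np hF r 1))⁻¹ *
        (fj n F q j (Mm hF p r' μ) * fj n F q j (Np hF r 1) * (fj n F q j (Mm hF p r' μ))⁻¹) *
        (fj n F q j (Np hF p (μ * sig hF μ * 1)))⁻¹ := by
      rw [e]; group
    change fj n F q j (Mm hF p r μ) ∈ B
    rw [e2]
    exact B.mul_mem (B.mul_mem (B.inv_mem h3) h2) (B.inv_mem h4)

/-- elements of `R_v` above `S(v; x, 0)` -/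
theorem lift_R [CharP F 2] (D : Dbl hF t j W) (hn : 6 ≤ n) {p p' r r' : Fin n → F} (H : P2 q p p' r r') :
    ∃ e ∈ RP hF j W p H.pp,
      e ∈ Subgroup.closure {w | ∃ a b : F, a • p + b • r ≠ 0 ∧ w ∈ W (a • p + b • r)} ∧
      ∃ w ∈ W p, t * e * t = e * (fj n F q j (Sg hF p r 0) * w) := by
  have L := el D (D.cm hn) (by omega) H
  obtain ⟨e, he, h⟩ := L.surj_Evl (x := 0) (μ := 1) (map_zero _)
  refine ⟨e, (rdata D (D.cm hn) hn H.p_ne H.pp).A_R ⟨(p', r, r'), H⟩ he, EP_le D hn H (L.Evl_le he), 1,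
    one_mem _, ?_⟩
  have h0 : fj n F q j (Np hF p 0) = 1 := Quad.Coord.np_zero L.toCoord
  have h1 : Mm hF p r 1 = Sg hF p r 0 := by rw [Mm, one_pow, one_smul]
  simp only [h0, h1, one_mul] at h
  rw [mul_one]
  exact h

/-- **The growth of `Q_v` at every isotropic point.** -/
theorem rf [CharP F 2] (D : Dbl hF t j W) (hn : 6 ≤ n) : FaceR.RF hF t j W (Rt hF j W) where
  toDbl := D
  Wsq := fun hu0 hu => (D.cm hn).sq hu0 hu
  pt := fun hu0 hu => by
    rw [Rt_eq hF j W hu]
    exact pt D (D.cm hn) hn hu0 hu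
  conjR := fun {u} hu0 hu g x hx => by
    have hu' : hermForm n F q (act g u) (act g u) = 0 := by rw [herm_act, hu]
    rw [Rt_eq hF j W hu] at hx
    rw [Rt_eq hF j W hu']
    exact RP_conj D (D.cm hn) hn hu0 hu hu' rfl hx
  norm' := fun {u v} hu0 hu hv0 hv huv w hw x hx => by
    rw [Rt_eq hF j W hv] at hx ⊢
    by_cases h : ∃ c : F, u = c • v
    · obtain ⟨c, rfl⟩ := h
      have hc : c ≠ 0 := by
        rintro rfl
        exact hu0 (zero_smul _ _)
      rw [D.smul hv0 hv hc] at hw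
      have h1 := (rdata D (D.cm hn) hn hv0 hv).R_W hx w hw
      rw [← h1, mul_inv_cancel_right]
      exact hx
    · obtain ⟨v', u', H⟩ := exists_P2_of (q := q) hF hv hu (herm_eq_zero_swap hF huv) (by
        intro a b hab
        have hb : b = 0 := by
          by_contra hb
          apply h
          refine ⟨-(b⁻¹ * a), ?_⟩
          have h2 : b • u = -(a • v) := by
            rw [eq_neg_iff_add_eq_zero, add_comm]
            exact hab
          calc u = b⁻¹ • (b • u) := by rw [smul_smul, inv_mul_cancel₀ hb, one_smul]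
            _ = _ := by rw [h2, smul_neg, smul_smul, neg_smul]
        subst hb
        rw [zero_smul, add_zero] at hab
        exact ⟨(smul_eq_zero.1 hab).resolve_right hv0, rfl⟩)
      exact W_norm D (D.cm hn) hn H hw hx
  lift := fun {v x} hv0 hv hx hxv hne => by
    obtain ⟨v', x', H⟩ := exists_P2_of (q := q) hF hv hx (herm_eq_zero_swap hF hxv) (by
      intro a b hab
      have hb : b = 0 := by
        by_contra hb
        apply hne (-(b⁻¹ * a))
        have h2 : b • x = -(a • v) := by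
          rw [eq_neg_iff_add_eq_zero, add_comm]
          exact hab
        calc x = b⁻¹ • (b • x) := by rw [smul_smul, inv_mul_cancel₀ hb, one_smul]
          _ = _ := by rw [h2, smul_neg, smul_smul, neg_smul]
      subst hb
      rw [zero_smul, add_zero] at hab
      exact ⟨(smul_eq_zero.1 hab).resolve_right hv0, rfl⟩)
    obtain ⟨e, he, h1, h2⟩ := lift_R D hn H
    exact ⟨e, by rw [Rt_eq hF j W hv]; exact he, h1, h2⟩

end Cfsg.Agent.OddHalf.D7.Uni.Face
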