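import Cfsg.Agent.OddHalf.D7.Uni.FaceFrame
import Cfsg.Agent.OddHalf.D7.Uni.FaceRF
import Cfsg.Agent.OddHalf.D7.Uni.Equiv

/-!
# ODD D7, `K = PSU_n(q)`, `q` even: invariance of `U*` and its centre

`conj_W`, `conj_Rt`: `c ∈ C(t)` normalising `X_u` normalises `W_u`, `R_u`. `conj_US`: `c ∈ C(t)` normalising the root
groups of a Witt frame normalises `U*`. `W_cent`: `W_{e 0}` centralises `U*`.
-/

set_option autoImplicit false
set_option linter.unusedSectionVars false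

namespace Cfsg.Agent.OddHalf.D7.Uni.FaceInv

open Cfsg Cfsg.Agent.LieClassical.HermBasic Cfsg.Agent.LieClassical.HermSiegel
  Cfsg.Agent.LieClassical.HermGen Cfsg.Agent.LieClassical.SUBasic
  Cfsg.Agent.ClassicalGeometry.PSUAutBasic Cfsg.Agent.ClassicalGeometry.PSUAutSylow
  Cfsg.Agent.ClassicalGeometry.PSUAutUnip Cfsg.Agent.ClassicalGeometry.PSUAutPhi
  Cfsg.Agent.KFacts.Unit Cfsg.Agent.KFacts.Unit.Flag Cfsg.Agent.KFacts.Unit.FlagMap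
  Cfsg.Agent.OddHalf.D7.Uni.Face Cfsg.Agent.OddHalf.D7.Uni.Norm Cfsg.Agent.OddHalf.D7.Uni.Layers
  Cfsg.Agent.OddHalf.D7.Uni.FrameLayers Cfsg.Agent.OddHalf.D7.Uni.FaceR Cfsg.Agent.OddHalf.D7.Uni.FaceFrame
  Cfsg.Agent.OddHalf.D7.Uni.Equiv

variable {F : Type*} [Field F] [Fintype F] {q n : ℕ} {G : Type*} [Group G]
  {hF : Fintype.card F = q ^ 2} {t : G} {j : PSU n F q →* G} {W : (Fin n → F) → Subgroup G}

/-- An element of `C(t)` which normalises `X_u` moves `u` to a multiple of `u`. -/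
theorem exists_mv (S : Sit n F q t j) (hn : 4 ≤ n) {c : G} (hc : c * t = t * c) {u : Fin n → F} (hu0 : u ≠ 0)
    (hu : hermForm n F q u u = 0) (h1 : ∀ x ∈ XP hF j u hu, c * x * c⁻¹ ∈ XP hF j u hu)
    (h2 : ∀ x ∈ XP hF j u hu, c⁻¹ * x * c ∈ XP hF j u hu) :
    ∃ (ρ : F ≃+* F) (b : F) (_ : b ≠ 0) (hu' : hermForm n F q (b • u) (b • u) = 0),
      Mv hF t j c ρ u (b • u) hu hu' := by
  obtain ⟨A, ρ, Sm⟩ := exists_semi S hF hn hc
  have hu' : hermForm n F q (sg A ρ u) (sg A ρ u) = 0 := by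
    rw [sg, Cfsg.Agent.ClassicalGeometry.PSUAutCount.herm_semi, hu, map_zero]
  have M := Sm.mv (hF := hF) hu hu'
  have hu0' : sg A ρ u ≠ 0 := fun h => hu0 (sg_eq_zero A ρ h)
  have hle : RR hF (sg A ρ u) hu' = RR hF u hu := by
    apply le_antisymm
    · intro y hy
      obtain ⟨x, hx, e⟩ := M.rr' y hy
      obtain ⟨z, hz, e2⟩ := h1 _ ⟨x, hx, rfl⟩
      have e3 : j z = j y := by rw [e2, ← e]; group
      rwa [← S.inj e3]
    · intro y hy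
      obtain ⟨x, hx, e⟩ := h2 _ ⟨y, hy, rfl⟩
      obtain ⟨z, hz, e2⟩ := M.rr x hx
      have e3 : j z = j y := by rw [← e2, e]; group
      rwa [← S.inj e3]
  obtain ⟨b, hb, he⟩ := (RR_eq_iff hF (by omega) hu0 hu0' hu hu').1 hle.symm
  have key : ∀ (v : Fin n → F) (hv : hermForm n F q v v = 0), v = b • u → Mv hF t j c ρ u v hu hv →
      ∃ (hu' : hermForm n F q (b • u) (b • u) = 0), Mv hF t j c ρ u (b • u) hu hu' := by
    rintro v hv rfl M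
    exact ⟨hv, M⟩
  obtain ⟨h3, h4⟩ := key _ hu' he M
  exact ⟨ρ, b, hb, h3, h4⟩

theorem conj_W [CharP F 2] (D : Dbl hF t j W) (hn : 6 ≤ n) {c : G} (hc : c * t = t * c) {u : Fin n → F} (hu0 : u ≠ 0)
    (hu : hermForm n F q u u = 0) (h1 : ∀ x ∈ XP hF j u hu, c * x * c⁻¹ ∈ XP hF j u hu)
    (h2 : ∀ x ∈ XP hF j u hu, c⁻¹ * x * c ∈ XP hF j u hu) : ∀ w ∈ W u, c * w * c⁻¹ ∈ W u := by
  intro w hw
  obtain ⟨ρ, b, hb, hu', M⟩ := exists_mv D.toSit (by omega) hc hu0 hu h1 h2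
  have h3 := M.conj_W D (by omega) hu0 (smul_ne_zero hb hu0) hw
  rwa [D.smul hu0 hu hb] at h3

theorem conj_Rt [CharP F 2] (D : Dbl hF t j W) (hn : 6 ≤ n) {c : G} (hc : c * t = t * c) {u : Fin n → F} (hu0 : u ≠ 0)
    (hu : hermForm n F q u u = 0) (h1 : ∀ x ∈ XP hF j u hu, c * x * c⁻¹ ∈ XP hF j u hu)
    (h2 : ∀ x ∈ XP hF j u hu, c⁻¹ * x * c ∈ XP hF j u hu) : ∀ r ∈ Rt hF j W u, c * r * c⁻¹ ∈ Rt hF j W u := by
  intro r hr
  obtain ⟨ρ, b, hb, hu', M⟩ := exists_mv D.toSit (by omega) hc hu0 hu h1 h2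
  have hbu0 : b • u ≠ 0 := smul_ne_zero hb hu0
  rw [Rt_eq hF j W hu] at hr ⊢
  have h3 := M.conj_R D (by omega) hu0 hbu0 rfl rfl (rdata D (D.cm hn) hn hu0 hu) (rdata D (D.cm hn) hn hbu0 hu') hr
  have h4 : c * r * c⁻¹ ∈ RP hF j W (b • u) hu' := h3
  rwa [RP_smul D (D.cm hn) hn hu0 hu hb hu'] at h4

section frame

variable {m : ℕ} {e f : ℕ → Fin n → F} {ρ : ℕ → SU n F q}

/-- **`c ∈ C(t)` normalising the root groups of the frame normalises `U*`.** -/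
theorem conj_US [CharP F 2] (D : Dbl hF t j W) (hn : 6 ≤ n) (h : Flag.Fr q m e f) (Rh : Rho q m e f ρ) (hm : 3 ≤ m)
    {c : G} (hc : c * t = t * c)
    (hX : ∀ i < m, (∀ y ∈ Xd hF j (e i), c * y * c⁻¹ ∈ Xd hF j (e i)) ∧
      (∀ y ∈ Xd hF j (e i), c⁻¹ * y * c ∈ Xd hF j (e i)) ∧ ∀ y ∈ Xd hF j (f i), c⁻¹ * y * c ∈ Xd hF j (f i))
    {x : G} (hx : x ∈ US (Rt hF j W) j m e ρ) : c * x * c⁻¹ ∈ US (Rt hF j W) j m e ρ := by
  refine FaceFrame.conj_US (rf D hn) (by omega) h Rh hm (fun k hk r hr => ?_) (fun i hi => (hX i hi).2) hx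
  have h1 := (hX k hk).1
  have h2 := (hX k hk).2.1
  rw [Xd_eq (h.ee k hk k hk)] at h1 h2
  exact conj_Rt D hn hc (h.ne_zero hk) (h.ee k hk k hk) h1 h2 r hr

/-- **The groups `W_u`, `W_x` commute for `x ⟂ u`.** -/
theorem W_all [CharP F 2] (D : Dbl hF t j W) (hn : 6 ≤ n) {u x : Fin n → F} (hu0 : u ≠ 0)
    (hu : hermForm n F q u u = 0) (hx0 : x ≠ 0) (hx : hermForm n F q x x = 0) (hxu : hermForm n F q x u = 0) {w v : G}
    (hw : w ∈ W u) (hv : v ∈ W x) : w * v = v * w := by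
  by_cases hc : ∃ c : F, x = c • u
  · obtain ⟨c, rfl⟩ := hc
    have hc : c ≠ 0 := by
      rintro rfl
      exact hx0 (zero_smul _ _)
    rw [D.smul hu0 hu hc] at hv
    exact D.ab (by omega) (D.pr hn) hu0 hu hw hv
  · push Not at hc
    obtain ⟨p', r', H⟩ := exists_P2_of (q := q) hF hu hx (herm_eq_zero_swap hF hxu)
      (KFacts.UniTwo.indep_of_ne hx0 hc hu0)
    exact D.pr hn _ _ _ _ H w hw v hv

/-- **`W_{e 0}` centralises `U*`.** -/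
theorem W_cent [CharP F 2] (D : Dbl hF t j W) (hn : 6 ≤ n) (h : Flag.Fr q m e f) (Rh : Rho q m e f ρ) (hm : 3 ≤ m)
    {w x : G} (hw : w ∈ W (e 0)) (hx : x ∈ US (Rt hF j W) j m e ρ) : w * x = x * w :=
  comm_W_US (rf D hn) (by omega) h Rh hm (fun _ hx0 hx hxu _ hw _ hv =>
    W_all D hn (h.ne_zero (by omega)) (h.ee 0 (by omega) 0 (by omega)) hx0 hx hxu hw hv) hw hx

/-- `W_{e 0} ≤ U*` -/
theorem W_le_US [CharP F 2] (D : Dbl hF t j W) (hn : 6 ≤ n) (h : Flag.Fr q m e f) (hm : 3 ≤ m) :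
    W (e 0) ≤ US (Rt hF j W) j m e ρ := by
  intro w hw
  refine Chain.le_pr _ (i := 0) (by omega) ?_
  rw [Frame.mem_Tj]
  exact ⟨((rf D hn).pt (h.ne_zero (by omega)) (h.ee 0 (by omega) 0 (by omega))).WR hw,
    fun i hi => absurd hi (Nat.not_lt_zero i)⟩

/-- `|W_u| = |X_u|²` -/
theorem card_W [CharP F 2] (D : Dbl hF t j W) (hn : 6 ≤ n) {u : Fin n → F} (hu0 : u ≠ 0)
    (hu : hermForm n F q u u = 0) : Nat.card (W u) = Nat.card (XP hF j u hu) ^ 2 :=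
  (rdata D (D.cm hn) hn hu0 hu).card_W

end frame

end Cfsg.Agent.OddHalf.D7.Uni.FaceInv
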