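import Cfsg.Agent.OddHalf.D7.Uni.Face

/-!
# The coordinates of a totally isotropic line (ODD D7, `K = PSU_n(q)`, `q` even)

`coord` : `Defs.Coord` for the line `⟨p, r⟩`.
-/

set_option autoImplicit false
set_option linter.unusedSimpArgs false
set_option linter.unusedSectionVars false

namespace Cfsg.Agent.OddHalf.D7.Uni.Face

open Cfsg Cfsg.Agent.LieClassical.HermBasic Cfsg.Agent.LieClassical.HermSiegel
  Cfsg.Agent.LieClassical.HermGen Cfsg.Agent.LieClassical.SUBasic Matrix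
  Cfsg.Agent.ClassicalGeometry.PSUAutBasic Cfsg.Agent.ClassicalGeometry.PSUAutSylow
  Cfsg.Agent.ClassicalGeometry.PSUAutUnip Cfsg.Agent.ClassicalGeometry.PSUAutPhi
  Cfsg.Agent.KFacts.Unit

variable {F : Type*} [Field F] [Fintype F] {q n : ℕ}

/-- `v ↦ v + x h(v,u) u` -/
noncomputable def Np (hF : Fintype.card F = q ^ 2) (u : Fin n → F) (x : F) : SU n F q := Sg hF u 0 x

/-- `v ↦ v + μ^q h(v,p) r - μ h(v,r) p` -/
noncomputable def Mm (hF : Fintype.card F = q ^ 2) (p r : Fin n → F) (μ : F) : SU n F q := Sg hF p (μ ^ q • r) 0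

theorem act_Np [CharP F 2] (hF : Fintype.card F = q ^ 2) {u : Fin n → F} (hu : hermForm n F q u u = 0) {x : F}
    (hx : x ^ q = x) (v : Fin n → F) : act (Np hF u x) v = v + (x * hermForm n F q v u) • u := by
  rw [Np, act_Sg hF (isS_np hu hx), herm_zero_right hF, smul_zero, add_zero, sub_zero]

theorem act_Mm (hF : Fintype.card F = q ^ 2) {p r : Fin n → F} (hp : hermForm n F q p p = 0)
    (hr : hermForm n F q r r = 0) (hrp : hermForm n F q r p = 0) (μ : F) (v : Fin n → F) :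
    act (Mm hF p r μ) v = v + (μ ^ q * hermForm n F q v p) • r - (μ * hermForm n F q v r) • p := by
  rw [Mm, act_Sg hF (isS_vec hF hp hrp hr _), herm_smul_right, pow_q_pow_q hF, zero_mul, zero_sub, neg_smul,
    ← sub_eq_add_neg, smul_smul, mul_comm (hermForm n F q v p)]

section

variable [CharP F 2] (hF : Fintype.card F = q ^ 2) {p p' r r' : Fin n → F} (H : P2 q p p' r r')

include H

theorem Np_add {x y : F} (hx : x ^ q = x) (hy : y ^ q = y) : Np hF p (x + y) = Np hF p x * Np hF p y := by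
  have hxy : (x + y) ^ q = x + y := by rw [add_pow_q hF, hx, hy]
  apply ext_act
  intro v
  rw [act_mul, act_Np hF H.pp hxy, act_Np hF H.pp hx, act_Np hF H.pp hy]
  simp only [herm_add_left, herm_smul_left, H.pp]
  funext i
  simp only [Pi.add_apply, Pi.smul_apply, smul_eq_mul]
  ring

theorem Mm_add (x y : F) : Mm hF p r (x + y) = Mm hF p r x * Mm hF p r y := by
  apply ext_act
  intro v
  rw [act_mul, act_Mm hF H.pp H.rr H.rp, act_Mm hF H.pp H.rr H.rp, act_Mm hF H.pp H.rr H.rp]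
  simp only [herm_add_left, herm_sub_left, herm_smul_left, H.pp, H.rr, H.rp, H.pr, add_pow_q hF]
  funext i
  simp only [Pi.add_apply, Pi.sub_apply, Pi.smul_apply, smul_eq_mul]
  ring

theorem Gg_add (x y : F) : Mm hF p r' (x + y) = Mm hF p r' x * Mm hF p r' y := by
  apply ext_act
  intro v
  rw [act_mul, act_Mm hF H.pp H.r'r' H.r'p, act_Mm hF H.pp H.r'r' H.r'p, act_Mm hF H.pp H.r'r' H.r'p]
  simp only [herm_add_left, herm_sub_left, herm_smul_left, H.pp, H.r'r', H.r'p, H.pr', add_pow_q hF]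
  funext i
  simp only [Pi.add_apply, Pi.sub_apply, Pi.smul_apply, smul_eq_mul]
  ring

theorem Np_Mm {x : F} (hx : x ^ q = x) (y : F) : Np hF p x * Mm hF p r y = Mm hF p r y * Np hF p x := by
  apply ext_act
  intro v
  rw [act_mul, act_mul, act_Mm hF H.pp H.rr H.rp, act_Mm hF H.pp H.rr H.rp, act_Np hF H.pp hx, act_Np hF H.pp hx]
  simp only [herm_add_left, herm_sub_left, herm_smul_left, H.pp, H.rr, H.rp, H.pr]
  funext i
  simp only [Pi.add_apply, Pi.sub_apply, Pi.smul_apply, smul_eq_mul]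
  ring

theorem Np_Nr {x y : F} (hx : x ^ q = x) (hy : y ^ q = y) : Np hF p x * Np hF r y = Np hF r y * Np hF p x := by
  apply ext_act
  intro v
  rw [act_mul, act_mul, act_Np hF H.pp hx, act_Np hF H.rr hy, act_Np hF H.pp hx, act_Np hF H.rr hy]
  simp only [herm_add_left, herm_sub_left, herm_smul_left, H.pp, H.rr, H.rp, H.pr]
  funext i
  simp only [Pi.add_apply, Pi.sub_apply, Pi.smul_apply, smul_eq_mul]
  ring

theorem Mm_Nr (x : F) {y : F} (hy : y ^ q = y) : Mm hF p r x * Np hF r y = Np hF r y * Mm hF p r x := by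
  apply ext_act
  intro v
  rw [act_mul, act_mul, act_Mm hF H.pp H.rr H.rp, act_Mm hF H.pp H.rr H.rp, act_Np hF H.rr hy, act_Np hF H.rr hy]
  simp only [herm_add_left, herm_sub_left, herm_smul_left, H.pp, H.rr, H.rp, H.pr]
  funext i
  simp only [Pi.add_apply, Pi.sub_apply, Pi.smul_apply, smul_eq_mul]
  ring

theorem Gg_Np (l : F) {x : F} (hx : x ^ q = x) : Mm hF p r' l * Np hF p x * (Mm hF p r' l)⁻¹ = Np hF p x := by
  rw [mul_inv_eq_iff_eq_mul]
  apply ext_act
  intro v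
  rw [act_mul, act_mul, act_Mm hF H.pp H.r'r' H.r'p, act_Mm hF H.pp H.r'r' H.r'p, act_Np hF H.pp hx, act_Np hF H.pp hx]
  simp only [herm_add_left, herm_sub_left, herm_smul_left, H.pp, H.r'r', H.r'p, H.pr']
  funext i
  simp only [Pi.add_apply, Pi.sub_apply, Pi.smul_apply, smul_eq_mul]
  ring

theorem Gg_Mm (l μ : F) : Mm hF p r' l * Mm hF p r μ * (Mm hF p r' l)⁻¹ =
    Mm hF p r μ * Np hF p (l * μ ^ q + l ^ q * μ) := by
  have h2 : (2 : F) = 0 := CharTwo.two_eq_zero
  have hx : (l * μ ^ q + l ^ q * μ) ^ q = l * μ ^ q + l ^ q * μ := by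
    rw [add_pow_q hF, mul_pow, mul_pow, pow_q_pow_q hF, pow_q_pow_q hF]; ring
  rw [mul_inv_eq_iff_eq_mul]
  apply ext_act
  intro v
  rw [act_mul, act_mul, act_mul, act_Mm hF H.pp H.r'r' H.r'p, act_Mm hF H.pp H.r'r' H.r'p,
    act_Mm hF H.pp H.rr H.rp, act_Mm hF H.pp H.rr H.rp, act_Np hF H.pp hx]
  simp only [herm_add_left, herm_sub_left, herm_smul_left, H.pp, H.rr, H.rp, H.pr, H.r'r', H.r'p, H.pr', H.rr', H.r'r]
  funext i
  simp only [Pi.add_apply, Pi.sub_apply, Pi.smul_apply, smul_eq_mul, CharTwo.sub_eq_add]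
  linear_combination (-(μ * hermForm n F q v p * p i * l ^ q)) * h2

theorem Gg_Nr (l : F) {y : F} (hy : y ^ q = y) : Mm hF p r' l * Np hF r y * (Mm hF p r' l)⁻¹ =
    Np hF r y * Mm hF p r (l * y) * Np hF p (l * l ^ q * y) := by
  have h2 : (2 : F) = 0 := CharTwo.two_eq_zero
  have hx : (l * l ^ q * y) ^ q = l * l ^ q * y := by
    rw [mul_pow, norm_pow_q hF, hy]
  rw [mul_inv_eq_iff_eq_mul]
  apply ext_act
  intro v
  rw [act_mul, act_mul, act_mul, act_mul, act_Mm hF H.pp H.r'r' H.r'p, act_Mm hF H.pp H.r'r' H.r'p,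
    act_Mm hF H.pp H.rr H.rp, act_Np hF H.pp hx, act_Np hF H.rr hy, act_Np hF H.rr hy]
  simp only [herm_add_left, herm_sub_left, herm_smul_left, H.pp, H.rr, H.rp, H.pr, H.r'r', H.r'p, H.pr', H.rr', H.r'r,
    mul_pow, hy]
  funext i
  simp only [Pi.add_apply, Pi.sub_apply, Pi.smul_apply, smul_eq_mul, CharTwo.sub_eq_add]
  linear_combination (-(y * r i * l ^ q * hermForm n F q v p + y * l * l ^ q * hermForm n F q v p * p i)) * h2

theorem Inj_aux {x μ y : F} (hx : x ^ q = x) (hy : y ^ q = y) (h : Np hF p x * Mm hF p r μ * Np hF r y = 1) :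
    x = 0 ∧ μ = 0 ∧ y = 0 := by
  have h1 := congrArg (fun g => act g p') h
  have h2 := congrArg (fun g => act g r') h
  simp only [act_mul, act_one] at h1 h2
  rw [act_Np hF H.rr hy, act_Mm hF H.pp H.rr H.rp, act_Np hF H.pp hx] at h1 h2
  have e1 := congrArg (fun w => hermForm n F q w p') h1
  have e2 := congrArg (fun w => hermForm n F q w p') h2
  have e3 := congrArg (fun w => hermForm n F q w r') h2
  simp only [herm_add_left, herm_sub_left, herm_smul_left, H.pp, H.rr, H.rp, H.pr, H.r'r', H.r'p, H.pr', H.rr', H.r'r,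
    H.p'p', H.p'p, H.pp', H.p'r, H.rp', H.p'r', H.r'p'] at e1 e2 e3
  simp only [CharTwo.sub_eq_add, mul_zero, mul_one, add_zero, zero_add, zero_mul] at e1 e2 e3
  exact ⟨e1, e2, e3⟩

theorem Np_p {x : F} (hx : x ^ q = x) : act (Np hF p x) p = p := by
  rw [act_Np hF H.pp hx, H.pp, mul_zero, zero_smul, add_zero]

theorem Np_r {x : F} (hx : x ^ q = x) : act (Np hF r x) p = p := by
  rw [act_Np hF H.rr hx, H.pr, mul_zero, zero_smul, add_zero]

theorem Mm_p (μ : F) : act (Mm hF p r μ) p = p := by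
  rw [act_Mm hF H.pp H.rr H.rp, H.pp, H.pr, mul_zero, mul_zero, zero_smul, zero_smul, add_zero, sub_zero]

theorem Mm_r (μ : F) : act (Mm hF p r μ) r = r := by
  rw [act_Mm hF H.pp H.rr H.rp, H.rr, H.rp, mul_zero, mul_zero, zero_smul, zero_smul, add_zero, sub_zero]

theorem Gg_p (l : F) : act (Mm hF p r' l) p = p := by
  rw [act_Mm hF H.pp H.r'r' H.r'p, H.pp, H.pr', mul_zero, mul_zero, zero_smul, zero_smul, add_zero, sub_zero]

theorem Gg_r (l : F) : act (Mm hF p r' l) r = r + l • p := by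
  rw [act_Mm hF H.pp H.r'r' H.r'p, H.rp, H.rr', mul_zero, zero_smul, add_zero, mul_one]
  funext i
  rw [Pi.sub_apply, Pi.add_apply, CharTwo.sub_eq_add]

end

section coord

variable {G : Type*} [Group G] {t : G} {j : PSU n F q →* G}

/-- The coordinates of the line `⟨p, r⟩`. -/
theorem coord [CharP F 2] (S : Sit n F q t j) (hF : Fintype.card F = q ^ 2) (hn : 3 ≤ n) {p p' r r' : Fin n → F}
    (H : P2 q p p' r r') :
    Defs.Coord (sig hF) t (fun x => fj n F q j (Np hF p x)) (fun y => fj n F q j (Np hF r y))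
      (fun μ => fj n F q j (Mm hF p r μ)) (fun l => fj n F q j (Mm hF p r' l)) where
  tt := S.tt
  two := CharTwo.add_self_eq_zero
  σσ := pow_q_pow_q hF
  nt := exists_not_fixed hF
  np_add x y hx hy := by rw [Np_add hF H hx hy, map_mul]
  nr_add x y hx hy := by rw [Np_add hF H.swap hx hy, map_mul]
  m_add x y := by rw [Mm_add hF H, map_mul]
  np_m x y hx := by rw [← map_mul, ← map_mul, Np_Mm hF H hx]
  np_nr x y hx hy := by rw [← map_mul, ← map_mul, Np_Nr hF H hx hy]
  m_nr x y hy := by rw [← map_mul, ← map_mul, Mm_Nr hF H _ hy]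
  inj x μ y hx hy h := by
    rw [← map_mul, ← map_mul] at h
    refine Inj_aux hF H hx hy (S.eq_one hF hn H.p_ne ?_ h)
    rw [act_mul, act_mul, Np_r hF H hy, Mm_p hF H, Np_p hF H hx]
  t_np x hx := S.tj _
  t_nr x hx := S.tj _
  t_m x := S.tj _
  t_g x := S.tj _
  g_add x y := by rw [Gg_add hF H, map_mul]
  g_np l x hx := by rw [← map_inv, ← map_mul, ← map_mul, Gg_Np hF H l hx]
  g_m l μ := by rw [← map_inv, ← map_mul, ← map_mul, Gg_Mm hF H, map_mul]; rfl
  g_nr l y hy := by rw [← map_inv, ← map_mul, ← map_mul, Gg_Nr hF H l hy, map_mul, map_mul]; rfl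

end coord

end Cfsg.Agent.OddHalf.D7.Uni.Face
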