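import Cfsg.Agent.OddHalf.D7.Uni.FaceQ
import Cfsg.Agent.OddHalf.D7.Uni.FaceComm

/-!
# `R_p` over `Face.Dbl` (helper371)

`RP hF j W p`: the double of `Q_p`. Input: `Cm` = all `W s` of a t.i. line commute and are elementary abelian.
Output: `rdata : Quad.RData`, `pt : Norm.Pt`, `pair : Norm.Pair` (for every `P2 q p p' r r'`), `RP_conj`.
-/

set_option autoImplicit false
set_option linter.unusedSectionVars false

namespace Cfsg.Agent.OddHalf.D7.Uni.Face

open Cfsg Cfsg.Agent.LieClassical.HermBasic Cfsg.Agent.LieClassical.HermSiegel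
  Cfsg.Agent.LieClassical.HermGen Cfsg.Agent.LieClassical.SUBasic Matrix
  Cfsg.Agent.ClassicalGeometry.PSUAutBasic Cfsg.Agent.ClassicalGeometry.PSUAutSylow
  Cfsg.Agent.ClassicalGeometry.PSUAutUnip Cfsg.Agent.ClassicalGeometry.PSUAutPhi
  Cfsg.Agent.KFacts.Unit

variable {F : Type*} [Field F] [Fintype F] {q n : ℕ} {G : Type*} [Group G]

/-- the frames of the t.i. lines through `p` -/
abbrev Fr (q : ℕ) (p : Fin n → F) : Type _ :=
  {x : (Fin n → F) × (Fin n → F) × (Fin n → F) // P2 q p x.1 x.2.1 x.2.2}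

/-- `E_l` for `l = ⟨p, r⟩` -/
noncomputable def EP (hF : Fintype.card F = q ^ 2) (j : PSU n F q →* G) (W : (Fin n → F) → Subgroup G)
    (p r r' : Fin n → F) : Subgroup G :=
  Subgroup.closure (LineGrp.gens (W p) (W r) (fun μ => fj n F q j (Mm hF p r μ))
    (fun l => fj n F q j (Mm hF p r' l)))

/-- `E_{p,l}` -/
noncomputable def AP (hF : Fintype.card F = q ^ 2) (j : PSU n F q →* G) (W : (Fin n → F) → Subgroup G)
    (p : Fin n → F) (hp : hermForm n F q p p = 0) (i : Fr q p) : Subgroup G :=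
  Quad.Evl (EP hF j W p i.1.2.1 i.1.2.2) (W p) (QP hF j p hp)

/-- `R_p` -/
noncomputable def RP (hF : Fintype.card F = q ^ 2) (j : PSU n F q →* G) (W : (Fin n → F) → Subgroup G)
    (p : Fin n → F) (hp : hermForm n F q p p = 0) : Subgroup G :=
  Quad.Rv (W p) (QP hF j p hp) (AP hF j W p hp)

/-- all the `W s`, `s` on a t.i. line, commute and are elementary abelian -/
structure Cm (hF : Fintype.card F = q ^ 2) (j : PSU n F q →* G) (W : (Fin n → F) → Subgroup G) : Prop where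
  comm : ∀ {p p' r r' : Fin n → F}, P2 q p p' r r' →
    LineGrp.Comm (W p) (W r) (fun l => fj n F q j (Mm hF p r' l))
  sq : ∀ {u : Fin n → F}, u ≠ 0 → hermForm n F q u u = 0 → ∀ w ∈ W u, w * w = 1

variable {t : G} {j : PSU n F q →* G} {W : (Fin n → F) → Subgroup G} {hF : Fintype.card F = q ^ 2}

/-- `Cm` holds (`FaceComm`) -/
theorem Dbl.cm [CharP F 2] (D : Dbl hF t j W) (hn : 6 ≤ n) : Cm hF j W where
  comm := fun H => D.comm (by omega) (D.pr hn) H
  sq := fun hu0 hu _ hw => D.elem (by omega) (D.pr hn) hu0 hu hw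

/-- `Quad.EL` of the line `⟨p, r⟩` -/
theorem el [CharP F 2] (D : Dbl hF t j W) (C : Cm hF j W) (hn : 4 ≤ n) {p p' r r' : Fin n → F}
    (H : P2 q p p' r r') :
    Quad.EL (sig hF) t (EP hF j W p r r') (W p) (QP hF j p H.pp) (fun x => fj n F q j (Np hF p x))
      (fun y => fj n F q j (Np hF r y)) (fun μ => fj n F q j (Mm hF p r μ))
      (fun l => fj n F q j (Mm hF p r' l)) := by
  refine Quad.EL.of_line (D.line hn H) (C.comm H) (C.sq H.p_ne H.pp) (C.sq H.r_ne H.rr)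
    (fun l => Gg_mem hF H.pp H l) (fun x hx => Np_mem hF H.pp hx) (fun x => Mm_mem hF H.pp H x) ?_
  intro y hy
  obtain ⟨l, w, μ, h, hwr, rfl⟩ := QP_line hF H.pp H hy
  refine ⟨l, _, mem_OE.2 ⟨_, ?_, ?_, rfl⟩, rfl⟩
  · rw [Sg_eq hF h]
    exact act_siegel_self hF h
  · rw [Sg_eq hF h]
    exact act_siegel_of_orth hF h H.rp (herm_eq_zero_swap hF hwr)

theorem exists_P2' (hF : Fintype.card F = q ^ 2) (hn : 6 ≤ n) {p : Fin n → F} (hp0 : p ≠ 0)
    (hp : hermForm n F q p p = 0) [CharP F 2] : ∃ p' r r' : Fin n → F, Hyp q p p' ∧ P2 q p p' r r' := by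
  obtain ⟨p', h1, h2, -⟩ := exists_partner hF hp0 hp
  have H : Hyp q p p' := ⟨hp, h1, h2⟩
  obtain ⟨r, hr, r', hr', Hs⟩ := exists_pair_NN hF hn H
  exact ⟨p', r, r', H,
    { pp := H.ee
      p'p' := H.ff
      pp' := H.ef
      p'p := H.fe hF
      rr := Hs.ee
      r'r' := Hs.ff
      rr' := Hs.ef
      r'r := Hs.fe hF
      pr := herm_eq_zero_swap hF hr.1
      rp := hr.1
      pr' := herm_eq_zero_swap hF hr'.1
      r'p := hr'.1
      p'r := herm_eq_zero_swap hF hr.2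
      rp' := hr.2
      p'r' := herm_eq_zero_swap hF hr'.2
      r'p' := hr'.2 }⟩

/-- **`Quad.RData` at the point `p`.** -/
theorem rdata [CharP F 2] (D : Dbl hF t j W) (C : Cm hF j W) (hn : 6 ≤ n) {p : Fin n → F} (hp0 : p ≠ 0)
    (hp : hermForm n F q p p = 0) :
    Quad.RData t (XP hF j p hp) (W p) (QP hF j p hp) (AP hF j W p hp) := by
  obtain ⟨p', r, r', Hp, H⟩ := exists_P2' hF hn hp0 hp
  refine Quad.RData.of_lines (σ := sig hF) (E := fun i : Fr q p => EP hF j W p i.1.2.1 i.1.2.2)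
    (np := fun _ x => fj n F q j (Np hF p x)) (nr := fun i y => fj n F q j (Np hF i.1.2.1 y))
    (m := fun i μ => fj n F q j (Mm hF p i.1.2.1 μ)) (g := fun i l => fj n F q j (Mm hF p i.1.2.2 l))
    (fun i => el D C (by omega) i.2) D.tt (XP_ne hF hp D.toSit (by omega) hp0) ⟨(p', r, r'), H⟩
    (fun i x => mem_XP) (fun y hy => QP_t hF hp D.toSit hy) (fun a ha b hb => QP_comm hF hp ha hb)
    (fun a ha => QP_sq hF hp ha) (fun z hz h => QP_cen hF hp D.toSit (by omega) hp0 hz h)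
    (fun c hc h => QP_k2 hF hp D.toSit hn hp0 hc h) ?_
  refine QP_gen_aux hF hp hn Hp _ (fun a ha => ?_) (fun s s' Hs => ?_)
  · refine Subgroup.subset_closure ⟨⟨(p', r, r'), H⟩, a, 0, ha, ?_⟩
    rw [Quad.Coord.m_zero (coord D.toSit hF (by omega) H), mul_one]
  · refine Subgroup.subset_closure ⟨⟨(p', s, s'), Hs⟩, 0, 1, map_zero _, ?_⟩
    rw [Quad.Coord.np_zero (coord D.toSit hF (by omega) Hs), one_mul]

/-- **`Norm.Pt` at the point `p`.** -/
theorem pt [CharP F 2] (D : Dbl hF t j W) (C : Cm hF j W) (hn : 6 ≤ n) {p : Fin n → F} (hp0 : p ≠ 0)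
    (hp : hermForm n F q p p = 0) :
    Norm.Pt t (XP hF j p hp) (W p) (QP hF j p hp) (RP hF j W p hp) := (rdata D C hn hp0 hp).pt

theorem XP_conj [CharP F 2] {p p₁ : Fin n → F} (hp : hermForm n F q p p = 0) (hp₁ : hermForm n F q p₁ p₁ = 0)
    {g : SU n F q} (hg : act g p = p₁) {x : G} (hx : x ∈ XP hF j p hp) :
    fj n F q j g * x * (fj n F q j g)⁻¹ ∈ XP hF j p₁ hp₁ := by
  obtain ⟨a, ha, rfl⟩ := mem_XP.1 hx
  refine mem_XP.2 ⟨a, ha, ?_⟩
  rw [← map_inv, ← map_mul, ← map_mul, Np, conj_Sg hF (isS_np hp ha), hg, act_zero, Np]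

theorem QP_conj [CharP F 2] {p p₁ : Fin n → F} (hp : hermForm n F q p p = 0) (hp₁ : hermForm n F q p₁ p₁ = 0)
    {g : SU n F q} (hg : act g p = p₁) {x : G} (hx : x ∈ QP hF j p hp) :
    fj n F q j g * x * (fj n F q j g)⁻¹ ∈ QP hF j p₁ hp₁ := by
  obtain ⟨w, μ, h, rfl⟩ := mem_QP.1 hx
  have h1 := h.map g
  rw [hg] at h1
  refine mem_QP.2 ⟨act g w, μ, h1, ?_⟩
  rw [← map_inv, ← map_mul, ← map_mul, conj_Sg hF h, hg]

theorem QP_smul [CharP F 2] {p : Fin n → F} (hp : hermForm n F q p p = 0) {c : F} (hc : c ≠ 0)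
    (hcp : hermForm n F q (c • p) (c • p) = 0) : QP hF j (c • p) hcp = QP hF j p hp := by
  have key : ∀ (c : F) (p : Fin n → F) (hp : hermForm n F q p p = 0)
      (hcp : hermForm n F q (c • p) (c • p) = 0), QP hF j (c • p) hcp ≤ QP hF j p hp := by
    intro c p hp hcp x hx
    obtain ⟨w, μ, h, rfl⟩ := mem_QP.1 hx
    by_cases hc : c = 0
    · subst hc
      have : Sg hF ((0 : F) • p) w μ = Sg hF p 0 0 := by
        rw [Sg_eq hF h, Sg_eq hF (IsSiegel.zero hF hp), siegel_zero]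
        apply ext_act
        intro v
        rw [act_siegel, act_one, zero_smul, herm_zero_right hF, zero_smul, smul_zero, add_zero, add_zero]
      rw [this]
      exact mem_QP.2 ⟨_, _, IsSiegel.zero hF hp, rfl⟩
    · have h' : IsSiegel q p w μ :=
        ⟨hp, by
          have := h.orth
          rw [herm_smul_right] at this
          exact (mul_eq_zero.1 this).resolve_left (pow_ne_zero _ hc), h.tr⟩
      refine mem_QP.2 ⟨_, _, h'.smul' hF (c := c), ?_⟩
      rw [Sg_eq hF h, Sg_eq hF (h'.smul' hF), ← siegel_smul hF h']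
  apply le_antisymm (key c p hp hcp)
  have h1 : c⁻¹ • (c • p) = p := by rw [smul_smul, inv_mul_cancel₀ hc, one_smul]
  have h2 := key c⁻¹ (c • p) hcp (by rw [h1]; exact hp)
  simp only [h1] at h2
  exact h2

/-- `g R_p g⁻¹ ≤ R_{g p}` -/
theorem RP_conj [CharP F 2] (D : Dbl hF t j W) (C : Cm hF j W) (hn : 6 ≤ n) {p p₁ : Fin n → F} (hp0 : p ≠ 0)
    (hp : hermForm n F q p p = 0) (hp₁ : hermForm n F q p₁ p₁ = 0) {g : SU n F q} (hg : act g p = p₁)
    {x : G} (hx : x ∈ RP hF j W p hp) :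
    fj n F q j g * x * (fj n F q j g)⁻¹ ∈ RP hF j W p₁ hp₁ := by
  have hp₁0 : p₁ ≠ 0 := by
    rintro rfl
    apply hp0
    have h1 := congrArg (act g⁻¹) hg
    rwa [act_inv_act, act_zero] at h1
  have hg' : act g⁻¹ p₁ = p := by rw [← hg, act_inv_act]
  refine (rdata D C hn hp0 hp).conj_mem (rdata D C hn hp₁0 hp₁) (D.tj _) ?_ ?_ ?_ ?_ hx
  · intro w hw
    have h1 := D.conj hp₁0 hp₁ g⁻¹ w hw
    rwa [hg', map_inv, inv_inv] at h1
  · intro w hw
    have h1 := D.conj hp0 hp g w hw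
    rwa [hg] at h1
  · intro y hy
    have h1 := QP_conj (hF := hF) (j := j) hp₁ hp hg' hy
    rwa [map_inv, inv_inv] at h1
  · intro y hy
    exact QP_conj hp hp₁ hg hy

/-- `R_p` depends only on the point -/
theorem RP_smul [CharP F 2] (D : Dbl hF t j W) (C : Cm hF j W) (hn : 6 ≤ n) {p : Fin n → F} (hp0 : p ≠ 0)
    (hp : hermForm n F q p p = 0) {c : F} (hc : c ≠ 0) (hcp : hermForm n F q (c • p) (c • p) = 0) :
    RP hF j W (c • p) hcp = RP hF j W p hp := by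
  have hcp0 : c • p ≠ 0 := smul_ne_zero hc hp0
  ext x
  rw [RP, RP, (rdata D C hn hcp0 hcp).mem_iff, (rdata D C hn hp0 hp).mem_iff, D.smul hp0 hp hc, QP_smul hp hc hcp]

/-- **`Norm.Pair` for the pair `(p, r)`.** -/
theorem pair [CharP F 2] (D : Dbl hF t j W) (C : Cm hF j W) (hn : 6 ≤ n) {p p' r r' : Fin n → F}
    (H : P2 q p p' r r') :
    Norm.Pair t (XP hF j p H.pp) (W p) (QP hF j p H.pp) (RP hF j W p H.pp) (XP hF j r H.rr) (W r) := by
  have L := el D C (by omega) H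
  refine (rdata D C hn H.p_ne H.pp).pair_of L ?_ ?_ ?_ ?_ ?_ ?_ ?_
  · exact (rdata D C hn H.p_ne H.pp).A_R ⟨(p', r, r'), H⟩
  · intro w hw
    refine Subgroup.subset_closure (Or.inr (Or.inl ⟨0, w, hw, ?_⟩))
    have h0 := Quad.Coord.g_zero L.toCoord
    simp only at h0 ⊢
    rw [h0]
    group
  · exact D.X_le H.r_ne H.rr
  · rintro _ ⟨z, -, rfl⟩
    exact D.tj z
  · intro w hw
    obtain ⟨x, hx, e⟩ := D.brk H.r_ne H.rr w hw
    exact ⟨_, ⟨x, hx, rfl⟩, e⟩
  · intro z hz y hy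
    obtain ⟨a, ha, rfl⟩ := mem_XP.1 hz
    exact QP_conj H.pp H.pp (Np_r hF H ha) hy
  · intro z hz hz1 y hy h w hw
    obtain ⟨g, hg, rfl⟩ := QP_perp hF H.pp D.toSit (by omega) H hz hz1 hy h
    exact D.cent H.r_ne H.rr w hw g hg

/-- **`W_r` normalises `R_p`.** -/
theorem W_norm [CharP F 2] (D : Dbl hF t j W) (C : Cm hF j W) (hn : 6 ≤ n) {p p' r r' : Fin n → F}
    (H : P2 q p p' r r') {w x : G} (hw : w ∈ W r) (hx : x ∈ RP hF j W p H.pp) :
    w * x * w⁻¹ ∈ RP hF j W p H.pp :=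
  (pair D C hn H).conj_mem (pt D C hn H.p_ne H.pp) hw hx

end Cfsg.Agent.OddHalf.D7.Uni.Face
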