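import Cfsg.Agent.OddHalf.D7.Uni.Evl
import Cfsg.Agent.OddHalf.D7.Uni.Rv

/-!
# `|R_v| = |Q_v|²`, `[R_v, R_v] = W_v`, and `RData` from the lines through `v` (helper371, bb ODD 10033, section 4)
-/

set_option autoImplicit false

namespace Cfsg.Agent.OddHalf.D7.Uni.Quad

open Defs

variable {G : Type*} [Group G] {ι : Type*}

section card

/-- `|K| = |f K| |K ∩ ker f|` -/
theorem card_map_ker {H : Type*} [Group H] (f : G →* H) (K : Subgroup G) :
    Nat.card K = Nat.card (K.map f) * Nat.card (f.ker ⊓ K : Subgroup G) := by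
  have h1 := Subgroup.card_mul_index (f.comp K.subtype).ker
  rw [Subgroup.index_ker] at h1
  have h2 : (f.comp K.subtype).range = K.map f := by
    rw [MonoidHom.range_comp, Subgroup.range_subtype]
  have h3 : Nat.card (f.comp K.subtype).ker = Nat.card (f.ker ⊓ K : Subgroup G) := by
    refine Nat.card_congr ⟨fun x => ⟨x.1.1, x.2, x.1.2⟩, fun x => ⟨⟨x.1, x.2.2⟩, x.2.1⟩,
      fun x => rfl, fun x => rfl⟩
  rw [h2, h3] at h1
  rw [← h1, mul_comm]

end card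

namespace RData

variable {t : G} {X W Q : Subgroup G} {A : ι → Subgroup G}

/-- `|W| = |X|²` -/
theorem card_W (D : RData t X W Q A) : Nat.card W = Nat.card X ^ 2 := by
  let f : W →* G :=
    { toFun := fun w => w.1⁻¹ * (t * w.1 * t)
      map_one' := by simp [D.tt]
      map_mul' := fun a b => by
        obtain ⟨x, hx, ex⟩ := D.W_brk a.1 a.2
        have h := D.W_ab x (D.XW hx) _ (W.inv_mem b.2)
        change (a.1 * b.1)⁻¹ * (t * (a.1 * b.1) * t) = _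
        rw [D.t_mul, ex]
        calc (a.1 * b.1)⁻¹ * (a.1 * x * (t * b.1 * t)) = (b.1⁻¹ * x) * (t * b.1 * t) := by group
          _ = _ := by rw [← h]; group }
  have h1 := Subgroup.card_mul_index f.ker
  rw [Subgroup.index_ker] at h1
  have h2 : f.range = X := by
    ext x
    constructor
    · rintro ⟨w, rfl⟩
      obtain ⟨y, hy, ey⟩ := D.W_brk w.1 w.2
      change w.1⁻¹ * (t * w.1 * t) ∈ X
      rw [ey, inv_mul_cancel_left]
      exact hy
    · intro hx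
      obtain ⟨w, hw, ew⟩ := D.W_surj x hx
      refine ⟨⟨w, hw⟩, ?_⟩
      change w⁻¹ * (t * w * t) = x
      rw [ew, inv_mul_cancel_left]
  have h3 : Nat.card f.ker = Nat.card X := by
    refine Nat.card_congr ⟨fun w => ⟨w.1.1, D.W_cent _ w.1.2 ?_⟩,
      fun x => ⟨⟨x.1, D.XW x.2⟩, ?_⟩, fun x => rfl, fun x => rfl⟩
    · rw [D.comm_iff]
      have h : w.1.1⁻¹ * (t * w.1.1 * t) = 1 := w.2
      exact (inv_mul_eq_one.mp h).symm
    · change x.1⁻¹ * (t * x.1 * t) = 1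
      rw [D.comm_iff.mp (D.Qt _ (D.XQ x.2)), inv_mul_cancel]
  rw [h2, h3] at h1
  rw [← h1, sq]

/-- `|R| = |Q|²` -/
theorem card_R [Finite G] (D : RData t X W Q A) : Nat.card (Rv W Q A) = Nat.card Q ^ 2 := by
  set R := Rv W Q A with hR
  have hn : (W.subgroupOf R).Normal := ⟨fun w hw r => by
    rw [Subgroup.mem_subgroupOf] at hw ⊢
    have h := D.R_W r.2 w.1 hw
    have : ((r * w * r⁻¹ : R) : G) = w.1 := by
      push_cast
      rw [h, mul_inv_cancel_right]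
    rw [this]
    exact hw⟩
  let mk : R →* R ⧸ W.subgroupOf R := QuotientGroup.mk' _
  let ψ : R →* R ⧸ W.subgroupOf R :=
    { toFun := fun r => mk ⟨r.1⁻¹ * (t * r.1 * t), R.mul_mem (R.inv_mem r.2) (D.t_R r.2)⟩
      map_one' := by
        rw [← map_one mk]
        congr 1
        apply Subtype.ext
        simp [D.tt]
      map_mul' := fun a b => by
        rw [← map_mul]
        refine QuotientGroup.eq.mpr ?_
        rw [Subgroup.mem_subgroupOf]
        push_cast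
        have ha : a.1⁻¹ * (t * a.1 * t) ∈ R := R.mul_mem (R.inv_mem a.2) (D.t_R a.2)
        have h1 := D.R_R (R.inv_mem (D.t_R b.2)) (R.inv_mem ha)
        have h2 := D.R_R (R.inv_mem b.2) ha
        -- `(s⁻¹ c s c')⁻¹ (c c')`, `c' = s⁻¹ s^t`
        have e : ((a.1 * b.1)⁻¹ * (t * (a.1 * b.1) * t))⁻¹ *
            (a.1⁻¹ * (t * a.1 * t) * (b.1⁻¹ * (t * b.1 * t))) =
            (t * b.1 * t)⁻¹ * ((a.1⁻¹ * (t * a.1 * t))⁻¹ * b.1 * (a.1⁻¹ * (t * a.1 * t)) * b.1⁻¹) *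
              (t * b.1 * t) := by
          rw [D.t_mul]
          group
        rw [e]
        have h3 := D.R_R (R.inv_mem ha) b.2
        rw [inv_inv] at h3
        have h4 := D.R_W (R.inv_mem (D.t_R b.2)) _ h3
        rw [h4, inv_mul_cancel_right]
        exact h3 }
  have hker : ∀ r : R, r ∈ ψ.ker ↔ ∃ w ∈ W, r.1 * w ∈ Q := by
    intro r
    rw [MonoidHom.mem_ker]
    have h0 : ψ r = 1 ↔ r.1⁻¹ * (t * r.1 * t) ∈ W := by
      change QuotientGroup.mk _ = _ ↔ _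
      rw [QuotientGroup.eq_one_iff, Subgroup.mem_subgroupOf]
    rw [h0]
    constructor
    · intro h
      exact D.fix_R r.2 h (by group)
    · rintro ⟨w, hw, h⟩
      have h1 := D.comm_iff.mp (D.Qt _ h)
      obtain ⟨x, hx, ex⟩ := D.W_brk w hw
      rw [D.t_mul, ex] at h1
      have h2 : t * r.1 * t = r.1 * (w * (w * x)⁻¹) := by
        calc t * r.1 * t = (t * r.1 * t) * (w * x) * (w * x)⁻¹ := by group
          _ = _ := by rw [h1]; group
      rw [h2, inv_mul_cancel_left]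
      exact W.mul_mem hw (W.inv_mem (W.mul_mem hw (D.XW hx)))
  have hrange : ψ.range = (Q.subgroupOf R).map mk := by
    ext z
    constructor
    · rintro ⟨r, rfl⟩
      obtain ⟨q, hq, w, hw, e⟩ := D.brk_R r.2
      refine ⟨⟨q, D.Q_R hq⟩, hq, ?_⟩
      refine QuotientGroup.eq.mpr ?_
      rw [Subgroup.mem_subgroupOf]
      push_cast
      rw [e]
      have : q⁻¹ * (r.1⁻¹ * (r.1 * (q * w))) = w := by group
      rw [this]
      exact hw
    · rintro ⟨q, hq, rfl⟩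
      obtain ⟨r, hr, w, hw, e⟩ := D.surj_R (Subgroup.mem_subgroupOf.mp hq)
      refine ⟨⟨r, hr⟩, ?_⟩
      refine QuotientGroup.eq.mpr ?_
      rw [Subgroup.mem_subgroupOf]
      push_cast
      rw [e]
      have : (r⁻¹ * (r * (q.1 * w)))⁻¹ * q.1 = w⁻¹ := by group
      rw [this]
      exact W.inv_mem hw
  have hkerc : ψ.ker.map mk = (Q.subgroupOf R).map mk := by
    ext z
    constructor
    · rintro ⟨r, hr, rfl⟩
      obtain ⟨w, hw, h⟩ := (hker r).mp hr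
      refine ⟨⟨r.1 * w, D.Q_R h⟩, h, ?_⟩
      refine QuotientGroup.eq.mpr ?_
      rw [Subgroup.mem_subgroupOf]
      push_cast
      have : (r.1 * w)⁻¹ * r.1 = w⁻¹ := by group
      rw [this]
      exact W.inv_mem hw
    · rintro ⟨q, hq, rfl⟩
      exact ⟨q, (hker q).mpr ⟨1, W.one_mem, by rw [mul_one]; exact hq⟩, rfl⟩
  have hmkker : mk.ker = W.subgroupOf R := QuotientGroup.ker_mk' _
  have c1 := Subgroup.card_mul_index ψ.ker
  rw [Subgroup.index_ker, hrange] at c1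
  have c2 := card_map_ker mk ψ.ker
  have c3 := card_map_ker mk (Q.subgroupOf R)
  have c4 : Nat.card (mk.ker ⊓ ψ.ker : Subgroup R) = Nat.card W := by
    rw [hmkker]
    refine Nat.card_congr ⟨fun x => ⟨x.1.1, x.2.1⟩, fun x => ⟨⟨x.1, D.W_R x.2⟩, x.2, ?_⟩,
      fun x => rfl, fun x => rfl⟩
    exact (hker _).mpr ⟨x.1⁻¹, W.inv_mem x.2, by rw [mul_inv_cancel]; exact Q.one_mem⟩
  have c5 : Nat.card (mk.ker ⊓ Q.subgroupOf R : Subgroup R) = Nat.card X := by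
    rw [hmkker]
    exact Nat.card_congr ⟨fun x => ⟨x.1.1, D.Q_W x.2.2 x.2.1⟩,
      fun x => ⟨⟨x.1, D.Q_R (D.XQ x.2)⟩, D.XW x.2, D.XQ x.2⟩, fun x => rfl, fun x => rfl⟩
  have c6 : Nat.card (Q.subgroupOf R) = Nat.card Q :=
    Nat.card_congr (Subgroup.subgroupOfEquivOfLe D.Q_R).toEquiv
  rw [hkerc, c4] at c2
  rw [c5, c6] at c3
  rw [← c1, c2, c3, D.card_W]
  ring

/-- `[R, R] ≥ W`, if the commutators of `Q` generate `X` -/
theorem W_le_comm (D : RData t X W Q A) {B : Subgroup G}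
    (hB : ∀ r ∈ Rv W Q A, ∀ s ∈ Rv W Q A, r * s * r⁻¹ * s⁻¹ ∈ B)
    (hX : X ≤ Subgroup.closure {x | ∃ p ∈ Q, ∃ q ∈ Q, x = p * q * p⁻¹ * q⁻¹}) : W ≤ B := by
  have hXB : X ≤ B := hX.trans ((Subgroup.closure_le _).mpr (by
    rintro _ ⟨p, hp, q, hq, rfl⟩
    exact hB p (D.Q_R hp) q (D.Q_R hq)))
  -- every element of `X` is `[w, t]` for some `w ∈ B`
  have key : ∀ x ∈ X, ∃ w ∈ W, w ∈ B ∧ t * w * t = w * x := by
    intro x hx
    refine Subgroup.closure_induction (p := fun x _ => ∃ w ∈ W, w ∈ B ∧ t * w * t = w * x)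
      ?_ ?_ ?_ ?_ (hX hx)
    · rintro _ ⟨p, hp, q, hq, rfl⟩
      obtain ⟨r, hr, w, hw, e⟩ := D.surj_R hp
      have hc := D.R_R hr (D.Q_R hq)
      have hpq := D.Q_comm p hp q hq
      refine ⟨r * q * r⁻¹ * q⁻¹, hc, hB r hr q (D.Q_R hq), ?_⟩
      rw [D.t_mul, D.t_mul, D.t_mul, D.t_invt, D.t_invt, e, D.comm_iff.mp (D.Qt q hq)]
      have k1 := D.W_Q w hw q hq
      have k2 := D.R_W hr _ (D.XW hpq)
      have k3 := D.W_Q w hw p hp
      calc r * (p * w) * q * (r * (p * w))⁻¹ * q⁻¹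
          = r * p * (w * q) * w⁻¹ * p⁻¹ * r⁻¹ * q⁻¹ := by group
        _ = r * (p * q * p⁻¹ * q⁻¹) * q * r⁻¹ * q⁻¹ := by rw [k1]; group
        _ = (p * q * p⁻¹ * q⁻¹) * (r * q * r⁻¹ * q⁻¹) := by rw [k2]; group
        _ = _ := D.W_ab _ (D.XW hpq) _ hc
    · exact ⟨1, W.one_mem, B.one_mem, by rw [mul_one, D.tt, mul_one]⟩
    · rintro x y hx' hy' ⟨w, hw, hwB, e⟩ ⟨v, hv, hvB, e'⟩
      refine ⟨w * v, W.mul_mem hw hv, B.mul_mem hwB hvB, ?_⟩
      rw [D.t_mul, e, e']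
      have hxX : x ∈ W := by
        have : x = w⁻¹ * (t * w * t) := by rw [e]; group
        obtain ⟨z, hz, ez⟩ := D.W_brk w hw
        rw [this, ez, inv_mul_cancel_left]
        exact D.XW hz
      have k := D.W_ab x hxX v hv
      calc w * x * (v * y) = w * (x * v) * y := by group
        _ = _ := by rw [k]; group
    · rintro x hx' ⟨w, hw, hwB, e⟩
      refine ⟨w⁻¹, W.inv_mem hw, B.inv_mem hwB, ?_⟩
      rw [D.t_invt, e]
      have hxX : x ∈ W := by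
        have : x = w⁻¹ * (t * w * t) := by rw [e]; group
        obtain ⟨z, hz, ez⟩ := D.W_brk w hw
        rw [this, ez, inv_mul_cancel_left]
        exact D.XW hz
      rw [mul_inv_rev]
      exact D.W_ab _ (W.inv_mem hxX) _ (W.inv_mem hw)
  intro w hw
  obtain ⟨x, hx, e⟩ := D.W_brk w hw
  obtain ⟨v, hv, hvB, e'⟩ := key x hx
  have h1 : w * v⁻¹ ∈ X := by
    refine D.W_cent _ (W.mul_mem hw (W.inv_mem hv)) ?_
    rw [D.comm_iff, D.t_mul, D.t_invt, e, e']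
    group
  have : w = (w * v⁻¹) * v := by group
  rw [this]
  exact B.mul_mem (hXB h1) hvB

end RData

variable {F : Type*} [Field F]

/-- `RData` from the lines through `v` -/
theorem RData.of_lines {σ : F →+* F} {t : G} {X W Q : Subgroup G} {E : ι → Subgroup G}
    {np nr m g : ι → F → G} (L : ∀ i, EL σ t (E i) W Q (np i) (nr i) (m i) (g i))
    (tt : t * t = 1) (hne : ∃ x ∈ X, x ≠ 1) (i₀ : ι)
    (hX : ∀ i x, x ∈ X ↔ ∃ a, σ a = a ∧ x = np i a)
    (Qt : ∀ q ∈ Q, t * q = q * t) (Q_comm : ∀ a ∈ Q, ∀ b ∈ Q, a * b * a⁻¹ * b⁻¹ ∈ X)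
    (Q_sq : ∀ q ∈ Q, q * q ∈ X) (Q_cen : ∀ z ∈ Q, (∀ q ∈ Q, z * q = q * z) → z ∈ X)
    (k2 : ∀ c, c * t = t * c → (∀ q ∈ Q, q * c * q⁻¹ * c⁻¹ ∈ X) → c ∈ Q ∨ t * c ∈ Q)
    (Q_gen : Q ≤ Subgroup.closure {q | ∃ i x μ, σ x = x ∧ q = np i x * m i μ}) :
    RData t X W Q (fun i => Evl (E i) W Q) where
  tt := tt
  X_ne := hne
  XQ := fun x hx => by
    obtain ⟨a, ha, rfl⟩ := (hX i₀ x).mp hx
    exact (L i₀).npQ a ha
  Qt := Qt
  Q_comm := Q_comm
  Q_sq := Q_sq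
  Q_cen := Q_cen
  k2 := k2
  W_ab := fun v hv w hw => (L i₀).ab v ((L i₀).WE hv) w ((L i₀).WE hw)
  W_sq := fun w hw => (L i₀).sq w ((L i₀).WE hw)
  W_Q := fun w hw q hq => ((L i₀).q_W hq hw).symm
  W_brk := fun w hw => by
    obtain ⟨x, hx, e⟩ := (L i₀).dW.brk w hw
    exact ⟨_, (hX i₀ _).mpr ⟨x, hx, rfl⟩, e⟩
  W_surj := fun x hx => by
    obtain ⟨a, ha, rfl⟩ := (hX i₀ x).mp hx
    exact (L i₀).dW.surj a ha
  W_cent := fun w hw h => by
    obtain ⟨x, hx, rfl⟩ := (L i₀).dW.cent w hw h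
    exact (hX i₀ _).mpr ⟨x, hx, rfl⟩
  XW := fun x hx => by
    obtain ⟨a, ha, rfl⟩ := (hX i₀ x).mp hx
    exact (L i₀).dW.mem a ha
  A_ab := fun i a ha b hb => (L i).ab a ((L i).Evl_le ha) b ((L i).Evl_le hb)
  A_sq := fun i a ha => by
    rw [(L i).sq a ((L i).Evl_le ha)]
    exact W.one_mem
  A_W := fun i a ha w hw => (L i).ab a ((L i).Evl_le ha) w ((L i).WE hw)
  A_Q := fun i a ha q hq => ((L i).mem_Evl.mp ha).2 q hq
  A_brk := fun i a ha => by
    obtain ⟨x, μ, hx, e⟩ := (L i).brk_Evl ha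
    exact ⟨_, (L i).mem_Q hx, (L i).V_le hx, e⟩
  Q_gen := Q_gen.trans (Subgroup.closure_mono (by
    rintro _ ⟨i, x, μ, hx, rfl⟩
    obtain ⟨e, he, h⟩ := (L i).surj_Evl (x := x) (μ := μ) hx
    exact Or.inr ⟨i, e, he, h⟩))

end Cfsg.Agent.OddHalf.D7.Uni.Quad
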