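import Cfsg.Agent.OddHalf.D7.Uni.Norm
import Cfsg.Agent.OddHalf.D7.Uni.RvCard

/-!
# The input of `Norm` from sections 3 and 4 (helper371, text: bb ODD 10033)

`RData.pt : Norm.Pt`, `RData.gen`, `RData.pair_of : Norm.Pair`.
-/

set_option autoImplicit false

namespace Cfsg.Agent.OddHalf.D7.Uni.Quad

open Defs

variable {G : Type*} [Group G] {ι : Type*}

namespace RData

variable {t : G} {X W Q : Subgroup G} {A : ι → Subgroup G}

theorem pt (D : RData t X W Q A) : Norm.Pt t X W Q (Rv W Q A) where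
  tt := D.tt
  WR := D.W_R
  QR := D.Q_R
  tQ := D.Qt
  Wc := fun w hw r hr => (D.R_W hr w hw).symm
  com := fun r hr s hs => D.R_R hr hs
  sq := fun r hr => D.R_sq hr
  brk := fun r hr => D.brk_R hr
  onto := fun q hq => D.surj_R hq
  Wt := fun w hw => by
    obtain ⟨x, hx, e⟩ := D.W_brk w hw
    rw [e]
    exact W.mul_mem hw (D.XW hx)
  Wfix := fun w hw h => D.W_cent w hw h
  Winv := fun w hw h => by
    have h1 : w⁻¹ = w := inv_eq_of_mul_eq_one_left (D.W_sq w hw)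
    rw [h1] at h
    exact D.W_surj w (D.W_cent w hw (D.comm_iff.mpr h))
  k2 := fun c ht hQ hW => by
    refine D.mem_Q_of (fun w hw => hW w hw) (fun q hq => ?_) ht
    exact swapc (D.XW (hQ q hq))

theorem gen (D : RData t X W Q A) : Rv W Q A ≤
    Subgroup.closure {e | e ∈ Rv W Q A ∧ ∃ q ∈ Q, t * e * t = e * q ∧ q * e = e * q} := by
  refine Subgroup.closure_mono ?_
  rintro a (⟨i, ha⟩ | ha | ha)
  · obtain ⟨q, hq, hqA, e⟩ := D.A_brk i a ha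
    exact ⟨D.A_R i ha, q, hq, e, D.A_ab i q hqA a ha⟩
  · exact ⟨D.Q_R ha, 1, Q.one_mem, by rw [mul_one]; exact D.comm_iff.mp (D.Qt a ha),
      by rw [one_mul, mul_one]⟩
  · obtain ⟨x, hx, e⟩ := D.W_brk a ha
    exact ⟨D.W_R ha, x, D.XQ hx, e, D.W_ab x (D.XW hx) a ha⟩

variable {F : Type*} [Field F] {σ : F →+* F} {E : Subgroup G} {np nr m g : F → G}

/-- the pair `(v, u)`, `u` on the line `l` through `v` -/
theorem pair_of (D : RData t X W Q A) (L : EL σ t E W Q np nr m g) (hA : Evl E W Q ≤ Rv W Q A)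
    {Xu Wu : Subgroup G} (hWu : Wu ≤ E) (hXu : Xu ≤ Wu) (tXu : ∀ z ∈ Xu, t * z = z * t)
    (brk : ∀ w ∈ Wu, ∃ z ∈ Xu, t * w * t = w * z)
    (hQ : ∀ z ∈ Xu, ∀ q ∈ Q, z * q * z⁻¹ ∈ Q)
    (perp : ∀ z ∈ Xu, z ≠ 1 → ∀ q ∈ Q, q⁻¹ * z⁻¹ * q * z ∈ X → ∀ w ∈ Wu, w * q = q * w) :
    Norm.Pair t X W Q (Rv W Q A) Xu Wu where
  tXu := tXu
  Xu2 := fun z hz => L.sq z (hWu (hXu hz))
  XWu := hXu
  Wuc := fun w hw z hz => L.ab w (hWu hw) z (hWu (hXu hz))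
  brk := brk
  WW := fun w hw v hv => L.ab w (hWu hw) v (L.WE hv)
  nQ := fun w hw q hq => by
    have h1 := L.comm_Q (E.inv_mem (hWu hw)) (Q.inv_mem hq)
    have h2 : w⁻¹ * q⁻¹ * w * q ∈ Evl E W Q := by
      -- `[w⁻¹ , q⁻¹]`
      have h3 := (Evl E W Q).inv_mem (L.comm_Q (e := w⁻¹) (q := q⁻¹) (E.inv_mem (hWu hw)) (Q.inv_mem hq))
      have e : (q⁻¹ * w⁻¹ * (q⁻¹)⁻¹ * (w⁻¹)⁻¹)⁻¹ = w⁻¹ * q⁻¹ * w * q := by group
      rwa [e] at h3
    exact ⟨hA h2, fun w' hw' => L.ab w' (hWu hw') _ (L.Evl_le h2)⟩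
  nR := fun z hz r hr => by
    have hzW : ∀ w ∈ W, z * w = w * z := fun w hw => L.ab z (hWu (hXu hz)) w (L.WE hw)
    have hzi : z⁻¹ = z := L.inv_E (hWu (hXu hz))
    refine D.conj_mem D (tXu z hz) ?_ ?_ ?_ ?_ hr
    · intro w hw
      rw [mul_assoc, ← hzW w hw, inv_mul_cancel_left]
      exact hw
    · intro w hw
      rw [hzW w hw, mul_inv_cancel_right]
      exact hw
    · intro q hq
      have := hQ z⁻¹ (Xu.inv_mem hz) q hq
      rwa [inv_inv] at this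
    · intro q hq
      exact hQ z hz q hq
  lift := fun z hz q hq => by
    have hzE := hWu (hXu hz)
    have h2 : q⁻¹ * z⁻¹ * q * z ∈ Evl E W Q := by
      have h3 := L.comm_Q (e := z⁻¹) (q := q⁻¹) (E.inv_mem hzE) (Q.inv_mem hq)
      have e : q⁻¹ * z⁻¹ * (q⁻¹)⁻¹ * (z⁻¹)⁻¹ = q⁻¹ * z⁻¹ * q * z := by group
      rwa [e] at h3
    have c1 : Commute t z := tXu z hz
    have c2 : Commute t q := D.Qt q hq
    have h3 : t * (q⁻¹ * z⁻¹ * q * z) = (q⁻¹ * z⁻¹ * q * z) * t :=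
      (((c2.inv_right.mul_right c1.inv_right).mul_right c2).mul_right c1).eq
    obtain ⟨x, μ, hx, e⟩ := L.cent_Evl h2 h3
    obtain ⟨y, hy, hyt⟩ := L.surj_Evl (x := x) (μ := μ) hx
    refine ⟨y, hA hy, fun w hw => L.ab w (hWu hw) y (L.Evl_le hy), 1, W.one_mem, ?_⟩
    rw [mul_one, e]
    exact hyt
  perp := perp
  gen := D.gen

end RData

end Cfsg.Agent.OddHalf.D7.Uni.Quad
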