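import Cfsg.Agent.OddHalf.D7.Uni.FaceLine
import Cfsg.Agent.OddHalf.D7.Uni.RvPt
import Cfsg.Agent.OddHalf.D7.Uni.EvlLine
import Cfsg.Agent.KFacts.Unit.HeisK

/-!
# The point side over `Face.Dbl` (helper371): `X_p`, `Q_p` in `G`, the fields of `Quad.RData` and `Norm.Pair`

`XP = j(RR p)`, `QP = j(QQ p)`.
-/

set_option autoImplicit false
set_option linter.unusedSectionVars false

namespace Cfsg.Agent.OddHalf.D7.Uni.Face

open Cfsg Cfsg.Agent.LieClassical.HermBasic Cfsg.Agent.LieClassical.HermSiegel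
  Cfsg.Agent.LieClassical.HermGen Cfsg.Agent.LieClassical.SUBasic Matrix
  Cfsg.Agent.ClassicalGeometry.PSUAutBasic Cfsg.Agent.ClassicalGeometry.PSUAutSylow
  Cfsg.Agent.ClassicalGeometry.PSUAutUnip Cfsg.Agent.ClassicalGeometry.PSUAutPhi
  Cfsg.Agent.KFacts.Unit

variable {F : Type*} [Field F] [Fintype F] {q n : ℕ} {G : Type*} [Group G]

/-- `X_p` in `G` -/
def XP (hF : Fintype.card F = q ^ 2) (j : PSU n F q →* G) (p : Fin n → F) (hp : hermForm n F q p p = 0) :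
    Subgroup G := (RR hF p hp).map j

/-- `Q_p` in `G` -/
def QP (hF : Fintype.card F = q ^ 2) (j : PSU n F q →* G) (p : Fin n → F) (hp : hermForm n F q p p = 0) :
    Subgroup G := (QQ hF p hp).map j

section mem

variable [CharP F 2] {hF : Fintype.card F = q ^ 2} {j : PSU n F q →* G} {p : Fin n → F}
  {hp : hermForm n F q p p = 0}

omit [Fintype F] in
theorem fix_iff {μ : F} : μ + μ ^ q = 0 ↔ μ ^ q = μ := by
  rw [CharTwo.add_eq_zero]
  exact eq_comm

theorem mem_XP {x : G} : x ∈ XP hF j p hp ↔ ∃ a, a ^ q = a ∧ x = fj n F q j (Np hF p a) := by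
  constructor
  · rintro ⟨y, hy, rfl⟩
    obtain ⟨μ, hμ, rfl⟩ := mem_RR.1 hy
    refine ⟨μ, fix_iff.1 hμ, ?_⟩
    rw [Np, Sg_eq hF (isSiegel_zero hp hμ)]
    rfl
  · rintro ⟨a, ha, rfl⟩
    refine ⟨_, mem_RR.2 ⟨a, fix_iff.2 ha, rfl⟩, ?_⟩
    rw [Np, Sg_eq hF (isSiegel_zero hp (fix_iff.2 ha))]
    rfl

theorem mem_QP {x : G} : x ∈ QP hF j p hp ↔ ∃ w μ, IsSiegel q p w μ ∧ x = fj n F q j (Sg hF p w μ) := by
  constructor
  · rintro ⟨y, hy, rfl⟩
    obtain ⟨w, μ, h, rfl⟩ := mem_QQ.1 hy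
    exact ⟨w, μ, h, by rw [Sg_eq hF h]; rfl⟩
  · rintro ⟨w, μ, h, rfl⟩
    exact ⟨_, mem_QQ.2 ⟨w, μ, h, rfl⟩, by rw [Sg_eq hF h]; rfl⟩

theorem XP_le_QP : XP hF j p hp ≤ QP hF j p hp := Subgroup.map_mono (RR_le_QQ hF hp)

end mem

section Q

variable [CharP F 2] (hF : Fintype.card F = q ^ 2) {j : PSU n F q →* G} {p : Fin n → F}
  (hp : hermForm n F q p p = 0)

theorem QP_comm {a b : G} (ha : a ∈ QP hF j p hp) (hb : b ∈ QP hF j p hp) :
    a * b * a⁻¹ * b⁻¹ ∈ XP hF j p hp := by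
  obtain ⟨_, ⟨a, ⟨w, μ, h, rfl⟩, rfl⟩, rfl⟩ := ha
  obtain ⟨_, ⟨b, ⟨w', μ', h', rfl⟩, rfl⟩, rfl⟩ := hb
  rw [← map_inv, ← map_inv, ← map_inv, ← map_inv, ← map_mul, ← map_mul, ← map_mul, ← map_mul, ← map_mul,
    ← map_mul, ← commutatorElement_def, Cfsg.Agent.LieClassical.HermSimple.commutator_siegel hF h h']
  refine ⟨_, ⟨_, ⟨_, ?_, rfl⟩, rfl⟩, rfl⟩
  have := (Cfsg.Agent.LieClassical.HermSimple.IsSiegel.comm hF h h').tr
  rwa [herm_zero_left, add_zero] at this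

theorem QP_sq {a : G} (ha : a ∈ QP hF j p hp) : a * a ∈ XP hF j p hp := by
  obtain ⟨_, ⟨a, ⟨w, μ, h, rfl⟩, rfl⟩, rfl⟩ := ha
  rw [← map_mul, ← map_mul, siegel_mul hF h h]
  have hw : w + w = 0 := by
    funext i
    exact CharTwo.add_self_eq_zero _
  have h1 : IsSiegel q p 0 (μ + μ - hermForm n F q w w) := by
    have := h.mul hF h
    rwa [hw] at this
  rw [siegel_congr hF _ h1 rfl hw rfl]
  refine ⟨_, ⟨_, ⟨_, ?_, rfl⟩, rfl⟩, rfl⟩
  have := h1.tr
  rwa [herm_zero_left, add_zero] at this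

variable {t : G}

theorem QP_t (S : Sit n F q t j) {a : G} (ha : a ∈ QP hF j p hp) : t * a = a * t := by
  obtain ⟨a, -, rfl⟩ := ha
  exact S.tj a

theorem XP_ne (S : Sit n F q t j) (hn : 3 ≤ n) (hp0 : p ≠ 0) : ∃ x ∈ XP hF j p hp, x ≠ 1 := by
  refine ⟨_, mem_XP.2 ⟨1, one_pow q, rfl⟩, fun h => ?_⟩
  obtain ⟨f, hff, hpf, hfp⟩ := exists_partner hF hp0 hp
  have h1 := S.eq_one hF hn hp0 (by
    rw [act_Np hF hp (one_pow q), hp, mul_zero, zero_smul, add_zero]) h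
  have h2 := congrArg (fun g => act g f) h1
  simp only [act_one] at h2
  rw [act_Np hF hp (one_pow q), hfp, mul_one, one_smul] at h2
  exact hp0 (add_eq_left.1 h2)

/-- (k1) on `Q` -/
theorem QP_cen (S : Sit n F q t j) (hn : 3 ≤ n) (hp0 : p ≠ 0) {z : G} (hz : z ∈ QP hF j p hp)
    (h : ∀ y ∈ QP hF j p hp, z * y = y * z) : z ∈ XP hF j p hp := by
  obtain ⟨_, ⟨a, ⟨w, μ, hs, rfl⟩, rfl⟩, rfl⟩ := hz
  refine ⟨_, ⟨_, mem_transvG_of_commute hF hp0 hp (act_siegel_self hF hs) ?_, rfl⟩, rfl⟩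
  rintro _ ⟨w', μ', h', rfl⟩
  have h1 := h _ ⟨_, ⟨_, ⟨w', μ', h', rfl⟩, rfl⟩, rfl⟩
  rw [← map_mul, ← map_mul, ← map_mul, ← map_mul] at h1
  have h2 : fj n F q j (siegel hF p w μ hs * siegel hF p w' μ' h' * (siegel hF p w μ hs)⁻¹) =
      fj n F q j (siegel hF p w' μ' h') := by
    rw [map_mul, map_inv, mul_inv_eq_iff_eq_mul, ← map_mul]
    exact h1
  refine S.eq_of hF hn hp0 ?_ h2
  rw [act_mul, act_mul, ← (act_eq_iff _).1 (act_siegel_self hF hs), act_siegel_self hF h',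
    act_siegel_self hF hs]

/-- (k2) -/
theorem QP_k2 (S : Sit n F q t j) (hn : 6 ≤ n) (hp0 : p ≠ 0) {c : G} (hc : c * t = t * c)
    (h : ∀ y ∈ QP hF j p hp, y * c * y⁻¹ * c⁻¹ ∈ XP hF j p hp) :
    c ∈ QP hF j p hp ∨ t * c ∈ QP hF j p hp := by
  obtain ⟨α, hα⟩ := S.exists_aut hc
  -- `α x x⁻¹ ∈ X` for `x ∈ Q`
  have h2 : ∀ x ∈ QQ hF p hp, α x * x⁻¹ ∈ RR hF p hp := by
    intro x hx
    obtain ⟨y, hy, e⟩ := h _ ⟨x, hx, rfl⟩
    have h3 : j (α x * x⁻¹) = j y⁻¹ := by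
      rw [map_mul, map_inv, map_inv, ← hα, e]
      group
    rw [S.inj h3]
    exact (RR hF p hp).inv_mem hy
  have hcen : ∀ x ∈ RR hF p hp, ∀ y ∈ QQ hF p hp, x * y = y * x := fun x hx y hy =>
    (PP_comm_RR hF hp (QQ_le_PP hF hp hy) hx).symm
  have h1 : ∀ x ∈ RR hF p hp, α x = x := by
    intro x hx
    obtain ⟨μ, hμ, rfl⟩ := mem_RR.1 hx
    obtain ⟨e1, e2, he1, he2, he12, h1p, h2p, -, -⟩ := exists_pair_perp hF hn hp0 hp hp hp
    obtain ⟨ν, g, g', e⟩ := transv_eq_commutator hF (s := p) hp hμ he1 he2 he12 h1p h2p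
    rw [e, map_commutatorElement, map_commutatorElement]
    set a := pr n F q (siegel hF p (ν • e1) 0 g) with ha
    set b := pr n F q (siegel hF p e2 0 g') with hb
    have haQ : a ∈ QQ hF p hp := mem_QQ.2 ⟨_, _, g, rfl⟩
    have hbQ : b ∈ QQ hF p hp := mem_QQ.2 ⟨_, _, g', rfl⟩
    obtain ⟨x, hx, ex⟩ : ∃ x ∈ RR hF p hp, α a = x * a := ⟨_, h2 a haQ, by group⟩
    obtain ⟨y, hy, ey⟩ : ∃ y ∈ RR hF p hp, α b = y * b := ⟨_, h2 b hbQ, by group⟩
    have c1 : Commute x a := hcen x hx a haQ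
    have c2 : Commute x b := hcen x hx b hbQ
    have c3 : Commute y a := hcen y hy a haQ
    have c4 : Commute y b := hcen y hy b hbQ
    have c5 : Commute x y := hcen x hx y (RR_le_QQ hF hp hy)
    rw [ex, ey, commutatorElement_def, commutatorElement_def, _root_.mul_inv_rev, _root_.mul_inv_rev]
    calc x * a * (y * b) * (a⁻¹ * x⁻¹) * (b⁻¹ * y⁻¹)
        = x * (a * y) * b * a⁻¹ * (x⁻¹ * b⁻¹) * y⁻¹ := by group
      _ = x * (y * a) * b * a⁻¹ * (b⁻¹ * x⁻¹) * y⁻¹ := by rw [c3.eq, c2.inv_inv.eq]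
      _ = x * (y * (a * b * a⁻¹ * b⁻¹)) * x⁻¹ * y⁻¹ := by group
      _ = x * ((a * b * a⁻¹ * b⁻¹) * y) * x⁻¹ * y⁻¹ := by
          rw [(((c3.mul_right c4).mul_right c3.inv_right).mul_right c4.inv_right).eq]
      _ = (x * (a * b * a⁻¹ * b⁻¹)) * (y * x⁻¹) * y⁻¹ := by group
      _ = ((a * b * a⁻¹ * b⁻¹) * x) * (x⁻¹ * y) * y⁻¹ := by
          rw [(((c1.mul_right c2).mul_right c1.inv_right).mul_right c2.inv_right).eq,
            c5.symm.inv_right.eq]
      _ = a * b * a⁻¹ * b⁻¹ := by group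
  obtain ⟨s, hs, rfl⟩ := autCent_mod hF (by omega) hp0 hp α h1 h2
  rcases S.eq_or hc hα with h3 | h3
  · left
    rw [h3]
    exact ⟨_, ⟨s, hs, rfl⟩, rfl⟩
  · right
    rw [h3, ← mul_assoc, S.tt, one_mul]
    exact ⟨_, ⟨s, hs, rfl⟩, rfl⟩

/-- every Siegel element at `p` is a product of Siegel elements of the lines through `p` -/
theorem QP_gen_aux (hn : 6 ≤ n) {p' : Fin n → F} (H : Hyp q p p') (B : Subgroup G)
    (hX : ∀ a, a ^ q = a → fj n F q j (Np hF p a) ∈ B)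
    (hM : ∀ r r', P2 q p p' r r' → fj n F q j (Mm hF p r 1) ∈ B) : QP hF j p hp ≤ B := by
  have hS : ∀ w μ ν, IsSiegel q p w μ → IsSiegel q p w ν → fj n F q j (Sg hF p w μ) ∈ B →
      fj n F q j (Sg hF p w ν) ∈ B := by
    intro w μ ν h h' hB
    have h1 : (ν + μ) ^ q = ν + μ := by
      rw [← fix_iff]
      have e1 := h.tr
      have e2 := h'.tr
      have e3 : hermForm n F q w w + hermForm n F q w w = 0 := CharTwo.add_self_eq_zero _
      rw [add_pow_q hF]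
      linear_combination e1 + e2 - e3
    have h2 : Sg hF p w ν = Np hF p (ν + μ) * Sg hF p w μ := by
      have h3 := isS_np hp h1
      rw [Np, Sg_eq hF h, Sg_eq hF h', Sg_eq hF h3, siegel_mul hF h3 h]
      apply siegel_congr hF _ _ rfl (zero_add w).symm
      rw [herm_zero_right hF, sub_zero, add_assoc, CharTwo.add_self_eq_zero, add_zero]
    rw [h2, map_mul]
    exact B.mul_mem (hX _ h1) hB
  obtain ⟨x, hx, y, hy, Hxy⟩ := exists_pair_NN hF hn H
  have key : ∀ w ∈ NN q p p', ∀ μ, IsSiegel q p w μ → fj n F q j (Sg hF p w μ) ∈ B := by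
    refine iso_induction hF hx hy Hxy.ee Hxy.ff Hxy.ef ?_ ?_
    · intro a b ha hb h1 h2 μ h
      obtain ⟨α, hα⟩ := exists_isSiegel_of_orth hF hp ha.1
      obtain ⟨β, hβ⟩ := exists_isSiegel_of_orth hF hp hb.1
      have h3 := hα.mul hF hβ
      refine hS _ _ _ h3 h ?_
      have h4 : Sg hF p (a + b) (α + β - hermForm n F q b a) = Sg hF p a α * Sg hF p b β := by
        rw [Sg_eq hF hα, Sg_eq hF hβ, Sg_eq hF h3, siegel_mul hF hα hβ]
      rw [h4, map_mul]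
      exact B.mul_mem (h1 α hα) (h2 β hβ)
    · intro s hs hss μ h
      by_cases hs0 : s = 0
      · subst hs0
        refine hX μ ?_
        have := h.tr
        rw [herm_zero_left, add_zero] at this
        exact fix_iff.1 this
      · obtain ⟨s', hs', Hs⟩ := exists_partner_NN hF H hs hs0 hss
        have HP : P2 q p p' s s' :=
          { pp := H.ee
            p'p' := H.ff
            pp' := H.ef
            p'p := H.fe hF
            rr := Hs.ee
            r'r' := Hs.ff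
            rr' := Hs.ef
            r'r := Hs.fe hF
            pr := herm_eq_zero_swap hF hs.1
            rp := hs.1
            pr' := herm_eq_zero_swap hF hs'.1
            r'p := hs'.1
            p'r := herm_eq_zero_swap hF hs.2
            rp' := hs.2
            p'r' := herm_eq_zero_swap hF hs'.2
            r'p' := hs'.2 }
        have h1 := hM s s' HP
        rw [Mm, one_pow, one_smul] at h1
        refine hS _ _ _ ?_ h h1
        have := isS_vec hF hp hs.1 hss 1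
        rwa [one_smul] at this
  intro z hz
  obtain ⟨w, μ, h, rfl⟩ := mem_QP.1 hz
  obtain ⟨a, h', e⟩ := exists_norm_siegel hF H h
  rw [Sg_eq hF h, e, ← Sg_eq hF h']
  exact key _ (NN_prN hF H w) a h'

/-- `g l` lies in `Q_p` -/
theorem Gg_mem {p' r r' : Fin n → F} (H : P2 q p p' r r') (l : F) :
    fj n F q j (Mm hF p r' l) ∈ QP hF j p hp :=
  mem_QP.2 ⟨_, _, isS_vec hF H.pp H.r'p H.r'r' _, rfl⟩

theorem Mm_mem {p' r r' : Fin n → F} (H : P2 q p p' r r') (l : F) :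
    fj n F q j (Mm hF p r l) ∈ QP hF j p hp :=
  mem_QP.2 ⟨_, _, isS_vec hF H.pp H.rp H.rr _, rfl⟩

theorem Np_mem {x : F} (hx : x ^ q = x) : fj n F q j (Np hF p x) ∈ QP hF j p hp :=
  mem_QP.2 ⟨_, _, isS_np hp hx, rfl⟩

/-- an element of `Q_p` is `g l` times a Siegel element at `p` with vector orthogonal to `⟨p, r⟩` -/
theorem QP_line {p' r r' : Fin n → F} (H : P2 q p p' r r') {y : G} (hy : y ∈ QP hF j p hp) :
    ∃ l w μ, IsSiegel q p w μ ∧ hermForm n F q w r = 0 ∧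
      y = fj n F q j (Mm hF p r' l) * fj n F q j (Sg hF p w μ) := by
  obtain ⟨w, μ, h, rfl⟩ := mem_QP.1 hy
  set l : F := (hermForm n F q w r) ^ q with hl
  have hs := isS_vec hF H.pp H.r'p H.r'r' (l ^ q)
  have h1 := (hs.inv hF).mul hF h
  refine ⟨l, _, _, h1, ?_, ?_⟩
  · rw [herm_add_left, herm_neg_left, herm_smul_left, H.r'r, hl, pow_q_pow_q hF, mul_one, neg_add_cancel]
  · rw [← map_mul]
    congr 1
    rw [Mm, Sg_eq hF hs, Sg_eq hF h1, Sg_eq hF h, ← siegel_mul hF (hs.inv hF) h, ← siegel_inv hF hs,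
      mul_inv_cancel_left]

/-- `perp` -/
theorem QP_perp (S : Sit n F q t j) (hn : 3 ≤ n) {p' r r' : Fin n → F} (H : P2 q p p' r r') {z y : G}
    (hz : z ∈ XP hF j r H.rr) (hz1 : z ≠ 1) (hy : y ∈ QP hF j p hp)
    (h : y⁻¹ * z⁻¹ * y * z ∈ XP hF j p hp) : ∃ g : SU n F q, act g r = r ∧ y = fj n F q j g := by
  obtain ⟨w, μ, hs, rfl⟩ := mem_QP.1 hy
  obtain ⟨a, ha, rfl⟩ := mem_XP.1 hz
  obtain ⟨b, hb, e⟩ := mem_XP.1 h
  refine ⟨_, ?_, rfl⟩
  rw [act_Sg hF hs, H.rp, zero_smul, mul_zero, zero_sub, add_zero]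
  -- `z y = y z (Np b)⁻¹`; evaluate at `p'`
  have h1 : fj n F q j (Sg hF p w μ * Np hF r a) = fj n F q j (Np hF r a * Sg hF p w μ * Np hF p b) := by
    rw [map_mul, map_mul, map_mul, ← e]
    group
  have h2 : act (Sg hF p w μ * Np hF r a) p = act (Np hF r a * Sg hF p w μ * Np hF p b) p := by
    simp only [act_mul]
    rw [act_Np hF H.rr ha, H.pr, mul_zero, zero_smul, add_zero, act_Np hF H.pp hb, H.pp, mul_zero, zero_smul,
      add_zero, act_Sg hF hs, H.pp, hs.orth' hF, zero_smul, mul_zero, sub_zero, zero_smul, add_zero, add_zero,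
      act_Np hF H.rr ha, H.pr, mul_zero, zero_smul, add_zero]
  have h3 := S.eq_of hF hn H.p_ne h2 h1
  have h4 := congrArg (fun g => act g p') h3
  simp only [act_mul] at h4
  rw [act_Np hF H.rr ha, H.p'r, mul_zero, zero_smul, add_zero, act_Np hF H.pp hb, H.p'p, mul_one,
    act_Sg hF hs, H.p'p, one_smul, mul_one, act_add, act_smul, act_Sg hF hs, act_Sg hF hs, H.p'p, H.pp,
    hs.orth' hF, one_smul, mul_one, zero_smul, mul_zero, sub_zero, zero_smul, add_zero, add_zero,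
    act_Np hF H.rr ha] at h4
  -- pair with `p`-dual and `r'`
  have h5 := congrArg (fun v => hermForm n F q v r') h4
  simp only [herm_add_left, herm_smul_left, H.pr', H.p'r', H.rr', H.pr, H.p'r, mul_zero, add_zero, zero_add,
    mul_one] at h5
  have h6 : a * hermForm n F q w r = 0 := by
    have h7 : hermForm n F q w r' = hermForm n F q w r' + a * hermForm n F q w r := h5
    exact (add_eq_left.1 h7.symm)
  have ha0 : a ≠ 0 := by
    rintro rfl
    apply hz1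
    rw [Np, Sg_eq hF (IsSiegel.zero hF H.rr), siegel_zero, map_one]
  have h7 := (mul_eq_zero.1 h6).resolve_left ha0
  rw [herm_eq_zero_swap hF h7, neg_zero, zero_smul, add_zero]

end Q

end Cfsg.Agent.OddHalf.D7.Uni.Face
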