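import Cfsg.Agent.OddHalf.D7.Uni.FaceFrame
import Cfsg.Agent.OddHalf.D7.Uni.FaceRF
import Cfsg.Agent.OddHalf.D7.Uni.Equiv
import Cfsg.Agent.KFacts.Unit.FlagMove

/-!
# ODD D7, `K = PSU_n(q)`, `q` even: every element of `C_G(t)` normalising `U` normalises `U*`

`conj_US_of_norm`. `exists_fix`: an element of `C_G(t)` normalising `U` is, up to an element of `U`, an element fixing all
the points `⟨e i⟩`, `⟨f i⟩`. `conj_US_of_fix`: the elements of `C_G(t)` fixing these points normalise `U*`.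
-/

set_option autoImplicit false

namespace Cfsg.Agent.OddHalf.D7.Uni.FrameInv

open Cfsg Cfsg.Agent.LieClassical.HermBasic Cfsg.Agent.LieClassical.HermSiegel
  Cfsg.Agent.LieClassical.HermGen Cfsg.Agent.LieClassical.SUBasic
  Cfsg.Agent.ClassicalGeometry.PSUAutBasic Cfsg.Agent.ClassicalGeometry.PSUAutSylow
  Cfsg.Agent.ClassicalGeometry.PSUAutUnip Cfsg.Agent.ClassicalGeometry.PSUAutPhi
  Cfsg.Agent.KFacts.Unit Cfsg.Agent.KFacts.Unit.Flag Cfsg.Agent.KFacts.Unit.FlagMap Cfsg.Agent.KFacts.Unit.FlagMove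
  Cfsg.Agent.OddHalf.D7.Uni.Face Cfsg.Agent.OddHalf.D7.Uni.FaceR Cfsg.Agent.OddHalf.D7.Uni.FaceFrame
  Cfsg.Agent.OddHalf.D7.Uni.Equiv

open Cfsg.Agent.ClassicalGeometry.PSUAutCount (gm semiConj toAut act_semiConj)

variable {F : Type*} [Field F] [Fintype F] {q n : ℕ} {G : Type*} [Group G] {t : G} {j : PSU n F q →* G}
  {W : (Fin n → F) → Subgroup G} {hF : Fintype.card F = q ^ 2}

/-- the elements of `XP` -/
theorem Xd_smul [CharP F 2] {u : Fin n → F} (hu : hermForm n F q u u = 0) {a : F} (ha : a ≠ 0) :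
    Xd hF j (a • u) = Xd hF j u := by
  have hau : hermForm n F q (a • u) (a • u) = 0 := by rw [herm_smul_left, herm_smul_right, hu]; ring
  have key : ∀ (b : F) (v : Fin n → F) (hv : hermForm n F q v v = 0) (hbv : hermForm n F q (b • v) (b • v) = 0),
      XP hF j (b • v) hbv ≤ XP hF j v hv := by
    intro b v hv hbv x hx
    obtain ⟨y, hy, rfl⟩ := mem_XP.1 hx
    have hy' : (b * b ^ q * y) ^ q = b * b ^ q * y := by
      rw [mul_pow, mul_pow, pow_q_pow_q hF, hy]; ring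
    refine mem_XP.2 ⟨b * b ^ q * y, hy', ?_⟩
    congr 1
    apply ext_act
    intro w
    rw [act_Np hF hbv hy, act_Np hF hv hy', herm_smul_right, smul_smul]
    congr 2
    ring
  rw [Xd_eq hau, Xd_eq hu]
  apply le_antisymm (key a u hu hau)
  have h1 : a⁻¹ • (a • u) = u := by rw [smul_smul, inv_mul_cancel₀ ha, one_smul]
  have h2 := key a⁻¹ (a • u) hau (by rw [h1]; exact hu)
  simp only [h1] at h2
  exact h2

theorem Rt_smul [CharP F 2] (D : Dbl hF t j W) (hn : 6 ≤ n) {u : Fin n → F} (hu0 : u ≠ 0)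
    (hu : hermForm n F q u u = 0) {a : F} (ha : a ≠ 0) : Rt hF j W (a • u) = Rt hF j W u := by
  have hau : hermForm n F q (a • u) (a • u) = 0 := by rw [herm_smul_left, herm_smul_right, hu]; ring
  rw [Rt_eq hF j W hau, Rt_eq hF j W hu, RP_smul D (D.cm hn) hn hu0 hu ha hau]

omit [Fintype F] in
theorem sg_ne_zero (A : GU n F q) (ρ : F ≃+* F) {u : Fin n → F} (hu : u ≠ 0) : sg A ρ u ≠ 0 :=
  fun h => hu (sg_eq_zero A ρ h)

/-- `c R_u c⁻¹ ≤ R_{c u}` -/
theorem conj_Rt [CharP F 2] (D : Dbl hF t j W) (hn : 6 ≤ n) {c : G} {A : GU n F q} {ρ : F ≃+* F}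
    (S : Semi t j c A ρ) {u : Fin n → F} (hu0 : u ≠ 0) (hu : hermForm n F q u u = 0) {r : G} (hr : r ∈ Rt hF j W u) :
    c * r * c⁻¹ ∈ Rt hF j W (sg A ρ u) := by
  have hu' : hermForm n F q (sg A ρ u) (sg A ρ u) = 0 := by rw [herm_sg, hu, map_zero]
  rw [Rt_eq hF j W hu] at hr
  rw [Rt_eq hF j W hu']
  exact (S.mv hu hu').conj_R D (by omega) hu0 (sg_ne_zero A ρ hu0) rfl rfl (rdata D (D.cm hn) hn hu0 hu)
    (rdata D (D.cm hn) hn (sg_ne_zero A ρ hu0) hu') hr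

/-- `c X_u c⁻¹ ≤ X_{c u}` -/
theorem conj_Xd [CharP F 2] {c : G} {A : GU n F q} {ρ : F ≃+* F}
    (S : Semi t j c A ρ) {u : Fin n → F} (hu : hermForm n F q u u = 0) {x : G} (hx : x ∈ Xd hF j u) :
    c * x * c⁻¹ ∈ Xd hF j (sg A ρ u) := by
  have hu' : hermForm n F q (sg A ρ u) (sg A ρ u) = 0 := by rw [herm_sg, hu, map_zero]
  rw [Xd_eq hu] at hx
  rw [Xd_eq hu']
  exact (S.mv hu hu').conj_X hx

theorem conj_Xd_act [CharP F 2] (g : SU n F q) {u : Fin n → F} (hu : hermForm n F q u u = 0) {x : G}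
    (hx : x ∈ Xd hF j u) : fj n F q j g * x * (fj n F q j g)⁻¹ ∈ Xd hF j (act g u) := by
  have hu' : hermForm n F q (act g u) (act g u) = 0 := by rw [herm_act, hu]
  rw [Xd_eq hu] at hx
  rw [Xd_eq hu']
  exact XP_conj hu hu' rfl hx

/-- `c` fixes the points `⟨e i⟩`, `⟨f i⟩`: `c` normalises the groups `R_{e i}` and `X_{e i}`, `X_{f i}`. -/
structure FixP (hF : Fintype.card F = q ^ 2) (j : PSU n F q →* G) (W : (Fin n → F) → Subgroup G) (m : ℕ)
    (e f : ℕ → Fin n → F) (c : G) : Prop where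
  R : ∀ k < m, ∀ r ∈ Rt hF j W (e k), c * r * c⁻¹ ∈ Rt hF j W (e k)
  X : ∀ i < m, (∀ y ∈ Xd hF j (e i), c * y * c⁻¹ ∈ Xd hF j (e i)) ∧ ∀ y ∈ Xd hF j (f i), c * y * c⁻¹ ∈ Xd hF j (f i)

theorem finite_Xd (u : Fin n → F) : Finite (Xd hF j u) := by
  unfold Xd
  split_ifs
  · exact Set.Finite.to_subtype ((Set.toFinite _).image j)
  · infer_instance

omit [Fintype F] in
theorem conj_inv_mem {X : Subgroup G} [Finite X] {c : G} (h : ∀ y ∈ X, c * y * c⁻¹ ∈ X) {y : G} (hy : y ∈ X) :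
    c⁻¹ * y * c ∈ X := by
  let φ : X → X := fun x => ⟨c * x * c⁻¹, h x x.2⟩
  have hφ : Function.Injective φ := by
    intro a b hab
    have h1 : c * (a : G) * c⁻¹ = c * b * c⁻¹ := congrArg Subtype.val hab
    exact Subtype.ext (mul_left_cancel (mul_right_cancel h1))
  obtain ⟨a, ha⟩ := (Finite.injective_iff_surjective.1 hφ) ⟨y, hy⟩
  have h1 : c * (a : G) * c⁻¹ = y := congrArg Subtype.val ha
  have h2 : c⁻¹ * y * c = a := by rw [← h1]; group
  rw [h2]
  exact a.2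

section frame

variable {m : ℕ} {e f : ℕ → Fin n → F} {ρ : ℕ → SU n F q}

/-- **The elements fixing the points `⟨e i⟩`, `⟨f i⟩` normalise `U*`.** -/
theorem conj_US_of_fix [CharP F 2] (D : Dbl hF t j W) (hn : 6 ≤ n) (h : Fr q m e f) (Rh : Rho q m e f ρ) (hm : 3 ≤ m)
    {c : G} (hc : FixP hF j W m e f c) {x : G} (hx : x ∈ US (Rt hF j W) j m e ρ) :
    c * x * c⁻¹ ∈ US (Rt hF j W) j m e ρ := by
  refine conj_US (rf D hn) (by omega) h Rh hm hc.R (fun i hi => ⟨fun y hy => ?_, fun y hy => ?_⟩) hx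
  · have := finite_Xd (hF := hF) (j := j) (e i)
    exact conj_inv_mem (hc.X i hi).1 hy
  · have := finite_Xd (hF := hF) (j := j) (f i)
    exact conj_inv_mem (hc.X i hi).2 hy

/-- The semilinear isometry of `c` fixes the points. -/
theorem fixP_of_semi [CharP F 2] (D : Dbl hF t j W) (hn : 6 ≤ n) (h : Fr q m e f) {c : G} {A : GU n F q} {σ : F ≃+* F}
    (S : Semi t j c A σ) {u : SU n F q} (hu : Fixes e f m (fun v => act u (sg A σ v))) :
    FixP hF j W m e f (fj n F q j u * c) := by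
  have hc : ∀ x : G, fj n F q j u * c * x * (fj n F q j u * c)⁻¹ =
      fj n F q j u * (c * x * c⁻¹) * (fj n F q j u)⁻¹ := by intro x; group
  refine ⟨fun k hk r hr => ?_, fun i hi => ⟨fun y hy => ?_, fun y hy => ?_⟩⟩
  · obtain ⟨⟨a, ha, hae⟩, -⟩ := hu k hk
    have h1 := conj_Rt D hn S (h.ne_zero hk) (h.ee k hk k hk) hr
    have h2 := (rf D hn).conjR (sg_ne_zero A σ (h.ne_zero hk)) (by rw [herm_sg, h.ee k hk k hk, map_zero]) u _ h1
    change act u (sg A σ (e k)) = _ at hae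
    rw [hae, Rt_smul D hn (h.ne_zero hk) (h.ee k hk k hk) ha] at h2
    rw [hc]
    exact h2
  · obtain ⟨⟨a, ha, hae⟩, -⟩ := hu i hi
    have h2 := conj_Xd_act (hF := hF) (j := j) u (by rw [herm_sg, h.ee i hi i hi, map_zero])
      (conj_Xd S (h.ee i hi i hi) hy)
    change act u (sg A σ (e i)) = _ at hae
    rw [hae, Xd_smul (h.ee i hi i hi) ha] at h2
    rw [hc]
    exact h2
  · obtain ⟨-, a, ha, hae⟩ := hu i hi
    have h2 := conj_Xd_act (hF := hF) (j := j) u (by rw [herm_sg, h.ff i hi i hi, map_zero])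
      (conj_Xd S (h.ff i hi i hi) hy)
    change act u (sg A σ (f i)) = _ at hae
    rw [hae, Xd_smul (h.ff i hi i hi) ha] at h2
    rw [hc]
    exact h2

/-- **Frattini**: an element of `C_G(t)` normalising `U` is `u⁻¹ d` with `u ∈ U` and `d` fixing the points. -/
theorem exists_fix [CharP F 2] (D : Dbl hF t j W) (hn : 6 ≤ n) (h : Fr q m e f) {c : G} (hc : c * t = t * c)
    (hU : ∀ x ∈ Chain.pr (QS q e f) m, c * fj n F q j x * c⁻¹ ∈ (Chain.pr (QS q e f) m).map (fj n F q j)) :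
    ∃ u ∈ Chain.pr (QS q e f) m, FixP hF j W m e f (fj n F q j u * c) := by
  have h2 : Fact (Nat.Prime 2) := ⟨Nat.prime_two⟩
  obtain ⟨A, σ, S⟩ := exists_semi D.toSit hF (by omega) hc
  have L : SL (sg A σ) σ (semiConj A σ) :=
    ⟨fun v w => sg_inj A σ, sg_smul A σ, herm_sg A σ, fun g v => act_sg A σ g v⟩
  have hκ : ∀ x ∈ Chain.pr (QS q e f) m, semiConj A σ x ∈ Chain.pr (QS q e f) m := by
    intro x hx
    obtain ⟨y, hy, hyx⟩ := hU x hx
    rw [S.conj] at hyx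
    have hz : (semiConj A σ x)⁻¹ * y ∈ Subgroup.center (SU n F q) := ker_le (rf D hn) (by
      rw [MonoidHom.mem_ker, map_mul, map_inv, hyx, inv_mul_cancel])
    set z := (semiConj A σ x)⁻¹ * y with hzd
    have hyz : y = semiConj A σ x * z := by rw [hzd]; group
    obtain ⟨k, hk⟩ := isPGroup_pr hF h le_rfl ⟨x, hx⟩
    obtain ⟨l, hl⟩ := isPGroup_pr hF h le_rfl ⟨y, hy⟩
    have hk' : x ^ 2 ^ k = 1 := congrArg Subtype.val hk
    have hl' : y ^ 2 ^ l = 1 := congrArg Subtype.val hl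
    have hx1 : (semiConj A σ x) ^ 2 ^ (k + l) = 1 := by
      rw [← map_pow, pow_add, pow_mul, hk', one_pow, map_one]
    have hy1 : y ^ 2 ^ (k + l) = 1 := by rw [pow_add, mul_comm, pow_mul, hl', one_pow]
    have hcomm : Commute (semiConj A σ x) z := (Subgroup.mem_center_iff.1 hz _)
    have hz1 : z ^ 2 ^ (k + l) = 1 := by
      have h3 := hy1
      rw [hyz, hcomm.mul_pow, hx1, one_mul] at h3
      exact h3
    have hz2 : z = 1 := eq_one_of_center_of_pow hF (by omega) (p := 2) hz hz1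
    rw [hyz, hz2, mul_one] at hy
    exact hy
  obtain ⟨u, hu, hfix⟩ := exists_move hF h L hκ
  exact ⟨u, hu, fixP_of_semi D hn h S hfix⟩

/-- **Every element of `C_G(t)` normalising `U` normalises `U*`.** -/
theorem conj_US_of_norm [CharP F 2] (D : Dbl hF t j W) (hn : 6 ≤ n) (h : Fr q m e f) (Rh : Rho q m e f ρ) (hm : 3 ≤ m)
    {c : G} (hc : c * t = t * c)
    (hU : ∀ x ∈ Chain.pr (QS q e f) m, c * fj n F q j x * c⁻¹ ∈ (Chain.pr (QS q e f) m).map (fj n F q j))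
    {x : G} (hx : x ∈ US (Rt hF j W) j m e ρ) : c * x * c⁻¹ ∈ US (Rt hF j W) j m e ρ := by
  obtain ⟨u, hu, hfix⟩ := exists_fix D hn h hc hU
  have h1 := conj_US_of_fix D hn h Rh hm hfix hx
  have h2 : fj n F q j u ∈ US (Rt hF j W) j m e ρ :=
    ((mem_U_iff (rf D hn) (by omega) h Rh hm).1 ⟨u, hu, rfl⟩).1
  have h3 := mul_mem (mul_mem (inv_mem h2) h1) h2
  have e1 : (fj n F q j u)⁻¹ * (fj n F q j u * c * x * (fj n F q j u * c)⁻¹) * fj n F q j u = c * x * c⁻¹ := by group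
  rwa [e1] at h3

end frame

end Cfsg.Agent.OddHalf.D7.Uni.FrameInv
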