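import Mathlib

/-!
# Unitary groups, existence of the doubled transvection group: the radical `Q` of a point (helper575)

`N` a hermitian space over `F` (characteristic two), `Q = {S x a | a + σ a = B x x}` the Heisenberg group, `X = {S 0 a}`
its centre, `P` a group acting on `Q`.

* `E2` : an additive map `Q/X → X`, `P`-invariant up to inner ones, is inner;
* `lin` : a 2-element commuting with `P` on `Q/X` is trivial on `Q/X`;
* `semi` : a map normalising `P` is semilinear on `Q/X`.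
-/

set_option autoImplicit false

namespace Cfsg.Agent.OddHalf.D7.Uni.Ex

open Subgroup

variable {G : Type*} [Group G] {F : Type*} [Field F] {N : Type*} [AddCommGroup N] [Module F N]

/-- A hermitian form in characteristic two. -/
structure Form (σ : F →+* F) (B : N → N → F) : Prop where
  two : ∀ x : F, x + x = 0
  σσ : ∀ x, σ (σ x) = x
  nt : ∃ x, σ x ≠ x
  add_left : ∀ x y z, B (x + y) z = B x z + B y z
  smul_left : ∀ (c : F) x y, B (c • x) y = c * B x y
  symm : ∀ x y, B y x = σ (B x y)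
  nondeg : ∀ y, (∀ x, B x y = 0) → y = 0

/-- The Heisenberg group of `N`. -/
structure Heis (σ : F →+* F) (B : N → N → F) (X Q : Subgroup G) (S : N → F → G) : Prop extends Form σ B where
  mul : ∀ x a y b, a + σ a = B x x → b + σ b = B y y → S x a * S y b = S (x + y) (a + b + B y x)
  inj : ∀ x a, a + σ a = B x x → S x a = 1 → x = 0 ∧ a = 0
  memQ : ∀ g, g ∈ Q ↔ ∃ x a, a + σ a = B x x ∧ g = S x a
  memX : ∀ g, g ∈ X ↔ ∃ a, σ a = a ∧ g = S 0 a

namespace Form

variable {σ : F →+* F} {B : N → N → F}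

theorem two' (H : Form σ B) (x : N) : x + x = 0 := by
  have h : (1 : F) + 1 = 0 := H.two 1
  have : ((1 : F) + 1) • x = x + x := by rw [add_smul, one_smul]
  rw [← this, h, zero_smul]

theorem add_right (H : Form σ B) (x y z : N) : B x (y + z) = B x y + B x z := by
  rw [H.symm (y + z) x, H.add_left, map_add, ← H.symm, ← H.symm]

theorem smul_right (H : Form σ B) (c : F) (x y : N) : B x (c • y) = σ c * B x y := by
  rw [H.symm (c • y) x, H.smul_left, map_mul, ← H.symm]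

theorem zero_left (H : Form σ B) (x : N) : B 0 x = 0 := by
  have := H.smul_left 0 0 x
  rwa [zero_smul, zero_mul] at this

theorem zero_right (H : Form σ B) (x : N) : B x 0 = 0 := by
  rw [H.symm, H.zero_left, map_zero]

theorem swap (H : Form σ B) {x y : N} (h : B x y = 0) : B y x = 0 := by
  rw [H.symm, h, map_zero]

/-- the trace is onto -/
theorem exists_tr (H : Form σ B) {c : F} (hc : σ c = c) : ∃ a, a + σ a = c := by
  obtain ⟨θ, hθ⟩ := H.nt
  have hd : θ + σ θ ≠ 0 := by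
    intro h
    apply hθ
    calc σ θ = (θ + σ θ) + θ := by rw [add_comm θ, add_assoc, H.two, add_zero]
      _ = θ := by rw [h, zero_add]
  have hs : σ (θ + σ θ) = θ + σ θ := by rw [map_add, H.σσ, add_comm]
  refine ⟨c * θ / (θ + σ θ), ?_⟩
  rw [map_div₀, map_mul, hc, hs]
  field_simp

theorem tr_sigma (H : Form σ B) (a : F) : σ (a + σ a) = a + σ a := by
  rw [map_add, H.σσ, add_comm]

theorem self_sigma (H : Form σ B) (x : N) : σ (B x x) = B x x := (H.symm x x).symm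

/-- the trace form is nondegenerate -/
theorem tr_nondeg (H : Form σ B) {c : F} (h : ∀ l : F, l * c + σ (l * c) = 0) : c = 0 := by
  by_contra hc
  obtain ⟨θ, hθ⟩ := H.nt
  apply hθ
  have := h (θ * c⁻¹)
  rw [mul_assoc, inv_mul_cancel₀ hc, mul_one] at this
  calc σ θ = (θ + σ θ) + θ := by rw [add_comm θ, add_assoc, H.two, add_zero]
    _ = θ := by rw [this, zero_add]

theorem neg_eq (H : Form σ B) (x : F) : -x = x := by
  rw [neg_eq_iff_add_eq_zero]; exact H.two x

theorem neg_eq' (H : Form σ B) (x : N) : -x = x := by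
  rw [neg_eq_iff_add_eq_zero]; exact H.two' x

/-- a vector with `B x e = 1` -/
theorem exists_one (H : Form σ B) {e : N} (he : e ≠ 0) : ∃ x, B x e = 1 := by
  by_contra hcon
  push Not at hcon
  apply he
  apply H.nondeg
  intro x
  by_contra hx
  apply hcon ((B x e)⁻¹ • x)
  rw [H.smul_left, inv_mul_cancel₀ hx]

/-- elements of `N` are determined by `Tr B` -/
theorem eq_zero_of_tr (H : Form σ B) {y : N} (h : ∀ x, B x y + σ (B x y) = 0) : y = 0 := by
  apply H.nondeg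
  intro x
  apply H.tr_nondeg
  intro l
  rw [← H.smul_left]
  exact h _

end Form

namespace Heis

variable {σ : F →+* F} {B : N → N → F} {X Q : Subgroup G} {S : N → F → G}

theorem one (H : Heis σ B X Q S) : S 0 0 = 1 := by
  have h1 : (0 : F) + σ 0 = B 0 0 := by rw [map_zero, H.zero_left, add_zero]
  have h := H.mul 0 0 0 0 h1 h1
  rw [H.zero_left, add_zero, add_zero, add_zero] at h
  exact mul_eq_left.1 h

theorem tr0 (H : Heis σ B X Q S) {a : F} (ha : σ a = a) : a + σ a = B 0 0 := by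
  rw [ha, H.two, H.zero_left]

theorem tr_σ (H : Heis σ B X Q S) {x : N} {a : F} (ha : a + σ a = B x x) : σ a + σ (σ a) = B x x := by
  rw [H.σσ, add_comm, ha]

theorem tr_mul (H : Heis σ B X Q S) {x y : N} {a b : F} (ha : a + σ a = B x x) (hb : b + σ b = B y y) :
    (a + b + B y x) + σ (a + b + B y x) = B (x + y) (x + y) := by
  rw [H.add_left, H.toForm.add_right, H.toForm.add_right, map_add, map_add, ← H.symm y x, ← ha, ← hb]
  ring

theorem inv (H : Heis σ B X Q S) {x : N} {a : F} (ha : a + σ a = B x x) : (S x a)⁻¹ = S x (σ a) := by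
  apply inv_eq_of_mul_eq_one_right
  rw [H.mul x a x (σ a) ha (H.tr_σ ha), H.two', ha, H.two, H.one]

theorem eq_iff (H : Heis σ B X Q S) {x y : N} {a b : F} (ha : a + σ a = B x x) (hb : b + σ b = B y y)
    (h : S x a = S y b) : x = y ∧ a = b := by
  have h1 : S x a * (S y b)⁻¹ = 1 := by rw [h, mul_inv_cancel]
  rw [H.inv hb, H.mul x a y (σ b) ha (H.tr_σ hb)] at h1
  obtain ⟨h2, h3⟩ := H.inj _ _ (H.tr_mul ha (H.tr_σ hb)) h1
  have hxy : x = y := by
    rw [add_eq_zero_iff_eq_neg, H.neg_eq'] at h2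
    exact h2
  refine ⟨hxy, ?_⟩
  rw [hxy] at h3
  rw [← hb] at h3
  have h4 : a + b = 0 := by
    calc a + b = a + b + (σ b + σ b) := by rw [H.two, add_zero]
      _ = a + σ b + (b + σ b) := by ring
      _ = 0 := h3
  rw [add_eq_zero_iff_eq_neg, H.neg_eq] at h4
  exact h4

/-- conjugation -/
theorem conj (H : Heis σ B X Q S) {x y : N} {a b : F} (ha : a + σ a = B x x) (hb : b + σ b = B y y) :
    S y b * S x a * (S y b)⁻¹ = S x (a + (B x y + σ (B x y))) := by
  have h1 : (a + (B x y + σ (B x y))) + σ (a + (B x y + σ (B x y))) = B x x := by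
    rw [map_add, H.tr_sigma, ← ha]
    linear_combination (B x y + σ (B x y)) * H.two 1
  rw [mul_inv_eq_iff_eq_mul, H.mul _ _ _ _ hb ha, H.mul _ _ _ _ h1 hb, add_comm y x, H.symm x y]
  congr 1
  linear_combination - σ (B x y) * H.two 1

theorem mul_X (H : Heis σ B X Q S) {x : N} {a b : F} (ha : a + σ a = B x x) (hb : σ b = b) :
    S x a * S 0 b = S x (a + b) := by
  rw [H.mul _ _ _ _ ha (H.tr0 hb), H.zero_left, add_zero, add_zero]

theorem X_mul (H : Heis σ B X Q S) {x : N} {a b : F} (ha : a + σ a = B x x) (hb : σ b = b) :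
    S 0 b * S x a = S x (a + b) := by
  rw [H.mul _ _ _ _ (H.tr0 hb) ha, H.zero_right, zero_add, add_zero, add_comm]

theorem XQ (H : Heis σ B X Q S) : X ≤ Q := by
  intro g hg
  obtain ⟨a, ha, rfl⟩ := (H.memX g).1 hg
  exact (H.memQ _).2 ⟨0, a, H.tr0 ha, rfl⟩

theorem mem_Q (H : Heis σ B X Q S) {x : N} {a : F} (ha : a + σ a = B x x) : S x a ∈ Q := (H.memQ _).2 ⟨x, a, ha, rfl⟩

theorem mem_X (H : Heis σ B X Q S) {a : F} (ha : σ a = a) : S 0 a ∈ X := (H.memX _).2 ⟨a, ha, rfl⟩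

theorem XcQ (H : Heis σ B X Q S) {x q : G} (hx : x ∈ X) (hq : q ∈ Q) : x * q = q * x := by
  obtain ⟨a, ha, rfl⟩ := (H.memX x).1 hx
  obtain ⟨y, b, hb, rfl⟩ := (H.memQ q).1 hq
  rw [H.X_mul hb ha, H.mul_X hb ha]

theorem X2 (H : Heis σ B X Q S) {x : G} (hx : x ∈ X) : x * x = 1 := by
  obtain ⟨a, ha, rfl⟩ := (H.memX x).1 hx
  rw [H.mul_X (H.tr0 ha) ha, H.two, H.one]

/-- the commutator -/
theorem comm (H : Heis σ B X Q S) {x y : N} {a b : F} (ha : a + σ a = B x x) (hb : b + σ b = B y y) :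
    S y b * S x a * (S y b)⁻¹ * (S x a)⁻¹ = S 0 (B x y + σ (B x y)) := by
  rw [mul_inv_eq_iff_eq_mul, H.conj ha hb, H.X_mul ha (H.tr_sigma _)]

theorem QQ (H : Heis σ B X Q S) : ∀ v ∈ Q, ∀ w ∈ Q, v * w * v⁻¹ * w⁻¹ ∈ X := by
  intro v hv w hw
  obtain ⟨y, b, hb, rfl⟩ := (H.memQ v).1 hv
  obtain ⟨x, a, ha, rfl⟩ := (H.memQ w).1 hw
  rw [H.comm ha hb]
  exact H.mem_X (H.tr_sigma _)

theorem exists_S (H : Heis σ B X Q S) (x : N) : ∃ a, a + σ a = B x x := H.exists_tr (H.self_sigma x)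

theorem ZQ (H : Heis σ B X Q S) : ∀ q ∈ Q, (∀ v ∈ Q, q * v = v * q) → q ∈ X := by
  intro q hq hc
  obtain ⟨x, a, ha, rfl⟩ := (H.memQ q).1 hq
  have hx : x = 0 := by
    apply H.eq_zero_of_tr
    intro y
    obtain ⟨b, hb⟩ := H.exists_S y
    have h1 := hc _ (H.mem_Q hb)
    have h2 : S x a * S y b * (S x a)⁻¹ * (S y b)⁻¹ = 1 := by
      rw [h1]; group
    rw [H.comm hb ha] at h2
    exact (H.inj _ _ (H.tr0 (H.tr_sigma _)) h2).2
  subst hx
  refine H.mem_X ?_
  rw [H.zero_left, add_eq_zero_iff_eq_neg, H.neg_eq] at ha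
  exact ha.symm

theorem XQQ (H : Heis σ B X Q S) (hN : ∃ x : N, x ≠ 0) : X ≤ ⁅Q, Q⁆ := by
  intro g hg
  obtain ⟨a, ha, rfl⟩ := (H.memX g).1 hg
  obtain ⟨y, hy⟩ := hN
  obtain ⟨x, hx⟩ := H.exists_one hy
  obtain ⟨c, hc⟩ := H.exists_tr ha
  obtain ⟨a1, ha1⟩ := H.exists_S (c • x)
  obtain ⟨b1, hb1⟩ := H.exists_S y
  have h1 := H.comm ha1 hb1
  rw [H.smul_left, hx, mul_one, hc] at h1
  rw [← h1]
  exact commutator_mem_commutator (H.mem_Q hb1) (H.mem_Q ha1)

/-- The action of a homomorphism on `N = Q/X`. -/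
theorem exists_nu (H : Heis σ B X Q S) {α : G → G} (hQ : ∀ q ∈ Q, α q ∈ Q) (hX : ∀ x ∈ X, α x ∈ X)
    (hm : ∀ q ∈ Q, ∀ r ∈ Q, α (q * r) = α q * α r) :
    ∃ ν : N → N, (∀ x y, ν (x + y) = ν x + ν y) ∧
      ∀ x a, a + σ a = B x x → ∃ a', a' + σ a' = B (ν x) (ν x) ∧ α (S x a) = S (ν x) a' := by
  choose c hc using H.exists_S
  have h1 : ∀ x, ∃ y a', a' + σ a' = B y y ∧ α (S x (c x)) = S y a' := fun x =>
    (H.memQ _).1 (hQ _ (H.mem_Q (hc x)))
  choose ν d hd hν using h1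
  have h2 : ∀ x a, a + σ a = B x x → ∃ a', a' + σ a' = B (ν x) (ν x) ∧ α (S x a) = S (ν x) a' := by
    intro x a ha
    have h3 : σ (a + c x) = a + c x := by
      have h4 : (a + c x) + σ (a + c x) = 0 := by
        rw [map_add]
        calc a + c x + (σ a + σ (c x)) = (a + σ a) + (c x + σ (c x)) := by ring
          _ = 0 := by rw [ha, hc, H.two]
      rw [add_eq_zero_iff_eq_neg, H.neg_eq] at h4
      exact h4.symm
    have h5 : S x a = S x (c x) * S 0 (a + c x) := by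
      rw [H.mul_X (hc x) h3]
      congr 1
      linear_combination - (c x) * H.two 1
    obtain ⟨b, hb, eb⟩ := (H.memX _).1 (hX _ (H.mem_X h3))
    refine ⟨d x + b, ?_, ?_⟩
    · rw [map_add, hb]
      calc d x + b + (σ (d x) + b) = (d x + σ (d x)) + (b + b) := by ring
        _ = B (ν x) (ν x) := by rw [hd, H.two, add_zero]
    · rw [h5, hm _ (H.mem_Q (hc x)) _ (H.XQ (H.mem_X h3)), eb, hν, H.mul_X (hd x) hb]
  refine ⟨ν, fun x y => ?_, h2⟩
  obtain ⟨a1, ha1, e1⟩ := h2 x (c x) (hc x)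
  obtain ⟨a2, ha2, e2⟩ := h2 y (c y) (hc y)
  obtain ⟨a3, ha3, e3⟩ := h2 (x + y) _ (H.tr_mul (hc x) (hc y))
  rw [← H.mul _ _ _ _ (hc x) (hc y), hm _ (H.mem_Q (hc x)) _ (H.mem_Q (hc y)), e1, e2,
    H.mul _ _ _ _ ha1 ha2] at e3
  exact (H.eq_iff (H.tr_mul ha1 ha2) ha3 e3).1.symm

end Heis

end Cfsg.Agent.OddHalf.D7.Uni.Ex
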