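import Cfsg.Agent.OddHalf.D7.Uni.HeisPoint

/-!
# A basis of isotropic vectors of `⟨e, f⟩^⊥`, `n ≥ 6` (helper575)
-/

set_option autoImplicit false
set_option linter.unusedSectionVars false

namespace Cfsg.Agent.OddHalf.D7.Uni.Ex

open Subgroup

section Abs

variable {F : Type*} [Field F] {N : Type*} [AddCommGroup N] [Module F N]

/-- A hermitian space in which every isotropic vector is orthogonal to a hyperbolic pair has a good basis. -/
theorem Form.exists_geo {σ : F →+* F} {B : N → N → F} [Finite N] (H : Form σ B)
    (hp : ∀ s, B s s = 0 → ∃ x y, B x x = 0 ∧ B y y = 0 ∧ B x y = 1 ∧ B x s = 0 ∧ B y s = 0) :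
    ∃ (s : Set N) (b : Module.Basis s F N), Finite s ∧ Nonempty s ∧ Geo B b := by
  obtain ⟨x, y, hx, hy, hxy, -, -⟩ := hp 0 (H.zero_left 0)
  have hyx : B y x = 1 := by rw [H.symm, hxy, map_one]
  have hspan : (⊤ : Submodule F N) ≤ Submodule.span F {v | B v v = 0} := by
    intro z _
    set w := z + B z y • x + B z x • y with hw
    have hwy : B w y = 0 := by
      rw [hw, H.add_left, H.add_left, H.smul_left, H.smul_left, hxy, hy, mul_one, mul_zero, add_zero, H.two]
    have hwx : B w x = 0 := by
      rw [hw, H.add_left, H.add_left, H.smul_left, H.smul_left, hyx, hx, mul_one, mul_zero, add_zero, H.two]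
    obtain ⟨c, hc⟩ := H.exists_tr (H.self_sigma w)
    have h1 : B (w + x + c • y) (w + x + c • y) = 0 := by
      simp only [H.add_left, H.add_right, H.smul_left, H.smul_right, hwy, hwx, H.swap hwy, H.swap hwx, hx, hy, hxy,
        hyx]
      linear_combination (c + σ c) * H.two 1 - hc
    have h2 : z = (w + x + c • y) + x + c • y + B z y • x + B z x • y := by
      have e1 := H.two' x
      have e2 := H.two' (c • y)
      have e3 := H.two' (B z y • x)
      have e4 := H.two' (B z x • y)
      calc z = z + (B z y • x + B z y • x) + (B z x • y + B z x • y) + (x + x) + (c • y + c • y) := by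
            rw [e1, e2, e3, e4]; abel
        _ = _ := by rw [hw]; abel
    rw [h2]
    have hx' : x ∈ Submodule.span F {v | B v v = 0} := Submodule.subset_span hx
    have hy' : y ∈ Submodule.span F {v | B v v = 0} := Submodule.subset_span hy
    exact Submodule.add_mem _ (Submodule.add_mem _ (Submodule.add_mem _ (Submodule.add_mem _
      (Submodule.subset_span h1) hx') (Submodule.smul_mem _ _ hy')) (Submodule.smul_mem _ _ hx'))
      (Submodule.smul_mem _ _ hy')
  have hx0 : x ≠ 0 := by
    rintro rfl
    rw [H.zero_left] at hxy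
    exact zero_ne_one hxy
  have : Nontrivial N := ⟨⟨x, 0, hx0⟩⟩
  let b := Module.Basis.ofSpan hspan
  have hiso : ∀ i, B (b i) (b i) = 0 := fun i => Module.Basis.ofSpan_subset hspan ⟨i, rfl⟩
  refine ⟨_, b, inferInstance, b.index_nonempty, hiso, fun i j => ?_⟩
  by_cases hij : B (b i) (b j) = 0
  · by_cases hne : i = j
    · subst hne
      obtain ⟨x, y, hx, hy, hxy, hxs, hys⟩ := hp _ (hiso i)
      have h1 : Ind F (b i) x := by
        intro a d had
        have h2 := congrArg (fun v => B v y) had
        simp only [H.add_left, H.smul_left, H.swap hys, hxy, H.zero_left, mul_zero, mul_one, zero_add] at h2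
        rw [h2, zero_smul, add_zero] at had
        rcases smul_eq_zero.1 had with h3 | h3
        · exact ⟨h3, h2⟩
        · exact absurd h3 (b.ne_zero i)
      exact ⟨x, hx, H.swap hxs, H.swap hxs, h1, h1⟩
    · have hji := H.swap hij
      refine ⟨b i + b j, ?_, ?_, ?_, ?_, ?_⟩
      · rw [H.add_left, H.add_right, H.add_right, hiso, hiso, hij, hji]; ring
      · rw [H.add_right, hiso, hij, add_zero]
      · rw [H.add_right, hiso, hji, add_zero]
      · intro a d had
        have h1 : d = 0 := by
          have := congrArg (fun v => b.repr v j) had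
          simp [hne] at this
          exact this
        rw [h1, zero_smul, add_zero] at had
        rcases smul_eq_zero.1 had with h3 | h3
        · exact ⟨h3, h1⟩
        · exact absurd h3 (b.ne_zero i)
      · intro a d had
        have h1 : d = 0 := by
          have := congrArg (fun v => b.repr v i) had
          simp [Ne.symm hne] at this
          exact this
        rw [h1, zero_smul, add_zero] at had
        rcases smul_eq_zero.1 had with h3 | h3
        · exact ⟨h3, h1⟩
        · exact absurd h3 (b.ne_zero j)
  · obtain ⟨x, y, hx, hy, hxy, hxs, hys⟩ := hp _ (hiso i)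
    have hji : B (b j) (b i) ≠ 0 := fun h => hij (H.swap h)
    set k := B x (b j) * (B (b i) (b j))⁻¹ with hk
    have h1 : B (x + k • b i) (b j) = 0 := by
      rw [H.add_left, H.smul_left, hk, mul_assoc, inv_mul_cancel₀ hij, mul_one, H.two]
    have h2 : B (x + k • b i) (b i) = 0 := by
      rw [H.add_left, H.smul_left, hxs, hiso, mul_zero, add_zero]
    have h3 : B (x + k • b i) y = 1 := by
      rw [H.add_left, H.smul_left, hxy, H.swap hys, mul_zero, add_zero]
    refine ⟨x + k • b i, ?_, H.swap h2, H.swap h1, ?_, ?_⟩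
    · rw [H.add_right, H.smul_right, h2, mul_zero, add_zero, H.add_left, H.smul_left, hx, H.swap hxs]
      ring
    · intro a d had
      have h4 := congrArg (fun v => B v (b j)) had
      simp only [H.add_left _ _ (b j), H.smul_left] at h4
      rw [show B x (b j) + k * B (b i) (b j) = 0 by rw [← H.smul_left, ← H.add_left]; exact h1, mul_zero, add_zero,
        H.zero_left] at h4
      have h5 : a = 0 := (mul_eq_zero.1 h4).resolve_right hij
      rw [h5, zero_smul, zero_add] at had
      have h6 := congrArg (fun v => B v y) had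
      simp only [H.smul_left, H.zero_left] at h6
      rw [h3, mul_one] at h6
      exact ⟨h5, h6⟩
    · intro a d had
      have h4 := congrArg (fun v => B v (b i)) had
      simp only [H.add_left _ _ (b i), H.smul_left] at h4
      rw [hxs, hiso, mul_zero, add_zero, mul_zero, add_zero, H.zero_left] at h4
      have h5 : a = 0 := (mul_eq_zero.1 h4).resolve_right hji
      rw [h5, zero_smul, zero_add] at had
      have h6 := congrArg (fun v => B v y) had
      simp only [H.smul_left, H.zero_left] at h6
      rw [h3, mul_one] at h6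
      exact ⟨h5, h6⟩

end Abs

open Cfsg Cfsg.Agent.LieClassical.HermBasic Cfsg.Agent.LieClassical.HermSiegel
  Cfsg.Agent.LieClassical.HermGen Cfsg.Agent.LieClassical.SUBasic Matrix
  Cfsg.Agent.ClassicalGeometry.PSUAutBasic Cfsg.Agent.ClassicalGeometry.PSUAutSylow
  Cfsg.Agent.ClassicalGeometry.PSUAutUnip Cfsg.Agent.KFacts.Unit

variable {F : Type*} [Field F] [Fintype F] {q n : ℕ} {e f : Fin n → F} [CharP F 2]

/-- A hyperbolic pair of `N` orthogonal to an isotropic vector. -/
theorem exists_pair_NN (hF : Fintype.card F = q ^ 2) (hn : 6 ≤ n) (H : Hyp q e f) (s : NN q e f)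
    (hs : BB q e f s s = 0) :
    ∃ x y : NN q e f, BB q e f x x = 0 ∧ BB q e f y y = 0 ∧ BB q e f x y = 1 ∧ BB q e f x s = 0 ∧ BB q e f y s = 0 := by
  obtain ⟨x, y, hxx, hyy, hxy, hxe, hye, hxs, hys⟩ := exists_pair_perp hF hn (u := e) (s := s) H.ne_zero H.ee hs s.2.1
  have hes : hermForm n F q e s = 0 := herm_eq_zero_swap hF s.2.1
  have key : ∀ x y : Fin n → F, hermForm n F q x e = 0 → hermForm n F q y e = 0 →
      hermForm n F q (prN q e f x) (prN q e f y) = hermForm n F q x y := by
    intro x y hx hy
    rw [prN, prN, hx, hy, zero_smul, sub_zero, sub_zero, herm_sub_left, herm_sub_right hF,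
      herm_sub_right hF, herm_smul_left, herm_smul_left, herm_smul_right, herm_smul_right, hx, H.ee,
      herm_eq_zero_swap hF hy]
    ring
  have hp : ∀ x : Fin n → F, hermForm n F q x s = 0 → hermForm n F q x e = 0 →
      hermForm n F q (prN q e f x) s = 0 := by
    intro x hx hxe
    rw [prN, hxe, zero_smul, sub_zero, herm_sub_left, herm_smul_left, hx, hes]
    ring
  refine ⟨⟨prN q e f x, prN_e hF H x, prN_f H x⟩, ⟨prN q e f y, prN_e hF H y, prN_f H y⟩, ?_, ?_, ?_, ?_, ?_⟩
  · exact (key x x hxe hxe).trans hxx
  · exact (key y y hye hye).trans hyy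
  · exact (key x y hxe hye).trans hxy
  · exact hp x hxs hxe
  · exact hp y hys hye

/-- **A good basis of `⟨e, f⟩^⊥`.** -/
theorem exists_geo (hF : Fintype.card F = q ^ 2) (hn : 6 ≤ n) (H : Hyp q e f) :
    ∃ (s : Set (NN q e f)) (b : Module.Basis s F (NN q e f)), Finite s ∧ Nonempty s ∧ Geo (BB q e f) b :=
  (form hF H).exists_geo (exists_pair_NN hF hn H)

end Cfsg.Agent.OddHalf.D7.Uni.Ex
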