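import Cfsg.Agent.OddHalf.D7.Uni.Heis

/-!
# The Heisenberg group of a point: invariant maps (helper575)

* `Heis.E2` : an additive map `Q/X → X`, `P`-invariant up to inner ones, is inner;
* `Heis.lin` : a 2-element commuting with `P` on `Q/X` is trivial on `Q/X`.
-/

set_option autoImplicit false

namespace Cfsg.Agent.OddHalf.D7.Uni.Ex

open Subgroup

variable {G : Type*} [Group G] {F : Type*} [Field F] {N : Type*} [AddCommGroup N] [Module F N]

/-- `P` contains the transvections. -/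
def HasTr (σ : F →+* F) (B : N → N → F) (P : Subgroup G) (S : N → F → G) : Prop :=
  ∀ e, B e e = 0 → ∃ p ∈ P, ∀ x a, a + σ a = B x x → p * S x a * p⁻¹ = S (x + B x e • e) a

/-- independent vectors -/
def Ind (F : Type*) [Field F] {N : Type*} [AddCommGroup N] [Module F N] (e f : N) : Prop :=
  ∀ c d : F, c • e + d • f = 0 → c = 0 ∧ d = 0

/-- a basis of isotropic vectors, any two orthogonal to a third isotropic vector -/
structure Geo {ι : Type*} (B : N → N → F) (b : Module.Basis ι F N) : Prop where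
  iso : ∀ i, B (b i) (b i) = 0
  com : ∀ i j, ∃ e, B e e = 0 ∧ B (b i) e = 0 ∧ B (b j) e = 0 ∧ Ind F (b i) e ∧ Ind F (b j) e

theorem Ind.ne_left {e f : N} (h : Ind F e f) : e ≠ 0 := by
  rintro rfl
  have := (h 1 0 (by rw [smul_zero, zero_smul, add_zero])).1
  exact one_ne_zero this

theorem Ind.ne_right {e f : N} (h : Ind F e f) : f ≠ 0 := by
  rintro rfl
  have := (h 0 1 (by rw [smul_zero, zero_smul, add_zero])).2
  exact one_ne_zero this

theorem Form.isometry_tr {σ : F →+* F} {B : N → N → F} (H : Form σ B) {e : N} (he : B e e = 0) (x y : N) :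
    B (x + B x e • e) (y + B y e • e) = B x y := by
  rw [H.add_left, H.add_right, H.add_right, H.smul_left, H.smul_left, H.smul_right, H.smul_right, he, mul_zero,
    mul_zero, add_zero, H.symm y e]
  linear_combination (B x e * σ (B y e)) * H.two 1

namespace Heis

variable {σ : F →+* F} {B : N → N → F} {X Q P : Subgroup G} {S : N → F → G}

/-- **E2**: an additive map `Q/X → X`, `P`-invariant up to inner ones, is inner. -/
theorem E2 [Finite N] (H : Heis σ B X Q S) (T : HasTr σ B P S) {ι : Type*} [Fintype ι] {b : Module.Basis ι F N}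
    (hb : ∀ i, B (b i) (b i) = 0) {f : G → G} (hfX : ∀ v ∈ Q, f v ∈ X)
    (hfm : ∀ v ∈ Q, ∀ w ∈ Q, f (v * w) = f v * f w) (hf1 : ∀ x ∈ X, f x = 1)
    (hfP : ∀ p ∈ P, ∃ q ∈ Q, ∀ v ∈ Q, f (p * v * p⁻¹) = f v * (q * v * q⁻¹ * v⁻¹)) :
    ∃ q ∈ Q, ∀ v ∈ Q, f v = q * v * q⁻¹ * v⁻¹ := by
  choose c hc using H.exists_S
  have h1 : ∀ x, ∃ a, σ a = a ∧ f (S x (c x)) = S 0 a := fun x => (H.memX _).1 (hfX _ (H.mem_Q (hc x)))
  choose φ hφ hfφ using h1
  have h2 : ∀ x a, a + σ a = B x x → f (S x a) = S 0 (φ x) := by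
    intro x a ha
    have h3 : σ (a + c x) = a + c x := by
      have h4 : (a + c x) + σ (a + c x) = 0 := by
        rw [map_add]
        calc a + c x + (σ a + σ (c x)) = (a + σ a) + (c x + σ (c x)) := by ring
          _ = 0 := by rw [ha, hc, H.two]
      rw [add_eq_zero_iff_eq_neg, H.neg_eq] at h4
      exact h4.symm
    have h5 : S x a = S x (c x) * S 0 (a + c x) := by
      rw [H.mul_X (hc x) h3]
      congr 1
      linear_combination - (c x) * H.two 1
    rw [h5, hfm _ (H.mem_Q (hc x)) _ (H.XQ (H.mem_X h3)), hf1 _ (H.mem_X h3), mul_one, hfφ]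
  have hadd : ∀ x y, φ (x + y) = φ x + φ y := by
    intro x y
    have h3 := h2 _ _ (H.tr_mul (hc x) (hc y))
    rw [← H.mul _ _ _ _ (hc x) (hc y), hfm _ (H.mem_Q (hc x)) _ (H.mem_Q (hc y)), hfφ, hfφ,
      H.mul_X (H.tr0 (hφ x)) (hφ y)] at h3
    have h4 : σ (φ x + φ y) = φ x + φ y := by rw [map_add, hφ, hφ]
    exact (H.eq_iff (H.tr0 h4) (H.tr0 (hφ _)) h3).2.symm
  -- `φ` is a trace on each isotropic line
  have hline : ∀ e, B e e = 0 → e ≠ 0 → ∃ k : F, ∀ l : F, φ (l • e) = l * k + σ (l * k) := by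
    intro e he he0
    obtain ⟨p, hp, hpS⟩ := T e he
    obtain ⟨q, hq, hqf⟩ := hfP p hp
    obtain ⟨y, d, hd, rfl⟩ := (H.memQ q).1 hq
    obtain ⟨x0, hx0⟩ := H.exists_one he0
    refine ⟨B x0 y, fun l => ?_⟩
    have h3 := hqf _ (H.mem_Q (hc (l • x0)))
    have h4 : c (l • x0) + σ (c (l • x0)) =
        B (l • x0 + B (l • x0) e • e) (l • x0 + B (l • x0) e • e) := by
      rw [H.isometry_tr he]; exact hc _
    have hs := H.tr_sigma (B (l • x0) y)
    rw [hpS _ _ (hc _), h2 _ _ h4, H.comm (hc _) hd, hfφ, H.mul_X (H.tr0 (hφ _)) hs] at h3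
    have h5 : σ (φ (l • x0) + (B (l • x0) y + σ (B (l • x0) y))) =
        φ (l • x0) + (B (l • x0) y + σ (B (l • x0) y)) := by rw [map_add, hφ, hs]
    have h6 := (H.eq_iff (H.tr0 (hφ _)) (H.tr0 h5) h3).2
    rw [hadd, H.smul_left, hx0, mul_one, H.smul_left] at h6
    exact add_left_cancel h6
  have hb0 : ∀ i, b i ≠ 0 := fun i => b.ne_zero i
  choose k hk using fun i => hline (b i) (hb i) (hb0 i)
  -- a vector with prescribed products
  obtain ⟨y, hy⟩ : ∃ y : N, ∀ i, B (b i) y = k i := by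
    have hinj : Function.Injective (fun y : N => fun i => B (b i) y) := by
      intro y y' hyy
      have h3 : ∀ x, B x (y - y') = 0 := by
        intro x
        have hsum : ∀ (s : Finset ι) (g : ι → F) (z : N),
            B (∑ i ∈ s, g i • b i) z = ∑ i ∈ s, g i * B (b i) z := by
          intro s g z
          classical
          induction s using Finset.induction_on with
          | empty => simp [H.zero_left]
          | insert a s ha ih => rw [Finset.sum_insert ha, Finset.sum_insert ha, H.add_left, H.smul_left, ih]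
        rw [← b.sum_repr x, hsum]
        apply Finset.sum_eq_zero
        intro i _
        have h4 : B (b i) y = B (b i) y' := congrFun hyy i
        rw [sub_eq_add_neg, H.neg_eq', H.add_right, h4, H.two, mul_zero]
      exact sub_eq_zero.1 (H.nondeg _ h3)
    have hsur := (Finite.injective_iff_surjective_of_equiv b.equivFun.toEquiv).1 hinj
    obtain ⟨y, hy⟩ := hsur k
    exact ⟨y, fun i => congrFun hy i⟩
  obtain ⟨d, hd⟩ := H.exists_S y
  refine ⟨S y d, H.mem_Q hd, fun v hv => ?_⟩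
  obtain ⟨x, a, ha, rfl⟩ := (H.memQ v).1 hv
  rw [h2 _ _ ha, H.comm ha hd]
  congr 1
  have hsum : ∀ (s : Finset ι) (g : ι → F),
      φ (∑ i ∈ s, g i • b i) = B (∑ i ∈ s, g i • b i) y + σ (B (∑ i ∈ s, g i • b i) y) := by
    intro s g
    classical
    induction s using Finset.induction_on with
    | empty =>
      have h0 : φ 0 = 0 := by
        have := hadd 0 0
        rw [add_zero] at this
        exact (add_eq_left.1 this.symm)
      simp [H.zero_left, h0]
    | insert i s hi ih =>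
      rw [Finset.sum_insert hi, hadd, ih, hk, H.add_left, H.smul_left, hy, map_add]
      ring
  rw [← b.sum_repr x]
  exact hsum _ _

/-- conjugation by an element commuting with `P` modulo `Q` commutes with the transvections of `N` -/
theorem nu_tr (H : Heis σ B X Q S) {α : G → G} {ν : N → N} (hν : ∀ x y, ν (x + y) = ν x + ν y)
    (hα : ∀ x a, a + σ a = B x x → ∃ a', a' + σ a' = B (ν x) (ν x) ∧ α (S x a) = S (ν x) a')
    {e : N} (he : B e e = 0) {p q : G} (hq : q ∈ Q) (hp : ∀ x a, a + σ a = B x x → p * S x a * p⁻¹ = S (x + B x e • e) a)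
    (hαp : ∀ v ∈ Q, α (p * v * p⁻¹) = q * (p * α v * p⁻¹) * q⁻¹) (x : N) : ν (B x e • e) = B (ν x) e • e := by
  obtain ⟨a, ha⟩ := H.exists_S x
  obtain ⟨a', ha', e1⟩ := hα x a ha
  have h1 : a + σ a = B (x + B x e • e) (x + B x e • e) := by rw [H.isometry_tr he]; exact ha
  obtain ⟨a'', ha'', e2⟩ := hα _ a h1
  obtain ⟨y, b, hb, rfl⟩ := (H.memQ q).1 hq
  have h2 : a' + σ a' = B (ν x + B (ν x) e • e) (ν x + B (ν x) e • e) := by rw [H.isometry_tr he]; exact ha'
  have h3 := hαp _ (H.mem_Q ha)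
  rw [hp _ _ ha, e2, e1, hp _ _ ha', H.conj h2 hb] at h3
  have h4 : (a' + (B (ν x + B (ν x) e • e) y + σ (B (ν x + B (ν x) e • e) y))) +
      σ (a' + (B (ν x + B (ν x) e • e) y + σ (B (ν x + B (ν x) e • e) y))) =
      B (ν x + B (ν x) e • e) (ν x + B (ν x) e • e) := by
    rw [map_add, H.tr_sigma, ← h2]
    linear_combination (B (ν x + B (ν x) e • e) y + σ (B (ν x + B (ν x) e • e) y)) * H.two 1
  have h5 := (H.eq_iff ha'' h4 h3).1
  rw [hν] at h5
  exact add_left_cancel h5

/-- **Schur**: an additive map commuting with the transvections is a scalar. -/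
theorem _root_.Cfsg.Agent.OddHalf.D7.Uni.Ex.Form.schur (H : Form σ B) {ν : N → N}
    (hν : ∀ x y, ν (x + y) = ν x + ν y)
    (hc : ∀ e, B e e = 0 → ∀ x, ν (B x e • e) = B (ν x) e • e) {ι : Type*} [Fintype ι] [Nonempty ι]
    {b : Module.Basis ι F N} (g : Geo B b) : ∃ k : F, ∀ x, ν x = k • x := by
  -- the action on an isotropic line
  have h1 : ∀ e, B e e = 0 → e ≠ 0 → ∃ m : F → F, ∀ l, ν (l • e) = m l • e := by
    intro e he he0
    obtain ⟨x0, hx0⟩ := H.exists_one he0
    refine ⟨fun l => B (ν (l • x0)) e, fun l => ?_⟩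
    have := hc e he (l • x0)
    rwa [H.smul_left, hx0, mul_one] at this
  choose! m hm using h1
  -- two orthogonal independent vectors
  have h2 : ∀ e f, B e e = 0 → B f f = 0 → B e f = 0 → Ind F e f → ∀ l μ, m f (μ * l) = l * m e μ := by
    intro e f he hf hef hi l μ
    have h3 : B (e + l • f) (e + l • f) = 0 := by
      rw [H.add_left, H.add_right, H.add_right, H.smul_left, H.smul_left, H.smul_right, H.smul_right, he, hf, hef,
        H.swap hef]
      simp
    have h4 : e + l • f ≠ 0 := by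
      intro h
      have := (hi 1 l (by rw [one_smul]; exact h)).1
      exact one_ne_zero this
    have h5 := hm _ h3 h4 μ
    have h6 : ν (μ • (e + l • f)) = m e μ • e + m f (μ * l) • f := by
      rw [smul_add, hν, hm e he hi.ne_left, smul_smul, hm f hf hi.ne_right]
    rw [h6, smul_add, smul_smul] at h5
    have h7 := hi (m e μ - m (e + l • f) μ) (m f (μ * l) - m (e + l • f) μ * l) (by
      rw [sub_smul, sub_smul]
      have : m e μ • e + m f (μ * l) • f - (m (e + l • f) μ • e + (m (e + l • f) μ * l) • f) = 0 := by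
        rw [h5, sub_self]
      rw [← this]; abel)
    rw [sub_eq_zero.1 h7.2, ← sub_eq_zero.1 h7.1, mul_comm]
  have h3 : ∀ e f, B e e = 0 → B f f = 0 → B e f = 0 → Ind F e f → ∀ l, m e l = l * m e 1 ∧ m f l = l * m e 1 := by
    intro e f he hf hef hi l
    have h4 := h2 e f he hf hef hi l 1
    rw [one_mul] at h4
    have h5 := h2 e f he hf hef hi 1 l
    rw [mul_one, one_mul] at h5
    exact ⟨by rw [← h5, h4], h4⟩
  obtain ⟨i0⟩ := ‹Nonempty ι›
  refine ⟨m (b i0) 1, fun x => ?_⟩
  have h4 : ∀ i l, m (b i) l = l * m (b i0) 1 := by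
    intro i l
    obtain ⟨e, he, he1, he2, hi1, hi2⟩ := g.com i0 i
    have h5 := h3 (b i0) e (g.iso i0) he he1 hi1
    have h6 := h3 (b i) e (g.iso i) he he2 hi2
    rw [(h6 l).1]
    have h7 : m (b i) 1 = m (b i0) 1 := by
      have h8 := (h5 1).2
      have h9 := (h6 1).2
      rw [one_mul] at h8 h9
      rw [← h8, ← h9]
    rw [h7]
  have hsum : ∀ (s : Finset ι) (g : ι → F), ν (∑ i ∈ s, g i • b i) = m (b i0) 1 • ∑ i ∈ s, g i • b i := by
    intro s c
    classical
    induction s using Finset.induction_on with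
    | empty =>
      have h0 : ν 0 = 0 := by
        have := hν 0 0
        rw [add_zero] at this
        exact (add_eq_left.1 this.symm)
      simp [h0]
    | insert i s hi ih =>
      rw [Finset.sum_insert hi, hν, ih, hm _ (g.iso i) (b.ne_zero i), h4, smul_add, smul_smul, mul_comm]
  rw [← b.sum_repr x]
  exact hsum _ _

/-- **lin**: a 2-element commuting with `P` on `Q/X` is trivial on `Q/X`. -/
theorem lin (H : Heis σ B X Q S) (T : HasTr σ B P S) {ι : Type*} [Fintype ι] [Nonempty ι]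
    {b : Module.Basis ι F N} (g : Geo B b) {n : G} (hn : IsPGroup 2 (zpowers n)) (hnQ : ∀ q ∈ Q, n * q * n⁻¹ ∈ Q)
    (hnX : ∀ x ∈ X, n * x * n⁻¹ ∈ X) (hnP : ∀ p ∈ P, n * p * n⁻¹ * p⁻¹ ∈ Q) :
    ∀ q ∈ Q, n * q * n⁻¹ * q⁻¹ ∈ X := by
  obtain ⟨ν, hν, hα⟩ := H.exists_nu (α := fun q => n * q * n⁻¹) hnQ hnX (fun q _ r _ => by group)
  obtain ⟨k, hk⟩ := H.schur hν (fun e he x => by
    obtain ⟨p, hp, hpS⟩ := T e he
    refine H.nu_tr (α := fun q => n * q * n⁻¹) hν hα he (hnP p hp) hpS (fun v _ => ?_) x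
    group) g
  -- powers of `n`
  have hpow : ∀ j : ℕ, ∀ x a, a + σ a = B x x →
      ∃ a', a' + σ a' = B (k ^ j • x) (k ^ j • x) ∧ n ^ j * S x a * (n ^ j)⁻¹ = S (k ^ j • x) a' := by
    intro j
    induction j with
    | zero =>
      intro x a ha
      exact ⟨a, by rw [pow_zero, one_smul]; exact ha, by rw [pow_zero, pow_zero, one_smul]; group⟩
    | succ j ih =>
      intro x a ha
      obtain ⟨a1, ha1, e1⟩ := ih x a ha
      obtain ⟨a2, ha2, e2⟩ := hα _ a1 ha1
      rw [hk, smul_smul, ← pow_succ'] at ha2 e2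
      refine ⟨a2, ha2, ?_⟩
      rw [← e2, ← e1, pow_succ']
      group
  obtain ⟨r, hr⟩ := hn ⟨n, mem_zpowers n⟩
  have hr' : n ^ 2 ^ r = 1 := congrArg Subtype.val hr
  obtain ⟨i0⟩ := ‹Nonempty ι›
  have hkr : k ^ 2 ^ r = 1 := by
    obtain ⟨a, ha⟩ := H.exists_S (b i0)
    obtain ⟨a', ha', e⟩ := hpow (2 ^ r) _ a ha
    rw [hr', one_mul, inv_one, mul_one] at e
    have h1 := (H.eq_iff ha ha' e).1
    have h2 : (k ^ 2 ^ r - 1) • b i0 = 0 := by rw [sub_smul, ← h1, one_smul, sub_self]
    rcases smul_eq_zero.1 h2 with h3 | h3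
    · exact sub_eq_zero.1 h3
    · exact absurd h3 (b.ne_zero i0)
  have hk1 : k = 1 := by
    clear hr hr' hpow
    have hsq : ∀ y : F, y ^ 2 = 1 → y = 1 := by
      intro y hy
      have h1 : (y + 1) ^ 2 = 0 := by linear_combination hy + (y + 1) * H.two 1
      have h2 : y + 1 = 0 := by
        exact pow_eq_zero_iff (two_ne_zero) |>.1 h1
      rw [add_eq_zero_iff_eq_neg, H.neg_eq] at h2
      exact h2
    induction r with
    | zero => rwa [pow_zero, pow_one] at hkr
    | succ r ih =>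
      apply ih
      apply hsq
      rw [← pow_mul, ← pow_succ]
      exact hkr
  subst hk1
  intro q hq
  obtain ⟨x, a, ha, rfl⟩ := (H.memQ q).1 hq
  obtain ⟨a', ha', e⟩ := hα x a ha
  rw [hk, one_smul] at ha' e
  rw [show n * S x a * n⁻¹ = S x a' from e]
  have h1 : σ (a' + a) = a' + a := by
    have h4 : (a' + a) + σ (a' + a) = 0 := by
      rw [map_add]
      calc a' + a + (σ a' + σ a) = (a' + σ a') + (a + σ a) := by ring
        _ = 0 := by rw [ha, ha', H.two]
    rw [add_eq_zero_iff_eq_neg, H.neg_eq] at h4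
    exact h4.symm
  have h2 : S x a' = S 0 (a' + a) * S x a := by
    rw [H.X_mul ha h1]
    congr 1
    linear_combination - a * H.two 1
  rw [h2, mul_inv_cancel_right]
  exact H.mem_X h1

end Heis

end Cfsg.Agent.OddHalf.D7.Uni.Ex
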