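import Cfsg.Agent.OddHalf.D7.Uni.HeisSemi

/-!
# The Heisenberg group of a point: `O_2(P) = Q` (helper575)

* `Form.unip` : if `T_x T_y` has 2-power order, the isotropic vectors `x`, `y` are orthogonal;
* `Form.perp_perp` : a vector orthogonal to the isotropic vectors of `s^⊥` is a multiple of `s`;
* `Heis.O2` : a normal 2-subgroup of `P` lies in `Q`.
-/

set_option autoImplicit false

namespace Cfsg.Agent.OddHalf.D7.Uni.Ex

open Subgroup

variable {G : Type*} [Group G] {F : Type*} [Field F] {N : Type*} [AddCommGroup N] [Module F N]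

/-- every isotropic vector is orthogonal to a hyperbolic pair -/
def Pairs (B : N → N → F) : Prop :=
  ∀ s, B s s = 0 → ∃ x y, B x x = 0 ∧ B y y = 0 ∧ B x y = 1 ∧ B x s = 0 ∧ B y s = 0

namespace Form

variable {σ : F →+* F} {B : N → N → F}

/-- the product of two transvections, restricted to the plane -/
theorem unip (H : Form σ B) {x y : N} (hx : B x x = 0) (hy : B y y = 0) {T : N → N}
    (hT : ∀ v, T v = (v + B v y • y) + B (v + B v y • y) x • x) {k : ℕ} (hk : ∀ v, T^[2 ^ k] v = v) :
    B x y = 0 := by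
  by_contra hne
  have hx0 : x ≠ 0 := by
    rintro rfl; exact hne (H.zero_left y)
  set β := B x y with hβ
  have hyx : B y x = σ β := H.symm x y
  set c := β * σ β with hc
  have hTadd : ∀ v w, T (v + w) = T v + T w := by
    intro v w
    rw [hT, hT, hT]
    simp only [H.add_left, add_smul]
    abel
  have hTsmul : ∀ (a : F) v, T (a • v) = a • T v := by
    intro a v
    rw [hT, hT]
    simp only [H.add_left, H.smul_left, smul_add, smul_smul, add_smul, mul_assoc]
  have hTx : T x = (1 + c) • x + β • y := by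
    rw [hT]
    simp only [← hβ, H.add_left, H.smul_left, hx, hyx, zero_add]
    rw [← hc, add_smul, one_smul]
    abel
  have hTy : T y = y + σ β • x := by
    rw [hT, hy, zero_smul, add_zero, hyx]
  -- the plane
  let M : Submodule F N := Submodule.span F {x, y}
  have hxM : x ∈ M := Submodule.subset_span (by simp)
  have hyM : y ∈ M := Submodule.subset_span (by simp)
  have hM : ∀ v ∈ M, ∃ a b : F, v = a • x + b • y := by
    intro v hv
    obtain ⟨a, b, h⟩ := Submodule.mem_span_pair.1 hv
    exact ⟨a, b, h.symm⟩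
  have hTM : ∀ v ∈ M, T v ∈ M := by
    intro v hv
    obtain ⟨a, b, rfl⟩ := hM v hv
    rw [hTadd, hTsmul, hTsmul, hTx, hTy]
    exact M.add_mem (M.smul_mem _ (M.add_mem (M.smul_mem _ hxM) (M.smul_mem _ hyM)))
      (M.smul_mem _ (M.add_mem hyM (M.smul_mem _ hxM)))
  have h2 := H.two 1
  -- Cayley-Hamilton
  have hCH : ∀ v ∈ M, T (T v) = c • T v + v := by
    intro v hv
    obtain ⟨a, b, rfl⟩ := hM v hv
    have h1 : T (T x) = c • T x + x := by
      rw [hTx, hTadd, hTsmul, hTsmul, hTx, hTy]
      match_scalars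
      · rw [hc]; linear_combination (β * σ β) * h2
      · rw [hc]; linear_combination β * h2
    have h3 : T (T y) = c • T y + y := by
      rw [hTy, hTadd, hTsmul, hTx, hTy]
      match_scalars
      · rw [hc]; ring
      · rw [hc]; linear_combination σ β * h2
    rw [hTadd, hTsmul, hTsmul, hTadd, hTsmul, hTsmul, h1, h3, smul_add, smul_add, smul_add, smul_comm c a,
      smul_comm c b]
    abel
  have hit : ∀ (j : ℕ) (v : N), v ∈ M → T^[j] v ∈ M := by
    intro j
    induction j with
    | zero => intro v hv; exact hv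
    | succ j ih => intro v hv; rw [Function.iterate_succ_apply']; exact hTM _ (ih v hv)
  have hadd : ∀ (j : ℕ) (v w : N), T^[j] (v + w) = T^[j] v + T^[j] w := by
    intro j
    induction j with
    | zero => intro v w; rfl
    | succ j ih => intro v w; rw [Function.iterate_succ_apply', ih, hTadd, Function.iterate_succ_apply',
        Function.iterate_succ_apply']
  have hsmul : ∀ (j : ℕ) (a : F) (v : N), T^[j] (a • v) = a • T^[j] v := by
    intro j
    induction j with
    | zero => intro a v; rfl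
    | succ j ih => intro a v; rw [Function.iterate_succ_apply', ih, hTsmul, Function.iterate_succ_apply']
  have key : ∀ (j : ℕ) (v : N), v ∈ M → T^[2 ^ j] (T^[2 ^ j] v) = c ^ 2 ^ j • T^[2 ^ j] v + v := by
    intro j
    induction j with
    | zero =>
      intro v hv
      rw [pow_zero, pow_one]
      exact hCH v hv
    | succ j ih =>
      intro v hv
      have e1 : ∀ w, T^[2 ^ (j + 1)] w = T^[2 ^ j] (T^[2 ^ j] w) := by
        intro w
        rw [← Function.iterate_add_apply, pow_succ, mul_two]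
      have hv1 := hit (2 ^ j) v hv
      have hv2 := hit (2 ^ j) _ hv1
      rw [e1, e1, ih _ hv2, ih _ hv1, ih _ hv, pow_succ 2 j, pow_mul]
      set w := T^[2 ^ j] v
      set d := c ^ 2 ^ j
      match_scalars
      · linear_combination d * h2
      · ring
  have h3 := key k x hxM
  rw [hk, hk] at h3
  have h4 : c ^ 2 ^ k • x = 0 := by
    have := h3.symm
    rwa [add_eq_right] at this
  rcases smul_eq_zero.1 h4 with h5 | h5
  · have h6 : c = 0 := pow_eq_zero_iff (pow_ne_zero _ two_ne_zero) |>.1 h5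
    rw [hc] at h6
    rcases mul_eq_zero.1 h6 with h7 | h7
    · exact hne h7
    · exact hne ((map_eq_zero σ).1 h7)
  · exact hx0 h5

/-- a vector orthogonal to all isotropic vectors of `s^⊥` is a multiple of `s` -/
theorem perp_perp (H : Form σ B) (hp : Pairs B) {s w : N} (hs : B s s = 0) (hs0 : s ≠ 0)
    (hw : ∀ z, B z z = 0 → B z s = 0 → B z w = 0) : ∃ k : F, w = k • s := by
  obtain ⟨x, y, hx, hy, hxy, hxs, hys⟩ := hp s hs
  have hyx : B y x = 1 := by rw [H.symm, hxy, map_one]
  have key : ∀ z, B z s = 0 → B z w = 0 := by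
    intro z hz
    set z' := z + B z y • x + B z x • y with hz'
    have hwy : B z' y = 0 := by
      rw [hz', H.add_left, H.add_left, H.smul_left, H.smul_left, hxy, hy, mul_one, mul_zero, add_zero, H.two]
    have hwx : B z' x = 0 := by
      rw [hz', H.add_left, H.add_left, H.smul_left, H.smul_left, hyx, hx, mul_one, mul_zero, add_zero, H.two]
    have hws : B z' s = 0 := by
      rw [hz', H.add_left, H.add_left, H.smul_left, H.smul_left, hz, hxs, hys]; ring
    obtain ⟨c, hc⟩ := H.exists_tr (H.self_sigma z')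
    have h1 : B (z' + x + c • y) (z' + x + c • y) = 0 := by
      simp only [H.add_left, H.add_right, H.smul_left, H.smul_right, hwy, hwx, H.swap hwy, H.swap hwx, hx, hy, hxy,
        hyx]
      linear_combination (c + σ c) * H.two 1 - hc
    have h2 : B (z' + x + c • y) s = 0 := by
      rw [H.add_left, H.add_left, H.smul_left, hws, hxs, hys]; ring
    have h3 := hw _ h1 h2
    have hxw := hw x hx hxs
    have hyw := hw y hy hys
    rw [H.add_left, H.add_left, H.smul_left, hxw, hyw, mul_zero, add_zero, add_zero, hz', H.add_left, H.add_left,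
      H.smul_left, H.smul_left, hxw, hyw] at h3
    linear_combination h3
  obtain ⟨x0, hx0⟩ := H.exists_one hs0
  refine ⟨σ (B x0 w), ?_⟩
  have h1 : w + σ (B x0 w) • s = 0 := by
    apply H.nondeg
    intro v
    have h2 := key (v + B v s • x0) (by rw [H.add_left, H.smul_left, hx0, mul_one, H.two])
    rw [H.add_left, H.smul_left] at h2
    rw [H.add_right, H.smul_right, H.σσ, mul_comm]
    exact h2
  rw [add_eq_zero_iff_eq_neg, H.neg_eq'] at h1
  exact h1

end Form

/-- an element trivial on `Q/X` lies in `Q` -/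
def Cen (X Q P : Subgroup G) : Prop := ∀ p ∈ P, (∀ q ∈ Q, p * q * p⁻¹ * q⁻¹ ∈ X) → p ∈ Q

namespace Heis

variable {σ : F →+* F} {B : N → N → F} {X Q P : Subgroup G} {S : N → F → G}

/-- an element acting trivially on `N` is trivial on `Q/X` -/
theorem mem_X_of_eq (H : Heis σ B X Q S) {x : N} {a b : F} (ha : a + σ a = B x x) (hb : b + σ b = B x x) :
    S x b * (S x a)⁻¹ ∈ X := by
  have h1 : σ (b + a) = b + a := by
    have h4 : (b + a) + σ (b + a) = 0 := by
      rw [map_add]
      calc b + a + (σ b + σ a) = (b + σ b) + (a + σ a) := by ring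
        _ = 0 := by rw [ha, hb, H.two]
    rw [add_eq_zero_iff_eq_neg, H.neg_eq] at h4
    exact h4.symm
  have h2 : S x b = S 0 (b + a) * S x a := by
    rw [H.X_mul ha h1]
    congr 1
    linear_combination - a * H.two 1
  rw [h2, mul_inv_cancel_right]
  exact H.mem_X h1

/-- **O2**: a normal 2-subgroup of `P` lies in `Q`. -/
theorem O2 (H : Heis σ B X Q S) (T : HasTr σ B P S) (L : Lin' σ B P S) (hp : Pairs B) {ι : Type*} [Fintype ι]
    {b : Module.Basis ι F N} (g : Geo B b) (hC : Cen X Q P) {R : Subgroup G} (hRP : R ≤ P)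
    (hR : ∀ p ∈ P, ∀ r ∈ R, p * r * p⁻¹ ∈ R) (h2 : IsPGroup 2 R) : R ≤ Q := by
  intro r hr
  obtain ⟨γ, hγ, hγS⟩ := L r (hRP hr)
  -- iterates of an element of `P`
  have hiter : ∀ (u : G) (T : N → N), (∀ x a, a + σ a = B x x → ∃ a', a' + σ a' = B (T x) (T x) ∧
      u * S x a * u⁻¹ = S (T x) a') → ∀ (j : ℕ) x a, a + σ a = B x x →
      ∃ a', a' + σ a' = B (T^[j] x) (T^[j] x) ∧ u ^ j * S x a * (u ^ j)⁻¹ = S (T^[j] x) a' := by
    intro u T hT j
    induction j with
    | zero => intro x a ha; exact ⟨a, ha, by rw [pow_zero]; simp⟩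
    | succ j ih =>
      intro x a ha
      obtain ⟨a1, ha1, e1⟩ := ih x a ha
      obtain ⟨a2, ha2, e2⟩ := hT _ a1 ha1
      rw [Function.iterate_succ_apply']
      refine ⟨a2, ha2, ?_⟩
      rw [← e2, ← e1, pow_succ']
      group
  have hfix : ∀ (u : G) (T : N → N) (j : ℕ), (∀ x a, a + σ a = B x x → ∃ a', a' + σ a' = B (T x) (T x) ∧
      u * S x a * u⁻¹ = S (T x) a') → u ^ j = 1 → ∀ x, T^[j] x = x := by
    intro u T j hT hj x
    obtain ⟨a, ha⟩ := H.exists_S x
    obtain ⟨a', ha', e⟩ := hiter u T hT j x a ha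
    rw [hj, one_mul, inv_one, mul_one] at e
    exact (H.eq_iff ha ha' e).1.symm
  -- `B (γ s) s = 0`
  have h3 : ∀ s, B s s = 0 → B (γ s) s = 0 := by
    intro s hs
    obtain ⟨p, hpP, hpS⟩ := T s hs
    have hu : r * (p * r⁻¹ * p⁻¹) ∈ R := R.mul_mem hr (hR p hpP _ (R.inv_mem hr))
    obtain ⟨k, hk⟩ := h2 ⟨_, hu⟩
    have hk' : (r * (p * r⁻¹ * p⁻¹)) ^ 2 ^ k = 1 := congrArg Subtype.val hk
    have hγs : B (γ s) (γ s) = 0 := by rw [hγ.iso]; exact hs
    -- the action of `r p r⁻¹ p⁻¹`
    have hpinv : ∀ x a, a + σ a = B x x → p⁻¹ * S x a * p = S (x + B x s • s) a := by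
      intro x a ha
      have h4 : a + σ a = B (x + B x s • s) (x + B x s • s) := by rw [H.isometry_tr hs]; exact ha
      have h5 := hpS _ a h4
      have h6 : x + B x s • s + B (x + B x s • s) s • s = x := by
        rw [H.add_left, H.smul_left, hs, mul_zero, add_zero, add_assoc, H.two', add_zero]
      rw [h6] at h5
      rw [← h5]; group
    obtain ⟨γ', hγ', hγS'⟩ := L r⁻¹ (P.inv_mem (hRP hr))
    have hγγ : ∀ x, γ (γ' x) = x := by
      intro x
      obtain ⟨a, ha⟩ := H.exists_S x
      obtain ⟨a1, ha1, e1⟩ := hγS' x a ha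
      obtain ⟨a2, ha2, e2⟩ := hγS _ a1 ha1
      rw [← e1] at e2
      have h4 : S x a = S (γ (γ' x)) a2 := by rw [← e2]; group
      exact (H.eq_iff ha ha2 h4).1.symm
    refine H.unip (x := γ s) (y := s) hγs hs (T := fun v => (v + B v s • s) + B (v + B v s • s) (γ s) • γ s)
      (fun v => rfl) (k := k) (hfix _ _ _ (fun x a ha => ?_) hk')
    have h4 : a + σ a = B (x + B x s • s) (x + B x s • s) := by rw [H.isometry_tr hs]; exact ha
    obtain ⟨a1, ha1, e1⟩ := hγS' _ a h4
    have h5 : a1 + σ a1 = B (γ' (x + B x s • s) + B (γ' (x + B x s • s)) s • s)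
      (γ' (x + B x s • s) + B (γ' (x + B x s • s)) s • s) := by rw [H.isometry_tr hs]; exact ha1
    obtain ⟨a2, ha2, e2⟩ := hγS _ a1 h5
    have h6 : γ (γ' (x + B x s • s) + B (γ' (x + B x s • s)) s • s) =
        (x + B x s • s) + B (x + B x s • s) (γ s) • γ s := by
      rw [hγ.add, hγ.smul, hγγ]
      congr 2
      rw [← hγ.iso, hγγ]
    rw [h6] at ha2 e2
    refine ⟨a2, ha2, ?_⟩
    rw [← e2, ← hpS _ _ ha1, ← e1, ← hpinv x a ha]
    group
  -- polarisation
  have h4 : ∀ s z, B s s = 0 → B z z = 0 → B z s = 0 → B z (γ s) = 0 := by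
    intro s z hs hz hzs
    have hsz := H.swap hzs
    have h5 : ∀ l : F, σ l * B (γ s) z + l * B (γ z) s = 0 := by
      intro l
      have h6 := h3 (s + l • z) (by
        simp only [H.add_left, H.add_right, H.smul_left, H.smul_right, hs, hz, hzs, hsz]; ring)
      rw [hγ.add, hγ.smul, H.add_left, H.add_right, H.add_right, H.smul_left, H.smul_left, H.smul_right,
        H.smul_right, h3 s hs, h3 z hz] at h6
      linear_combination h6
    obtain ⟨θ, hθ⟩ := H.nt
    have h6 := h5 1
    rw [map_one, one_mul, one_mul] at h6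
    have h7 := h5 θ
    have h8 : (σ θ + θ) * B (γ s) z = 0 := by
      linear_combination h7 + θ * h6 - (θ * B (γ z) s) * H.two 1
    have h9 : σ θ + θ ≠ 0 := by
      intro h
      apply hθ
      rw [add_eq_zero_iff_eq_neg, H.neg_eq] at h
      exact h
    exact H.swap ((mul_eq_zero.1 h8).resolve_left h9)
  -- scalars on isotropic vectors
  have h5 : ∀ s, B s s = 0 → s ≠ 0 → ∃ k : F, γ s = k • s := fun s hs hs0 =>
    H.perp_perp hp hs hs0 fun z hz hzs => h4 s z hs hz hzs
  obtain ⟨k, hk⟩ := h2 ⟨r, hr⟩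
  have hk' : r ^ 2 ^ k = 1 := congrArg Subtype.val hk
  have h6 : ∀ s, B s s = 0 → s ≠ 0 → γ s = s := by
    intro s hs hs0
    obtain ⟨c, hc⟩ := h5 s hs hs0
    have h7 : ∀ j : ℕ, γ^[j] s = c ^ j • s := by
      intro j
      induction j with
      | zero => rw [pow_zero, one_smul]; rfl
      | succ j ih => rw [Function.iterate_succ_apply', ih, hγ.smul, hc, smul_smul, pow_succ]
    have h8 := h7 (2 ^ k)
    rw [hfix r γ _ hγS hk'] at h8
    have h9 : (c ^ 2 ^ k - 1) • s = 0 := by rw [sub_smul, ← h8, one_smul, sub_self]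
    have h10 : c ^ 2 ^ k = 1 := by
      rcases smul_eq_zero.1 h9 with h | h
      · exact sub_eq_zero.1 h
      · exact absurd h hs0
    have hsq : ∀ y : F, y ^ 2 = 1 → y = 1 := by
      intro y hy
      have h1 : (y + 1) ^ 2 = 0 := by linear_combination hy + (y + 1) * H.two 1
      have h2 : y + 1 = 0 := by
        exact pow_eq_zero_iff (two_ne_zero) |>.1 h1
      rw [add_eq_zero_iff_eq_neg, H.neg_eq] at h2
      exact h2
    have h11 : ∀ m : ℕ, c ^ 2 ^ m = 1 → c = 1 := by
      intro m
      induction m with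
      | zero => intro h; rwa [pow_zero, pow_one] at h
      | succ m ih => intro h; exact ih (hsq _ (by rw [← pow_mul, ← pow_succ]; exact h))
    rw [hc, h11 k h10, one_smul]
  have h7 : ∀ x, γ x = x := by
    intro x
    have hsum : ∀ (t : Finset ι) (c : ι → F), γ (∑ i ∈ t, c i • b i) = ∑ i ∈ t, c i • b i := by
      intro t c
      classical
      induction t using Finset.induction_on with
      | empty =>
        have h0 := hγ.smul 0 0
        rw [zero_smul, zero_smul] at h0
        simpa using h0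
      | insert i t hi ih =>
        rw [Finset.sum_insert hi, hγ.add, ih, hγ.smul, h6 _ (g.iso i) (b.ne_zero i)]
    rw [← b.sum_repr x]
    exact hsum _ _
  apply hC r (hRP hr)
  intro q hq
  obtain ⟨x, a, ha, rfl⟩ := (H.memQ q).1 hq
  obtain ⟨a', ha', e⟩ := hγS x a ha
  rw [h7] at ha' e
  rw [e]
  exact H.mem_X_of_eq ha ha'

end Heis

end Cfsg.Agent.OddHalf.D7.Uni.Ex
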