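import Cfsg.Agent.OddHalf.D7.Uni.HeisSemi
import Cfsg.Agent.KFacts.Unit.Point
import Cfsg.Agent.KFacts.Unit.Torus
import Cfsg.Agent.KFacts.Unit.Extend

/-!
# The Heisenberg group of an isotropic vector in `PSU n F q`, `q` even (helper575)

`e, f` a hyperbolic pair, `N = ⟨e, f⟩^⊥`, `S x a` = image of the Siegel element `siegel e x a` under
`ρ : PSU n F q → G` injective. `heis`, `hasTr`, `lin'`, `exists_geo` : the hypotheses of `Heis.E2`, `Heis.lin`, `Heis.semi`.
-/

set_option autoImplicit false
set_option linter.unusedSectionVars false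

namespace Cfsg.Agent.OddHalf.D7.Uni.Ex

open Subgroup
open Cfsg Cfsg.Agent.LieClassical.HermBasic Cfsg.Agent.LieClassical.HermSiegel
  Cfsg.Agent.LieClassical.HermGen Cfsg.Agent.LieClassical.SUBasic Matrix
  Cfsg.Agent.ClassicalGeometry.PSUAutBasic Cfsg.Agent.ClassicalGeometry.PSUAutSylow
  Cfsg.Agent.ClassicalGeometry.PSUAutUnip Cfsg.Agent.KFacts.Unit

variable {F : Type*} [Field F] [Fintype F] {q n : ℕ} {G : Type*} [Group G]

/-- `x ↦ x ^ q` -/
def frb (hF : Fintype.card F = q ^ 2) : F →+* F where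
  toFun x := x ^ q
  map_one' := one_pow q
  map_mul' x y := mul_pow x y q
  map_zero' := zero_pow_q hF
  map_add' x y := add_pow_q hF x y

theorem frb_apply (hF : Fintype.card F = q ^ 2) (x : F) : frb hF x = x ^ q := rfl

/-- `N = ⟨e, f⟩^⊥` -/
def NN (q : ℕ) (e f : Fin n → F) : Submodule F (Fin n → F) := perp q e ⊓ perp q f

theorem mem_NN {e f x : Fin n → F} : x ∈ NN q e f ↔ hermForm n F q x e = 0 ∧ hermForm n F q x f = 0 := Iff.rfl

/-- the form on `N` -/
def BB (q : ℕ) (e f : Fin n → F) (x y : NN q e f) : F := hermForm n F q x y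

theorem BB_def {e f : Fin n → F} (x y : NN q e f) : BB q e f x y = hermForm n F q x y := rfl

open Classical in
/-- the Siegel elements -/
noncomputable def SS (hF : Fintype.card F = q ^ 2) (e f : Fin n → F) (ρ : PSU n F q →* G) (x : NN q e f) (a : F) : G :=
  if h : IsSiegel q e x a then ρ (pr n F q (siegel hF e x a h)) else 1

variable {e f : Fin n → F}

theorem SS_eq (hF : Fintype.card F = q ^ 2) (ρ : PSU n F q →* G) {x : NN q e f} {a : F} (h : IsSiegel q e x a) :
    SS hF e f ρ x a = ρ (pr n F q (siegel hF e x a h)) := by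
  rw [SS, dif_pos h]

section Two

variable [CharP F 2]

theorem two_eq : (2 : F) = 0 := CharTwo.two_eq_zero

theorem isSiegel_iff (H : Hyp q e f) {x : NN q e f} {a : F} :
    IsSiegel q e x a ↔ a + a ^ q = BB q e f x x := by
  rw [BB_def]
  constructor
  · intro h
    have := h.tr
    linear_combination this - hermForm n F q x x * two_eq (F := F)
  · intro h
    refine ⟨H.ee, x.2.1, ?_⟩
    rw [h]
    linear_combination hermForm n F q x x * two_eq (F := F)

theorem form (hF : Fintype.card F = q ^ 2) (H : Hyp q e f) : Form (frb hF) (BB q e f) where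
  two x := by linear_combination x * two_eq (F := F)
  σσ x := pow_q_pow_q hF x
  nt := exists_not_fixed hF
  add_left x y z := herm_add_left _ _ _
  smul_left c x y := herm_smul_left _ _ _
  symm x y := herm_swap hF _ _
  nondeg y hy := by
    apply Subtype.ext
    show (y : Fin n → F) = 0
    apply herm_nondeg hF
    intro v
    apply herm_eq_zero_swap hF
    rw [eq_prN (q := q) e f v]
    have h1 := hy ⟨prN q e f v, mem_NN.2 ⟨prN_e hF H v, prN_f H v⟩⟩
    rw [BB_def] at h1
    rw [herm_add_left, herm_add_left, herm_smul_left, herm_smul_left, h1,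
      herm_eq_zero_swap hF y.2.1, herm_eq_zero_swap hF y.2.2]
    ring

/-- A Siegel element with vector in `e^⊥` has one with vector in `N`. -/
theorem siegel_shift (hF : Fintype.card F = q ^ 2) (H : Hyp q e f) {w : Fin n → F} {μ : F}
    (h : IsSiegel q e w μ) : ∃ (a : F) (h' : IsSiegel q e (prN q e f w) a), siegel hF e w μ h = siegel hF e _ a h' := by
  set c := hermForm n F q w f with hc
  have hw : w = prN q e f w + c • e := by
    conv_lhs => rw [eq_prN (q := q) e f w, h.orth, zero_smul, add_zero]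
    rw [add_comm]
  have hpe := prN_e hF H w
  have htr := h.tr
  have hww : hermForm n F q w w = hermForm n F q (prN q e f w) (prN q e f w) := by
    conv_lhs => rw [hw]
    rw [herm_add_left, herm_add_right hF, herm_add_right hF, herm_smul_left, herm_smul_left, herm_smul_right,
      herm_smul_right, H.ee, hpe, herm_eq_zero_swap hF hpe]
    ring
  refine ⟨μ + c - c ^ q, ⟨H.ee, hpe, ?_⟩, ?_⟩
  · rw [← hww, sub_pow_q hF, add_pow_q hF, pow_q_pow_q hF]
    linear_combination htr
  · apply ext_act
    intro v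
    rw [act_siegel, act_siegel]
    conv_lhs => rw [hw, herm_add_right hF, herm_smul_right]
    funext i
    simp only [Pi.add_apply, Pi.smul_apply, smul_eq_mul]
    ring

/-- **The Heisenberg group of a point.** -/
theorem heis (hF : Fintype.card F = q ^ 2) (hn : 3 ≤ n) (H : Hyp q e f) {ρ : PSU n F q →* G}
    (hρ : Function.Injective ρ) :
    Heis (frb hF) (BB q e f) ((RR hF e H.ee).map ρ) ((QQ hF e H.ee).map ρ) (SS hF e f ρ) where
  toForm := form hF H
  mul x a y b ha hb := by
    have h1 := (isSiegel_iff H).2 ha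
    have h2 := (isSiegel_iff H).2 hb
    have h3 := h1.mul hF h2
    have e1 : a + b + BB q e f y x = a + b - hermForm n F q y x := by
      rw [BB_def]
      linear_combination hermForm n F q y x * two_eq (F := F)
    rw [e1, SS_eq hF ρ h1, SS_eq hF ρ h2, SS_eq hF ρ (x := x + y) h3, ← map_mul, ← map_mul, siegel_mul]
    rfl
  inj x a ha h := by
    have h1 := (isSiegel_iff H).2 ha
    rw [SS_eq hF ρ h1] at h
    have h2 : ρ (pr n F q (siegel hF e x a h1)) = ρ (pr n F q (siegel hF e 0 0 (IsSiegel.zero hF H.ee))) := by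
      rw [h, siegel_zero, map_one, map_one]
    have h3 := siegel_pr_inj hF hn _ _ (hρ h2)
    have h4 := congrArg (fun g => act g f) h3
    simp only [act_siegel, H.fe hF, one_smul, mul_one, herm_eq_zero_swap hF x.2.2, herm_zero_right hF, sub_zero] at h4
    rw [add_zero, zero_smul, add_zero, add_assoc, add_eq_left] at h4
    have h5 := congrArg (fun v => hermForm n F q v f) h4
    simp only [herm_add_left, herm_smul_left, H.ef, mul_one, herm_zero_left] at h5
    rw [x.2.2, zero_add] at h5
    rw [h5, zero_smul, add_zero] at h4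
    exact ⟨Subtype.ext h4, h5⟩
  memQ g := by
    constructor
    · rintro ⟨y, hy, rfl⟩
      obtain ⟨w, μ, h, rfl⟩ := mem_QQ.1 hy
      obtain ⟨a, h', e1⟩ := siegel_shift hF H h
      refine ⟨⟨prN q e f w, prN_e hF H w, prN_f H w⟩, a, (isSiegel_iff H).1 h', ?_⟩
      rw [SS_eq hF ρ (x := ⟨prN q e f w, prN_e hF H w, prN_f H w⟩) h', e1]
    · rintro ⟨x, a, ha, rfl⟩
      have h1 := (isSiegel_iff H).2 ha
      rw [SS_eq hF ρ h1]
      exact mem_map_of_mem _ (mem_QQ.2 ⟨_, _, _, rfl⟩)
  memX g := by
    constructor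
    · rintro ⟨y, hy, rfl⟩
      obtain ⟨μ, hμ, rfl⟩ := mem_RR.1 hy
      refine ⟨μ, fixed_of_tr hμ, ?_⟩
      rw [SS_eq hF ρ (x := 0) (isSiegel_zero H.ee hμ)]
      rfl
    · rintro ⟨a, ha, rfl⟩
      have hμ : a + a ^ q = 0 := by
        have : a ^ q = a := ha
        rw [this]
        linear_combination a * two_eq (F := F)
      rw [SS_eq hF ρ (x := 0) (isSiegel_zero H.ee hμ)]
      exact mem_map_of_mem _ (mem_RR.2 ⟨a, hμ, rfl⟩)

/-- `P` contains the transvections. -/
theorem hasTr (hF : Fintype.card F = q ^ 2) (H : Hyp q e f) (ρ : PSU n F q →* G) :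
    HasTr (frb hF) (BB q e f) ((PP q e).map ρ) (SS hF e f ρ) := by
  intro s hs0
  have hs : hermForm n F q s s = 0 := hs0
  have h1 : (1 : F) + 1 ^ q = 0 := by rw [one_pow]; linear_combination two_eq (F := F)
  have hse : act (transv hF (s : Fin n → F) hs 1 h1) e = e := by
    rw [act_transv, herm_eq_zero_swap hF s.2.1, mul_zero, zero_smul, add_zero]
  refine ⟨ρ (pr n F q (transv hF s hs 1 h1)), mem_map_of_mem _ (mem_PP.2 ⟨_, hse, rfl⟩), fun x a ha => ?_⟩
  have h2 := (isSiegel_iff H).2 ha
  have h3 : act (transv hF (s : Fin n → F) hs 1 h1) x = ((x + BB q e f x s • s : NN q e f) : Fin n → F) := by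
    rw [act_transv, one_mul]
    rfl
  have h4 : IsSiegel q e ((x + BB q e f x s • s : NN q e f) : Fin n → F) a := by
    have := h2.map (transv hF (s : Fin n → F) hs 1 h1)
    rwa [h3, hse] at this
  rw [SS_eq hF ρ h2, SS_eq hF ρ h4, ← map_inv, ← map_inv, ← map_mul, ← map_mul, ← map_mul, ← map_mul, conj_siegel]
  rw [siegel_congr hF _ h4 hse h3 rfl]

/-- `P` acts linearly and isometrically. -/
theorem lin' (hF : Fintype.card F = q ^ 2) (H : Hyp q e f) (ρ : PSU n F q →* G) :
    Lin' (frb hF) (BB q e f) ((PP q e).map ρ) (SS hF e f ρ) := by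
  rintro _ ⟨y, hy, rfl⟩
  obtain ⟨g, hg, rfl⟩ := mem_PP.1 hy
  have hge : ∀ x : NN q e f, hermForm n F q (act g x) e = 0 := by
    intro x
    have h := herm_act g x e
    rw [hg] at h
    exact h.trans x.2.1
  have hdec : ∀ x : NN q e f, act g (x : Fin n → F) = prN q e f (act g x) + hermForm n F q (act g x) f • e := by
    intro x
    conv_lhs => rw [eq_prN (q := q) e f (act g (x : Fin n → F)), hge, zero_smul, add_zero]
    rw [add_comm]
  refine ⟨fun x => ⟨prN q e f (act g x), prN_e hF H _, prN_f H _⟩, ⟨?_, ?_, ?_⟩, ?_⟩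
  · intro x y
    apply Subtype.ext
    show prN q e f (act g ((x + y : NN q e f) : Fin n → F)) = prN q e f (act g x) + prN q e f (act g y)
    rw [← prN_add, ← act_add]
    rfl
  · intro c x
    apply Subtype.ext
    show prN q e f (act g ((c • x : NN q e f) : Fin n → F)) = c • prN q e f (act g x)
    rw [← prN_smul, ← act_smul]
    rfl
  · intro x y
    show hermForm n F q (prN q e f (act g x)) (prN q e f (act g y)) = hermForm n F q x y
    have h := herm_act g (x : Fin n → F) y
    rw [hdec x, hdec y] at h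
    have e1 : hermForm n F q (prN q e f (act g x)) e = 0 := prN_e hF H _
    have e2 : hermForm n F q e (prN q e f (act g y)) = 0 := herm_eq_zero_swap hF (prN_e hF H _)
    rw [herm_add_left, herm_add_right hF, herm_add_right hF, herm_smul_left, herm_smul_left, herm_smul_right,
      herm_smul_right, H.ee, e2, e1] at h
    rw [← h]
    ring
  · intro x a ha
    have h1 := (isSiegel_iff H).2 ha
    have h2 := h1.map g
    obtain ⟨a', h3, e3⟩ := siegel_shift hF H (w := act g x) (μ := a) (by rwa [hg] at h2)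
    refine ⟨a', (isSiegel_iff (x := ⟨prN q e f (act g x), prN_e hF H _, prN_f H _⟩) H).1 h3, ?_⟩
    rw [SS_eq hF ρ h1, SS_eq hF ρ (x := ⟨prN q e f (act g x), prN_e hF H _, prN_f H _⟩) h3, ← map_inv, ← map_inv,
      ← map_mul, ← map_mul, ← map_mul, ← map_mul, conj_siegel]
    rw [← e3]
    congr 2
    exact siegel_congr hF _ _ hg rfl rfl

end Two

end Cfsg.Agent.OddHalf.D7.Uni.Ex
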