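import Cfsg.Agent.OddHalf.D7.Uni.HeisO2
import Cfsg.Agent.OddHalf.D7.Uni.HeisGeo
import Cfsg.Agent.OddHalf.D7Ex.Move

/-!
# The hypotheses `D7Ex.Setup` for a point of the unitary group (helper575)
-/

set_option autoImplicit false
set_option linter.unusedSectionVars false

namespace Cfsg.Agent.OddHalf.D7.Uni.Ex

open Subgroup

section Abs

variable {G : Type*} [Group G]

theorem conj_eq_of_le [Finite G] {X : Subgroup G} {n : G} (h : ∀ x ∈ X, n * x * n⁻¹ ∈ X) :
    X.map (MulAut.conj n).toMonoidHom = X := by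
  apply eq_of_le_of_card_ge
  · rintro _ ⟨x, hx, rfl⟩
    exact h x hx
  · exact (Nat.card_congr
      (X.equivMapOfInjective (MulAut.conj n).toMonoidHom (MulAut.conj n).injective).toEquiv).le

theorem conj_inv_mem [Finite G] {X : Subgroup G} {n : G} (h : ∀ x ∈ X, n * x * n⁻¹ ∈ X) {x : G} (hx : x ∈ X) :
    n⁻¹ * x * n ∈ X := by
  rw [← conj_eq_of_le h] at hx
  obtain ⟨y, hy, rfl⟩ := hx
  have : n⁻¹ * (MulAut.conj n).toMonoidHom y * n = y := by
    show n⁻¹ * (n * y * n⁻¹) * n = y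
    group
  rw [this]; exact hy

variable {F : Type*} [Field F] {N : Type*} [AddCommGroup N] [Module F N]
  {σ : F →+* F} {B : N → N → F} {X Q P : Subgroup G} {S : N → F → G}

theorem Heis.isPGroup_Q (H : Heis σ B X Q S) : IsPGroup 2 Q := by
  rintro ⟨q, hq⟩
  refine ⟨2, Subtype.ext ?_⟩
  show q ^ 2 ^ 2 = 1
  obtain ⟨x, a, ha, rfl⟩ := (H.memQ q).1 hq
  have h1 : S x a * S x a ∈ X := by
    rw [H.mul x a x a ha ha, H.two']
    refine H.mem_X ?_
    rw [H.two, zero_add]; exact H.self_sigma x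
  have h2 := H.X2 h1
  calc S x a ^ 2 ^ 2 = (S x a) ^ 4 := by norm_num
    _ = (S x a * S x a) * (S x a * S x a) := by
      rw [show (4 : ℕ) = 1 + 1 + 1 + 1 from rfl, pow_succ, pow_succ, pow_succ, pow_one]; group
    _ = 1 := h2

/-- **Setup** -/
theorem Heis.setup [Finite G] [Finite N] [Nontrivial N] (H : Heis σ B X Q S) (T : HasTr σ B P S) (L : Lin' σ B P S)
    (hp : Pairs B) {ι : Type*} [Fintype ι] [Nonempty ι] {b : Module.Basis ι F N} (g : Geo B b) (hC : Cen X Q P)
    {t : G} {Hh : Subgroup G} (tt : t * t = 1) (tX : t ∉ X) (QP : Q ≤ P) (tP : ∀ p ∈ P, t * p = p * t)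
    (XP : ∀ x ∈ X, ∀ p ∈ P, x * p = p * x) (PQ : ∀ p ∈ P, ∀ q ∈ Q, p * q * p⁻¹ ∈ Q)
    (tH : ∀ h ∈ Hh, t * h = h * t) (HX : ∀ h ∈ Hh, ∀ x ∈ X, h * x * h⁻¹ ∈ X) (hP : ⁅P, P⁆ = P)
    (perf : ∀ L : Subgroup G, ⁅L, L⁆ = L → (∀ x ∈ L, t * x = x * t) → (∀ x ∈ L, ∀ y ∈ X, x * y = y * x) → L ≤ P) :
    D7Ex.Setup t X Q P Hh where
  tt := tt
  tX := tX
  X2 := fun x hx => H.X2 hx
  XQ := H.XQ
  QP := QP
  tP := tP
  XP := XP
  PQ := PQ
  tH := tH
  HX := HX
  nP := by
    intro n hnX hnt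
    have hXi : ∀ x ∈ X, n⁻¹ * x * n ∈ X := fun x hx => conj_inv_mem hnX hx
    set P' := P.map (MulAut.conj n).toMonoidHom with hP'
    have h1 : P' ≤ P := by
      apply perf
      · rw [hP', ← map_commutator, hP]
      · rintro _ ⟨p, hp, rfl⟩
        show t * (n * p * n⁻¹) = n * p * n⁻¹ * t
        -- `t = (t (n t n⁻¹)) (n t n⁻¹)`
        set x := t * (n * t * n⁻¹) with hx
        have hx' := hXi _ hnt
        have e1 : t = x * (n * t * n⁻¹) := by
          rw [hx]
          calc t = t * (n * (t * t) * n⁻¹) := by rw [tt]; group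
            _ = _ := by group
        have e2 : x * (n * p * n⁻¹) = n * p * n⁻¹ * x := by
          have h3 := XP _ hx' p hp
          calc x * (n * p * n⁻¹) = n * ((n⁻¹ * x * n) * p) * n⁻¹ := by group
            _ = n * p * n⁻¹ * x := by rw [h3]; group
        have e3 : (n * t * n⁻¹) * (n * p * n⁻¹) = n * p * n⁻¹ * (n * t * n⁻¹) := by
          calc (n * t * n⁻¹) * (n * p * n⁻¹) = n * (t * p) * n⁻¹ := by group
            _ = _ := by rw [tP p hp]; group
        calc t * (n * p * n⁻¹) = (x * (n * t * n⁻¹)) * (n * p * n⁻¹) := by rw [← e1]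
          _ = x * ((n * t * n⁻¹) * (n * p * n⁻¹)) := by rw [mul_assoc]
          _ = (x * (n * p * n⁻¹)) * (n * t * n⁻¹) := by rw [e3]; group
          _ = n * p * n⁻¹ * (x * (n * t * n⁻¹)) := by rw [e2]; group
          _ = n * p * n⁻¹ * t := by rw [← e1]
      · rintro _ ⟨p, hp, rfl⟩ y hy
        show n * p * n⁻¹ * y = y * (n * p * n⁻¹)
        have h3 := XP _ (hXi y hy) p hp
        calc n * p * n⁻¹ * y = n * (p * (n⁻¹ * y * n)) * n⁻¹ := by group
          _ = y * (n * p * n⁻¹) := by rw [← h3]; group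
    have hnP : ∀ p ∈ P, n * p * n⁻¹ ∈ P := fun p hp => h1 ⟨p, hp, rfl⟩
    refine ⟨hnP, ?_⟩
    have h2 : Q.map (MulAut.conj n).toMonoidHom ≤ Q := by
      apply H.O2 T L hp g hC
      · rintro _ ⟨q, hq, rfl⟩
        exact hnP q (QP hq)
      · rintro p hp _ ⟨q, hq, rfl⟩
        refine ⟨(n⁻¹ * p * n) * q * (n⁻¹ * p * n)⁻¹, PQ _ (conj_inv_mem hnP hp) q hq, ?_⟩
        show n * ((n⁻¹ * p * n) * q * (n⁻¹ * p * n)⁻¹) * n⁻¹ = p * (n * q * n⁻¹) * p⁻¹
        group
      · exact H.isPGroup_Q.map _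
    exact fun q hq => h2 ⟨q, hq, rfl⟩
  XQQ := H.XQQ (exists_ne 0)
  QQ := H.QQ
  ZQ := H.ZQ
  E2 := fun f h1 h2 h3 h4 => H.E2 T g.iso h1 h2 h3 h4
  noh := by
    intro f p
    have h1 : commutator P = ⊤ := by
      have h3 : (commutator P).map P.subtype = P := by
        rw [_root_.commutator_def, map_commutator, ← MonoidHom.range_eq_map, P.range_subtype, hP]
      have h4 : (⊤ : Subgroup P).map P.subtype = P := by
        rw [← MonoidHom.range_eq_map, P.range_subtype]
      exact map_injective P.subtype_injective (h3.trans h4.symm)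
    have h2 : commutator P ≤ f.ker := by
      rw [_root_.commutator_def, commutator_le]
      intro a _ b _
      rw [MonoidHom.mem_ker, map_commutatorElement, commutatorElement_eq_one_iff_mul_comm]
      exact Subtype.ext (XP _ (f a).2 _ (QP (H.XQ (f b).2)))
    have h3 : p ∈ f.ker := h2 (by rw [h1]; exact mem_top p)
    exact h3

end Abs

open Cfsg Cfsg.Agent.LieClassical.HermBasic Cfsg.Agent.LieClassical.HermSiegel
  Cfsg.Agent.LieClassical.HermGen Cfsg.Agent.LieClassical.SUBasic Matrix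
  Cfsg.Agent.ClassicalGeometry.PSUAutBasic Cfsg.Agent.ClassicalGeometry.PSUAutSylow
  Cfsg.Agent.ClassicalGeometry.PSUAutUnip Cfsg.Agent.KFacts.Unit

variable {F : Type*} [Field F] [Fintype F] {q n : ℕ} {e f : Fin n → F} [CharP F 2] {G : Type*} [Group G]

theorem pairs (hF : Fintype.card F = q ^ 2) (hn : 6 ≤ n) (H : Hyp q e f) : Pairs (BB q e f) :=
  exists_pair_NN hF hn H

/-- `C_P(Q/X) = Q` -/
theorem cen (hF : Fintype.card F = q ^ 2) (hn : 3 ≤ n) (H : Hyp q e f) {ρ : PSU n F q →* G}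
    (hρ : Function.Injective ρ) :
    Cen ((RR hF e H.ee).map ρ) ((QQ hF e H.ee).map ρ) ((PP q e).map ρ) := by
  rintro _ ⟨y, hy, rfl⟩ hcen
  obtain ⟨g, hg, rfl⟩ := mem_PP.1 hy
  have Hs := heis hF hn H hρ
  have key : ∀ w : Fin n → F, hermForm n F q w e = 0 → ∃ c : F, act g w - w = c • e := by
    intro w hw
    set x : NN q e f := ⟨prN q e f w, prN_e hF H w, prN_f H w⟩ with hx
    have hwx : w = (x : Fin n → F) + hermForm n F q w f • e := by
      conv_lhs => rw [eq_prN (q := q) e f w, hw, zero_smul, add_zero]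
      rw [add_comm]
    obtain ⟨a, ha⟩ := Hs.exists_S x
    have h1 := hcen _ (Hs.mem_Q ha)
    obtain ⟨d, hd, e1⟩ := (Hs.memX _).1 h1
    have h2 := (isSiegel_iff H).2 ha
    -- conjugate of the Siegel element
    have h3 : ρ (pr n F q g) * SS hF e f ρ x a * (ρ (pr n F q g))⁻¹ = SS hF e f ρ x (a + d) := by
      rw [← Hs.X_mul ha hd, ← e1]; group
    have h4 : IsSiegel q e x (a + d) := by
      refine (isSiegel_iff H).2 ?_
      have hd' : d ^ q = d := hd
      have ha' : a + a ^ q = BB q e f x x := ha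
      rw [add_pow_q hF, hd', ← ha']
      linear_combination d * two_eq (F := F)
    have h5 := h2.map g
    rw [SS_eq hF ρ h2, SS_eq hF ρ h4, ← map_inv, ← map_inv, ← map_mul, ← map_mul, ← map_mul, ← map_mul,
      conj_siegel] at h3
    have h6 := siegel_pr_inj hF hn _ _ (hρ h3)
    have h7 := congrArg (fun s => act s f) h6
    simp only [act_siegel, hg, H.fe hF, one_smul, mul_one] at h7
    rw [add_assoc, add_assoc, add_right_inj] at h7
    refine ⟨(a + d - hermForm n F q f x) - (a - hermForm n F q f (act g x)), ?_⟩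
    conv_lhs => rw [hwx]
    rw [act_add, act_smul, hg, sub_smul, add_sub_add_right_eq_sub, sub_eq_sub_iff_add_eq_add, add_comm _ (x : Fin n → F)]
    exact h7
  obtain ⟨s, hs, hsact⟩ := exists_siegel_of_isometry hF H.ee H.ff H.ef (T := act g) (act_add g)
    (fun c v => act_smul g c v) (herm_act g) hg key
  have h1 : g = s := ext_act fun v => (hsact v).symm
  rw [h1]
  exact mem_map_of_mem _ (mem_map_of_mem _ hs)

/-- A subgroup of `PSU` centralising `RR e` has its commutators in `PP e`. -/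
theorem commutator_mem_PP (hF : Fintype.card F = q ^ 2) (hn : 3 ≤ n) (H : Hyp q e f) {x y : PSU n F q}
    (hx : ∀ z ∈ RR hF e H.ee, x * z = z * x) (hy : ∀ z ∈ RR hF e H.ee, y * z = z * y) :
    x * y * x⁻¹ * y⁻¹ ∈ PP q e := by
  have key : ∀ x : PSU n F q, (∀ z ∈ RR hF e H.ee, x * z = z * x) →
      ∃ (g : SU n F q) (c : F), pr n F q g = x ∧ act g e = c • e ∧ c ≠ 0 := by
    intro x hx
    obtain ⟨g, rfl⟩ := pr_surjective x
    have h1' : (1 : F) + 1 ^ q = 0 := by rw [one_pow]; linear_combination two_eq (F := F)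
    have h0 := hx _ (mem_RR.2 ⟨1, h1', rfl⟩)
    have h1 : pr n F q (g * transv hF e H.ee 1 h1' * g⁻¹) = pr n F q (transv hF e H.ee 1 h1') := by
      rw [map_mul, map_mul, map_inv, h0, mul_inv_cancel_right]
    rw [transv, conj_siegel] at h1
    have h2 := siegel_pr_inj hF hn _ _ h1
    have h3 := congrArg (fun s => act s f) h2
    simp only [act_siegel] at h3
    rw [act_zero, smul_zero, smul_zero, herm_zero_right hF, sub_zero, sub_zero, add_zero, add_right_inj, H.fe hF,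
      mul_one, one_mul, one_smul] at h3
    have hne : hermForm n F q f (act g e) ≠ 0 := by
      intro h0
      rw [h0, zero_smul] at h3
      exact H.ne_zero h3.symm
    refine ⟨g, (hermForm n F q f (act g e))⁻¹, rfl, ?_, inv_ne_zero hne⟩
    have h4 : ∀ d : F, d ≠ 0 → d • act g e = e → act g e = d⁻¹ • e := by
      intro d hd h
      calc act g e = (d⁻¹ * d) • act g e := by rw [inv_mul_cancel₀ hd, one_smul]
        _ = d⁻¹ • (d • act g e) := by rw [smul_smul]
        _ = d⁻¹ • e := by rw [h]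
    exact h4 _ hne h3
  obtain ⟨g, c, rfl, hg, hc⟩ := key x hx
  obtain ⟨h, d, rfl, hh, hd⟩ := key y hy
  refine mem_PP.2 ⟨g * h * g⁻¹ * h⁻¹, ?_, by rw [map_mul, map_mul, map_mul, map_inv, map_inv]⟩
  have hgi : act g⁻¹ e = c⁻¹ • e := by
    rw [eq_comm, ← act_eq_iff, act_smul, hg, smul_smul, inv_mul_cancel₀ hc, one_smul]
  have hhi : act h⁻¹ e = d⁻¹ • e := by
    rw [eq_comm, ← act_eq_iff, act_smul, hh, smul_smul, inv_mul_cancel₀ hd, one_smul]
  rw [act_mul, act_mul, act_mul, hhi, act_smul, hgi, smul_smul, act_smul, hh, smul_smul, act_smul, hg, smul_smul]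
  have : d⁻¹ * c⁻¹ * d * c = 1 := by field_simp
  rw [this, one_smul]

end Cfsg.Agent.OddHalf.D7.Uni.Ex
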