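import Cfsg.Agent.OddHalf.D7.Uni.Norm

/-!
# The layers `B_i = C_{R_{e_i}}(ρ_1, …, ρ_{i-1})` (ODD D7, `K = U_n(q)`; text: helper929, 6.2)

`Cen t X W Q R ρ Q' R'`: `ρ ∈ K` (of order 3, on a hyperbolic plane perpendicular to `v`), `R'` = the subgroup of `R`
generated by `W` and the `E_{v,⟨v,x⟩}`, `x ⟂ [V, ρ]`. `Cen.mem`: `C_R(ρ) ≤ R'`.
-/

set_option autoImplicit false

namespace Cfsg.Agent.OddHalf.D7.Uni.Layers

open Subgroup Cfsg.Agent.OddHalf.D7.Uni.Norm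

variable {G : Type*} [Group G]

/-- `R'` = the part of `R` perpendicular to `[V, ρ]`. -/
structure Cen (t : G) (W Q R Q' R' : Subgroup G) (ρ : G) : Prop where
  ρt : ρ * t = t * ρ
  ρW : ∀ w ∈ W, ρ * w = w * ρ
  ρR' : ∀ r ∈ R', ρ * r = r * ρ
  R'R : R' ≤ R
  QR' : Q' ≤ R'
  WR' : W ≤ R'
  /-- every element of `Q'` is `[r, t]` modulo `W` with `r ∈ R'` -/
  onto : ∀ q ∈ Q', ∃ r ∈ R', ∃ w ∈ W, t * r * t = r * (q * w)
  fixQ : ∀ q ∈ Q, ρ * q = q * ρ → q ∈ Q'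

variable {t ρ : G} {X W Q R Q' R' : Subgroup G}

/-- `C_R(ρ) ≤ R'` -/
theorem Cen.mem (P : Pt t X W Q R) (C : Cen t W Q R Q' R' ρ) {b : G} (hb : b ∈ R) (hρ : ρ * b = b * ρ) :
    b ∈ R' := by
  obtain ⟨q, hq, w, hw, hbt⟩ := P.brk b hb
  have hq' : q ∈ Q' := by
    apply C.fixQ q hq
    have c1 : Commute ρ t := C.ρt
    have c2 : Commute ρ b := hρ
    have c3 : Commute ρ w := C.ρW w hw
    have e : q = b⁻¹ * (t * b * t) * w⁻¹ := by rw [hbt]; group
    have c4 : Commute ρ q := by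
      rw [e]
      exact (c2.inv_right.mul_right ((c1.mul_right c2).mul_right c1)).mul_right c3.inv_right
    exact c4.eq
  obtain ⟨r, hr, v, hv, hrt⟩ := C.onto q hq'
  have h1 : t * (b * r⁻¹) * t = b * r⁻¹ * (w * v⁻¹) := by
    have hc : w * v⁻¹ * (q⁻¹ * r⁻¹) = q⁻¹ * r⁻¹ * (w * v⁻¹) :=
      P.Wc _ (mul_mem hw (inv_mem hv)) _ (mul_mem (inv_mem (P.QR hq)) (inv_mem (C.R'R hr)))
    rw [P.t_mul, P.t_inv, hbt, hrt]
    calc b * (q * w) * (r * (q * v))⁻¹ = b * q * (w * v⁻¹ * (q⁻¹ * r⁻¹)) := by group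
      _ = b * q * (q⁻¹ * r⁻¹ * (w * v⁻¹)) := by rw [hc]
      _ = b * r⁻¹ * (w * v⁻¹) := by group
  obtain ⟨q1, hq1, x, hx, hg⟩ := P.fixW (mul_mem hb (inv_mem (C.R'R hr))) (mul_mem hw (inv_mem hv)) h1
  have hbe : b = q1 * x * r := by rw [← hg]; group
  have hq1' : q1 ∈ Q' := by
    apply C.fixQ q1 hq1
    have c2 : Commute ρ b := hρ
    have c3 : Commute ρ x := C.ρW x hx
    have c4 : Commute ρ r := C.ρR' r hr
    have e : q1 = b * r⁻¹ * x⁻¹ := by rw [hbe]; group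
    have c5 : Commute ρ q1 := by
      rw [e]; exact (c2.mul_right c4.inv_right).mul_right c3.inv_right
    exact c5.eq
  rw [hbe]
  exact mul_mem (mul_mem (C.QR' hq1') (C.WR' hx)) hr

/-- The layer `B = C_R(D)`. -/
def B (R : Subgroup G) (D : Set G) : Subgroup G := R ⊓ centralizer D

theorem mem_B {R : Subgroup G} {D : Set G} {x : G} : x ∈ B R D ↔ x ∈ R ∧ ∀ d ∈ D, d * x = x * d := by
  rw [B, mem_inf, mem_centralizer_iff]

/-- 6.2: the later layer `B R D` (`ρ ∈ D`) normalises the earlier layer `B Ri Di` (`Di ⊆ D`), if `R'` normalises `Ri`. -/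
theorem B_conj (P : Pt t X W Q R) (C : Cen t W Q R Q' R' ρ) {Ri : Subgroup G} {D Di : Set G} (hD : Di ⊆ D)
    (hρ : ρ ∈ D) (hn : ∀ r ∈ R', ∀ x ∈ Ri, r * x * r⁻¹ ∈ Ri) :
    ∀ b ∈ B R D, ∀ x ∈ B Ri Di, b * x * b⁻¹ ∈ B Ri Di := by
  intro b hb x hx
  rw [mem_B] at hb hx ⊢
  refine ⟨hn b (C.mem P hb.1 (hb.2 ρ hρ)) x hx.1, fun d hd => ?_⟩
  have c1 : Commute d b := hb.2 d (hD hd)
  have c2 : Commute d x := hx.2 d hd
  exact ((c1.mul_right c2).mul_right c1.inv_right).eq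

/-- The elements of `R'` normalise `Ri` as soon as generators of `R'` do. -/
theorem conj_of_gen [Finite G] {R' Ri : Subgroup G} {S : Set G} (hg : R' ≤ closure S)
    (hs : ∀ s ∈ S, ∀ x ∈ Ri, s * x * s⁻¹ ∈ Ri) : ∀ r ∈ R', ∀ x ∈ Ri, r * x * r⁻¹ ∈ Ri := by
  have h1 : closure S ≤ normalizer (Ri : Set G) := by
    rw [closure_le]
    intro s hs'
    have h2 : Ri.map (MulAut.conj s).toMonoidHom ≤ Ri := by
      rw [map_le_iff_le_comap]
      intro x hx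
      exact hs s hs' x hx
    have h3 : Ri.map (MulAut.conj s).toMonoidHom = Ri := by
      apply Subgroup.eq_of_le_of_card_ge h2
      rw [card_map_of_injective (MulAut.conj s).injective]
    show s ∈ normalizer (Ri : Set G)
    rw [mem_normalizer_iff]
    intro x
    constructor
    · intro hx; exact hs s hs' x hx
    · intro hx
      rw [← h3] at hx
      obtain ⟨y, hy, hyx⟩ := hx
      have : y = x := (MulAut.conj s).injective hyx
      rw [← this]; exact hy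
  intro r hr x hx
  exact (mem_normalizer_iff.1 (h1 (hg hr)) x).1 hx

/-! ### The properties of a layer -/

/-- The layer at the point `v`: `W ≤ B`, `C_B(t) = QB`, and `t` acts freely on `B`. -/
structure Layer (t : G) (QB B : Subgroup G) : Prop where
  tt : t * t = 1
  le : QB ≤ B
  Bt : ∀ b ∈ B, t * b * t ∈ B
  fix : ∀ b ∈ B, t * b = b * t ↔ b ∈ QB
  /-- an element of `B` inverted by `t` is `[x, t]` with `x ∈ B` -/
  inv : ∀ y ∈ B, t * y * t = y⁻¹ → ∃ x ∈ B, t * x * t = x * y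

end Cfsg.Agent.OddHalf.D7.Uni.Layers
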