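import Mathlib

/-!
# The pentagon: five odd permutations (K = U_n(2), odd half D7; helper850, text: bb ODD 9603 (P), 9100 (2))

`z : Fin 5 → G` the five long root involutions of a totally isotropic line over `F₄`, with product `1`.
If `C(t)` induces exactly the alternating group on them, then no `y` with `y t y⁻¹ = t * z i` acts as an odd
permutation on the five points (`pentagon`, and `pentagon'` for points indexed by a type with an enumeration).
`sign_semi`: `λ ↦ κ σ(λ) + c` is an odd permutation of the projective line `Option F`, `|F| = 4`.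
-/

set_option autoImplicit false

namespace Cfsg.Agent.OddHalf.D7.Uni.Pentagon

open Equiv

variable {G : Type*} [Group G]

private theorem exists_even (i₀ i : Fin 5) : ∃ α : Perm (Fin 5), Perm.sign α = 1 ∧ α i₀ = i := by
  revert i₀ i
  have h : ∀ i₀ i : Fin 5, Perm.sign (finRotate 5 ^ (i.val + (5 - i₀.val))) = 1 ∧
      (finRotate 5 ^ (i.val + (5 - i₀.val))) i₀ = i := by decide
  exact fun i₀ i => ⟨_, h i₀ i⟩

/-- **Five odd permutations.** -/
theorem pentagon (t : G) (z : Fin 5 → G)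
    (hzc : ∀ i j, z i * z j = z j * z i)
    (hprod : z 0 * z 1 * z 2 * z 3 * z 4 = 1)
    (hA : ∀ π : Perm (Fin 5), Perm.sign π = 1 → ∃ k : G, k * t = t * k ∧ ∀ i, k * z i * k⁻¹ = z (π i))
    (hE : ∀ k : G, k * t = t * k → ∀ π : Perm (Fin 5), (∀ i, k * z i * k⁻¹ = z (π i)) →
      Perm.sign π = 1)
    (y : G) (i₀ : Fin 5) (hy : y * t * y⁻¹ = t * z i₀)
    (ρ : Perm (Fin 5)) (hyρ : ∀ i, y * z i * y⁻¹ = z (ρ i)) (hρ : Perm.sign ρ = -1) : False := by
  classical
  -- the fixed odd permutation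
  obtain ⟨τ, hτ⟩ : ∃ τ : Perm (Fin 5), τ = swap 0 1 := ⟨_, rfl⟩
  have hτs : Perm.sign τ = -1 := by rw [hτ]; exact Perm.sign_swap (by decide)
  -- `Y i : t ↦ t * z i` with permutation `τ`
  have hY : ∀ i : Fin 5, ∃ Y : G, Y * t * Y⁻¹ = t * z i ∧ ∀ j, Y * z j * Y⁻¹ = z (τ j) := by
    intro i
    obtain ⟨α, hα, hαi⟩ := exists_even i₀ i
    obtain ⟨k, hkt, hk⟩ := hA α hα
    obtain ⟨k', hkt', hk'⟩ := hA (ρ⁻¹ * α⁻¹ * τ) (by
      rw [Perm.sign_mul, Perm.sign_mul, Perm.sign_inv, Perm.sign_inv, hρ, hα, hτs]; decide)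
    refine ⟨k * y * k', ?_, fun j => ?_⟩
    · have h1 : k' * t * k'⁻¹ = t := by rw [hkt']; group
      have h2 : k * t * k⁻¹ = t := by rw [hkt]; group
      calc k * y * k' * t * (k * y * k')⁻¹ = k * (y * (k' * t * k'⁻¹) * y⁻¹) * k⁻¹ := by group
        _ = (k * t * k⁻¹) * (k * z i₀ * k⁻¹) := by rw [h1, hy]; group
        _ = t * z i := by rw [h2, hk, hαi]
    · calc k * y * k' * z j * (k * y * k')⁻¹ = k * (y * (k' * z j * k'⁻¹) * y⁻¹) * k⁻¹ := by group
        _ = z (τ j) := by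
          rw [hk', hyρ, hk]
          simp [Perm.mul_apply]
  choose Y hYt hYz using hY
  have h0 : τ 0 = 1 := by rw [hτ]; decide
  have h1 : τ 1 = 0 := by rw [hτ]; decide
  have h2 : τ 2 = 2 := by rw [hτ]; decide
  have h3 : τ 3 = 3 := by rw [hτ]; decide
  have s2 : Y 2 * t * (Y 2)⁻¹ = t * z 2 := hYt 2
  have s0 : Y 0 * (t * z 2) * (Y 0)⁻¹ = t * z 0 * z 2 := by
    calc Y 0 * (t * z 2) * (Y 0)⁻¹ = (Y 0 * t * (Y 0)⁻¹) * (Y 0 * z 2 * (Y 0)⁻¹) := by group
      _ = _ := by rw [hYt, hYz, h2]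
  have s3 : Y 3 * (t * z 0 * z 2) * (Y 3)⁻¹ = t * z 3 * z 1 * z 2 := by
    calc Y 3 * (t * z 0 * z 2) * (Y 3)⁻¹
        = (Y 3 * t * (Y 3)⁻¹) * (Y 3 * z 0 * (Y 3)⁻¹) * (Y 3 * z 2 * (Y 3)⁻¹) := by group
      _ = _ := by rw [hYt, hYz, hYz, h2, h0]
  have s1 : Y 1 * (t * z 3 * z 1 * z 2) * (Y 1)⁻¹ = t * z 1 * z 3 * z 0 * z 2 := by
    calc Y 1 * (t * z 3 * z 1 * z 2) * (Y 1)⁻¹
        = (Y 1 * t * (Y 1)⁻¹) * (Y 1 * z 3 * (Y 1)⁻¹) * (Y 1 * z 1 * (Y 1)⁻¹) *
            (Y 1 * z 2 * (Y 1)⁻¹) := by group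
      _ = _ := by rw [hYt, hYz, hYz, hYz, h2, h1, h3]
  have s4 : Y 4 * (t * z 1 * z 3 * z 0 * z 2) * (Y 4)⁻¹ = t * z 4 * z 0 * z 3 * z 1 * z 2 := by
    calc Y 4 * (t * z 1 * z 3 * z 0 * z 2) * (Y 4)⁻¹
        = (Y 4 * t * (Y 4)⁻¹) * (Y 4 * z 1 * (Y 4)⁻¹) * (Y 4 * z 3 * (Y 4)⁻¹) *
            (Y 4 * z 0 * (Y 4)⁻¹) * (Y 4 * z 2 * (Y 4)⁻¹) := by group
      _ = _ := by rw [hYt, hYz, hYz, hYz, hYz, h2, h1, h3, h0]
  have e2 : z 4 * z 0 * z 3 * z 1 * z 2 = 1 := by
    rw [← hprod]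
    calc z 4 * z 0 * z 3 * z 1 * z 2 = (z 4 * z 0) * (z 3 * z 1) * z 2 := by group
      _ = z 0 * (z 4 * z 1) * (z 3 * z 2) := by rw [hzc 4 0, hzc 3 1]; group
      _ = z 0 * z 1 * (z 4 * z 2) * z 3 := by rw [hzc 4 1, hzc 3 2]; group
      _ = z 0 * z 1 * z 2 * (z 4 * z 3) := by rw [hzc 4 2]; group
      _ = z 0 * z 1 * z 2 * z 3 * z 4 := by rw [hzc 4 3]; group
  obtain ⟨P, hP⟩ : ∃ P : G, P = Y 4 * (Y 1 * (Y 3 * (Y 0 * Y 2))) := ⟨_, rfl⟩
  have hPt : P * t * P⁻¹ = t := by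
    calc P * t * P⁻¹ = Y 4 * (Y 1 * (Y 3 * (Y 0 * (Y 2 * t * (Y 2)⁻¹) * (Y 0)⁻¹) * (Y 3)⁻¹) *
          (Y 1)⁻¹) * (Y 4)⁻¹ := by rw [hP]; group
      _ = t * (z 4 * z 0 * z 3 * z 1 * z 2) := by rw [s2, s0, s3, s1, s4]; group
      _ = t := by rw [e2, mul_one]
  have hττ : ∀ i, τ (τ i) = i := fun i => by rw [hτ]; rw [← Perm.mul_apply, swap_mul_self, Perm.one_apply]
  have hPz : ∀ j, P * z j * P⁻¹ = z (τ j) := by
    intro j
    calc P * z j * P⁻¹ = Y 4 * (Y 1 * (Y 3 * (Y 0 * (Y 2 * z j * (Y 2)⁻¹) * (Y 0)⁻¹) * (Y 3)⁻¹) *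
          (Y 1)⁻¹) * (Y 4)⁻¹ := by rw [hP]; group
      _ = z (τ j) := by rw [hYz, hYz, hYz, hYz, hYz, hττ, hττ]
  have hc : P * t = t * P := by
    calc P * t = (P * t * P⁻¹) * P := by group
      _ = t * P := by rw [hPt]
  have := hE P hc τ hPz
  rw [hτs] at this
  exact absurd this (by decide)

/-- The same for five points indexed by a type `ι` (`e` an enumeration). -/
theorem pentagon' {ι : Type*} [Fintype ι] [DecidableEq ι] (e : Fin 5 ≃ ι) (t : G) (z : ι → G)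
    (hzc : ∀ i j, z i * z j = z j * z i)
    (hprod : z (e 0) * z (e 1) * z (e 2) * z (e 3) * z (e 4) = 1)
    (hA : ∀ π : Perm ι, Perm.sign π = 1 → ∃ k : G, k * t = t * k ∧ ∀ i, k * z i * k⁻¹ = z (π i))
    (hE : ∀ k : G, k * t = t * k → ∀ π : Perm ι, (∀ i, k * z i * k⁻¹ = z (π i)) →
      Perm.sign π = 1)
    (y : G) (i₀ : ι) (hy : y * t * y⁻¹ = t * z i₀)
    (ρ : Perm ι) (hyρ : ∀ i, y * z i * y⁻¹ = z (ρ i)) (hρ : Perm.sign ρ = -1) : False := by
  classical
  refine pentagon t (fun i => z (e i)) (fun i j => hzc _ _) hprod ?_ ?_ y (e.symm i₀) (by simpa using hy)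
    (e.symm.permCongr ρ) (fun i => ?_) (by rw [Perm.sign_permCongr]; exact hρ)
  · intro π hπ
    obtain ⟨k, hk, hkz⟩ := hA (e.permCongr π) (by rw [Perm.sign_permCongr]; exact hπ)
    exact ⟨k, hk, fun i => by simpa using hkz (e i)⟩
  · intro k hk π hπ
    rw [← Perm.sign_permCongr e π]
    refine hE k hk _ fun i => ?_
    have := hπ (e.symm i)
    simpa using this
  · simpa using hyρ (e i)

section Sign

variable {F : Type*} [Field F] [Fintype F] [DecidableEq F]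

private theorem u3 (u : ℤˣ) (h : u ^ 3 = 1) : u = 1 := by
  rcases Int.units_eq_one_or u with rfl | rfl
  · rfl
  · exact absurd h (by decide)

/-- the permutation `x ↦ κ x` of `F`, `|F| = 4`, is even -/
theorem sign_mul (h4 : Fintype.card F = 4) (κ : F) (hκ : κ ≠ 0) :
    Perm.sign (Equiv.mulLeft₀ κ hκ) = 1 := by
  apply u3
  rw [← map_pow]
  have h3 : κ ^ 3 = 1 := by
    have := FiniteField.pow_card_sub_one_eq_one κ hκ
    rwa [h4] at this
  have : (Equiv.mulLeft₀ κ hκ) ^ 3 = 1 := by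
    ext x
    show κ * (κ * (κ * x)) = x
    calc κ * (κ * (κ * x)) = κ ^ 3 * x := by ring
      _ = x := by rw [h3, one_mul]
  rw [this, map_one]

/-- the permutation `x ↦ x + c` of `F`, `|F| = 4`, is even -/
theorem sign_add (h4 : Fintype.card F = 4) (c : F) : Perm.sign (Equiv.addRight c) = 1 := by
  have hconj : ∀ κ : F, κ ≠ 0 → Perm.sign (Equiv.addRight (κ * c)) = Perm.sign (Equiv.addRight c) := by
    intro κ hκ
    have : (Equiv.addRight (κ * c) : Perm F) =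
        Equiv.mulLeft₀ κ hκ * Equiv.addRight c * (Equiv.mulLeft₀ κ hκ)⁻¹ := by
      ext x
      show x + κ * c = κ * (κ⁻¹ * x + c)
      rw [mul_add, mul_inv_cancel_left₀ hκ]
    rw [this, Perm.sign_mul, Perm.sign_mul, Perm.sign_inv, mul_assoc, mul_comm (Perm.sign (Equiv.addRight c)),
      ← mul_assoc, Int.units_mul_self, one_mul]
  obtain ⟨κ, hκ⟩ : ∃ κ : F, κ ∉ ({0, -1} : Finset F) := by
    by_contra hcon
    push Not at hcon
    have h1 : (Finset.univ : Finset F) ⊆ {0, -1} := fun x _ => hcon x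
    have h2 := Finset.card_le_card h1
    rw [Finset.card_univ, h4] at h2
    have h3 : ({0, -1} : Finset F).card ≤ 2 := Finset.card_le_two
    omega
  simp only [Finset.mem_insert, Finset.mem_singleton, not_or] at hκ
  have hk1 : κ + 1 ≠ 0 := fun h => hκ.2 (eq_neg_of_add_eq_zero_left h)
  have hprod : (Equiv.addRight ((κ + 1) * c) : Perm F) = Equiv.addRight (κ * c) * Equiv.addRight c := by
    ext x
    show x + (κ + 1) * c = x + c + κ * c
    ring
  have := congrArg Perm.sign hprod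
  rw [Perm.sign_mul, hconj _ hk1, hconj _ hκ.1, Int.units_mul_self] at this
  exact this

/-- the Frobenius permutation of `F`, `|F| = 4`, is odd -/
theorem sign_frob (h4 : Fintype.card F = 4) (σ : F →+* F) (hσ : ∃ x, σ x ≠ x) (π : Perm F)
    (h : ∀ x, π x = σ x) : Perm.sign π = -1 := by
  obtain ⟨w, hw⟩ := hσ
  have hinj : Function.Injective σ := σ.injective
  have w0 : w ≠ 0 := fun e => hw (by rw [e, map_zero])
  have w1 : w ≠ 1 := fun e => hw (by rw [e, map_one])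
  have s0 : σ w ≠ 0 := fun e => w0 (hinj (by rw [e, map_zero]))
  have s1 : σ w ≠ 1 := fun e => w1 (hinj (by rw [e, map_one]))
  have huniv : ({0, 1, w, σ w} : Finset F) = Finset.univ := by
    apply Finset.eq_univ_of_card
    rw [h4]
    rw [Finset.card_insert_of_notMem, Finset.card_insert_of_notMem, Finset.card_insert_of_notMem,
      Finset.card_singleton]
    · simpa using Ne.symm hw
    · simp only [Finset.mem_insert, Finset.mem_singleton, not_or]
      exact ⟨Ne.symm w1, Ne.symm s1⟩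
    · simp only [Finset.mem_insert, Finset.mem_singleton, not_or]
      exact ⟨zero_ne_one, Ne.symm w0, Ne.symm s0⟩
  have hall : ∀ x : F, x = 0 ∨ x = 1 ∨ x = w ∨ x = σ w := by
    intro x
    have : x ∈ ({0, 1, w, σ w} : Finset F) := by rw [huniv]; exact Finset.mem_univ x
    simpa using this
  have hss : σ (σ w) = w := by
    rcases hall (σ (σ w)) with e | e | e | e
    · exact absurd (hinj (e.trans (map_zero σ).symm)) s0
    · exact absurd (hinj (e.trans (map_one σ).symm)) s1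
    · exact e
    · exact absurd (hinj e) hw
  have : π = swap w (σ w) := by
    ext x
    rw [h]
    rcases hall x with e | e | e | e
    · rw [e, map_zero, swap_apply_of_ne_of_ne (Ne.symm w0) (Ne.symm s0)]
    · rw [e, map_one, swap_apply_of_ne_of_ne (Ne.symm w1) (Ne.symm s1)]
    · rw [e, swap_apply_left]
    · rw [e, swap_apply_right, hss]
  rw [this]
  exact Perm.sign_swap (Ne.symm hw)

/-- **Semilinear permutations of the projective line over `F₄` fixing `∞` are odd.** -/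
theorem sign_semi (h4 : Fintype.card F = 4) (σ : F →+* F) (hσ : ∃ x, σ x ≠ x) (κ c : F)
    (hκ : κ ≠ 0) (π : Perm (Option F)) (h0 : π none = none)
    (h : ∀ x, π (some x) = some (κ * σ x + c)) : Perm.sign π = -1 := by
  have hb : Function.Bijective σ := Finite.injective_iff_bijective.mp σ.injective
  set φ : Perm F := Equiv.ofBijective σ hb with hφ
  have : π = (Equiv.addRight c * Equiv.mulLeft₀ κ hκ * φ).optionCongr := by
    ext x
    cases x with
    | none => simp [h0]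
    | some x => simp [h, hφ]
  rw [this, Equiv.optionCongr_sign, Perm.sign_mul, Perm.sign_mul, sign_add h4, sign_mul h4,
    sign_frob h4 σ hσ φ (fun x => rfl), one_mul, one_mul]

end Sign

end Cfsg.Agent.OddHalf.D7.Uni.Pentagon
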