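import Cfsg.Agent.KFacts.Unit.KF
import Cfsg.Agent.KFacts.Unit.FrontKF
import Cfsg.Agent.KFacts.Unit.PentExt
import Cfsg.Agent.OddHalf.D7.Uni.ExMain
import Cfsg.Agent.OddHalf.D7Out.FrontCyc
import Cfsg.Agent.Schreier.PSU

/-!
# ODD D7, `K ≅ PSU_n(q)`, `q > 2` even, `n ≥ 6`: the start of the row

`exists_dbl` : from `Ctx`, `Std`, `Cyc`: `C(K) ∩ C(t) = ⟨t⟩`, the situation `Face.Sit` and a family `Face.Dbl`.
-/

set_option autoImplicit false
set_option linter.unusedSectionVars false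

namespace Cfsg.Agent.OddHalf.D7.Uni.RowStart

open Subgroup
open scoped commutatorElement
open Cfsg Cfsg.Agent.LieClassical.HermBasic Cfsg.Agent.LieClassical.HermSiegel
  Cfsg.Agent.LieClassical.HermGen Cfsg.Agent.LieClassical.SUBasic Matrix
  Cfsg.Agent.ClassicalGeometry.PSUAutBasic Cfsg.Agent.ClassicalGeometry.PSUAutSylow
  Cfsg.Agent.ClassicalGeometry.PSUAutUnip Cfsg.Agent.KFacts.Unit
  Cfsg.Agent.OddHalf.D7.Uni.Face

section K

variable {F : Type*} [Field F] [Fintype F] {q n : ℕ} [CharP F 2]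

/-- an element commuting with one nontrivial element of `RR u` fixes the point -/
theorem eigen_of_commute (hF : Fintype.card F = q ^ 2) (hn : 3 ≤ n) {u : Fin n → F} (hu0 : u ≠ 0)
    (hu : hermForm n F q u u = 0) {y : PSU n F q} (hy : y ∈ RR hF u hu) (hy1 : y ≠ 1) {a : SU n F q}
    (hxy : pr n F q a * y = y * pr n F q a) : ∃ c : F, c ≠ 0 ∧ act a u = c • u := by
  obtain ⟨μ, hμ, rfl⟩ := mem_RR.1 hy
  have hμ0 : μ ≠ 0 := by
    rintro rfl
    exact hy1 (by rw [transv_zero, map_one])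
  have h1 : pr n F q (a * transv hF u hu μ hμ * a⁻¹) = pr n F q (transv hF u hu μ hμ) := by
    rw [map_mul, map_mul, map_inv, hxy, mul_inv_cancel_right]
  rw [transv, conj_siegel] at h1
  have h2 := siegel_pr_inj hF hn _ _ h1
  obtain ⟨f, -, huf, hfu⟩ := exists_partner hF hu0 hu
  have h3 := congrArg (fun g => act g f) h2
  simp only [act_siegel] at h3
  rw [act_zero, smul_zero, smul_zero, herm_zero_right hF, sub_zero, sub_zero, add_zero, add_right_inj, hfu,
    mul_one] at h3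
  have hne : μ * hermForm n F q f (act a u) ≠ 0 := by
    intro h0
    rw [h0, zero_smul] at h3
    rcases smul_eq_zero.1 h3.symm with h5 | h5
    · exact hμ0 h5
    · exact hu0 h5
  refine ⟨(μ * hermForm n F q f (act a u))⁻¹ * μ, mul_ne_zero (inv_ne_zero hne) hμ0, ?_⟩
  rw [mul_smul, ← h3, smul_smul, inv_mul_cancel₀ hne, one_smul]

/-- perfect subgroups centralising one nontrivial element of `RR u` lie in `PP u` -/
theorem perfect_le_PP (hF : Fintype.card F = q ^ 2) (hn : 3 ≤ n) {u : Fin n → F} (hu0 : u ≠ 0)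
    (hu : hermForm n F q u u = 0) {y : PSU n F q} (hy : y ∈ RR hF u hu) (hy1 : y ≠ 1)
    {L : Subgroup (PSU n F q)} (hL : ⁅L, L⁆ = L) (hLy : ∀ x ∈ L, x * y = y * x) : L ≤ PP q u := by
  rw [← hL, commutator_le]
  intro a ha b hb
  have ha' := hLy a ha
  have hb' := hLy b hb
  obtain ⟨g, rfl⟩ := pr_surjective a
  obtain ⟨h, rfl⟩ := pr_surjective b
  obtain ⟨c, hc, hcg⟩ := eigen_of_commute hF hn hu0 hu hy hy1 ha'
  obtain ⟨d, hd, hdh⟩ := eigen_of_commute hF hn hu0 hu hy hy1 hb'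
  have hgi : act g⁻¹ u = c⁻¹ • u := by
    have : act g⁻¹ (act g u) = u := act_inv_act g u
    rw [hcg, act_smul] at this
    rw [← this, smul_smul, inv_mul_cancel₀ hc, one_smul, this]
  have hhi : act h⁻¹ u = d⁻¹ • u := by
    have : act h⁻¹ (act h u) = u := act_inv_act h u
    rw [hdh, act_smul] at this
    rw [← this, smul_smul, inv_mul_cancel₀ hd, one_smul, this]
  refine mem_PP.2 ⟨⁅g, h⁆, ?_, map_commutatorElement _ _ _⟩
  rw [commutatorElement_def]
  simp only [act_mul, act_smul, hhi, hgi, hdh, hcg, smul_smul]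
  have : d⁻¹ * (c⁻¹ * (d * c)) = 1 := by field_simp
  rw [this, one_smul]

end K

section G

universe u

variable {F : Type*} [Field F] [Fintype F] {q n : ℕ} [CharP F 2] {G : Type u} [Group G]

/-- the embedding of `PSU` -/
def emb {K : Subgroup G} (e : ↥K ≃* PSU n F q) : PSU n F q →* G := K.subtype.comp e.symm.toMonoidHom

theorem emb_apply {K : Subgroup G} (e : ↥K ≃* PSU n F q) (x : PSU n F q) : emb e x = (e.symm x : G) := rfl

theorem emb_mem {K : Subgroup G} (e : ↥K ≃* PSU n F q) (x : PSU n F q) : emb e x ∈ K := (e.symm x).2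

theorem emb_range {K : Subgroup G} (e : ↥K ≃* PSU n F q) : (emb e).range = K := by
  ext x
  constructor
  · rintro ⟨y, rfl⟩; exact emb_mem e y
  · intro hx
    refine ⟨e ⟨x, hx⟩, ?_⟩
    rw [emb_apply, MulEquiv.symm_apply_apply]

theorem emb_inj {K : Subgroup G} (e : ↥K ≃* PSU n F q) : Function.Injective (emb e) :=
  K.subtype_injective.comp e.symm.injective

/-- `Face.Sit` from the start -/
theorem sit [Finite G] {K : Subgroup G} {t : G} (e : ↥K ≃* PSU n F q) (S : Front.FE.Start K t t) :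
    Sit n F q t (emb e) where
  inj := emb_inj e
  tt := S.tt
  tj := fun x => (S.toStart0.Kt _ (emb_mem e x)).symm
  tK := by
    intro x hx
    have h1 : t ∈ K := hx ▸ emb_mem e x
    exact S.t1 (S.cen t h1 fun y hy => S.toStart0.Kt y hy)
  norm := by
    intro c hc x
    have h1 : c * emb e x * c⁻¹ ∈ K := (mem_normalizer_iff.1 (S.nK c hc) _).1 (emb_mem e x)
    refine ⟨e ⟨_, h1⟩, ?_⟩
    rw [emb_apply _ (e ⟨_, h1⟩), MulEquiv.symm_apply_apply]
  ker := by
    intro c hc h
    have h1 : c ∈ zpowers t := S.cK c hc fun x hx => by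
      have h2 := h (e ⟨x, hx⟩)
      rw [emb_apply, MulEquiv.symm_apply_apply] at h2
      exact h2.symm
    obtain ⟨i, rfl⟩ := mem_zpowers_iff.1 h1
    rcases Int.even_or_odd' i with ⟨m, rfl | rfl⟩
    · left
      rw [_root_.zpow_mul, zpow_ofNat, pow_two, S.tt, _root_.one_zpow]
    · right
      rw [_root_.zpow_add, _root_.zpow_mul, zpow_ofNat, pow_two, S.tt, _root_.one_zpow, one_mul, zpow_one]

/-- **The start of the row**, `q > 2`. -/
theorem exists_dbl (C : Iface.Ctx G) {K : Subgroup G} (S : Iface.Std G K) (hcyc : Iface.Cyc K)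
    (hF : Fintype.card F = q ^ 2) (hn : 6 ≤ n) (hq : q ≠ 2) (e : ↥K ≃* PSU n F q)
    (hc : D7Out.TwChoice.CycOut (PSU n F q)) :
    ∃ t : G, Front.FE.Start K t t ∧ D7Out.TwChoice.CycT t t K ∧ Schreier.Basic.Sch ↥K ∧
      ∃ W, Dbl hF t (emb e) W := by
  have := C.fin
  have : Fact (Nat.Prime 2) := ⟨Nat.prime_two⟩
  obtain ⟨U⟩ : Nonempty (Sylow 2 (PSU n F q)) := inferInstance
  obtain ⟨u, hu0, hu, hQU, hUP, hkf⟩ := KF.exists_kf hF hn U
  have hcen : center ↥K = ⊥ := by
    rw [eq_bot_iff]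
    intro x hx
    have h1 : e x ∈ center (PSU n F q) := by
      rw [mem_center_iff]
      intro y
      rw [← e.apply_symm_apply y, ← map_mul, ← map_mul, mem_center_iff.1 hx]
    rw [center_eq_bot' hF hn hu0 hu, mem_bot] at h1
    rw [mem_bot]
    exact e.injective (by rw [h1, map_one])
  have hsch : Schreier.Basic.Sch ↥K :=
    Schreier.Basic.Sch.of_equiv e.symm (Schreier.PSU.sch hF (by omega) (by omega))
  have hc' : D7Out.TwChoice.CycOut ↥K := D7Out.TwChoice.CycOut.of_equiv e.symm hc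
  obtain ⟨t, T, m, z, St, O⟩ := D7Out.FrontCyc.front_ctx C S hcyc hcen (hkf.map e.symm) hsch hc'
  have hS := sit e St
  refine ⟨t, St, D7Out.TwChoice.cycT_of St.toStart0 hc', hsch, ?_⟩
  have perf : ∀ L : Subgroup G, ⁅L, L⁆ = L → (∀ x ∈ L, t * x = x * t) → L ≤ (emb e).range := by
    intro L hL hLt
    rw [emb_range]
    exact D7Out.FrGen.perf_le St.toStart0 hsch (fun x hx => (hLt x hx).symm) hL
  have hZ : ((RR hF u hu).map e.symm.toMonoidHom).map K.subtype = (RR hF u hu).map (emb e) := by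
    rw [Subgroup.map_map]; rfl
  have hzZ := O.sw.zZ
  rw [hZ] at hzZ
  obtain ⟨z0, hz0, hz0z⟩ := hzZ
  have hz01 : z0 ≠ 1 := by
    rintro rfl
    apply O.sw.z1
    rw [← hz0z, map_one]
  have hPt : ∀ p ∈ (PP q u : Subgroup (PSU n F q)).map (emb e), p * t = t * p := by
    rintro _ ⟨p, -, rfl⟩
    exact (hS.tj p).symm
  have hnP := O.sw.conj_P (P := (PP q u : Subgroup (PSU n F q)).map (emb e))
    (by rw [← map_commutator, PP_perfect hF hn hu0 hu]) hPt
    (by
      rintro _ ⟨p, hp, rfl⟩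
      rw [← hz0z, ← map_mul, ← map_mul, PP_comm_RR hF hu hp hz0])
    (by
      intro L hL hLt hLz
      have h1 := perf L hL fun x hx => (hLt x hx).symm
      set L0 := L.comap (emb e) with hL0
      have h2 : L0.map (emb e) = L := map_comap_eq_self h1
      have h3 : ⁅L0, L0⁆ = L0 := by
        apply Subgroup.map_injective hS.inj
        rw [map_commutator, h2, hL]
      rw [← h2]
      refine map_mono (perfect_le_PP hF (by omega) hu0 hu hz0 hz01 h3 fun x hx => ?_)
      apply hS.inj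
      rw [map_mul, map_mul, hz0z]
      exact hLz _ hx)
  have hnX := D7Out.FrontN.Swap.conj_Z (Z := (RR hF u hu).map (emb e)) hnP
    (map_mono ((RR_le_QQ hF hu).trans (QQ_le_PP hF hu)))
    (by
      rintro _ ⟨x, hx, rfl⟩ _ ⟨p, hp, rfl⟩
      rw [← map_mul, ← map_mul, PP_comm_RR hF hu hp hx])
    (by
      rintro _ ⟨g, hg, rfl⟩ h
      refine mem_map_of_mem _ (mem_RR_of_comm hF (by omega) hu0 hu hg fun s hs => ?_)
      apply hS.inj
      rw [map_mul, map_mul]
      exact (h _ (mem_map_of_mem _ (QQ_le_PP hF hu hs))).symm)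
  refine Ex.exists_dbl_big hF hn hq hS perf hu0 hu (y := m) hnX ?_ ?_
  · rw [O.sw.nt, ← mul_assoc, St.tt, one_mul, ← hz0z]
    exact mem_map_of_mem _ hz0
  · rw [O.sw.nt]
    intro h
    exact O.sw.z1 (mul_eq_left.1 h)

end G

end Cfsg.Agent.OddHalf.D7.Uni.RowStart
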